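import Mathlib.GroupTheory.Sylow
import Mathlib.GroupTheory.Index
import Mathlib.Algebra.BigOperators.Group.Finset.Basic
import Mathlib.Tactic.Group
import Cfsg.Agent.H27.ClassBasic
import Cfsg.Agent.H27.RankOne
import Cfsg.Agent.H27.ConjUnion
import Cfsg.Agent.H36.PElements

/-!
Groups with exactly two conjugacy class sizes (Itô).
-/

set_option autoImplicit false
set_option linter.unusedSectionVars false
set_option linter.style.haveILetI false

namespace H36

open Subgroup
open scoped IsMulCommutative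

/-- Automorphisms generating a noncyclic group of exponent `s` cannot be fixed-point-free
modulo `W` on an abelian group of exponent prime to `s`. -/
theorem pow_mem_of_lines {V : Type*} [CommGroup V] {s : ℕ} [hs : Fact s.Prime] (e f : MulAut V)
    (hef : Commute e f) (he : e ^ s = 1) (hf : f ^ s = 1) (W : Subgroup V)
    (hW : ∀ j : ℕ, ∀ w ∈ W, (e ^ j) w = w)
    (hffix : ∀ v, f v = v → v ∈ W) (hline : ∀ i : ℕ, i < s → ∀ v, (e * f ^ i) v = v → v ∈ W)
    (v : V) : v ^ s ∈ W := by
  have hnorm : ∀ g : MulAut V, g ^ s = 1 → (∀ v, g v = v → v ∈ W) →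
      ∏ j ∈ Finset.range s, (g ^ j) v ∈ W := by
    intro g hg hfix
    apply hfix
    rw [map_prod]
    have h1 : ∀ j : ℕ, g ((g ^ j) v) = (g ^ (j + 1)) v := fun j => by
      rw [pow_succ', MulAut.mul_apply]
    simp only [h1]
    have h2 := Finset.prod_range_succ' (fun j => (g ^ j) v) s
    have h3 := Finset.prod_range_succ (fun j => (g ^ j) v) s
    rw [h2, hg, pow_zero] at h3
    exact mul_right_cancel h3
  set n := ∏ k ∈ Finset.range s, (f ^ k) v with hn
  have hnW : n ∈ W := hnorm f hf hffix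
  have hgs : ∀ i : ℕ, (e * f ^ i) ^ s = 1 := fun i => by
    rw [(hef.pow_right i).mul_pow, he, ← pow_mul, mul_comm i s, pow_mul, hf, one_pow, one_mul]
  have htot : ∏ i ∈ Finset.range s, ∏ j ∈ Finset.range s, ((e * f ^ i) ^ j) v ∈ W :=
    Subgroup.prod_mem _ fun i hi =>
      hnorm _ (hgs i) (hline i (Finset.mem_range.mp hi))
  rw [Finset.prod_comm] at htot
  obtain ⟨q, hq⟩ : ∃ q, s = q + 1 := ⟨s - 1, by have := hs.out.pos; omega⟩
  have h0 : ∏ i ∈ Finset.range s, ((e * f ^ i) ^ 0) v = v ^ s := by simp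
  have hsucc : ∀ j ∈ Finset.range q,
      ∏ i ∈ Finset.range s, ((e * f ^ i) ^ (j + 1)) v = n := by
    intro j hj
    rw [Finset.mem_range] at hj
    calc ∏ i ∈ Finset.range s, ((e * f ^ i) ^ (j + 1)) v
        = ∏ i ∈ Finset.range s, (e ^ (j + 1)) ((f ^ (i * (j + 1) % s)) v) := by
          refine Finset.prod_congr rfl fun i _ => ?_
          rw [(hef.pow_right i).mul_pow, ← pow_mul,
            show f ^ (i * (j + 1)) = f ^ (i * (j + 1) % s) from pow_eq_pow_iff_modEq.mpr
              ((Nat.mod_modEq _ s).symm.of_dvd (orderOf_dvd_of_pow_eq_one hf))]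
          rfl
      _ = (e ^ (j + 1)) (∏ i ∈ Finset.range s, (f ^ (i * (j + 1) % s)) v) :=
          (map_prod _ _ _).symm
      _ = n := by
          rw [H27.prod_shift (fun k => (f ^ k) v) (j := j + 1) (by omega) (by omega), ← hn,
            hW _ n hnW]
  have hsplit : ∀ F : ℕ → V,
      ∏ j ∈ Finset.range s, F j = (∏ j ∈ Finset.range q, F (j + 1)) * F 0 := by
    intro F; rw [hq, Finset.prod_range_succ']
  rw [hsplit, h0, Finset.prod_congr rfl hsucc, Finset.prod_const, Finset.card_range] at htot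
  exact (W.mul_mem_cancel_left (pow_mem hnW q)).mp htot

variable {G : Type*} [Group G] [Finite G]

theorem isPGroup_zpowers_of_isPEl {q : ℕ} [Fact q.Prime] {g : G} (hg : IsPEl q g) :
    IsPGroup q (zpowers g) := by
  obtain ⟨k, hk⟩ := hg
  exact IsPGroup.of_card (Nat.card_zpowers g ▸ hk)

theorem isPEl_of_mem {q : ℕ} [Fact q.Prime] {S : Subgroup G} (hS : IsPGroup q S) {g : G}
    (hg : g ∈ S) : IsPEl q g := by
  obtain ⟨k, hk⟩ := IsPGroup.iff_orderOf.mp hS ⟨g, hg⟩
  exact ⟨k, by rw [← hk, Subgroup.orderOf_mk]⟩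

theorem coprime_of_isPEl {q r : ℕ} [hq : Fact q.Prime] [hr : Fact r.Prime] (hne : q ≠ r)
    {g h : G} (hg : IsPEl q g) (hh : IsPEl r h) : (orderOf g).Coprime (orderOf h) := by
  obtain ⟨i, hi⟩ := hg
  obtain ⟨j, hj⟩ := hh
  rw [hi, hj]
  exact ((Nat.coprime_primes hq.out hr.out).mpr hne).pow i j

theorem coprime_of_isPEl_of_coprime {q : ℕ} [hq : Fact q.Prime] {g h : G} (hg : IsPEl q g)
    (hh : (orderOf h).Coprime q) : (orderOf g).Coprime (orderOf h) := by
  obtain ⟨i, hi⟩ := hg
  rw [hi]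
  exact hh.symm.pow_left i

theorem isPEl_of_coprime {q : ℕ} [hq : Fact q.Prime] {g : G} (hg : IsPEl q g)
    (h : (orderOf g).Coprime q) : g = 1 := by
  obtain ⟨i, hi⟩ := hg
  have h1 := (coprime_of_isPEl_of_coprime (h := g) ⟨i, hi⟩ h)
  rw [Nat.coprime_self] at h1
  exact orderOf_eq_one_iff.mp h1

/-- A subgroup contains a `q`-subgroup of full `q`-order. -/
theorem exists_full_pSubgroup (q : ℕ) [hq : Fact q.Prime] (H : Subgroup G) :
    ∃ S : Subgroup G, S ≤ H ∧ IsPGroup q S ∧
      Nat.card S = q ^ (Nat.card H).factorization q := by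
  obtain ⟨P⟩ : Nonempty (Sylow q H) := inferInstance
  refine ⟨(P : Subgroup H).map H.subtype, map_subtype_le _, P.isPGroup'.map _, ?_⟩
  rw [card_map_of_injective H.subtype_injective, P.card_eq_multiplicity]

theorem card_le_of_pSubgroup {q : ℕ} [hq : Fact q.Prime] {S H : Subgroup G} (hS : IsPGroup q S)
    (hSH : S ≤ H) : Nat.card S ≤ q ^ (Nat.card H).factorization q := by
  obtain ⟨k, hk⟩ := IsPGroup.iff_card.mp hS
  rw [hk]
  refine Nat.pow_le_pow_right hq.out.pos ?_
  exact (hq.out.pow_dvd_iff_le_factorization Nat.card_pos.ne').mp (hk ▸ card_dvd_of_le hSH)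

/-- If every prime-power part of an element is central then so is the element. -/
theorem exists_primary_not_mem (K : Subgroup G) {g : G} (hg : g ∉ K) :
    ∃ (q : ℕ) (_ : Fact q.Prime) (k : ℕ), IsPEl q (g ^ k) ∧ g ^ k ∉ K := by
  generalize hN : orderOf g = N
  induction N using Nat.strong_induction_on generalizing g with
  | _ N ih =>
    have hne : orderOf g ≠ 1 := fun h => hg (orderOf_eq_one_iff.mp h ▸ one_mem K)
    obtain ⟨q, hq, hqd⟩ := Nat.exists_prime_and_dvd hne
    haveI : Fact q.Prime := ⟨hq⟩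
    obtain ⟨a, b, hab, ha, hb⟩ := exists_pow_decomp (p := q) g
    by_cases hbK : g ^ b ∈ K
    · have haK : g ^ a ∉ K := fun h => hg (hab ▸ K.mul_mem h hbK)
      have hlt : orderOf (g ^ a) < N := by
        refine lt_of_le_of_ne (hN ▸ Nat.le_of_dvd (orderOf_pos g) (orderOf_pow_dvd a)) ?_
        intro h
        rw [h, ← hN] at ha
        exact hq.ne_one (Nat.eq_one_of_dvd_coprimes ha hqd dvd_rfl)
      obtain ⟨r, hr, k, hk1, hk2⟩ := ih _ hlt haK rfl
      exact ⟨r, hr, a * k, by rw [pow_mul]; exact hk1, by rw [pow_mul]; exact hk2⟩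
    · exact ⟨q, ‹_›, b, hb, hbK⟩

section TwoSizes

variable {n : ℕ}
  (h : ∀ x : G, (centralizer ({x} : Set G)).index = 1 ∨ (centralizer ({x} : Set G)).index = n)

include h

theorem two_sizes_index {x : G} (hx : x ∉ center G) : (centralizer ({x} : Set G)).index = n :=
  (h x).resolve_left fun h1 => hx (H27.index_cent_eq_one_iff.mp h1)

theorem two_sizes_card {x y : G} (hx : x ∉ center G) (hy : y ∉ center G) :
    Nat.card (centralizer ({x} : Set G)) = Nat.card (centralizer ({y} : Set G)) := by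
  have h1 := H27.card_cent_mul_index x
  have h2 := H27.card_cent_mul_index y
  rw [two_sizes_index h hx] at h1
  rw [two_sizes_index h hy] at h2
  have hn : 0 < n := two_sizes_index h hx ▸ H27.cent_pos x
  exact Nat.eq_of_mul_eq_mul_right hn (h1.trans h2.symm)

theorem two_sizes_eq {x y : G} (hx : x ∉ center G) (hy : y ∉ center G)
    (hle : centralizer ({x} : Set G) ≤ centralizer ({y} : Set G)) :
    centralizer ({x} : Set G) = centralizer ({y} : Set G) :=
  eq_of_le_of_card_ge hle (two_sizes_card h hy hx).le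

/-- The part of `C(x)` of order prime to `x` is central in `C(x)`. -/
theorem two_sizes_le_of_coprime {x y : G} (hx : x ∉ center G)
    (hy : y ∈ centralizer ({x} : Set G)) (hco : (orderOf x).Coprime (orderOf y)) :
    centralizer ({x} : Set G) ≤ centralizer ({y} : Set G) := by
  have hxy : Commute x y := H27.mem_cent_comm.mp hy
  have hnc : x * y ∉ center G := fun hc => hx (by
    obtain ⟨m, hm⟩ := H27.mem_zpowers_mul_left hxy hco
    rw [← hm]
    exact zpow_mem hc m)
  rw [← two_sizes_eq h hnc hx (H27.cent_mul_le_left hxy hco)]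
  exact H27.cent_mul_le_right hxy hco

theorem two_sizes_sylow_centre {s : ℕ} [Fact s.Prime] (hs : s ∣ n) {Q : Sylow s G} {z : G}
    (hzQ : (Q : Subgroup G) ≤ centralizer ({z} : Set G)) : z ∈ center G := by
  by_contra hz
  exact (H27.not_dvd_index_iff.mpr ⟨Q, hzQ⟩) (two_sizes_index h hz ▸ hs)

/-- For a prime `s` dividing `n`, every centraliser contains noncentral `s`-elements. -/
theorem two_sizes_exists_noncentral {s : ℕ} [hsp : Fact s.Prime] (hs : s ∣ n) {x : G}
    (hx : x ∉ center G) :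
    ∃ u : G, u ∉ center G ∧ IsPEl s u ∧ u ∈ centralizer ({x} : Set G) := by
  classical
  obtain ⟨u, hu, hus⟩ : ∃ u : G, u ∉ center G ∧ IsPEl s u := by
    by_contra hall
    push Not at hall
    obtain ⟨Q⟩ : Nonempty (Sylow s G) := inferInstance
    have hQZ : (Q : Subgroup G) ≤ centralizer ({x} : Set G) := fun a ha =>
      center_le_centralizer _ (not_imp_not.mp (hall a) (isPEl_of_mem Q.isPGroup' ha))
    exact hx (two_sizes_sylow_centre h hs hQZ)
  by_contra hall
  push Not at hall
  obtain ⟨S, hSle, hSp, hScard⟩ := exists_full_pSubgroup s (centralizer ({x} : Set G))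
  have hSZ : S ≤ center G := fun a ha => by
    by_contra haZ
    exact hall a haZ (isPEl_of_mem hSp ha) (hSle ha)
  haveI : S.Normal := ⟨fun a ha g => by
    rw [mem_center_iff.mp (hSZ ha) g, mul_inv_cancel_right]; exact ha⟩
  have hT : IsPGroup s (S ⊔ zpowers u : Subgroup G) :=
    IsPGroup.to_sup_of_normal_left hSp (isPGroup_zpowers_of_isPEl hus)
  have hTle : S ⊔ zpowers u ≤ centralizer ({u} : Set G) :=
    sup_le (hSZ.trans (center_le_centralizer _)) (zpowers_le.mpr (H27.mem_cent.mpr rfl))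
  have hcard : Nat.card (S ⊔ zpowers u : Subgroup G) ≤ Nat.card S := by
    rw [hScard, two_sizes_card h hx hu]
    exact card_le_of_pSubgroup hT hTle
  have heq : S = S ⊔ zpowers u := eq_of_le_of_card_ge le_sup_left hcard
  exact hu (hSZ (heq ▸ mem_sup_right (mem_zpowers u)))

/-- If a prime other than `q` divides `n`, noncentral `q`-elements have abelian centralisers. -/
theorem two_sizes_cent_abelian {q s : ℕ} [hqp : Fact q.Prime] [hsp : Fact s.Prime] (hs : s ∣ n)
    (hne : s ≠ q) {x : G} (hx : x ∉ center G) (hxq : IsPEl q x) :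
    ∀ a ∈ centralizer ({x} : Set G),
      centralizer ({x} : Set G) ≤ centralizer ({a} : Set G) := by
  obtain ⟨u, hu, hus, huC⟩ := two_sizes_exists_noncentral h hs hx
  have hxu : centralizer ({x} : Set G) ≤ centralizer ({u} : Set G) :=
    two_sizes_le_of_coprime h hx huC (coprime_of_isPEl hne.symm hxq hus)
  have hCeq : centralizer ({x} : Set G) = centralizer ({u} : Set G) := two_sizes_eq h hx hu hxu
  intro a ha
  obtain ⟨i, j, hij, hi, hj⟩ := exists_pow_decomp (p := q) a
  have h1 : centralizer ({x} : Set G) ≤ centralizer ({a ^ i} : Set G) :=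
    two_sizes_le_of_coprime h hx (pow_mem ha i) (coprime_of_isPEl_of_coprime hxq hi)
  have h2 : centralizer ({x} : Set G) ≤ centralizer ({a ^ j} : Set G) := by
    rw [hCeq]
    exact two_sizes_le_of_coprime h hu (hxu (pow_mem ha j)) (coprime_of_isPEl hne hus hj)
  intro c hc
  have := (H27.mem_cent_comm.mp (h1 hc)).mul_left (H27.mem_cent_comm.mp (h2 hc))
  rw [hij] at this
  exact H27.mem_cent_comm.mpr this

/-- If two primes divide `n` then every noncentral element has an abelian centraliser. -/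
theorem two_sizes_all_abelian {s t : ℕ} [hsp : Fact s.Prime] [htp : Fact t.Prime] (hs : s ∣ n)
    (ht : t ∣ n) (hne : t ≠ s) {g : G} (hg : g ∉ center G) :
    ∀ a ∈ centralizer ({g} : Set G),
      centralizer ({g} : Set G) ≤ centralizer ({a} : Set G) := by
  obtain ⟨q, hq, k, hk1, hk2⟩ := exists_primary_not_mem (center G) hg
  have heq : centralizer ({g} : Set G) = centralizer ({g ^ k} : Set G) :=
    two_sizes_eq h hg hk2 (H27.cent_le_cent_pow g k)
  rw [heq]
  rcases eq_or_ne s q with rfl | hsq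
  · exact two_sizes_cent_abelian h ht hne hk2 hk1
  · exact two_sizes_cent_abelian h hs hsq hk2 hk1

omit h

/-- A noncentral element of a Sylow subgroup, central modulo `Z(G)` in it. -/
theorem exists_second_centre {s : ℕ} [hsp : Fact s.Prime] (Q : Sylow s G)
    (hQ : ¬ (Q : Subgroup G) ≤ center G) :
    ∃ z ∈ (Q : Subgroup G), z ∉ center G ∧ z ^ s ∈ center G ∧
      ∀ y ∈ (Q : Subgroup G), ∃ c ∈ center G, y * z * y⁻¹ = z * c := by
  classical
  set π := QuotientGroup.mk' (center G)
  set Qb := (Q : Subgroup G).map π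
  have hQb : IsPGroup s Qb := Q.isPGroup'.map π
  have hnt : Nontrivial Qb := by
    rw [nontrivial_iff_ne_bot]
    intro h0
    apply hQ
    have h1 := (Subgroup.map_eq_bot_iff _).mp h0
    rwa [QuotientGroup.ker_mk'] at h1
  haveI := hQb.center_nontrivial
  obtain ⟨k, hk, hk'⟩ := (IsPGroup.nontrivial_iff_card (hQb.to_subgroup (center Qb))).mp
    hQb.center_nontrivial
  obtain ⟨⟨⟨zb, hzb⟩, hzc⟩, hzo⟩ := exists_prime_orderOf_dvd_card' (G := center Qb) s
    (hk' ▸ dvd_pow_self s hk.ne')
  rw [Subgroup.orderOf_mk, Subgroup.orderOf_mk] at hzo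
  obtain ⟨z, hz, rfl⟩ := hzb
  refine ⟨z, hz, fun hc => ?_, ?_, fun y hy => ⟨z⁻¹ * (y * z * y⁻¹), ?_, by group⟩⟩
  · have : π z = 1 := (QuotientGroup.eq_one_iff z).mpr hc
    rw [this, orderOf_one] at hzo
    exact hsp.out.one_lt.ne hzo
  · have : π (z ^ s) = 1 := by rw [map_pow, ← hzo, pow_orderOf_eq_one]
    exact (QuotientGroup.eq_one_iff _).mp this
  · have h1 := congrArg Subtype.val (mem_center_iff.mp hzc ⟨π y, mem_map_of_mem π hy⟩)
    simp only [Subgroup.coe_mul] at h1
    rw [← QuotientGroup.eq_one_iff]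
    show π (z⁻¹ * (y * z * y⁻¹)) = 1
    rw [map_mul, map_mul, map_mul, map_inv, map_inv, h1]
    group


theorem cent_mul_central {z c : G} (hc : c ∈ center G) :
    centralizer ({z * c} : Set G) = centralizer ({z} : Set G) := by
  ext g
  have hgc : Commute c g := (mem_center_iff.mp hc g).symm
  rw [H27.mem_cent_comm, H27.mem_cent_comm]
  refine ⟨fun h => ?_, fun h => h.mul_left hgc⟩
  simpa using h.mul_left hgc.inv_left

/-- Elements central modulo `Z(G)` in a subgroup have centralisers normalised by it. -/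
theorem conj_mem_cent {y z v : G} (hyz : ∃ c ∈ center G, y * z * y⁻¹ = z * c)
    (hv : v ∈ centralizer ({z} : Set G)) : y * v * y⁻¹ ∈ centralizer ({z} : Set G) := by
  obtain ⟨c, hc, h⟩ := hyz
  rw [← cent_mul_central hc, ← h, H27.mem_cent_conj]
  simpa [mul_assoc] using hv

theorem mem_of_full {q : ℕ} [hq : Fact q.Prime] {T H : Subgroup G} (hT : IsPGroup q T) (hTH : T ≤ H)
    (hcard : Nat.card T = q ^ (Nat.card H).factorization q) {a : G} (ha : IsPEl q a) (haH : a ∈ H)
    (hcomm : ∀ b ∈ T, Commute a b) : a ∈ T := by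
  have hle : zpowers a ≤ normalizer (T : Set G) := zpowers_le.mpr
    (centralizer_le_normalizer _ (mem_centralizer_iff.mpr fun b hb => (hcomm b hb).eq.symm))
  have hsup := IsPGroup.to_sup_of_normal_left' hT (isPGroup_zpowers_of_isPEl ha) hle
  have heq : T = T ⊔ zpowers a := eq_of_le_of_card_ge le_sup_left
    (hcard ▸ card_le_of_pSubgroup hsup (sup_le hTH (zpowers_le.mpr haH)))
  exact heq ▸ mem_sup_right (mem_zpowers a)

include h in
/-- The Sylow `s`-subgroup meets the centraliser of an element of its second centre in a subgroup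
of index at most `s`. -/
theorem two_sizes_sylow_data {s t : ℕ} [hsp : Fact s.Prime] [htp : Fact t.Prime] (hs : s ∣ n)
    (ht : t ∣ n) (hne : t ≠ s) (hex : ∃ x : G, x ∉ center G) (Q : Sylow s G) :
    ∃ z ∈ (Q : Subgroup G), z ∉ center G ∧
      (∀ y ∈ (Q : Subgroup G), ∀ v ∈ centralizer ({z} : Set G),
        y * v * y⁻¹ ∈ centralizer ({z} : Set G)) ∧
      (∀ y ∈ (Q : Subgroup G), y ∉ centralizer ({z} : Set G) → y ^ s ∈ center G) ∧
      (centralizer ({z} : Set G)).relIndex Q ≤ s := by
  classical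
  have hA := fun g hg => two_sizes_all_abelian h hs ht hne (g := g) hg
  have hQ : ¬ (Q : Subgroup G) ≤ center G := fun hQZ => by
    obtain ⟨u, hu⟩ := hex
    exact hu (two_sizes_sylow_centre h hs (hQZ.trans (center_le_centralizer _)))
  obtain ⟨z, hzQ, hz, hzs, hzy⟩ := exists_second_centre Q hQ
  set C := centralizer ({z} : Set G) with hC
  have hCA : ∀ a ∈ C, ∀ b ∈ C, b * a = a * b := fun a ha b hb =>
    H27.mem_cent.mp (hA z hz a ha hb)
  have hnorm : ∀ y ∈ (Q : Subgroup G), ∀ v ∈ C, y * v * y⁻¹ ∈ C := fun y hy v hv =>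
    conj_mem_cent (hzy y hy) hv
  have hpow : ∀ y ∈ (Q : Subgroup G), y ∉ C → y ^ s ∈ center G := by
    intro y hy hyC
    obtain ⟨c, hc, hcy⟩ := hzy y hy
    have hcz : Commute z c := mem_center_iff.mp hc z
    have hcs : c ^ s = 1 := by
      have h1 : (z * c) ^ s = z ^ s := by
        rw [← hcy, conj_pow, mem_center_iff.mp hzs y, mul_inv_cancel_right]
      rw [hcz.mul_pow] at h1
      exact mul_eq_left.mp h1
    have hiter : ∀ k : ℕ, y ^ k * z * (y ^ k)⁻¹ = z * c ^ k := by
      intro k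
      induction k with
      | zero => simp
      | succ k ih =>
        calc y ^ (k + 1) * z * (y ^ (k + 1))⁻¹
            = y * (y ^ k * z * (y ^ k)⁻¹) * y⁻¹ := by rw [pow_succ']; group
          _ = (y * z * y⁻¹) * (y * c ^ k * y⁻¹) := by rw [ih]; group
          _ = z * c ^ (k + 1) := by
            rw [hcy, mem_center_iff.mp (pow_mem hc k) y, mul_inv_cancel_right, pow_succ', mul_assoc]
    have hyzC : y ^ s ∈ C := by
      have h1 := hiter s
      rw [hcs, mul_one, mul_inv_eq_iff_eq_mul] at h1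
      exact H27.mem_cent.mpr h1
    by_contra hns
    have heq := two_sizes_eq h hz hns (hA z hz _ hyzC)
    exact hyC (hC ▸ heq ▸ H27.mem_cent_comm.mpr (Commute.pow_self y s))
  refine ⟨z, hzQ, hz, hnorm, hpow, ?_⟩
  haveI hAn : (C.subgroupOf (Q : Subgroup G)).Normal := ⟨fun v hv y => hnorm y y.2 v hv⟩
  set R := (Q : Subgroup G) ⧸ C.subgroupOf (Q : Subgroup G)
  by_contra hlt
  rw [not_le] at hlt
  change s < Nat.card R at hlt
  have hR : IsPGroup s R := Q.isPGroup'.to_quotient _
  have hRs : ∀ r : R, r ^ s = 1 := by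
    intro r
    obtain ⟨y, rfl⟩ := QuotientGroup.mk_surjective r
    rw [← QuotientGroup.mk_pow, QuotientGroup.eq_one_iff, mem_subgroupOf, SubmonoidClass.coe_pow]
    by_cases hy : (y : G) ∈ C
    · exact pow_mem hy s
    · exact center_le_centralizer _ (hpow y y.2 hy)
  haveI : Nontrivial R := Finite.one_lt_card_iff_nontrivial.mp (hsp.out.one_lt.trans hlt)
  haveI := hR.center_nontrivial
  obtain ⟨⟨e1, he1⟩, he1ne⟩ := exists_ne (1 : center R)
  have he1' : e1 ≠ 1 := fun h => he1ne (Subtype.ext h)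
  obtain ⟨y1, rfl⟩ := QuotientGroup.mk_surjective e1
  obtain ⟨e2, he2⟩ : ∃ e2 : R, e2 ∉ zpowers (y1 : R) := by
    by_contra hall
    push Not at hall
    have : Nat.card R = s := by
      rw [← Nat.card_congr (topEquiv : (⊤ : Subgroup R) ≃* R).toEquiv,
        ← (eq_top_iff' _).mpr hall, Nat.card_zpowers, orderOf_eq_prime (hRs _) he1']
    omega
  obtain ⟨y2, rfl⟩ := QuotientGroup.mk_surjective e2
  haveI : IsMulCommutative C := .of_setLike_mul_comm fun a ha b hb => hCA b hb a ha
  let φ : (Q : Subgroup G) →* MulAut C :=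
    { toFun := fun y =>
        { toFun := fun v => ⟨y * v * (y : G)⁻¹, hnorm y y.2 v v.2⟩
          invFun := fun v => ⟨(y : G)⁻¹ * v * y, by
            simpa using hnorm _ ((Q : Subgroup G).inv_mem y.2) v v.2⟩
          left_inv := fun v => Subtype.ext (by simp [mul_assoc])
          right_inv := fun v => Subtype.ext (by simp [mul_assoc])
          map_mul' := fun v w => Subtype.ext (by simp [mul_assoc]) }
      map_one' := by ext v; simp
      map_mul' := fun a b => by ext v; simp [mul_assoc] }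
  have hφC : ∀ y : (Q : Subgroup G), (y : G) ∈ C → φ y = 1 := by
    intro y hy
    ext v
    show (y : G) * v * (y : G)⁻¹ = v
    rw [hCA (v : G) v.2 (y : G) hy, mul_inv_cancel_right]
  have hφeq : ∀ u v : (Q : Subgroup G), (u : R) = v → φ u = φ v := by
    intro u v huv
    have := hφC _ (mem_subgroupOf.mp (QuotientGroup.eq.mp huv))
    rwa [map_mul, map_inv, inv_mul_eq_one] at this
  have hfix : ∀ y : (Q : Subgroup G), (y : G) ∉ C → ∀ v : C, φ y v = v →
      v ∈ (center G).subgroupOf C := by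
    intro y hy v hv
    rw [mem_subgroupOf]
    by_contra hvZ
    have hvy : (y : G) * v = v * y := mul_inv_eq_iff_eq_mul.mp (congrArg Subtype.val hv)
    exact hy (hC ▸ (two_sizes_eq h hz hvZ (hA z hz _ v.2)) ▸ H27.mem_cent.mpr hvy)
  obtain ⟨u, hu, hut, huC⟩ := two_sizes_exists_noncentral h ht hz
  have hfs : ∀ y : (Q : Subgroup G), φ y ^ s = 1 := fun y => by
    rw [← map_pow, hφeq (y ^ s) 1 (by rw [QuotientGroup.mk_pow, hRs, QuotientGroup.mk_one]),
      map_one]
  have hcomm : Commute (φ y1) (φ y2) := by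
    show φ y1 * φ y2 = φ y2 * φ y1
    rw [← map_mul, ← map_mul]
    refine hφeq _ _ ?_
    simp only [QuotientGroup.mk_mul]
    exact (mem_center_iff.mp he1 _).symm
  have hW : ∀ j : ℕ, ∀ w ∈ (center G).subgroupOf C, (φ y1 ^ j) w = w := by
    intro j w hw
    rw [← map_pow]
    apply Subtype.ext
    show ((y1 ^ j : (Q : Subgroup G)) : G) * w * ((y1 ^ j : (Q : Subgroup G)) : G)⁻¹ = w
    rw [mem_center_iff.mp (mem_subgroupOf.mp hw) _, mul_inv_cancel_right]
  have hnotC : ∀ y : (Q : Subgroup G), (y : R) ≠ 1 → (y : G) ∉ C := fun y hy hyC =>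
    hy ((QuotientGroup.eq_one_iff y).mpr (mem_subgroupOf.mpr hyC))
  have key := pow_mem_of_lines (φ y1) (φ y2) hcomm (hfs y1) (hfs y2)
    ((center G).subgroupOf C) hW
    (hfix y2 (hnotC y2 fun h => he2 (h ▸ one_mem _)))
    (fun i hi v hv => by
      rw [← map_pow, ← map_mul] at hv
      refine hfix _ (hnotC _ ?_) v hv
      intro h1
      rw [QuotientGroup.mk_mul, QuotientGroup.mk_pow, mul_eq_one_iff_eq_inv] at h1
      rcases Nat.eq_zero_or_pos i with rfl | hi0
      · rw [pow_zero, inv_one] at h1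
        exact he1' h1
      · obtain ⟨m, hm⟩ := exists_pow_eq_self_of_coprime (x := (y2 : R)) (n := i)
          (((Nat.Prime.coprime_iff_not_dvd hsp.out).mpr (Nat.not_dvd_of_pos_of_lt hi0 hi)).symm
            |>.coprime_dvd_right (orderOf_dvd_of_pow_eq_one (hRs _)))
        apply he2
        rw [← hm]
        exact pow_mem (by rw [← inv_inv ((y2 : R) ^ i), ← h1]; exact inv_mem (mem_zpowers _)) m)
    ⟨u, huC⟩
  have hus : u ^ s ∈ center G := mem_subgroupOf.mp key
  obtain ⟨i, hi⟩ := hut
  obtain ⟨m, hm⟩ := exists_pow_eq_self_of_coprime (x := u) (n := s)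
    (hi ▸ ((Nat.coprime_primes hsp.out htp.out).mpr hne.symm).pow_right i)
  exact hu (hm ▸ pow_mem hus m)

include h in
theorem two_sizes_not_lt {s t : ℕ} [hsp : Fact s.Prime] [htp : Fact t.Prime] (hs : s ∣ n)
    (ht : t ∣ n) (hts : t < s) (hex : ∃ x : G, x ∉ center G) : False := by
  classical
  have hne : t ≠ s := hts.ne
  have hA := fun g hg => two_sizes_all_abelian h hs ht hne (g := g) hg
  set π := QuotientGroup.mk' (center G)
  obtain ⟨T0⟩ : Nonempty (Sylow t G) := inferInstance
  obtain ⟨z, hzQ, hz, -, -, hrel⟩ := two_sizes_sylow_data h ht hs hne.symm hex T0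
  obtain ⟨u, hu⟩ : ∃ u : G, ∀ x : G, x⁻¹ * u * x ∉ centralizer ({z} : Set G) := by
    by_contra hall
    push Not at hall
    exact hz (H27.cent_eq_top_iff.mp (H27.eq_top_of_forall_conj_mem _ hall))
  have hu' : u ∉ center G := fun huZ => hu 1 (by simpa using center_le_centralizer _ huZ)
  obtain ⟨Tu, hTu, hTup, hTuc⟩ := exists_full_pSubgroup t (centralizer ({u} : Set G))
  obtain ⟨Q', hQ'⟩ := hTup.exists_le_sylow
  obtain ⟨g, rfl⟩ := MulAction.exists_smul_eq G T0 Q'
  -- the index of the centre in the `t`-part of `C(u)` is at most `t`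
  have hTu_small : Nat.card (Tu.map π) ≤ t := by
    set u' := g⁻¹ * u * g
    have hu'Z : u' ∉ center G := fun hc => hu' (by
      have h1 := (inferInstance : (center G).Normal).conj_mem _ hc g
      simpa [u', mul_assoc] using h1)
    have hinj : ∀ a ∈ Tu, g⁻¹ * a * g ∈ centralizer ({z} : Set G) → a ∈ center G := by
      intro a ha hac
      by_contra haZ
      have haZ' : g⁻¹ * a * g ∉ center G := fun hc => haZ (by
        have h1 := (inferInstance : (center G).Normal).conj_mem _ hc g
        simpa [mul_assoc] using h1)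
      have hau : u' ∈ centralizer ({g⁻¹ * a * g} : Set G) := by
        rw [H27.mem_cent_comm]
        show g⁻¹ * a * g * (g⁻¹ * u * g) = g⁻¹ * u * g * (g⁻¹ * a * g)
        have := H27.mem_cent.mp (hTu ha)
        calc g⁻¹ * a * g * (g⁻¹ * u * g) = g⁻¹ * (a * u) * g := by group
          _ = _ := by rw [this]; group
      have heq := two_sizes_eq h hz haZ' (hA z hz _ hac)
      exact hu g (heq ▸ hau)
    set C := centralizer ({z} : Set G)
    have hconj : ∀ a ∈ Tu, g⁻¹ * a * g ∈ (T0 : Subgroup G) := by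
      intro a ha
      have h1 := hQ' ha
      rw [Sylow.coe_subgroup_smul] at h1
      obtain ⟨b, hb, rfl⟩ := h1
      show g⁻¹ * (g * b * g⁻¹) * g ∈ _
      rw [show g⁻¹ * (g * b * g⁻¹) * g = b by group]
      exact hb
    let f : ↥(Subgroup.map π Tu) → (T0 : Subgroup G) ⧸ C.subgroupOf T0 :=
      fun w => QuotientGroup.mk ⟨g⁻¹ * (Classical.choose w.2) * g,
        hconj _ (Classical.choose_spec w.2).1⟩
    refine le_trans (Nat.card_le_card_of_injective f ?_) hrel
    intro v w hvw
    have h1 := mem_subgroupOf.mp (QuotientGroup.eq.mp hvw)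
    obtain ⟨hv1, hv2⟩ := Classical.choose_spec v.2
    obtain ⟨hw1, hw2⟩ := Classical.choose_spec w.2
    set a := Classical.choose v.2
    set b := Classical.choose w.2
    have h2 : a⁻¹ * b ∈ center G := hinj _ (mul_mem (inv_mem hv1) hw1) (by
      have h3 : (g⁻¹ * a * g)⁻¹ * (g⁻¹ * b * g) ∈ C := h1
      have h4 : (g⁻¹ * a * g)⁻¹ * (g⁻¹ * b * g) = g⁻¹ * (a⁻¹ * b) * g := by group
      rwa [h4] at h3)
    exact Subtype.ext (by rw [← hv2, ← hw2]; exact QuotientGroup.eq.mpr h2)
  -- the prime `s`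
  obtain ⟨Q⟩ : Nonempty (Sylow s G) := inferInstance
  obtain ⟨x, hxQ, hx, hnorm, hpow, -⟩ := two_sizes_sylow_data h hs ht hne hex Q
  obtain ⟨T, hT, hTp, hTc⟩ := exists_full_pSubgroup t (centralizer ({x} : Set G))
  have hT_small : Nat.card (T.map π) ≤ t := by
    refine le_trans (le_of_eq ?_) hTu_small
    have key : ∀ (w : G) (S : Subgroup G), S ≤ centralizer ({w} : Set G) → IsPGroup t S →
        Nat.card S = t ^ (Nat.card (centralizer ({w} : Set G))).factorization t →
        ∀ a, a ∈ center G ∧ a ∈ S ↔ a ∈ center G ∧ IsPEl t a := fun w S hS hSp hSc a =>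
      ⟨fun ha => ⟨ha.1, isPEl_of_mem hSp ha.2⟩, fun ha => ⟨ha.1, mem_of_full hSp hS hSc ha.2
        (center_le_centralizer _ ha.1) fun b _ => (mem_center_iff.mp ha.1 b).symm⟩⟩
    have hinter : center G ⊓ T = center G ⊓ Tu := by
      ext a
      rw [mem_inf, mem_inf, key x T hT hTp hTc, key u Tu hTu hTup hTuc]
    have h1 : ∀ S : Subgroup G,
        Nat.card (center G ⊓ S : Subgroup G) * Nat.card (S.map π) = Nat.card S := by
      intro S
      have h2 : Nat.card (S.map π) = (center G).relIndex S := by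
        have h3 := relIndex_ker S π
        rw [QuotientGroup.ker_mk'] at h3
        rw [h3]
      rw [h2, ← relIndex_bot_left, ← inf_relIndex_right (center G) S,
        relIndex_mul_relIndex _ _ _ bot_le inf_le_right, relIndex_bot_left]
    have h2 := h1 T
    rw [hinter, hTc, two_sizes_card h hx hu', ← hTuc, ← h1 Tu] at h2
    exact Nat.eq_of_mul_eq_mul_left Nat.card_pos h2
  obtain ⟨y, hyQ, hyC⟩ : ∃ y ∈ (Q : Subgroup G), y ∉ centralizer ({x} : Set G) := by
    by_contra hall
    push Not at hall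
    exact hx (two_sizes_sylow_centre h hs hall)
  obtain ⟨a, ha, hat, haC⟩ := two_sizes_exists_noncentral h ht hx
  have habel : ∀ b ∈ centralizer ({x} : Set G), ∀ c ∈ centralizer ({x} : Set G), Commute b c :=
    fun b hb c hc => H27.mem_cent_comm.mp (hA x hx b hb hc)
  have hTconj : ∀ i : ℕ, y ^ i * a * (y ^ i)⁻¹ ∈ T := fun i =>
    have hm := hnorm _ (pow_mem hyQ i) a haC
    mem_of_full hTp hT hTc (isPEl_conj hat _) hm fun b hb => habel _ hm b (hT hb)
  let S := (centralizer ({π a} : Set (G ⧸ center G))).comap π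
  have hyS : y ∉ S := by
    intro hyS
    apply hyC
    have h1 : Commute (π a) (π y) := H27.mem_cent_comm.mp hyS
    set c := a⁻¹ * (y * a * y⁻¹) with hc
    have hcZ : c ∈ center G := by
      rw [← QuotientGroup.eq_one_iff]
      show π c = 1
      rw [hc, map_mul, map_mul, map_mul, map_inv, map_inv, ← h1.eq]
      group
    have hca : y * a * y⁻¹ = a * c := by rw [hc]; group
    have hac : Commute a c := mem_center_iff.mp hcZ a
    have hct : IsPEl t c := by
      obtain ⟨k, hk⟩ := hat
      have h3 : c ^ t ^ k = 1 := by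
        have h2 : (a * c) ^ t ^ k = 1 := by
          rw [← hca, conj_pow, ← hk, pow_orderOf_eq_one, mul_one, mul_inv_cancel]
        rwa [hac.mul_pow, ← hk, pow_orderOf_eq_one, one_mul, hk] at h2
      obtain ⟨j, -, hj⟩ := (Nat.dvd_prime_pow htp.out).mp (orderOf_dvd_of_pow_eq_one h3)
      exact ⟨j, hj⟩
    have hiter : ∀ k : ℕ, y ^ k * a * (y ^ k)⁻¹ = a * c ^ k := by
      intro k
      induction k with
      | zero => simp
      | succ k ih =>
        calc y ^ (k + 1) * a * (y ^ (k + 1))⁻¹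
            = y * (y ^ k * a * (y ^ k)⁻¹) * y⁻¹ := by rw [pow_succ']; group
          _ = (y * a * y⁻¹) * (y * c ^ k * y⁻¹) := by rw [ih]; group
          _ = a * c ^ (k + 1) := by
            rw [hca, mem_center_iff.mp (pow_mem hcZ k) y, mul_inv_cancel_right, pow_succ',
              mul_assoc]
    have hcs : c ^ s = 1 := by
      have h2 := hiter s
      rw [← mem_center_iff.mp (hpow y hyQ hyC) a, mul_inv_cancel_right] at h2
      exact mul_eq_left.mp h2.symm
    have hc1 : c = 1 := by
      obtain ⟨j, hj⟩ := hct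
      refine orderOf_eq_one_iff.mp (Nat.eq_one_of_dvd_coprimes
        (((Nat.coprime_primes hsp.out htp.out).mpr hne.symm).pow_right j)
        (orderOf_dvd_of_pow_eq_one hcs) hj.dvd)
    rw [hc1, mul_one, mul_inv_eq_iff_eq_mul] at hca
    exact (two_sizes_eq h hx ha (hA x hx a haC)) ▸ H27.mem_cent.mpr hca
  let f : Fin s → (T.map π : Subgroup (G ⧸ center G)) :=
    fun i => ⟨π (y ^ (i : ℕ) * a * (y ^ (i : ℕ))⁻¹), mem_map_of_mem π (hTconj i)⟩
  have hinj : Function.Injective f := by
    suffices hlt : ∀ i j : Fin s, (i : ℕ) < j → f i ≠ f j by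
      intro i j hij
      rcases lt_trichotomy (i : ℕ) j with h1 | h1 | h1
      · exact absurd hij (hlt i j h1)
      · exact Fin.ext h1
      · exact absurd hij.symm (hlt j i h1)
    intro i j hlt hij
    apply hyS
    obtain ⟨d, hd⟩ := Nat.exists_eq_add_of_lt hlt
    have hdS : y ^ (d + 1) ∈ S := by
      rw [mem_comap, H27.mem_cent, ← mul_inv_eq_iff_eq_mul]
      have h1 : π (y ^ (i : ℕ) * a * (y ^ (i : ℕ))⁻¹) = π (y ^ (j : ℕ) * a * (y ^ (j : ℕ))⁻¹) :=
        congrArg Subtype.val hij
      have h2 : y ^ (j : ℕ) * a * (y ^ (j : ℕ))⁻¹ =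
          y ^ (i : ℕ) * (y ^ (d + 1) * a * (y ^ (d + 1))⁻¹) * (y ^ (i : ℕ))⁻¹ := by
        rw [hd, add_assoc, pow_add]
        group
      rw [h2] at h1
      simp only [map_mul, map_inv] at h1
      exact (mul_left_cancel (mul_right_cancel h1)).symm
    obtain ⟨m, hm⟩ := exists_pow_eq_self_of_coprime (x := (y : G ⧸ center G)) (n := d + 1)
      (((Nat.Prime.coprime_iff_not_dvd hsp.out).mpr
        (Nat.not_dvd_of_pos_of_lt (by omega) (by have := j.2; omega))).symm.coprime_dvd_right
        (orderOf_dvd_of_pow_eq_one (by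
          rw [← QuotientGroup.mk_pow, QuotientGroup.eq_one_iff]
          exact hpow y hyQ hyC)))
    rw [mem_comap] at hdS ⊢
    show (y : G ⧸ center G) ∈ centralizer ({π a} : Set (G ⧸ center G))
    rw [← hm]
    refine pow_mem ?_ m
    rw [← QuotientGroup.mk_pow]
    exact hdS
  have := Nat.card_le_card_of_injective f hinj
  rw [Nat.card_fin] at this
  omega



include h in
/-- If `n = p ^ k` then every element of order prime to `p` is central. -/
theorem two_sizes_central_of_coprime {p k : ℕ} [hpp : Fact p.Prime] (hn : n = p ^ k) (hk : k ≠ 0)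
    {x : G} (hxp : (orderOf x).Coprime p) : x ∈ center G := by
  classical
  have hpn : p ∣ n := hn ▸ dvd_pow_self p hk
  by_contra hxZ
  obtain ⟨q, hqf, i, hiq, hiZ⟩ := exists_primary_not_mem (center G) hxZ
  haveI := hqf
  have hqp : q ≠ p := fun hqe => hiZ (by
    subst hqe
    rw [isPEl_of_coprime hiq ((hxp.coprime_dvd_left (orderOf_pow_dvd i)))]
    exact one_mem _)
  set w := x ^ i
  have hqn : ∀ y : G, ¬ q ∣ (centralizer ({y} : Set G)).index := fun y hd => by
    rcases h y with h1 | h1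
    · rw [h1] at hd; exact hqf.out.one_lt.ne' (Nat.dvd_one.mp hd)
    · rw [h1, hn] at hd
      exact hqp ((Nat.prime_dvd_prime_iff_eq hqf.out hpp.out).mp (hqf.out.dvd_of_dvd_pow hd))
  obtain ⟨P⟩ : Nonempty (Sylow p G) := inferInstance
  have hP : ¬ (P : Subgroup G) ≤ center G := fun hPZ =>
    hiZ (two_sizes_sylow_centre h hpn (hPZ.trans (center_le_centralizer _)))
  obtain ⟨z, hzP, hz, -, hzy⟩ := exists_second_centre P hP
  obtain ⟨R, hRC⟩ := H27.exists_sylow_le_of_not_dvd_index (hqn z)
  obtain ⟨a, haR, haZ⟩ : ∃ a ∈ (R : Subgroup G), a ∉ center G := by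
    by_contra hall
    push Not at hall
    obtain ⟨R1, hR1⟩ := (isPGroup_zpowers_of_isPEl hiq).exists_le_sylow
    obtain ⟨g, rfl⟩ := MulAction.exists_smul_eq G R R1
    have h1 := hR1 (mem_zpowers w)
    rw [Sylow.coe_subgroup_smul] at h1
    obtain ⟨b, hb, hbw⟩ := h1
    refine hiZ (hbw ▸ ?_)
    show g * b * g⁻¹ ∈ center G
    rw [mem_center_iff.mp (hall b hb) g, mul_inv_cancel_right]
    exact hall b hb
  have hza : centralizer ({z} : Set G) ≤ centralizer ({a} : Set G) :=
    two_sizes_le_of_coprime h hz (hRC haR)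
      (coprime_of_isPEl hqp.symm (isPEl_of_mem P.isPGroup' hzP) (isPEl_of_mem R.isPGroup' haR))
  have heq := two_sizes_eq h hz haZ hza
  have habel : ∀ b ∈ centralizer ({z} : Set G), ∀ c ∈ centralizer ({z} : Set G), Commute b c := by
    rw [heq]
    exact fun b hb c hc => H27.mem_cent_comm.mp
      (two_sizes_cent_abelian h hpn hqp.symm haZ (isPEl_of_mem R.isPGroup' haR) b hb hc)
  set C := centralizer ({z} : Set G) with hC
  have hPN : (P : Subgroup G) ≤ normalizer (C : Set G) := fun y hy => by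
    rw [mem_normalizer_iff]
    refine fun v => ⟨fun hv => conj_mem_cent (hzy y hy) hv, fun hv => ?_⟩
    have h1 := conj_mem_cent (hzy y⁻¹ ((P : Subgroup G).inv_mem hy)) (show _ ∈ C from hv)
    simpa [mul_assoc] using h1
  have hCn : C.Normal := by
    rw [← normalizer_eq_top_iff, ← index_eq_one]
    have h1 : (normalizer (C : Set G)).index ∣ p ^ k := by
      rw [← hn, ← two_sizes_index h hz]
      exact index_dvd_of_le le_normalizer
    have h2 : ¬ p ∣ (normalizer (C : Set G)).index := H27.not_dvd_index_iff.mpr ⟨P, hPN⟩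
    exact Nat.eq_one_of_dvd_coprimes (((Nat.Prime.coprime_iff_not_dvd hpp.out).mpr h2).symm.pow_right k)
      dvd_rfl h1
  apply haZ
  rw [mem_center_iff]
  intro y
  obtain ⟨R', hR'⟩ := H27.exists_sylow_le_of_not_dvd_index (hqn y)
  obtain ⟨g, rfl⟩ := MulAction.exists_smul_eq G R R'
  have hR'C : ((g • R : Sylow q G) : Subgroup G) ≤ C := by
    rw [Sylow.coe_subgroup_smul]
    rintro _ ⟨b, hb, rfl⟩
    exact hCn.conj_mem b (hRC hb) g
  have hsup : IsPGroup q ((R : Subgroup G) ⊔ ((g • R : Sylow q G) : Subgroup G) : Subgroup G) :=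
    IsPGroup.to_sup_of_normal_left' R.isPGroup' (g • R).isPGroup'
      fun c hc => centralizer_le_normalizer _ (mem_centralizer_iff.mpr fun b hb =>
        (habel b (hRC hb) c (hR'C hc)).eq)
  have hre : ((g • R : Sylow q G) : Subgroup G) = (R : Subgroup G) :=
    ((g • R).is_maximal' hsup le_sup_right).symm.trans (R.is_maximal' hsup le_sup_left)
  exact (H27.mem_cent.mp (hR' (hre ▸ haR))).symm

include h in
theorem two_sizes_prime_power (hn : 1 < n) (hex : ∃ x : G, x ∉ center G) :
    ∃ (p : ℕ) (_ : Fact p.Prime) (a : ℕ), a ≠ 0 ∧ n = p ^ a := by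
  obtain ⟨p, hp, hpn⟩ := Nat.exists_prime_and_dvd hn.ne'
  refine ⟨p, ⟨hp⟩, n.primeFactorsList.length, ?_, ?_⟩
  · simp only [ne_eq, List.length_eq_zero_iff, Nat.primeFactorsList_eq_nil]
    omega
  · refine Nat.eq_prime_pow_of_unique_prime_dvd (by omega) fun {d} hd hdn => ?_
    haveI : Fact p.Prime := ⟨hp⟩
    haveI : Fact d.Prime := ⟨hd⟩
    rcases lt_trichotomy d p with h1 | h1 | h1
    · exact (two_sizes_not_lt h hpn hdn h1 hex).elim
    · exact h1
    · exact (two_sizes_not_lt h hdn hpn h1 hex).elim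

include h in
theorem two_sizes_structure (hn : 1 < n)
    (hex : ∃ x : G, (centralizer ({x} : Set G)).index = n) :
    ∃ (p : ℕ) (_ : Fact p.Prime) (a : ℕ), n = p ^ a ∧ ∀ P : Sylow p G, (P : Subgroup G).Normal ∧
      (∃ N : Subgroup G, N.Normal ∧ N.IsComplement' (P : Subgroup G) ∧ IsMulCommutative N ∧
        ∀ x ∈ N, ∀ y ∈ (P : Subgroup G), x * y = y * x) ∧
      ∃ A : Subgroup (P : Subgroup G), A.Normal ∧ IsMulCommutative A ∧
        ∀ y : (P : Subgroup G), y ^ p ∈ A := by
  classical
  have hexZ : ∃ x : G, x ∉ center G := hex.imp fun x hx hxc => by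
    rw [H27.index_cent_eq_one_iff.mpr hxc] at hx
    omega
  obtain ⟨p, hpf, k, hk, hnk⟩ := two_sizes_prime_power h hn hexZ
  refine ⟨p, hpf, k, hnk, fun P => ?_⟩
  have hcen : ∀ x : G, (orderOf x).Coprime p → x ∈ center G := fun x hx =>
    two_sizes_central_of_coprime h hnk hk hx
  have hnorm : (P : Subgroup G).Normal := by
    rw [← normalizer_eq_top_iff, ← index_eq_one, Nat.eq_one_iff_not_exists_prime_dvd]
    intro q hq hdq
    haveI : Fact q.Prime := ⟨hq⟩
    rcases eq_or_ne q p with rfl | hqp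
    · exact P.not_dvd_index (hdq.trans (index_dvd_of_le le_normalizer))
    · obtain ⟨R⟩ : Nonempty (Sylow q G) := inferInstance
      refine (H27.not_dvd_index_iff.mpr ⟨R, fun a ha => ?_⟩) hdq
      obtain ⟨i, hi⟩ := isPEl_of_mem R.isPGroup' ha
      exact centralizer_le_normalizer _ (center_le_centralizer _ (hcen a
        (hi ▸ ((Nat.coprime_primes hq hpf.out).mpr hqp).pow_left i)))
  refine ⟨hnorm, ?_, ?_⟩
  · let N : Subgroup G :=
      { carrier := {x | x ∈ center G ∧ (orderOf x).Coprime p}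
        mul_mem' := fun {a b} ha hb => ⟨mul_mem ha.1 hb.1,
          Nat.Coprime.coprime_dvd_left
            ((Commute.orderOf_mul_dvd_lcm (mem_center_iff.mp hb.1 a)).trans
              (Nat.lcm_dvd_mul _ _))
            (ha.2.mul_left hb.2)⟩
        one_mem' := ⟨one_mem _, by simp⟩
        inv_mem' := fun {a} ha => ⟨inv_mem ha.1, by rw [orderOf_inv]; exact ha.2⟩ }
    refine ⟨N, ⟨fun a ha g => by rw [mem_center_iff.mp ha.1 g, mul_inv_cancel_right]; exact ha⟩,
      ?_, .of_setLike_mul_comm fun a ha b _ => (mem_center_iff.mp ha.1 b).symm,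
      fun x hx y _ => (mem_center_iff.mp hx.1 y).symm⟩
    refine isComplement'_of_disjoint_and_mul_eq_univ ?_ ?_
    · rw [disjoint_def]
      intro x hxN hxP
      exact isPEl_of_coprime (isPEl_of_mem P.isPGroup' hxP) hxN.2
    · refine Set.eq_univ_of_forall fun g => ?_
      obtain ⟨i, j, hij, hi, hj⟩ := exists_pow_decomp (p := p) g
      refine ⟨g ^ i, ⟨hcen _ hi, hi⟩, g ^ j, ?_, hij⟩
      obtain ⟨Q, hQ⟩ := (isPGroup_zpowers_of_isPEl hj).exists_le_sylow
      haveI := Sylow.unique_of_normal P hnorm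
      exact Subsingleton.elim Q P ▸ hQ (mem_zpowers _)
  · refine ⟨center (P : Subgroup G), inferInstance, inferInstance, ?_⟩
    refine H27.pow_mem_center_of_conjugate_rank_one P.isPGroup' k (Nat.pos_of_ne_zero hk) ?_
    intro y hy
    have hyZ : (y : G) ∉ center G := fun hc => hy (mem_center_iff.mpr fun b =>
      Subtype.ext (mem_center_iff.mp hc b))
    rw [← hnk, ← two_sizes_index h hyZ]
    set C := centralizer ({(y : G)} : Set G) with hC
    have hsub : centralizer ({y} : Set (P : Subgroup G)) = C.subgroupOf (P : Subgroup G) := by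
      ext v
      rw [mem_subgroupOf, H27.mem_cent, H27.mem_cent, Subtype.ext_iff]
      rfl
    rw [hsub]
    refine Nat.dvd_antisymm (H27.relIndex_dvd_index_right C (P : Subgroup G)) ?_
    have hsurj : Nat.card (G ⧸ C) ≤ Nat.card ((P : Subgroup G) ⧸ C.subgroupOf (P : Subgroup G)) := by
      refine Nat.card_le_card_of_surjective (Quotient.map' (fun v => (v : G)) ?_) ?_
      · intro a b hab
        rw [QuotientGroup.leftRel_apply] at hab ⊢
        exact hab
      · intro q
        obtain ⟨g, rfl⟩ := QuotientGroup.mk_surjective q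
        obtain ⟨i, j, hij, hi, hj⟩ := exists_pow_decomp (p := p) g
        obtain ⟨Q, hQ⟩ := (isPGroup_zpowers_of_isPEl hj).exists_le_sylow
        haveI := Sylow.unique_of_normal P hnorm
        refine ⟨QuotientGroup.mk ⟨g ^ j, Subsingleton.elim Q P ▸ hQ (mem_zpowers _)⟩, ?_⟩
        show QuotientGroup.mk (g ^ j) = QuotientGroup.mk g
        rw [QuotientGroup.eq]
        have : (g ^ j)⁻¹ * g = g ^ i := by
          rw [inv_mul_eq_iff_eq_mul]
          conv_lhs => rw [← hij]
          rw [← pow_add, ← pow_add, add_comm]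
        rw [this]
        exact center_le_centralizer _ (hcen _ hi)
    have h1 : (C.subgroupOf (P : Subgroup G)).index ∣ C.index :=
      H27.relIndex_dvd_index_right C (P : Subgroup G)
    exact (le_antisymm (Nat.le_of_dvd (Nat.pos_of_ne_zero index_ne_zero_of_finite) h1) hsurj).symm.dvd


end TwoSizes

end H36
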