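import Cfsg.Agent.H58.JordanCriterion
import Cfsg.Agent.H62.Intersect
import Mathlib

/-!
Primitive even permutation groups of degree `q ∈ {7, 13}` containing a cycle of length `q - 2`
contain the alternating group.
-/

set_option autoImplicit false

namespace H36

open MulAction

variable {β : Type*} [Fintype β] [DecidableEq β]

theorem eq_pow_of_commute_cycle {c u : Equiv.Perm β} (hc : c.IsCycle) (hu : Commute u c)
    (hout : ∀ x ∉ c.support, u x = x) : ∃ k : ℕ, u = c ^ k := by
  obtain ⟨d, hd, -⟩ := id hc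
  have hud : c (u d) ≠ u d := by
    intro e
    apply hd
    apply u.injective
    rw [← Equiv.Perm.mul_apply u c, hu.eq, Equiv.Perm.mul_apply, e]
  obtain ⟨k, hk⟩ := hc.exists_pow_eq hd hud
  refine ⟨k, Equiv.ext fun w => ?_⟩
  by_cases hw : w ∈ c.support
  · obtain ⟨l, rfl⟩ := hc.exists_pow_eq hd (Equiv.Perm.mem_support.mp hw)
    rw [← Equiv.Perm.mul_apply, (hu.pow_right l).eq, Equiv.Perm.mul_apply, ← hk,
      ← Equiv.Perm.mul_apply, ← Equiv.Perm.mul_apply, ← pow_add, ← pow_add, Nat.add_comm]
  · rw [hout w hw, Equiv.Perm.pow_apply_eq_self_of_apply_eq_self (Equiv.Perm.notMem_support.mp hw)]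

/-- A subgroup of small index in a simple group is everything. -/
theorem eq_top_of_card_not_dvd {A : Type*} [Group A] [Finite A] [IsSimpleGroup A] (H : Subgroup A)
    (h : ¬ Nat.card A ∣ H.index.factorial) : H = ⊤ := by
  rcases (inferInstance : H.normalCore.Normal).eq_bot_or_eq_top with h1 | h1
  · exfalso
    apply h
    have hinj : Function.Injective (MulAction.toPermHom A (A ⧸ H)) := by
      rw [← MonoidHom.ker_eq_bot_iff, ← Subgroup.normalCore_eq_ker, h1]
    have := Subgroup.card_dvd_of_injective _ hinj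
    rwa [Nat.card_perm, ← Subgroup.index] at this
  · exact eq_top_iff.mpr (h1 ▸ Subgroup.normalCore_le H)

/-- A subgroup of the alternating group of small index. -/
theorem alternating_le_of_card (G : Subgroup (Equiv.Perm β)) (hA : G ≤ alternatingGroup β)
    (h5 : 5 ≤ Fintype.card β)
    (h : ∀ i, Nat.card G * i = Nat.card (alternatingGroup β) →
      ¬ Nat.card (alternatingGroup β) ∣ i.factorial) :
    alternatingGroup β ≤ G := by
  have : IsSimpleGroup (alternatingGroup β) :=
    alternatingGroup.isSimpleGroup (by rwa [Nat.card_eq_fintype_card])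
  have h1 := eq_top_of_card_not_dvd (G.subgroupOf (alternatingGroup β)) (h _ (by
    have := (G.subgroupOf (alternatingGroup β)).card_mul_index
    rwa [Nat.card_congr (Subgroup.subgroupOfEquivOfLe hA).toEquiv] at this))
  exact Subgroup.subgroupOf_eq_top.mp h1

theorem mem_stabilizer_embedding {G : Subgroup (Equiv.Perm β)} {ι : Type*} (es : ι ↪ β) (g : G) :
    g ∈ stabilizer G es ↔ ∀ i, (g : Equiv.Perm β) (es i) = es i := by
  rw [mem_stabilizer_iff, DFunLike.ext_iff]
  rfl

/-- Orbit-stabilizer on tuples of distinct points. -/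
theorem card_stabilizer_tuple {G : Subgroup (Equiv.Perm β)} {j : ℕ}
    (hj : IsMultiplyPretransitive G β j) (es : Fin j ↪ β) :
    Nat.card (stabilizer G es) * (Fintype.card β).descFactorial j = Nat.card G := by
  have : IsPretransitive G (Fin j ↪ β) := hj
  have h := (stabilizer G es).card_mul_index
  rwa [@MulAction.index_stabilizer_of_transitive G (Fin j ↪ β) _ _ es hj,
    Nat.card_eq_fintype_card (α := Fin j ↪ β),
    Fintype.card_embedding_eq, Fintype.card_fin] at h

/-- An embedding of three distinct points. -/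
def tripleEmb {a b d : β} (hab : a ≠ b) (had : a ≠ d) (hbd : b ≠ d) : Fin 3 ↪ β :=
  ⟨![a, b, d], fun i k h => by
    fin_cases i <;> fin_cases k <;> simp_all [eq_comm]⟩

section Twin

variable (G : Subgroup (Equiv.Perm β)) {p : ℕ} {c : Equiv.Perm β}

theorem three_pretransitive (hG : IsPreprimitive G β) (hp : p.Prime)
    (hβ : Fintype.card β = p + 2) (hc : c.IsCycle) (hcp : c.support.card = p) (hcG : c ∈ G) :
    IsMultiplyPretransitive G β 3 := by
  classical
  let s : Set β := (c.support : Set β)ᶜ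
  have hs : s.ncard = 2 := by
    rw [Set.ncard_compl, Set.ncard_coe_finset, hcp, Nat.card_eq_fintype_card, hβ]
    omega
  haveI := Equiv.Perm.isPretransitive_of_isCycle_mem (G := G) hc hcG
  have hmemD : ∀ x : β, x ∈ SubMulAction.ofFixingSubgroup G s ↔ x ∈ c.support := fun x => by
    simp [s, SubMulAction.mem_ofFixingSubgroup_iff]
  have hcardD : Nat.card (SubMulAction.ofFixingSubgroup G s) = p := by
    rw [Nat.card_congr (Equiv.subtypeEquivRight hmemD), Nat.card_eq_fintype_card,
      Fintype.card_coe, hcp]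
  haveI hprim : IsPreprimitive (fixingSubgroup G s) (SubMulAction.ofFixingSubgroup G s) :=
    IsPreprimitive.of_prime_card (hcardD ▸ hp)
  have h1 : IsMultiplyPreprimitive G β (1 + 2) :=
    hG.isMultiplyPreprimitive (s := s) (n := 1) hs
      (by rw [Nat.card_eq_fintype_card, hβ]; have := hp.two_le; omega) hprim
  exact h1.isMultiplyPretransitive

theorem exists_fixed_pair (hβ : Fintype.card β = p + 2) (hcp : c.support.card = p) :
    ∃ a b : β, a ≠ b ∧ c a = a ∧ c b = b ∧ ∀ x, x ≠ a → x ≠ b → x ∈ c.support := by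
  have h : c.supportᶜ.card = 2 := by rw [Finset.card_compl, hcp, hβ]; omega
  obtain ⟨a, b, hab, hs⟩ := Finset.card_eq_two.mp h
  refine ⟨a, b, hab, ?_, ?_, fun x hxa hxb => ?_⟩
  · exact Equiv.Perm.notMem_support.mp (Finset.mem_compl.mp (hs ▸ Finset.mem_insert_self a {b}))
  · exact Equiv.Perm.notMem_support.mp
      (Finset.mem_compl.mp (hs ▸ Finset.mem_insert_of_mem (Finset.mem_singleton_self b)))
  · by_contra hx
    have : x ∈ ({a, b} : Finset β) := hs ▸ Finset.mem_compl.mpr hx
    simp [hxa, hxb] at this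

theorem pow_pred_eq_one_mod (hp : p.Prime) {i : ℕ} (hi : ¬ p ∣ i) : i ^ (p - 1) % p = 1 := by
  have h := Nat.ModEq.pow_card_sub_one_eq_one hp (Nat.Coprime.symm (hp.coprime_iff_not_dvd.mpr hi))
  rw [Nat.ModEq, Nat.mod_eq_of_lt hp.one_lt] at h
  exact h

/-- There is no sharply 3-transitive group in the situation at hand. -/
theorem not_sharp (hG : IsPreprimitive G β) (hp : p.Prime) (h2 : 2 ∣ p + 1) (h3 : 3 ∣ p + 1)
    (hp5 : 5 ≤ p) (hβ : Fintype.card β = p + 2) (hc : c.IsCycle) (hcp : c.support.card = p)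
    (hcG : c ∈ G) : Nat.card G ≠ (p + 2) * (p + 1) * p := by
  intro hcard
  have hk := three_pretransitive G hG hp hβ hc hcp hcG
  have : Fact p.Prime := ⟨hp⟩
  obtain ⟨a, b, hab, hca, hcb, hsupp⟩ := exists_fixed_pair hβ hcp
  obtain ⟨d, hd⟩ := Finset.card_pos.mp (hcp.symm ▸ hp.pos : 0 < c.support.card)
  have hd' : c d ≠ d := Equiv.Perm.mem_support.mp hd
  set A := stabilizer G a with hA
  have hAcard : Nat.card A = (p + 1) * p := by
    have := hG.toIsPretransitive
    have h := A.card_mul_index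
    rw [hA, index_stabilizer_of_transitive, Nat.card_eq_fintype_card (α := β), hβ, hcard, ← hA] at h
    have h' : Nat.card A * (p + 2) = (p + 1) * p * (p + 2) := by rw [h]; ring
    exact Nat.eq_of_mul_eq_mul_right (by omega) h'
  let cA : A := ⟨⟨c, hcG⟩, mem_stabilizer_iff.mpr hca⟩
  have hcA : orderOf cA = p := by
    rw [← Subgroup.orderOf_coe, ← Subgroup.orderOf_coe]
    exact hc.orderOf.trans hcp
  obtain ⟨P, hP⟩ := (IsPGroup.of_card (n := 1) (by rw [Nat.card_zpowers, hcA, pow_one]) :
    IsPGroup p (Subgroup.zpowers cA)).exists_le_sylow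
  have hPcard : Nat.card (P : Subgroup A) = p := by
    rw [P.card_eq_multiplicity, hAcard, Nat.factorization_mul (by omega) hp.ne_zero,
      Finsupp.add_apply, hp.factorization_self,
      Nat.factorization_eq_zero_of_not_dvd (fun h => by
        have := (Nat.dvd_add_right (dvd_refl p)).mp h
        exact hp.not_dvd_one this), zero_add, pow_one]
  have hPeq : (P : Subgroup A) = Subgroup.zpowers cA :=
    (Subgroup.eq_of_le_of_card_ge hP (by rw [hPcard, Nat.card_zpowers, hcA])).symm
  have hidx : (P : Subgroup A).index = p + 1 := by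
    have h := (P : Subgroup A).card_mul_index
    rw [hPcard, hAcard, mul_comm (p + 1)] at h
    exact Nat.eq_of_mul_eq_mul_left hp.pos h
  -- `n_p ≠ 1`
  have hnp : Nat.card (Sylow p A) = p + 1 := by
    have h1 := P.card_dvd_index
    rw [hidx] at h1
    have h2' := card_sylow_modEq_one p A
    have hle := Nat.le_of_dvd (by omega) h1
    by_contra hne
    have hne1 : Nat.card (Sylow p A) = 1 := by
      unfold Nat.ModEq at h2'
      rw [Nat.mod_eq_of_lt hp.one_lt] at h2'
      rcases Nat.lt_or_ge (Nat.card (Sylow p A)) p with h | h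
      · rwa [Nat.mod_eq_of_lt h] at h2'
      · have : Nat.card (Sylow p A) = p := by omega
        rw [this, Nat.mod_self] at h2'
        omega
    have : Subsingleton (Sylow p A) := (Nat.card_eq_one_iff_unique.mp hne1).1
    have hPn : (P : Subgroup A).Normal := P.normal_of_subsingleton
    have hpre : IsMultiplyPretransitive G β 2 := isMultiplyPretransitive_of_le (n := 3) (by norm_num)
      (by rw [Nat.card_eq_fintype_card, hβ]; omega)
    have h2pre : ∀ {a b c d : β}, a ≠ b → c ≠ d → ∃ m : G, m • a = c ∧ m • b = d :=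
      is_two_pretransitive_iff.mp hpre
    obtain ⟨g, hga, hgd⟩ := h2pre hab (fun h : a = d => hd' (h ▸ hca))
    let gA : A := ⟨g, mem_stabilizer_iff.mpr hga⟩
    have hmem : gA⁻¹ * cA * gA ∈ (P : Subgroup A) := by
      have := hPn.conj_mem cA (hP (Subgroup.mem_zpowers _)) gA⁻¹
      rwa [inv_inv] at this
    rw [hPeq, Subgroup.mem_zpowers_iff] at hmem
    obtain ⟨k, hk'⟩ := hmem
    have h4 := congrArg (fun z : A => ((z : G) : Equiv.Perm β) b) hk'
    simp only [cA, gA, SubgroupClass.coe_zpow, Subgroup.coe_mul, Subgroup.coe_inv,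
      Equiv.Perm.mul_apply, Equiv.Perm.zpow_apply_eq_self_of_apply_eq_self hcb] at h4
    have hgb : (g : Equiv.Perm β) b = d := hgd
    rw [hgb] at h4
    apply hd'
    have h5 := congrArg (g : Equiv.Perm β) h4
    simp [hgb] at h5
    first | exact h5 | exact h5.symm
  -- the elements of order different from `p`
  have hN : Subgroup.normalizer ((P : Subgroup A) : Set A) = P := by
    refine (Subgroup.eq_of_le_of_card_ge Subgroup.le_normalizer ?_).symm
    have h := (Subgroup.normalizer ((P : Subgroup A) : Set A)).card_mul_index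
    have h' : (Subgroup.normalizer ((P : Subgroup A) : Set A)).index = Nat.card (Sylow p A) :=
      P.card_eq_index_normalizer.symm
    rw [h', hnp, hAcard, mul_comm (p + 1)] at h
    rw [hPcard, Nat.eq_of_mul_eq_mul_right (by omega) h]
  have hcount : Nat.card {g : A // orderOf g ≠ p ∧ g ≠ 1} = p := by
    classical
    have : Fintype A := Fintype.ofFinite A
    have h1 := H62.card_orderOf_eq_prime P hPcard
    rw [hnp, Nat.card_eq_fintype_card, Fintype.card_subtype] at h1
    rw [Nat.card_eq_fintype_card, Fintype.card_subtype]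
    have h4 : (Finset.univ.filter fun g : A => orderOf g ≠ p ∧ g ≠ 1) =
        (Finset.univ.filter fun g : A => ¬ orderOf g = p).erase 1 := by
      ext g; simp [and_comm]
    rw [h4, Finset.card_erase_of_mem (by simp [hp.one_lt.ne]), ← Finset.compl_filter,
      Finset.card_compl, h1, ← Nat.card_eq_fintype_card, hAcard]
    obtain ⟨m, rfl⟩ : ∃ m, p = m + 1 := ⟨p - 1, by omega⟩
    simp only [Nat.add_sub_cancel]
    have : (m + 1 + 1) * (m + 1) = (m + 1 + 1) * m + (m + 1 + 1) := by ring
    omega
  have : Fact (Nat.Prime 2) := ⟨Nat.prime_two⟩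
  have : Fact (Nat.Prime 3) := ⟨Nat.prime_three⟩
  obtain ⟨u2, hu2⟩ := exists_prime_orderOf_dvd_card' (G := A) 2 (by rw [hAcard]; exact h2.mul_right _)
  obtain ⟨u3, hu3⟩ := exists_prime_orderOf_dvd_card' (G := A) 3 (by rw [hAcard]; exact h3.mul_right _)
  have hcomm : ¬ Commute cA u2 := by
    intro h
    have hmem : u2 ∈ Subgroup.normalizer ((P : Subgroup A) : Set A) := by
      rw [hPeq, Subgroup.mem_normalizer_iff_map_conj_eq, MonoidHom.map_zpowers]
      congr 1
      simp [MulAut.conj_apply, ← h.eq]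
    rw [hN, hPeq] at hmem
    have hd2 : orderOf u2 ∣ orderOf cA := orderOf_dvd_of_mem_zpowers hmem
    rw [hu2, hcA] at hd2
    have := (Nat.prime_dvd_prime_iff_eq Nat.prime_two hp).mp hd2
    omega
  let orb : Fin p → {g : A // orderOf g ≠ p ∧ g ≠ 1} := fun i =>
    ⟨cA ^ (i : ℕ) * u2 * (cA ^ (i : ℕ))⁻¹, by
      have h : orderOf (cA ^ (i : ℕ) * u2 * (cA ^ (i : ℕ))⁻¹) = 2 := by
        rw [← hu2]; exact MulEquiv.orderOf_eq (MulAut.conj _) u2
      refine ⟨by rw [h]; omega, fun e => ?_⟩
      rw [e, orderOf_one] at h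
      omega⟩
  have horb : Function.Injective orb := by
    intro i j hij
    by_contra hne
    apply hcomm
    have h := congrArg Subtype.val hij
    simp only [orb] at h
    have key : ∀ i j : ℕ, i < j → j < p →
        cA ^ i * u2 * (cA ^ i)⁻¹ = cA ^ j * u2 * (cA ^ j)⁻¹ → Commute cA u2 := by
      intro i j hij hjp h
      have h' : Commute (cA ^ (j - i)) u2 := by
        have e : cA ^ j = cA ^ i * cA ^ (j - i) := by rw [← pow_add, Nat.add_sub_cancel' hij.le]
        rw [e, mul_inv_rev] at h
        have h6 : u2 = cA ^ (j - i) * u2 * (cA ^ (j - i))⁻¹ := by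
          have h' := congrArg (fun z => (cA ^ i)⁻¹ * z * cA ^ i) h
          simpa [mul_assoc] using h'
        exact (eq_mul_inv_iff_mul_eq.mp h6).symm
      obtain ⟨m, hm⟩ := exists_pow_eq_self_of_coprime (x := cA) (n := j - i) (by
        rw [hcA]
        exact (hp.coprime_iff_not_dvd.mpr fun hd => by
          have := Nat.le_of_dvd (by omega) hd; omega).symm)
      rw [← hm]
      exact h'.pow_left m
    rcases lt_or_gt_of_ne (fun e => hne (Fin.ext e) : (i : ℕ) ≠ (j : ℕ)) with hl | hl
    · exact key _ _ hl j.2 h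
    · exact key _ _ hl i.2 h.symm
  have hsurj := (Nat.bijective_iff_injective_and_card orb).mpr ⟨horb, by rw [hcount, Nat.card_fin]⟩
  obtain ⟨i, hi⟩ := hsurj.2 ⟨u3, by omega, fun e => by rw [e, orderOf_one] at hu3; omega⟩
  have h := congrArg (fun z => orderOf (Subtype.val z)) hi
  simp only [orb] at h
  rw [hu3, show orderOf (cA ^ (i : ℕ) * u2 * (cA ^ (i : ℕ))⁻¹) = orderOf u2 from
    MulEquiv.orderOf_eq (MulAut.conj _) u2, hu2] at h
  omega

theorem alternating_le_seven (hG : IsPreprimitive G β) (hA : G ≤ alternatingGroup β)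
    (hβ : Fintype.card β = 7) (hc : c.IsCycle) (hcp : c.support.card = 5)
    (hcG : c ∈ G) : alternatingGroup β ≤ G := by
  have hk := three_pretransitive G hG (p := 5) (by norm_num) hβ hc hcp hcG
  obtain ⟨a, b, hab, hca, hcb, -⟩ := exists_fixed_pair (p := 5) hβ hcp
  obtain ⟨d, hd⟩ := Finset.card_pos.mp (hcp.symm ▸ by norm_num : 0 < c.support.card)
  have hd' : c d ≠ d := Equiv.Perm.mem_support.mp hd
  have had : a ≠ d := fun e => hd' (e ▸ hca)
  have hbd : b ≠ d := fun e => hd' (e ▸ hcb)
  have h := card_stabilizer_tuple hk (tripleEmb hab had hbd)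
  generalize Nat.card (stabilizer G (tripleEmb hab had hbd)) = k at h
  rw [hβ, show (7 : ℕ).descFactorial 3 = 210 from rfl] at h
  have hne : Nat.card G ≠ 210 := not_sharp G hG (p := 5) (by norm_num) (by norm_num) (by norm_num) le_rfl hβ hc hcp hcG
  refine alternating_le_of_card G hA (by omega) fun i hi hdvd => ?_
  have hcard : Nat.card (alternatingGroup β) = 2520 := by
    have : Nontrivial β := Fintype.one_lt_card_iff_nontrivial.mp (by omega)
    rw [nat_card_alternatingGroup, Nat.card_eq_fintype_card, hβ]; rfl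
  rw [hcard] at hi hdvd
  rcases Nat.lt_or_ge i 7 with hi7 | hi7
  · interval_cases i <;> simp [Nat.factorial] at hi hdvd ⊢
  · have : 2 ≤ k := by
      by_contra hk2
      interval_cases k
      · simp at h; have := Nat.card_pos (α := G); omega
      · omega
    rw [← h] at hi
    nlinarith

theorem isCycle_or_support_eq {f : Equiv.Perm β} (hf : orderOf f = 5) {a b d : β} (hab : a ≠ b)
    (had : a ≠ d) (hbd : b ≠ d) (hfa : f a = a) (hfb : f b = b) (hfd : f d = d)
    (hβ : Fintype.card β = 13) :
    f.IsCycle ∨ ∀ x, x ≠ a → x ≠ b → x ≠ d → f x ≠ x := by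
  rcases Nat.lt_or_ge f.support.card 10 with h | h
  · exact Or.inl (Equiv.Perm.isCycle_of_prime_order (by rw [hf]; norm_num) (by omega))
  · right
    intro x hxa hxb hxd hfx
    have h4 : ({a, b, d, x} : Finset β) ⊆ f.supportᶜ := by
      intro y hy
      simp only [Finset.mem_insert, Finset.mem_singleton] at hy
      rw [Finset.mem_compl, Equiv.Perm.notMem_support]
      rcases hy with rfl | rfl | rfl | rfl <;> assumption
    have h5 := Finset.card_le_card h4
    rw [Finset.card_compl, hβ, Finset.card_insert_of_notMem (by simp [hab, had, hxa.symm]),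
      Finset.card_insert_of_notMem (by simp [hbd, hxb.symm]),
      Finset.card_pair hxd.symm] at h5
    omega

/-- A permutation of prime power order without fixed points on an invariant set. -/
theorem prime_dvd_card_of_invariant {r s : ℕ} [Fact r.Prime] {t : Equiv.Perm β} (ht : t ^ r ^ s = 1)
    (S : Finset β) (hS : ∀ x, t x ∈ S ↔ x ∈ S) (hfp : ∀ x ∈ S, t x ≠ x) : r ∣ S.card := by
  classical
  by_contra hnd
  have h1 : (t.subtypePerm hS : Equiv.Perm {x // x ∈ S}) ^ r ^ s = 1 := by
    rw [Equiv.Perm.subtypePerm_pow]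
    ext x
    simp [ht]
  obtain ⟨x, hx⟩ := Equiv.Perm.exists_fixed_point_of_prime (p := r) (n := s)
    (by rwa [Fintype.card_coe]) h1
  exact hfp x x.2 (congrArg Subtype.val hx)

theorem five_cycle_of_sylow {H : Subgroup (Equiv.Perm β)} (hH : 25 ∣ Nat.card H)
    (hβ : Fintype.card β = 13) :
    ∃ g ∈ H, g.IsCycle ∧ g.support.card = 5 := by
  classical
  have : Fact (Nat.Prime 5) := ⟨by norm_num⟩
  have hfac : Nat.card (Equiv.Perm β) = 25 * 249080832 := by
    rw [Nat.card_perm, Nat.card_eq_fintype_card, hβ]; decide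
  obtain ⟨Q, hQ⟩ := Sylow.exists_subgroup_card_pow_prime 5 (n := 2) (G := H) (by simpa using hH)
  have hQp : IsPGroup 5 (Q.map H.subtype) :=
    IsPGroup.of_card (n := 2) (by rw [Subgroup.card_map_of_injective H.subtype_injective, hQ])
  obtain ⟨R, hR⟩ := hQp.exists_le_sylow
  have hRcard : Nat.card (R : Subgroup (Equiv.Perm β)) = 5 ^ 2 := by
    rw [R.card_eq_multiplicity, hfac, Nat.factorization_mul (by norm_num) (by norm_num),
      Finsupp.add_apply, Nat.factorization_eq_zero_of_not_dvd (n := 249080832) (by norm_num),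
      show (25 : ℕ) = 5 ^ 2 from rfl, (by norm_num : Nat.Prime 5).factorization_pow,
      Finsupp.single_eq_same, add_zero]
  have hReq : Q.map H.subtype = (R : Subgroup (Equiv.Perm β)) := Subgroup.eq_of_le_of_card_ge hR (by
    rw [hRcard, Subgroup.card_map_of_injective H.subtype_injective, hQ])
  obtain ⟨S, hS⟩ := Finset.exists_subset_card_eq (s := (Finset.univ : Finset β)) (n := 5)
    (by rw [Finset.card_univ, hβ]; norm_num)
  obtain ⟨c5, hc5, hc5s⟩ := S.exists_cycleOn
  have hcard : c5.support.card = 5 := by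
    have hsub : S ⊆ c5.support := fun x hx => Equiv.Perm.mem_support.mpr
      (hc5.apply_ne (Finset.one_lt_card_iff_nontrivial.mp (by omega)) hx)
    rw [le_antisymm hc5s hsub, hS.2]
  have hcyc : c5.IsCycle := by
    rw [Equiv.Perm.isCycle_iff_exists_isCycleOn]
    refine ⟨(S : Set β), Finset.one_lt_card_iff_nontrivial.mp (by omega), hc5, fun x hx => ?_⟩
    exact hc5s (Equiv.Perm.mem_support.mpr hx)
  obtain ⟨R', hR'⟩ := (IsPGroup.of_card (n := 1) (by rw [Nat.card_zpowers, hcyc.orderOf, hcard]; rfl) :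
    IsPGroup 5 (Subgroup.zpowers c5)).exists_le_sylow
  obtain ⟨u, hu⟩ := MulAction.exists_smul_eq (Equiv.Perm β) R' R
  have hmem : u * c5 * u⁻¹ ∈ (R : Subgroup (Equiv.Perm β)) := by
    rw [← hu]
    exact Subgroup.smul_mem_pointwise_smul _ (MulAut.conj u) _ (hR' (Subgroup.mem_zpowers _))
  rw [← hReq] at hmem
  obtain ⟨z, -, hz⟩ := hmem
  refine ⟨u * c5 * u⁻¹, hz ▸ z.2, hcyc.conj, ?_⟩
  rw [Equiv.Perm.support_conj, Finset.card_map, hcard]

theorem alternating_le_thirteen (hG : IsPreprimitive G β) (hA : G ≤ alternatingGroup β)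
    (hβ : Fintype.card β = 13) (hc : c.IsCycle) (hcp : c.support.card = 11)
    (hcG : c ∈ G) : alternatingGroup β ≤ G := by
  classical
  have hp : Nat.Prime 11 := by norm_num
  have : Fact (Nat.Prime 11) := ⟨hp⟩
  have : Fact (Nat.Prime 5) := ⟨by norm_num⟩
  have : Fact (Nat.Prime 3) := ⟨by norm_num⟩
  have hk3 := three_pretransitive G hG hp hβ hc hcp hcG
  obtain ⟨a, b, hab, hca, hcb, hsupp⟩ := exists_fixed_pair (p := 11) hβ hcp
  obtain ⟨d, hd⟩ := Finset.card_pos.mp (hcp.symm ▸ hp.pos : 0 < c.support.card)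
  have hd' : c d ≠ d := Equiv.Perm.mem_support.mp hd
  have had : a ≠ d := fun e => hd' (e ▸ hca)
  have hbd : b ≠ d := fun e => hd' (e ▸ hcb)
  set es := tripleEmb hab had hbd with hes
  have hK := card_stabilizer_tuple hk3 es
  rw [hβ, show (13 : ℕ).descFactorial 3 = 1716 from rfl] at hK
  set K := stabilizer G es with hKdef
  have hmemK : ∀ g : G, g ∈ K ↔ (g : Equiv.Perm β) a = a ∧ (g : Equiv.Perm β) b = b ∧
      (g : Equiv.Perm β) d = d := by
    intro g
    rw [hKdef, mem_stabilizer_embedding]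
    constructor
    · intro h; exact ⟨h 0, h 1, h 2⟩
    · rintro ⟨h0, h1, h2⟩ i; fin_cases i <;> assumption
  by_cases h5 : 5 ∣ Nat.card K
  · obtain ⟨fK, hfK⟩ := exists_prime_orderOf_dvd_card' (G := K) 5 h5
    set f : Equiv.Perm β := ((fK : G) : Equiv.Perm β) with hfdef
    have hf : orderOf f = 5 := by rw [hfdef, Subgroup.orderOf_coe, Subgroup.orderOf_coe, hfK]
    obtain ⟨hfa, hfb, hfd⟩ := (hmemK _).mp fK.2
    rcases isCycle_or_support_eq hf hab had hbd hfa hfb hfd hβ with hcyc | hmove
    · exact H58.alternating_le_of_prime_cycle G hG (p := 5) (by norm_num) (by omega) hcyc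
        (by rw [← hcyc.orderOf, hf]) (fK : G).2
    by_cases h25 : 25 ∣ Nat.card K
    · obtain ⟨g, hg, hgc, hgs⟩ := five_cycle_of_sylow (H := G)
        (h25.trans (Subgroup.card_subgroup_dvd_card K)) hβ
      exact H58.alternating_le_of_prime_cycle G hG (p := 5) (by norm_num) (by omega) hgc hgs hg
    -- `⟨f⟩` is a Sylow subgroup of `K`
    obtain ⟨P, hP⟩ := (IsPGroup.of_card (n := 1) (by rw [Nat.card_zpowers, hfK, pow_one]) :
      IsPGroup 5 (Subgroup.zpowers fK)).exists_le_sylow
    have hPeq : (P : Subgroup K) = Subgroup.zpowers fK := by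
      refine (Subgroup.eq_of_le_of_card_ge hP ?_).symm
      rw [Nat.card_zpowers, hfK]
      obtain ⟨j, hj⟩ := IsPGroup.iff_card.mp P.isPGroup'
      rw [hj]
      have hj2 : j < 2 := by
        by_contra hj2
        exact h25 ((pow_dvd_pow 5 (not_lt.mp hj2)).trans (hj ▸ Subgroup.card_subgroup_dvd_card _))
      interval_cases j <;> norm_num
    set π : Equiv.Perm β := Equiv.swap a b * Equiv.swap b d with hπ
    obtain ⟨h, hh⟩ := hk3.exists_smul_eq es (es.trans π.toEmbedding)
    have hhi : ∀ i, (h : Equiv.Perm β) (es i) = π (es i) := fun i => DFunLike.congr_fun hh i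
    have hh0 : (h : Equiv.Perm β) a = π a := hhi 0
    have hh1 : (h : Equiv.Perm β) b = π b := hhi 1
    have hh2 : (h : Equiv.Perm β) d = π d := hhi 2
    have hπa : π a = b := by
      simp [hπ, Equiv.swap_apply_of_ne_of_ne hab had]
    have hπb : π b = d := by
      simp [hπ, Equiv.swap_apply_of_ne_of_ne had.symm hbd.symm]
    have hπd : π d = a := by simp [hπ]
    rw [hπa] at hh0; rw [hπb] at hh1; rw [hπd] at hh2
    have hhinv : ((h : Equiv.Perm β))⁻¹ a = d ∧ ((h : Equiv.Perm β))⁻¹ b = a ∧
        ((h : Equiv.Perm β))⁻¹ d = b :=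
      ⟨Equiv.Perm.inv_eq_iff_eq.mpr hh2.symm, Equiv.Perm.inv_eq_iff_eq.mpr hh0.symm,
        Equiv.Perm.inv_eq_iff_eq.mpr hh1.symm⟩
    have hconj : h * (fK : G) * h⁻¹ ∈ K := by
      rw [hmemK]
      simp only [Subgroup.coe_mul, Subgroup.coe_inv, Equiv.Perm.mul_apply, hhinv, hfa, hfb,
        hfd, hh0, hh1, hh2, and_self]
    obtain ⟨Q, hQ⟩ := (IsPGroup.of_card (n := 1) (by
      rw [Nat.card_zpowers, pow_one, Subgroup.orderOf_mk]
      exact ((MulEquiv.orderOf_eq (MulAut.conj h) (fK : G)).trans (Subgroup.orderOf_coe fK)).trans hfK) :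
      IsPGroup 5 (Subgroup.zpowers (⟨_, hconj⟩ : K))).exists_le_sylow
    obtain ⟨u, hu⟩ := MulAction.exists_smul_eq K Q P
    have hmem : u * ⟨_, hconj⟩ * u⁻¹ ∈ (P : Subgroup K) := by
      rw [← hu]
      exact Subgroup.smul_mem_pointwise_smul _ (MulAut.conj u) (Q : Subgroup K)
        (hQ (Subgroup.mem_zpowers _))
    rw [hPeq, ← mem_powers_iff_mem_zpowers] at hmem
    obtain ⟨i, hi⟩ := hmem
    obtain ⟨h1, hh1def⟩ : ∃ h1 : Equiv.Perm β, h1 = ((u : G) : Equiv.Perm β) * (h : Equiv.Perm β) :=
      ⟨_, rfl⟩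
    have hh1G : h1 ∈ G := hh1def ▸ G.mul_mem (u : G).2 h.2
    have hfi : h1 * f * h1⁻¹ = f ^ i := by
      have h2 := congrArg (fun z : K => ((z : G) : Equiv.Perm β)) hi
      simp only [Subgroup.coe_mul, Subgroup.coe_inv, SubmonoidClass.coe_pow] at h2
      rw [hh1def, hfdef, h2, mul_inv_rev]
      group
    obtain ⟨hua, hub, hud⟩ := (hmemK _).mp u.2
    have h1a : h1 a = b := by rw [hh1def, Equiv.Perm.mul_apply, hh0, hub]
    have h1b : h1 b = d := by rw [hh1def, Equiv.Perm.mul_apply, hh1, hud]
    have h1d : h1 d = a := by rw [hh1def, Equiv.Perm.mul_apply, hh2, hua]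
    have hi5 : ¬ 5 ∣ i := fun hi5 => by
      have h0 : f ^ i = 1 := orderOf_dvd_iff_pow_eq_one.mp (hf ▸ hi5)
      rw [h0, conj_eq_one_iff] at hfi
      rw [hfi, orderOf_one] at hf
      omega
    have hconjpow : ∀ k : ℕ, h1 ^ k * f * (h1 ^ k)⁻¹ = f ^ i ^ k := by
      intro k
      induction k with
      | zero => simp
      | succ k ih =>
        calc h1 ^ (k + 1) * f * (h1 ^ (k + 1))⁻¹ = h1 * (h1 ^ k * f * (h1 ^ k)⁻¹) * h1⁻¹ := by
              rw [pow_succ']; group
          _ = (h1 * f * h1⁻¹) ^ i ^ k := by rw [ih, conj_pow]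
          _ = f ^ i ^ (k + 1) := by rw [hfi, ← pow_mul, ← pow_succ']
    obtain ⟨t0, ht0def⟩ : ∃ t0, t0 = h1 ^ 4 := ⟨_, rfl⟩
    have ht0f : Commute t0 f := by
      have h4 := hconjpow 4
      rw [← pow_mod_orderOf f (i ^ 4), hf, pow_pred_eq_one_mod (by norm_num : Nat.Prime 5) hi5, pow_one,
        mul_inv_eq_iff_eq_mul, ← ht0def] at h4
      exact h4
    have ht0a : t0 a = b := by simp [ht0def, pow_succ, Equiv.Perm.mul_apply, h1a, h1b, h1d]
    have ht0b : t0 b = d := by simp [ht0def, pow_succ, Equiv.Perm.mul_apply, h1a, h1b, h1d]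
    have ht0d : t0 d = a := by simp [ht0def, pow_succ, Equiv.Perm.mul_apply, h1a, h1b, h1d]
    obtain ⟨w, hw3, hwdvd⟩ : ∃ w, ¬ 3 ∣ w ∧ ∃ s, orderOf t0 = 3 ^ s * w := by
      exact ⟨_, Nat.not_dvd_ordCompl Nat.prime_three (orderOf_pos t0).ne',
        (orderOf t0).factorization 3, (Nat.ordProj_mul_ordCompl_eq_self _ 3).symm⟩
    obtain ⟨s, hs⟩ := hwdvd
    obtain ⟨t, htdef⟩ : ∃ t, t = t0 ^ w := ⟨_, rfl⟩
    have ht : t ^ 3 ^ s = 1 := by rw [htdef, ← pow_mul, mul_comm, ← hs, pow_orderOf_eq_one]
    have htf : Commute t f := htdef ▸ ht0f.pow_left w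
    have hfix : ∀ x ∈ f.support, t x = x := by
      let S := f.support.filter fun x => t x ≠ x
      have hSf : ∀ x, f x ∈ S ↔ x ∈ S := by
        intro x
        simp only [S, Finset.mem_filter, Equiv.Perm.apply_mem_support, ne_eq]
        have : t (f x) = f (t x) := DFunLike.congr_fun htf.eq x
        rw [this, f.apply_eq_iff_eq]
      have hSt : ∀ x, t x ∈ S ↔ x ∈ S := by
        intro x
        simp only [S, Finset.mem_filter, ne_eq, t.apply_eq_iff_eq]
        have : t (f x) = f (t x) := DFunLike.congr_fun htf.eq x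
        rw [Equiv.Perm.mem_support, ← this, ne_eq, t.apply_eq_iff_eq, Equiv.Perm.mem_support]
      have h3S : 3 ∣ S.card := prime_dvd_card_of_invariant ht S hSt fun x hx => (Finset.mem_filter.mp hx).2
      have h5S : 5 ∣ S.card := prime_dvd_card_of_invariant (s := 1)
        (by rw [pow_one, ← hf, pow_orderOf_eq_one]) S hSf
        fun x hx => Equiv.Perm.mem_support.mp (Finset.mem_filter.mp hx).1
      have hS10 : S.card ≤ 10 := by
        refine (Finset.card_le_card (Finset.filter_subset _ _)).trans ?_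
        have hsub : f.support ⊆ ({a, b, d} : Finset β)ᶜ := by
          intro x hx
          rw [Equiv.Perm.mem_support] at hx
          simp only [Finset.mem_compl, Finset.mem_insert, Finset.mem_singleton, not_or]
          exact ⟨fun e => hx (e ▸ hfa), fun e => hx (e ▸ hfb), fun e => hx (e ▸ hfd)⟩
        refine (Finset.card_le_card hsub).trans ?_
        rw [Finset.card_compl, hβ, Finset.card_insert_of_notMem (by simp [hab, had]),
          Finset.card_pair hbd]
      intro x hx
      by_contra hne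
      have : 0 < S.card := Finset.card_pos.mpr ⟨x, Finset.mem_filter.mpr ⟨hx, hne⟩⟩
      omega
    have htπ : t = π ^ w := by
      have key : ∀ (n : ℕ) (x : β), (x = a ∨ x = b ∨ x = d) →
          (t0 ^ n) x = (π ^ n) x ∧ ((π ^ n) x = a ∨ (π ^ n) x = b ∨ (π ^ n) x = d) := by
        intro n
        induction n with
        | zero => intro x hx; exact ⟨rfl, hx⟩
        | succ n ih =>
          intro x hx
          obtain ⟨e1, e2⟩ := ih x hx
          rw [pow_succ', pow_succ', Equiv.Perm.mul_apply, Equiv.Perm.mul_apply, e1]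
          rcases e2 with e | e | e <;>
            simp [e, ht0a, ht0b, ht0d, hπa, hπb, hπd]
      refine Equiv.ext fun x => ?_
      by_cases hx : x = a ∨ x = b ∨ x = d
      · rw [htdef]; exact (key w x hx).1
      · push Not at hx
        rw [hfix x (Equiv.Perm.mem_support.mpr (hmove x hx.1 hx.2.1 hx.2.2)),
          Equiv.Perm.pow_apply_eq_self_of_apply_eq_self]
        simp [hπ, Equiv.swap_apply_of_ne_of_ne, hx.1, hx.2.1, hx.2.2]
    have hπ3 : π.IsThreeCycle := by
      rw [hπ, Equiv.swap_comm a b]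
      exact Equiv.Perm.isThreeCycle_swap_mul_swap_same hab.symm hbd had
    refine Equiv.Perm.alternatingGroup_le_of_isPreprimitive_of_isThreeCycle_mem hG (g := π ^ w) ?_
      (htπ ▸ htdef ▸ G.pow_mem (ht0def ▸ G.pow_mem hh1G 4) w)
    rw [← pow_mod_orderOf, hπ3.orderOf]
    rcases (show w % 3 = 1 ∨ w % 3 = 2 by omega) with h | h <;> rw [h]
    · rwa [pow_one]
    · rw [pow_two]; exact hπ3.isThreeCycle_sq
  -- the order of the three point stabilisers is prime to 5
  exfalso
  have hk2 : IsMultiplyPretransitive G β 2 := isMultiplyPretransitive_of_le (n := 3) (by norm_num)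
    (by rw [Nat.card_eq_fintype_card, hβ]; norm_num)
  let e2 : Fin 2 ↪ β := ⟨![a, b], fun i k h => by
    fin_cases i <;> fin_cases k <;> first | rfl | exact absurd h hab | exact absurd h hab.symm⟩
  have hA2 := card_stabilizer_tuple hk2 e2
  rw [hβ, show (13 : ℕ).descFactorial 2 = 156 from rfl] at hA2
  set A2 := stabilizer G e2 with hA2def
  have hmemA : ∀ g : G, g ∈ A2 ↔ (g : Equiv.Perm β) a = a ∧ (g : Equiv.Perm β) b = b := by
    intro g
    rw [hA2def, mem_stabilizer_embedding]
    constructor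
    · intro h; exact ⟨h 0, h 1⟩
    · rintro ⟨h0, h1⟩ i; fin_cases i <;> assumption
  have hA2card : Nat.card A2 = 11 * Nat.card K := by omega
  let cA : A2 := ⟨⟨c, hcG⟩, (hmemA _).mpr ⟨hca, hcb⟩⟩
  have hcA : orderOf cA = 11 := by
    rw [← Subgroup.orderOf_coe, ← Subgroup.orderOf_coe]
    exact hc.orderOf.trans hcp
  obtain ⟨P, hP⟩ := (IsPGroup.of_card (n := 1) (by rw [Nat.card_zpowers, hcA, pow_one]) :
    IsPGroup 11 (Subgroup.zpowers cA)).exists_le_sylow
  have hno11 : ∀ x ∈ c.support, ∀ g : A2, ((g : G) : Equiv.Perm β) x = x → orderOf g ≠ 11 := by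
    intro x hx g hgx hg
    have hgo : orderOf ((g : G) : Equiv.Perm β) = 11 := by
      rw [Subgroup.orderOf_coe, Subgroup.orderOf_coe, hg]
    obtain ⟨hga, hgb⟩ := (hmemA _).mp g.2
    have hsub : ((g : G) : Equiv.Perm β).support ⊆ ({a, b, x} : Finset β)ᶜ := by
      intro y hy
      rw [Equiv.Perm.mem_support] at hy
      simp only [Finset.mem_compl, Finset.mem_insert, Finset.mem_singleton, not_or]
      exact ⟨fun e => hy (e ▸ hga), fun e => hy (e ▸ hgb), fun e => hy (e ▸ hgx)⟩
    have h10 := Finset.card_le_card hsub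
    have hxa : a ≠ x := fun e => Equiv.Perm.mem_support.mp hx (e ▸ hca)
    have hxb : b ≠ x := fun e => Equiv.Perm.mem_support.mp hx (e ▸ hcb)
    rw [Finset.card_compl, hβ, Finset.card_insert_of_notMem (by simp [hab, hxa]),
      Finset.card_pair hxb] at h10
    have hcyc := Equiv.Perm.isCycle_of_prime_order (σ := ((g : G) : Equiv.Perm β))
      (by rw [hgo]; norm_num) (by omega)
    have := hcyc.orderOf
    omega
  have hsq : ¬ 11 ^ 2 ∣ Nat.card A2 := by
    intro h
    rw [hA2card, pow_two, Nat.mul_dvd_mul_iff_left (by norm_num)] at h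
    obtain ⟨g, hg⟩ := exists_prime_orderOf_dvd_card' (G := K) 11 h
    obtain ⟨g1, g2, g3⟩ := (hmemK _).mp g.2
    exact hno11 d hd ⟨g, (hmemA _).mpr ⟨g1, g2⟩⟩ g3
      (by rw [← hg, ← Subgroup.orderOf_coe, ← Subgroup.orderOf_coe g])
  have hPeq : (P : Subgroup A2) = Subgroup.zpowers cA := by
    refine (Subgroup.eq_of_le_of_card_ge hP ?_).symm
    rw [Nat.card_zpowers, hcA]
    obtain ⟨j, hj⟩ := IsPGroup.iff_card.mp P.isPGroup'
    rw [hj]
    have hj2 : j < 2 := by
      by_contra hj2
      exact hsq ((pow_dvd_pow 11 (not_lt.mp hj2)).trans (hj ▸ Subgroup.card_subgroup_dvd_card _))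
    interval_cases j <;> norm_num
  have hPcard : Nat.card (P : Subgroup A2) = 11 := by rw [hPeq, Nat.card_zpowers, hcA]
  have hN : Subgroup.normalizer ((P : Subgroup A2) : Set A2) = P := by
    refine le_antisymm (fun u hu => ?_) Subgroup.le_normalizer
    rw [hPeq, Subgroup.mem_normalizer_iff] at hu
    obtain ⟨i, hi⟩ := (mem_powers_iff_mem_zpowers).mpr ((hu cA).mp (Subgroup.mem_zpowers _))
    have hi11 : ¬ 11 ∣ i := fun hd11 => by
      have h0 : cA ^ i = 1 := orderOf_dvd_iff_pow_eq_one.mp (hcA ▸ hd11)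
      simp only [h0] at hi
      rw [eq_comm, conj_eq_one_iff] at hi
      rw [hi, orderOf_one] at hcA
      omega
    have hconjpow : ∀ k : ℕ, u ^ k * cA * (u ^ k)⁻¹ = cA ^ i ^ k := by
      intro k
      induction k with
      | zero => simp
      | succ k ih =>
        calc u ^ (k + 1) * cA * (u ^ (k + 1))⁻¹ = u * (u ^ k * cA * (u ^ k)⁻¹) * u⁻¹ := by
              rw [pow_succ']; group
          _ = (u * cA * u⁻¹) ^ i ^ k := by rw [ih, conj_pow]
          _ = cA ^ i ^ (k + 1) := by rw [← hi, ← pow_mul, ← pow_succ']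
    have hcent : ∀ v : A2, Commute v cA → v ∈ Subgroup.zpowers cA := by
      intro v hv
      have hv' : Commute ((v : G) : Equiv.Perm β) c :=
        congrArg (fun z : A2 => ((z : G) : Equiv.Perm β)) hv.eq
      obtain ⟨hva, hvb⟩ := (hmemA _).mp v.2
      obtain ⟨k, hk⟩ := eq_pow_of_commute_cycle hc hv' fun x hx => by
        rcases eq_or_ne x a with rfl | hxa
        · exact hva
        rcases eq_or_ne x b with rfl | hxb
        · exact hvb
        exact absurd (hsupp x hxa hxb) hx
      exact ⟨k, Subtype.ext (Subtype.ext (by simp [cA, hk]))⟩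
    have h10 : u ^ 10 ∈ Subgroup.zpowers cA := by
      refine hcent _ ?_
      have h := hconjpow 10
      rwa [← pow_mod_orderOf cA (i ^ 10), hcA, pow_pred_eq_one_mod hp hi11, pow_one,
        mul_inv_eq_iff_eq_mul] at h
    have h110 : u ^ 110 = 1 := by
      obtain ⟨k, hk⟩ := (mem_powers_iff_mem_zpowers).mpr h10
      simp only at hk
      rw [show (110 : ℕ) = 10 * 11 from rfl, pow_mul, ← hk, ← pow_mul, mul_comm, pow_mul,
        ← hcA, pow_orderOf_eq_one, one_pow]
    have h2 : ¬ 2 ∣ orderOf u := by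
      rintro ⟨m, hm⟩
      have hm0 : 0 < m := by have := orderOf_pos u; omega
      have hv2 : orderOf (u ^ m) = 2 := by
        rw [orderOf_pow' _ hm0.ne', hm, Nat.gcd_eq_right (Dvd.intro_left 2 rfl),
          Nat.mul_div_cancel _ hm0]
      set v : A2 := u ^ m with hv
      set j := i ^ m with hjdef
      have hvj : v * cA * v⁻¹ = cA ^ j := hconjpow m
      have hj2 : j * j % 11 = 1 := by
        have hvv : v * v = 1 := by rw [← pow_two, ← hv2, pow_orderOf_eq_one]
        have e : cA ^ (j * j) = cA ^ 1 := by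
          rw [pow_mul, ← hvj, conj_pow, ← hvj, pow_one]
          calc v * (v * cA * v⁻¹) * v⁻¹ = (v * v) * cA * (v * v)⁻¹ := by group
            _ = cA := by rw [hvv]; group
        rw [pow_inj_mod, hcA] at e
        simpa using e
      have hjmod : j % 11 = 1 ∨ j % 11 = 10 := by
        rw [Nat.mul_mod] at hj2
        have := Nat.mod_lt j (show 0 < 11 by norm_num)
        interval_cases h : j % 11 <;> simp at hj2 ⊢
      have hvG : ((v : G) : Equiv.Perm β) ∈ alternatingGroup β := hA (v : G).2
      set V : Equiv.Perm β := ((v : G) : Equiv.Perm β) with hVdef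
      have hV2 : orderOf V = 2 := by rw [hVdef, Subgroup.orderOf_coe, Subgroup.orderOf_coe, hv2]
      rcases hjmod with hj1 | hj10
      · rw [← pow_mod_orderOf, hcA, hj1, pow_one, mul_inv_eq_iff_eq_mul] at hvj
        have hd11 := orderOf_dvd_of_mem_zpowers (hcent v hvj)
        rw [hv2, hcA] at hd11
        norm_num at hd11
      · have hVc : V * c * V⁻¹ = c⁻¹ := by
          have h := congrArg (fun z : A2 => ((z : G) : Equiv.Perm β)) hvj
          simp only [Subgroup.coe_mul, Subgroup.coe_inv, SubmonoidClass.coe_pow, cA, ← hVdef] at h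
          rw [h, ← pow_mod_orderOf c j, hc.orderOf, hcp, hj10]
          refine eq_inv_of_mul_eq_one_left ?_
          rw [← pow_succ, show 10 + 1 = c.support.card from hcp.symm, ← hc.orderOf,
            pow_orderOf_eq_one]
        obtain ⟨hVa, hVb⟩ := (hmemA _).mp v.2
        rw [← hVdef] at hVa hVb
        have hone : (c.support.filter fun x => V x = x).card ≤ 1 := by
          rw [Finset.card_le_one]
          intro x hx y hy
          rw [Finset.mem_filter] at hx hy
          obtain ⟨l, hl⟩ := hc.exists_pow_eq (Equiv.Perm.mem_support.mp hx.1)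
            (Equiv.Perm.mem_support.mp hy.1)
          have e1 : (c ^ l)⁻¹ x = y := by
            have e : V * c ^ l * V⁻¹ = (c ^ l)⁻¹ := by rw [← conj_pow, hVc, inv_pow]
            calc (c ^ l)⁻¹ x = (V * c ^ l * V⁻¹) x := by rw [e]
              _ = V ((c ^ l) (V⁻¹ x)) := rfl
              _ = y := by rw [Equiv.Perm.inv_eq_iff_eq.mpr hx.2.symm, hl, hy.2]
          have e2 : (c ^ (2 * l)) x = x := by
            rw [two_mul, pow_add, Equiv.Perm.mul_apply, hl, ← e1]
            simp
          have e3 : c ^ (2 * l) = 1 :=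
            (hc.pow_eq_one_iff' (Equiv.Perm.mem_support.mp hx.1)).mpr e2
          have e4 : 11 ∣ 2 * l := hcp ▸ hc.orderOf ▸ orderOf_dvd_of_pow_eq_one e3
          have e5 : c ^ l = 1 := by
            refine orderOf_dvd_iff_pow_eq_one.mp ?_
            rw [hc.orderOf, hcp]
            omega
          rw [← hl, e5]
          rfl
        have hsupV : V.support = c.support.filter fun x => ¬ V x = x := by
          ext x
          rw [Finset.mem_filter, Equiv.Perm.mem_support]
          refine ⟨fun h => ⟨hsupp x (fun e => h (e ▸ hVa)) (fun e => h (e ▸ hVb)), h⟩, fun h => h.2⟩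
        have hcardV : 10 ≤ V.support.card ∧ V.support.card ≤ 11 := by
          have hsum := Finset.card_filter_add_card_filter_not (s := c.support) (fun x => V x = x)
          rw [hcp, ← hsupV] at hsum
          omega
        obtain ⟨n, hn⟩ := Equiv.Perm.cycleType_prime_order (σ := V) (by rw [hV2]; norm_num)
        rw [hV2] at hn
        rw [← V.sum_cycleType, hn, Multiset.sum_replicate, smul_eq_mul] at hcardV
        have hsign := Equiv.Perm.mem_alternatingGroup.mp hvG
        rw [Equiv.Perm.sign_of_cycleType, hn, Multiset.sum_replicate, Multiset.card_replicate,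
          smul_eq_mul] at hsign
        obtain rfl : n = 4 := by omega
        norm_num at hsign
    have h5' : ¬ 5 ∣ orderOf u := fun h5u => h5 <| by
      have := h5u.trans (orderOf_dvd_natCard u)
      rw [hA2card] at this
      exact (Nat.Coprime.dvd_of_dvd_mul_left (by norm_num) this)
    have h11 : orderOf u ∣ 11 := by
      refine Nat.Coprime.dvd_of_dvd_mul_left (Nat.Coprime.symm ?_)
        ((orderOf_dvd_of_pow_eq_one h110).trans (show 110 ∣ (2 * 5) * 11 from dvd_refl _))
      exact Nat.Coprime.mul_left (Nat.prime_two.coprime_iff_not_dvd.mpr h2)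
        ((by norm_num : Nat.Prime 5).coprime_iff_not_dvd.mpr h5')
    obtain ⟨m, hm⟩ := exists_pow_eq_self_of_coprime (x := u) (n := 10)
      ((Nat.Coprime.coprime_dvd_right h11 (by norm_num)))
    rw [hPeq, ← hm]
    exact Subgroup.pow_mem _ h10 m
  have hnp : Nat.card (Sylow 11 A2) = Nat.card K := by
    have h' : (Subgroup.normalizer ((P : Subgroup A2) : Set A2)).index = Nat.card (Sylow 11 A2) :=
      P.card_eq_index_normalizer.symm
    rw [← h', hN]
    have h := (P : Subgroup A2).card_mul_index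
    rw [hPcard, hA2card] at h
    omega
  have : Fintype A2 := Fintype.ofFinite A2
  have hF : (Finset.univ.filter fun g : A2 => ¬ orderOf g = 11).card = Nat.card K := by
    have h1 := H62.card_orderOf_eq_prime P hPcard
    rw [hnp, Nat.card_eq_fintype_card, Fintype.card_subtype] at h1
    rw [← Finset.compl_filter, Finset.card_compl, h1, ← Nat.card_eq_fintype_card, hA2card]
    omega
  have hFx : ∀ x ∈ c.support, ∀ g : A2, orderOf g ≠ 11 → ((g : G) : Equiv.Perm β) x = x := by
    intro x hx
    have hxa : a ≠ x := fun e => Equiv.Perm.mem_support.mp hx (e ▸ hca)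
    have hxb : b ≠ x := fun e => Equiv.Perm.mem_support.mp hx (e ▸ hcb)
    have hsub : (Finset.univ.filter fun g : A2 => ((g : G) : Equiv.Perm β) x = x) ⊆
        Finset.univ.filter fun g : A2 => ¬ orderOf g = 11 := fun g hg =>
      Finset.mem_filter.mpr ⟨Finset.mem_univ _, hno11 x hx g (Finset.mem_filter.mp hg).2⟩
    have hcardx : (Finset.univ.filter fun g : A2 => ((g : G) : Equiv.Perm β) x = x).card = Nat.card K := by
      rw [← Fintype.card_subtype, ← Nat.card_eq_fintype_card]
      have hx3 := card_stabilizer_tuple hk3 (tripleEmb hab hxa hxb)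
      rw [hβ, show (13 : ℕ).descFactorial 3 = 1716 from rfl] at hx3
      have hmem : ∀ g : G, g ∈ stabilizer G (tripleEmb hab hxa hxb) ↔
          g ∈ A2 ∧ (g : Equiv.Perm β) x = x := by
        intro g
        rw [mem_stabilizer_embedding, hmemA]
        constructor
        · intro h; exact ⟨⟨h 0, h 1⟩, h 2⟩
        · rintro ⟨⟨h0, h1⟩, h2⟩ i; fin_cases i <;> assumption
      have he : Nat.card {g : A2 // ((g : G) : Equiv.Perm β) x = x} =
          Nat.card (stabilizer G (tripleEmb hab hxa hxb)) :=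
        Nat.card_congr
          { toFun := fun g => ⟨g.1.1, (hmem _).mpr ⟨g.1.2, g.2⟩⟩
            invFun := fun g => ⟨⟨g.1, ((hmem _).mp g.2).1⟩, ((hmem _).mp g.2).2⟩
            left_inv := fun g => rfl
            right_inv := fun g => rfl }
      omega
    have heq := Finset.eq_of_subset_of_card_le hsub (by rw [hcardx, hF])
    intro g hg
    have hm : g ∈ Finset.univ.filter fun g : A2 => ¬ orderOf g = 11 :=
      Finset.mem_filter.mpr ⟨Finset.mem_univ _, hg⟩
    rw [← heq] at hm
    exact (Finset.mem_filter.mp hm).2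
  have hk1 : Nat.card K = 1 := by
    rw [← hF, Finset.card_eq_one]
    refine ⟨1, Finset.eq_singleton_iff_unique_mem.mpr ⟨by simp, fun g hg => ?_⟩⟩
    refine Subtype.ext (Subtype.ext (Equiv.ext fun x => ?_))
    obtain ⟨hga, hgb⟩ := (hmemA _).mp g.2
    rcases eq_or_ne x a with rfl | hxa
    · exact hga
    rcases eq_or_ne x b with rfl | hxb
    · exact hgb
    exact hFx x (hsupp x hxa hxb) g (Finset.mem_filter.mp hg).2
  exact not_sharp G hG hp (by norm_num) (by norm_num) (by norm_num) hβ hc hcp hcG (by omega)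

end Twin

end H36
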