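import Cfsg.Agent.H64.LargePrimes
import Cfsg.Agent.H64.AffineSL
import Cfsg.Agent.H36.TwinDegree
import Mathlib

/-!
Subgroups of `A₆` of order divisible by `15`.
-/

set_option autoImplicit false

namespace H36

theorem exists_orderOf_fifteen_of_normal {K : Type*} [Group K] [Finite K] {p q : ℕ} (hp : p.Prime)
    (hq : q.Prime) (hne : p ≠ q) (hd : ¬ q ∣ p - 1) (hcard : ∀ P : Sylow p K, Nat.card (P : Subgroup K) = p)
    (hsub : Nat.card (Sylow p K) = 1) (hqK : q ∣ Nat.card K) : ∃ z : K, orderOf z = p * q := by
  have : Fact p.Prime := ⟨hp⟩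
  have : Fact q.Prime := ⟨hq⟩
  have : Subsingleton (Sylow p K) := (Nat.card_eq_one_iff_unique.mp hsub).1
  obtain ⟨x, hx⟩ := exists_prime_orderOf_dvd_card' (G := K) q hqK
  let P : Sylow p K := default
  have := P.normal_of_subsingleton
  exact H64.exists_orderOf_mul_of_normalize hp hq hne hd P (hcard P) x hx
    (by rw [Subgroup.normalizer_eq_top]; trivial)

theorem altSix_fifteen (H : Subgroup (alternatingGroup (Fin 6))) (h : 15 ∣ Nat.card H) :
    ∃ d : ℕ, 5 ≤ d ∧ Nonempty (H ≃* alternatingGroup (Fin d)) := by
  classical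
  have hcard : Nat.card (alternatingGroup (Fin 6)) = 360 := by
    rw [nat_card_alternatingGroup, Nat.card_eq_fintype_card, Fintype.card_fin]; rfl
  have hidx := H.card_mul_index
  rw [hcard] at hidx
  have : IsSimpleGroup (alternatingGroup (Fin 6)) := alternatingGroup.isSimpleGroup (by simp)
  by_cases hi : H.index < 6
  · refine ⟨6, by norm_num, ⟨(MulEquiv.subgroupCongr (eq_top_of_card_not_dvd H ?_)).trans Subgroup.topEquiv⟩⟩
    rw [hcard]
    interval_cases hh : H.index <;> simp [Nat.factorial] at hidx ⊢
  obtain ⟨k, hk⟩ := h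
  have hk4 : k ≤ 4 := by
    by_contra hk4
    rw [hk] at hidx
    nlinarith
  by_cases hk' : k = 4
  · subst hk'
    refine ⟨5, le_rfl, ?_⟩
    have hidx6 : H.index = 6 := by rw [hk] at hidx; omega
    have hinj : Function.Injective (MulAction.toPermHom (alternatingGroup (Fin 6))
        (alternatingGroup (Fin 6) ⧸ H)) := by
      rw [← MonoidHom.ker_eq_bot_iff, ← Subgroup.normalCore_eq_ker]
      rcases (inferInstance : H.normalCore.Normal).eq_bot_or_eq_top with h1 | h1
      · exact h1
      · have h2 : H = ⊤ := eq_top_iff.mpr (h1 ▸ Subgroup.normalCore_le H)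
        rw [h2, Subgroup.index_top] at hidx6
        omega
    let α := {x : alternatingGroup (Fin 6) ⧸ H // x ≠ ((1 : alternatingGroup (Fin 6)) : alternatingGroup (Fin 6) ⧸ H)}
    have hfix : ∀ g : H, (g : alternatingGroup (Fin 6)) •
        ((1 : alternatingGroup (Fin 6)) : alternatingGroup (Fin 6) ⧸ H) =
        ((1 : alternatingGroup (Fin 6)) : alternatingGroup (Fin 6) ⧸ H) := by
      intro g
      rw [MulAction.Quotient.smul_coe, smul_eq_mul, mul_one, QuotientGroup.eq, mul_one]
      exact H.inv_mem g.2
    let ρ : H →* Equiv.Perm α :=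
      { toFun := fun g => (MulAction.toPermHom _ _ (g : alternatingGroup (Fin 6))).subtypeEquiv
          fun x => not_congr (by
            constructor
            · rintro rfl; exact hfix g
            · intro hx
              exact MulAction.injective (g : alternatingGroup (Fin 6)) (hx.trans (hfix g).symm))
        map_one' := by ext x; simp
        map_mul' := fun g1 g2 => by ext x; simp [mul_smul] }
    have hρ : Function.Injective ρ := by
      intro g1 g2 hg
      refine Subtype.ext (hinj (Equiv.ext fun x => ?_))
      by_cases hx : x = ((1 : alternatingGroup (Fin 6)) : alternatingGroup (Fin 6) ⧸ H)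
      · rw [hx]; exact (hfix g1).trans (hfix g2).symm
      · exact congrArg Subtype.val (Equiv.congr_fun hg ⟨x, hx⟩)
    have : Fintype (alternatingGroup (Fin 6) ⧸ H) := Fintype.ofFinite _
    have hα : Fintype.card α = 5 := by
      rw [Fintype.card_subtype_compl, Fintype.card_subtype_eq, ← Nat.card_eq_fintype_card,
        ← Subgroup.index, hidx6]
    let eq : α ≃ Fin 5 := Fintype.equivFinOfCardEq hα
    let ψ : H →* Equiv.Perm (Fin 5) := (Equiv.permCongrHom eq).toMonoidHom.comp ρ
    have hψ : Function.Injective ψ := (Equiv.permCongrHom eq).injective.comp hρ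
    have hrange : ψ.range = alternatingGroup (Fin 5) := by
      refine Equiv.Perm.eq_alternatingGroup_of_index_eq_two ?_
      have h1 := ψ.range.card_mul_index
      rw [← Nat.card_congr (MonoidHom.ofInjective hψ).toEquiv, Nat.card_perm,
        Nat.card_eq_fintype_card (α := Fin 5), Fintype.card_fin,
        show Nat.factorial 5 = 120 from rfl] at h1
      rw [hk] at h1
      omega
    exact ⟨(MonoidHom.ofInjective hψ).trans (MulEquiv.subgroupCongr hrange)⟩
  exfalso
  have hk1 : 1 ≤ k := by
    rcases Nat.eq_zero_or_pos k with rfl | h0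
    · have := Nat.card_pos (α := H); omega
    · exact h0
  have hk3 : k ≤ 3 := by omega
  have h5 : Fact (Nat.Prime 5) := ⟨by norm_num⟩
  have h3 : Fact (Nat.Prime 3) := ⟨by norm_num⟩
  have no15 : ∀ z : H, orderOf z ≠ 15 := by
    intro z hz
    have : (15 : ℕ) ∈ Set.range (orderOf : alternatingGroup (Fin 6) → ℕ) :=
      ⟨(z : alternatingGroup (Fin 6)), by rw [Subgroup.orderOf_coe, hz]⟩
    rw [H64.alt6_orders] at this
    simp at this
  have hsyl5 : ∀ P : Sylow 5 H, Nat.card (P : Subgroup H) = 5 := by
    intro P
    rw [P.card_eq_multiplicity, hk, show 15 * k = 5 * (3 * k) by ring,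
      Nat.factorization_mul (by norm_num) (by omega), Finsupp.add_apply,
      Nat.factorization_eq_zero_of_not_dvd (n := 3 * k) (by omega),
      (by norm_num : Nat.Prime 5).factorization_self]
    norm_num
  have hn5 : Nat.card (Sylow 5 H) = 1 ∨ (Nat.card (Sylow 5 H) = 6 ∧ k = 2) := by
    let P : Sylow 5 H := default
    have hi := (P : Subgroup H).card_mul_index
    rw [hsyl5 P, hk] at hi
    have hd : Nat.card (Sylow 5 H) ∣ 3 * k := by
      rw [show 3 * k = (P : Subgroup H).index by omega]; exact P.card_dvd_index
    have hm := card_sylow_modEq_one 5 H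
    unfold Nat.ModEq at hm
    have := Nat.le_of_dvd (by omega) hd
    generalize Nat.card (Sylow 5 H) = n at hd hm this
    interval_cases k <;> interval_cases n <;> simp_all
  rcases hn5 with hn | ⟨hn, rfl⟩
  · obtain ⟨z, hz⟩ := exists_orderOf_fifteen_of_normal (p := 5) (q := 3) (by norm_num) (by norm_num)
      (by norm_num) (by norm_num) hsyl5 hn (hk ▸ Dvd.dvd.mul_right (by norm_num) k)
    exact no15 z hz
  · have hsyl3 : ∀ P : Sylow 3 H, Nat.card (P : Subgroup H) = 3 := by
      intro P
      rw [P.card_eq_multiplicity, hk, show 15 * 2 = 3 * 10 by rfl,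
        Nat.factorization_mul (by norm_num) (by norm_num), Finsupp.add_apply,
        Nat.factorization_eq_zero_of_not_dvd (n := 10) (by norm_num),
        (by norm_num : Nat.Prime 3).factorization_self]
      norm_num
    have : Fintype H := Fintype.ofFinite _
    have c5 := H62.card_orderOf_eq_prime (default : Sylow 5 H) (hsyl5 _)
    have c3 := H62.card_orderOf_eq_prime (default : Sylow 3 H) (hsyl3 _)
    rw [Nat.card_eq_fintype_card, Fintype.card_subtype, hn] at c5
    rw [Nat.card_eq_fintype_card, Fintype.card_subtype] at c3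
    have hdisj : Disjoint (Finset.univ.filter fun g : H => orderOf g = 5)
        (Finset.univ.filter fun g : H => orderOf g = 3) :=
      Finset.disjoint_filter.mpr fun g _ h1 h2 => by omega
    have hle := (Finset.card_union_of_disjoint hdisj).symm.trans_le (Finset.card_le_univ _)
    rw [c5, c3, ← Nat.card_eq_fintype_card, hk] at hle
    have hm := card_sylow_modEq_one 3 H
    unfold Nat.ModEq at hm
    obtain ⟨z, hz⟩ := exists_orderOf_fifteen_of_normal (p := 3) (q := 5) (by norm_num) (by norm_num)
      (by norm_num) (by norm_num) hsyl3 (by omega) (hk ▸ (by norm_num : 5 ∣ 15 * 2))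
    exact no15 z hz

end H36
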