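import Mathlib.GroupTheory.PGroup
import Mathlib.GroupTheory.Index
import Mathlib.GroupTheory.Subgroup.Centralizer
import Mathlib.GroupTheory.SpecificGroups.Cyclic
import Mathlib.Tactic.Group

/-!
Two conjugate groups with dihedral quotient modulo their 2-cores sharing a Sylow 2-subgroup:
the Sylow subgroup has order at most 16 (Sims, Tutte).
-/

set_option autoImplicit false
set_option linter.unusedSectionVars false
set_option linter.style.haveILetI false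

namespace H36.Amal

open Subgroup

variable {G : Type*} [Group G]

/-- Conjugate of a subgroup. -/
def cj (g : G) (X : Subgroup G) : Subgroup G := X.map (MulAut.conj g).toMonoidHom

theorem mem_cj {g x : G} {X : Subgroup G} : x ∈ cj g X ↔ g⁻¹ * x * g ∈ X := by
  constructor
  · rintro ⟨a, ha, rfl⟩
    show g⁻¹ * (g * a * g⁻¹) * g ∈ X
    rwa [show g⁻¹ * (g * a * g⁻¹) * g = a by group]
  · intro h
    refine ⟨_, h, ?_⟩
    show g * (g⁻¹ * x * g) * g⁻¹ = x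
    group

theorem conj_mem_cj {g x : G} {X : Subgroup G} (h : x ∈ X) : g * x * g⁻¹ ∈ cj g X :=
  ⟨x, h, rfl⟩

theorem cj_cj (g h : G) (X : Subgroup G) : cj g (cj h X) = cj (g * h) X := by
  ext x
  rw [mem_cj, mem_cj, mem_cj, mul_inv_rev]
  simp [mul_assoc]

theorem cj_one (X : Subgroup G) : cj 1 X = X := by
  ext x; rw [mem_cj]; simp

theorem cj_mono {g : G} {X Y : Subgroup G} (h : X ≤ Y) : cj g X ≤ cj g Y := map_mono h

theorem cj_inv_cj (g : G) (X : Subgroup G) : cj g⁻¹ (cj g X) = X := by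
  rw [cj_cj, inv_mul_cancel, cj_one]

theorem cj_cj_inv (g : G) (X : Subgroup G) : cj g (cj g⁻¹ X) = X := by
  rw [cj_cj, mul_inv_cancel, cj_one]

theorem le_of_cj_le {g : G} {X Y : Subgroup G} (h : cj g X ≤ cj g Y) : X ≤ Y := by
  have := cj_mono (g := g⁻¹) h
  rwa [cj_inv_cj, cj_inv_cj] at this

theorem card_cj (g : G) (X : Subgroup G) : Nat.card (cj g X) = Nat.card X :=
  card_map_of_injective (MulAut.conj g).injective

theorem cj_inf (g : G) (X Y : Subgroup G) : cj g (X ⊓ Y) = cj g X ⊓ cj g Y := by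
  ext x; simp only [mem_inf, mem_cj]

theorem relIndex_cj (g : G) (X Y : Subgroup G) : (cj g X).relIndex (cj g Y) = X.relIndex Y :=
  relIndex_map_map_of_injective X Y (f := (MulAut.conj g).toMonoidHom) (MulAut.conj g).injective

theorem cj_eq_of_conj_mem [Finite G] {g : G} {X : Subgroup G} (h : ∀ x ∈ X, g * x * g⁻¹ ∈ X) :
    cj g X = X := by
  refine eq_of_le_of_card_ge ?_ (card_cj g X).ge
  rintro x ⟨a, ha, rfl⟩
  exact h a ha

theorem conj_mem_of_cj_eq {g x : G} {X : Subgroup G} (h : cj g X = X) (hx : x ∈ X) :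
    g * x * g⁻¹ ∈ X := h ▸ conj_mem_cj hx

/-- Elementary abelian 2-subgroup. -/
def Elem (E : Subgroup G) : Prop :=
  (∀ a ∈ E, ∀ b ∈ E, a * b = b * a) ∧ ∀ a ∈ E, a * a = 1

theorem Elem.cj {E : Subgroup G} (h : Elem E) (g : G) : Elem (Amal.cj g E) := by
  constructor
  · rintro _ ⟨a, ha, rfl⟩ _ ⟨b, hb, rfl⟩
    rw [← map_mul, ← map_mul, h.1 a ha b hb]
  · rintro _ ⟨a, ha, rfl⟩
    rw [← map_mul, h.2 a ha, map_one]

theorem comm_of_exp_two {E : Subgroup G} (h : ∀ a ∈ E, a * a = 1) :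
    ∀ a ∈ E, ∀ b ∈ E, a * b = b * a := by
  intro a ha b hb
  have h1 := h _ (E.mul_mem ha hb)
  have ha' : a⁻¹ = a := inv_eq_of_mul_eq_one_right (h a ha)
  have hb' : b⁻¹ = b := inv_eq_of_mul_eq_one_right (h b hb)
  rw [← inv_eq_of_mul_eq_one_right h1, mul_inv_rev, ha', hb']

theorem elem_sup {E F : Subgroup G} (hE : Elem E) (hF : Elem F)
    (hc : ∀ a ∈ E, ∀ b ∈ F, a * b = b * a) : Elem (E ⊔ F) := by
  have hsup : ∀ x ∈ E ⊔ F, ∃ a ∈ E, ∃ b ∈ F, a * b = x := by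
    intro x hx
    have hle : F ≤ normalizer (E : Set G) := fun b hb =>
      centralizer_le_normalizer _ (mem_centralizer_iff.mpr fun a ha => hc a ha b hb)
    rw [← SetLike.mem_coe, coe_mul_of_right_le_normalizer_left E F hle] at hx
    exact hx
  have hsq : ∀ x ∈ E ⊔ F, x * x = 1 := by
    intro x hx
    obtain ⟨a, ha, b, hb, rfl⟩ := hsup x hx
    rw [show a * b * (a * b) = a * (b * a) * b by group, ← hc a ha b hb,
      show a * (a * b) * b = (a * a) * (b * b) by group, hE.2 a ha, hF.2 b hb, one_mul]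
  exact ⟨comm_of_exp_two hsq, hsq⟩

/-- A subgroup of index two meets each coset. -/
theorem mem_or_mul_mem {A B : Subgroup G} [Finite G] (hidx : A.relIndex B ≤ 2) {b x : G}
    (hb : b ∈ B) (hbA : b ∉ A) (hx : x ∈ B) : x ∈ A ∨ x * b⁻¹ ∈ A := by
  by_contra hno
  rw [not_or] at hno
  have h2 : (A.subgroupOf B).index = 2 := by
    have h0 : (A.subgroupOf B).index ≠ 1 := fun h1 => hbA (by
      have := (index_eq_one.mp h1) ▸ mem_top (⟨b, hb⟩ : B)
      simpa [mem_subgroupOf] using this)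
    have h3 : (A.subgroupOf B).index ≠ 0 := index_ne_zero_of_finite
    change (A.subgroupOf B).index ≤ 2 at hidx
    omega
  have := (mul_mem_iff_of_index_two h2 (a := (⟨x, hx⟩ : B)) (b := (⟨b, hb⟩ : B)⁻¹))
  simp only [mem_subgroupOf, Subgroup.coe_mul, InvMemClass.coe_inv, inv_mem_iff] at this
  exact hno.2 (this.mpr ⟨fun h => absurd h hno.1, fun h => absurd h hbA⟩)

variable [Finite G]

/-- The setting: `Q = O₂(H)` of index two in the Sylow 2-subgroup `P`, and `y` normalising `P`. -/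
structure Setup (G : Type*) [Group G] where
  H : Subgroup G
  Q : Subgroup G
  P : Subgroup G
  y : G
  d : G
  hQP : Q ≤ P
  hPH : P ≤ H
  hP2 : IsPGroup 2 P
  hidx : Q.relIndex P = 2
  hQn : ∀ h ∈ H, ∀ q ∈ Q, h * q * h⁻¹ ∈ Q
  hQ1 : Q ≠ ⊥
  hd : d ∈ H
  hgen : H ≤ P ⊔ cj d P
  hodd : ∃ m : ℕ, Odd m ∧ d ^ m ∈ Q
  hy : ∀ x ∈ P, y * x * y⁻¹ ∈ P
  hy2 : ∃ p0 ∈ P, ∀ x ∈ P, y * y * x * (y * y)⁻¹ = p0 * x * p0⁻¹
  hkill : ∀ X : Subgroup G, X ≤ P → (∀ h ∈ H, ∀ x ∈ X, h * x * h⁻¹ ∈ X) →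
    (∀ x ∈ X, y * x * y⁻¹ ∈ X) → X = ⊥

variable (S : Setup G)

/-- `Z = Ω₁(Z(P))`. -/
def Setup.Z : Subgroup G where
  carrier := {x | x ∈ S.P ∧ x * x = 1 ∧ ∀ a ∈ S.P, a * x = x * a}
  one_mem' := ⟨one_mem _, one_mul 1, fun a _ => by simp⟩
  mul_mem' := fun {x z} hx hz => ⟨mul_mem hx.1 hz.1, by
    rw [show x * z * (x * z) = x * (z * x) * z by group, hx.2.2 z hz.1,
      show x * (x * z) * z = (x * x) * (z * z) by group, hx.2.1, hz.2.1, one_mul],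
    fun a ha => by rw [← mul_assoc, hx.2.2 a ha, mul_assoc, hz.2.2 a ha, mul_assoc]⟩
  inv_mem' := fun {x} hx => ⟨inv_mem hx.1, by rw [← mul_inv_rev, hx.2.1, inv_one],
    fun a ha => (Commute.inv_right (show Commute a x from hx.2.2 a ha)).eq⟩

/-- `Y = Ω₁(Z(Q))`. -/
def Setup.Y : Subgroup G where
  carrier := {x | x ∈ S.Q ∧ x * x = 1 ∧ ∀ a ∈ S.Q, a * x = x * a}
  one_mem' := ⟨one_mem _, one_mul 1, fun a _ => by simp⟩
  mul_mem' := fun {x z} hx hz => ⟨mul_mem hx.1 hz.1, by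
    rw [show x * z * (x * z) = x * (z * x) * z by group, hx.2.2 z hz.1,
      show x * (x * z) * z = (x * x) * (z * z) by group, hx.2.1, hz.2.1, one_mul],
    fun a ha => by rw [← mul_assoc, hx.2.2 a ha, mul_assoc, hz.2.2 a ha, mul_assoc]⟩
  inv_mem' := fun {x} hx => ⟨inv_mem hx.1, by rw [← mul_inv_rev, hx.2.1, inv_one],
    fun a ha => (Commute.inv_right (show Commute a x from hx.2.2 a ha)).eq⟩

theorem Setup.cjP : cj S.y S.P = S.P := cj_eq_of_conj_mem S.hy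

theorem Setup.cjQ {h : G} (hh : h ∈ S.H) : cj h S.Q = S.Q := cj_eq_of_conj_mem (S.hQn h hh)

/-- The normalised subgroups of `P` are fixed by `y²`. -/
theorem Setup.cj_y_y {X : Subgroup G} (hXP : X ≤ S.P) (hX : ∀ p ∈ S.P, ∀ x ∈ X, p * x * p⁻¹ ∈ X) :
    cj S.y (cj S.y X) = X := by
  rw [cj_cj]
  obtain ⟨p0, hp0, h⟩ := S.hy2
  refine cj_eq_of_conj_mem fun x hx => ?_
  rw [h x (hXP hx)]
  exact hX p0 hp0 x hx

theorem Setup.cj_inv_y {X : Subgroup G} (hXP : X ≤ S.P)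
    (hX : ∀ p ∈ S.P, ∀ x ∈ X, p * x * p⁻¹ ∈ X) : cj S.y⁻¹ X = cj S.y X := by
  conv_lhs => rw [← S.cj_y_y hXP hX]
  rw [cj_inv_cj]

/-- Invariance under `P` and `cj d P` gives invariance under `H`. -/
theorem Setup.normal_of_gen {X : Subgroup G} (h1 : ∀ p ∈ S.P, ∀ x ∈ X, p * x * p⁻¹ ∈ X)
    (h2 : ∀ p ∈ cj S.d S.P, ∀ x ∈ X, p * x * p⁻¹ ∈ X) :
    ∀ h ∈ S.H, ∀ x ∈ X, h * x * h⁻¹ ∈ X := by
  intro h hh x hx
  have hmem : h ∈ normalizer (X : Set G) := by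
    refine (sup_le ?_ ?_ : S.P ⊔ cj S.d S.P ≤ _) (S.hgen hh)
    · exact fun p hp => mem_normalizer_iff.mpr fun z => ⟨fun hz => h1 p hp z hz, fun hz => by
        have := h1 p⁻¹ (inv_mem hp) _ hz
        simpa [mul_assoc] using this⟩
    · exact fun p hp => mem_normalizer_iff.mpr fun z => ⟨fun hz => h2 p hp z hz, fun hz => by
        have := h2 p⁻¹ (inv_mem hp) _ hz
        simpa [mul_assoc] using this⟩
  exact (mem_normalizer_iff.mp hmem x).mp hx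

/-- Commuting with `Q` and one element outside is commuting with `P`. -/
theorem Setup.comm_of_outside {x a : G} (ha : a ∈ S.P) (haQ : a ∉ S.Q)
    (hQ : ∀ q ∈ S.Q, q * x = x * q) (hax : a * x = x * a) : ∀ p ∈ S.P, p * x = x * p := by
  intro p hp
  rcases mem_or_mul_mem S.hidx.le ha haQ hp with h | h
  · exact hQ p h
  · have e1 := hQ _ h
    calc p * x = p * a⁻¹ * (a * x) := by group
      _ = p * a⁻¹ * x * a := by rw [hax]; group
      _ = x * p := by rw [e1]; group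

theorem Setup.exists_outside : ∃ u ∈ S.P, u ∉ S.Q := by
  by_contra hall
  push Not at hall
  have := S.hidx
  rw [relIndex_eq_one.mpr hall] at this
  omega

theorem Setup.cj_y_Q_ne : cj S.y S.Q ≠ S.Q := fun h =>
  S.hQ1 (S.hkill S.Q S.hQP S.hQn fun _ hx => conj_mem_of_cj_eq h hx)

theorem Setup.cj_y_Q_le : cj S.y S.Q ≤ S.P := (cj_mono S.hQP).trans S.cjP.le

/-- A central element outside `Q` forces `|P| = 4`. -/
theorem Setup.small {u : G} (hu : u ∈ S.P) (huQ : u ∉ S.Q) (huc : ∀ p ∈ S.P, p * u = u * p) :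
    Nat.card S.P = 4 ∧ Nat.card S.Q = 2 ∧ ∀ p ∈ S.P, p * p = 1 := by
  set R := S.Q ⊓ cj S.y S.Q with hR
  have hnP : ∀ p ∈ S.P, ∀ x ∈ R, p * x * p⁻¹ ∈ R := by
    intro p hp x hx
    refine ⟨S.hQn p (S.hPH hp) x hx.1, mem_cj.mpr ?_⟩
    have hp' : S.y⁻¹ * p * S.y ∈ S.P := by
      rw [← mem_cj, S.cjP]; exact hp
    have := S.hQn _ (S.hPH hp') _ (mem_cj.mp hx.2)
    simpa [mul_assoc] using this
  have hR0 : R = ⊥ := by
    refine S.hkill R (inf_le_left.trans S.hQP) (S.normal_of_gen hnP ?_) ?_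
    · intro p hp x hx
      obtain ⟨a, ha, rfl⟩ := hp
      rcases mem_or_mul_mem S.hidx.le hu huQ ha with h | h
      · exact hnP _ (S.hQP (S.hQn S.d S.hd a h)) x hx
      · have hx' : S.d⁻¹ * x * S.d ∈ S.Q := by
          have := S.hQn _ (inv_mem S.hd) x hx.1
          simpa using this
        have hc := huc _ (S.hQP hx')
        have hfix : S.d * u * S.d⁻¹ * x * (S.d * u * S.d⁻¹)⁻¹ = x := by
          calc S.d * u * S.d⁻¹ * x * (S.d * u * S.d⁻¹)⁻¹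
              = S.d * (u * (S.d⁻¹ * x * S.d)) * u⁻¹ * S.d⁻¹ := by group
            _ = x := by rw [← hc]; group
        have h3 := hnP _ (S.hQP (S.hQn S.d S.hd _ h)) x hx
        show S.d * a * S.d⁻¹ * x * (S.d * a * S.d⁻¹)⁻¹ ∈ R
        rw [show S.d * a * S.d⁻¹ * x * (S.d * a * S.d⁻¹)⁻¹ = (S.d * (a * u⁻¹) * S.d⁻¹) *
          (S.d * u * S.d⁻¹ * x * (S.d * u * S.d⁻¹)⁻¹) * (S.d * (a * u⁻¹) * S.d⁻¹)⁻¹ by group,
          hfix]
        exact h3
    · intro x hx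
      refine ⟨?_, conj_mem_cj hx.1⟩
      have h2 := S.cj_y_y S.hQP fun p hp q hq => S.hQn p (S.hPH hp) q hq
      exact h2 ▸ conj_mem_cj hx.2
  have hQ2 : Nat.card S.Q ≤ 2 := by
    have h1 : (cj S.y S.Q).relIndex S.Q ≤ (cj S.y S.Q).relIndex S.P :=
      relIndex_le_of_le_right S.hQP index_ne_zero_of_finite
    have h3 : (cj S.y S.Q).relIndex S.P = 2 := by
      conv_lhs => rw [← S.cjP]
      rw [relIndex_cj, S.hidx]
    have h4 : (cj S.y S.Q).relIndex S.Q = Nat.card S.Q := by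
      rw [← inf_relIndex_left, ← hR, hR0, relIndex_bot_left]
    omega
  have hQ : Nat.card S.Q = 2 := by
    have := (one_lt_card_iff_ne_bot S.Q).mpr S.hQ1
    omega
  refine ⟨?_, hQ, fun p hp => ?_⟩
  · rw [← relIndex_bot_left, ← relIndex_mul_relIndex ⊥ S.Q S.P bot_le S.hQP, relIndex_bot_left,
      hQ, S.hidx]
  · have hsq : ∀ A : Subgroup G, A ≤ S.P → A.relIndex S.P = 2 → p * p ∈ A := by
      intro A _ hA
      have := sq_mem_of_index_two hA (⟨p, hp⟩ : S.P)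
      simpa [mem_subgroupOf, pow_two] using this
    have h3 : (cj S.y S.Q).relIndex S.P = 2 := by
      conv_lhs => rw [← S.cjP]
      rw [relIndex_cj, S.hidx]
    have : p * p ∈ R := ⟨hsq _ S.hQP S.hidx, hsq _ S.cj_y_Q_le h3⟩
    rwa [hR0, mem_bot] at this

/-- The hypotheses of the main case. -/
def Setup.Big : Prop := ∀ x ∈ S.P, (∀ a ∈ S.P, a * x = x * a) → x ∈ S.Q

variable {S}

theorem Setup.Z_le_Y (hS : S.Big) : S.Z ≤ S.Y := fun x hx =>
  ⟨hS x hx.1 hx.2.2, hx.2.1, fun a ha => hx.2.2 a (S.hQP ha)⟩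

theorem Setup.Y_normal : ∀ h ∈ S.H, ∀ x ∈ S.Y, h * x * h⁻¹ ∈ S.Y := by
  intro h hh x hx
  refine ⟨S.hQn h hh x hx.1, ?_, fun a ha => ?_⟩
  · rw [show h * x * h⁻¹ * (h * x * h⁻¹) = h * (x * x) * h⁻¹ by group, hx.2.1]; group
  · have ha' : h⁻¹ * a * h ∈ S.Q := by simpa using S.hQn h⁻¹ (inv_mem hh) a ha
    calc a * (h * x * h⁻¹) = h * ((h⁻¹ * a * h) * x) * h⁻¹ := by group
      _ = h * (x * (h⁻¹ * a * h)) * h⁻¹ := by rw [hx.2.2 _ ha']
      _ = h * x * h⁻¹ * a := by group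

theorem Setup.Z_normal_P : ∀ p ∈ S.P, ∀ x ∈ S.Z, p * x * p⁻¹ ∈ S.Z := fun p hp x hx => by
  rw [hx.2.2 p hp, mul_inv_cancel_right]; exact hx

theorem Setup.Z_y : cj S.y S.Z = S.Z := by
  refine cj_eq_of_conj_mem fun x hx => ⟨S.hy x hx.1, ?_, fun a ha => ?_⟩
  · rw [show S.y * x * S.y⁻¹ * (S.y * x * S.y⁻¹) = S.y * (x * x) * S.y⁻¹ by group, hx.2.1]
    group
  · have ha' : S.y⁻¹ * a * S.y ∈ S.P := by rw [← mem_cj, S.cjP]; exact ha
    calc a * (S.y * x * S.y⁻¹) = S.y * ((S.y⁻¹ * a * S.y) * x) * S.y⁻¹ := by group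
      _ = S.y * (x * (S.y⁻¹ * a * S.y)) * S.y⁻¹ := by rw [hx.2.2 _ ha']
      _ = S.y * x * S.y⁻¹ * a := by group

theorem Setup.Z_ne_bot : S.Z ≠ ⊥ := by
  have hnt : Nontrivial S.P :=
    (nontrivial_iff_ne_bot _).mpr fun h => S.hQ1 (le_bot_iff.mp (h ▸ S.hQP))
  have := Fact.mk Nat.prime_two
  haveI := S.hP2.center_nontrivial
  obtain ⟨k, hk, hk'⟩ :=
    (IsPGroup.nontrivial_iff_card (S.hP2.to_subgroup (center S.P))).mp S.hP2.center_nontrivial
  obtain ⟨⟨⟨z, hz⟩, hzc⟩, hzo⟩ := exists_prime_orderOf_dvd_card' (G := center S.P) 2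
    (hk' ▸ dvd_pow_self 2 hk.ne')
  rw [Subgroup.orderOf_mk, Subgroup.orderOf_mk] at hzo
  intro h0
  have hzZ : z ∈ S.Z := ⟨hz, by rw [← pow_two, ← hzo, pow_orderOf_eq_one],
    fun a ha => congrArg Subtype.val (mem_center_iff.mp hzc ⟨a, ha⟩)⟩
  rw [h0, mem_bot] at hzZ
  rw [hzZ, orderOf_one] at hzo
  omega

theorem Setup.Z_not_normal : ¬ ∀ h ∈ S.H, ∀ x ∈ S.Z, h * x * h⁻¹ ∈ S.Z := fun h =>
  S.Z_ne_bot (S.hkill S.Z (fun _ hx => hx.1) h fun _ hx => conj_mem_of_cj_eq S.Z_y hx)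

/-- An elementary abelian subgroup of largest order outside `Q`. -/
theorem Setup.exists_offender : ∃ E : Subgroup G, E ≤ S.P ∧ Elem E ∧ ¬ E ≤ S.Q ∧
    ∀ F : Subgroup G, F ≤ S.P → Elem F → Nat.card F ≤ Nat.card E := by
  classical
  haveI : Finite (Subgroup G) := Finite.of_injective _ SetLike.coe_injective
  cases nonempty_fintype (Subgroup G)
  obtain ⟨E0, hE0, hmax⟩ := Finset.exists_max_image
    (Finset.univ.filter fun E : Subgroup G => E ≤ S.P ∧ Elem E) (fun E => Nat.card E)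
    ⟨⊥, Finset.mem_filter.mpr ⟨Finset.mem_univ _, bot_le, by simp [Elem]⟩⟩
  simp only [Finset.mem_filter, Finset.mem_univ, true_and] at hE0 hmax
  by_contra hno
  push Not at hno
  let M : Set (Subgroup G) := {E | E ≤ S.P ∧ Elem E ∧ Nat.card E = Nat.card E0}
  have hMQ : ∀ E ∈ M, E ≤ S.Q := fun E hE => by
    by_contra hEQ
    obtain ⟨F, hF1, hF2, hF3⟩ := hno E hE.1 hE.2.1 hEQ
    have := hmax F ⟨hF1, hF2⟩
    rw [hE.2.2] at hF3
    omega
  have hX : sSup M ≤ S.Q := sSup_le hMQ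
  have hinv : ∀ g : G, (∀ E ∈ M, cj g E ≤ S.P) → ∀ x ∈ sSup M, g * x * g⁻¹ ∈ sSup M := by
    intro g hg x hx
    have h1 : cj g (sSup M) ≤ sSup M := by
      rw [cj, map_le_iff_le_comap]
      refine sSup_le fun E hE => ?_
      rw [← map_le_iff_le_comap]
      exact le_sSup ⟨hg E hE, hE.2.1.cj g, (card_cj g E).trans hE.2.2⟩
    exact h1 (conj_mem_cj hx)
  have h1 := S.hkill (sSup M) (hX.trans S.hQP)
    (fun h hh => hinv h fun E hE => ((cj_mono (hMQ E hE)).trans (S.cjQ hh).le).trans S.hQP)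
    (hinv S.y fun E hE => (cj_mono hE.1).trans S.cjP.le)
  have h2 : E0 = ⊥ := le_bot_iff.mp (h1 ▸ le_sSup ⟨hE0.1, hE0.2, rfl⟩)
  have h3 := hmax S.Z ⟨fun _ hx => hx.1,
    fun a ha b hb => hb.2.2 a ha.1, fun a ha => ha.2.1⟩
  rw [h2, card_bot] at h3
  exact S.Z_ne_bot (card_le_one_iff_eq_bot _ |>.mp h3)

variable (hS : S.Big)

include hS in
theorem Setup.Y_index : S.Z.relIndex S.Y = 2 := by
  obtain ⟨E, hEP, hE, hEQ, hmax⟩ := S.exists_offender
  obtain ⟨a, haE, haQ⟩ := SetLike.not_le_iff_exists.mp hEQ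
  have hY : Elem S.Y := ⟨fun x hx z hz => hz.2.2 x hx.1, fun x hx => hx.2.1⟩
  have hF : Elem ((E ⊓ S.Q) ⊔ S.Y) :=
    elem_sup ⟨fun x hx z hz => hE.1 x hx.1 z hz.1, fun x hx => hE.2 x hx.1⟩ hY
      fun x hx z hz => hz.2.2 x hx.2
  have hFP : (E ⊓ S.Q) ⊔ S.Y ≤ S.P := sup_le (inf_le_left.trans hEP) fun x hx => S.hQP hx.1
  have hcard := hmax _ hFP hF
  have h1 : (E ⊓ S.Q).relIndex S.Y ≤ (E ⊓ S.Q).relIndex ((E ⊓ S.Q) ⊔ S.Y) :=
    relIndex_le_of_le_right le_sup_right index_ne_zero_of_finite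
  have h2 : (E ⊓ S.Q).relIndex E ≤ 2 := by
    rw [inf_relIndex_left]
    exact S.hidx ▸ relIndex_le_of_le_right hEP index_ne_zero_of_finite
  have h3 : (E ⊓ S.Q).relIndex ((E ⊓ S.Q) ⊔ S.Y) ≤ 2 := by
    have e1 : Nat.card (E ⊓ S.Q : Subgroup G) * (E ⊓ S.Q).relIndex ((E ⊓ S.Q) ⊔ S.Y) =
        Nat.card ((E ⊓ S.Q) ⊔ S.Y : Subgroup G) := by
      rw [← relIndex_bot_left, relIndex_mul_relIndex ⊥ _ _ bot_le le_sup_left, relIndex_bot_left]
    have e2 : Nat.card (E ⊓ S.Q : Subgroup G) * (E ⊓ S.Q).relIndex E = Nat.card E := by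
      rw [← relIndex_bot_left, relIndex_mul_relIndex ⊥ _ _ bot_le inf_le_left, relIndex_bot_left]
    refine le_trans ?_ h2
    refine Nat.le_of_mul_le_mul_left ?_ (Nat.card_pos (α := (E ⊓ S.Q : Subgroup G)))
    omega
  have hle : (E ⊓ S.Q) ⊓ S.Y ≤ S.Z := fun x hx => ⟨S.hQP hx.1.2, hx.2.2.1,
    S.comm_of_outside (hEP haE) haQ hx.2.2.2 (hE.1 a haE x hx.1.1)⟩
  have h4 : S.Z.relIndex S.Y ≤ 2 := by
    refine le_trans ?_ (h1.trans h3)
    have h5 : ((E ⊓ S.Q) ⊓ S.Y).relIndex S.Y = (E ⊓ S.Q).relIndex S.Y := inf_relIndex_right _ _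
    rw [← h5]
    exact relIndex_le_of_le_left hle index_ne_zero_of_finite
  have h0 : S.Z.relIndex S.Y ≠ 0 := index_ne_zero_of_finite
  have hne : S.Z.relIndex S.Y ≠ 1 := fun h => by
    rw [relIndex_eq_one] at h
    have heq : S.Y = S.Z := le_antisymm h (S.Z_le_Y hS)
    exact S.Z_not_normal (heq ▸ S.Y_normal)
  omega

include hS in
theorem Setup.card_Y : Nat.card S.Y = 2 * Nat.card S.Z := by
  rw [← relIndex_bot_left, ← relIndex_mul_relIndex ⊥ S.Z S.Y bot_le (S.Z_le_Y hS),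
    relIndex_bot_left, S.Y_index hS, mul_comm]

include hS in
theorem Setup.exists_v : ∃ v ∈ S.Y, v ∉ S.Z := by
  by_contra hall
  push Not at hall
  have := S.Y_index hS
  rw [relIndex_eq_one.mpr hall] at this
  omega

theorem Setup.centralizes_Y {x u : G} (hx : x ∈ S.Y) (hu : u ∈ S.P) (huQ : u ∉ S.Q)
    (h : u * x = x * u) : x ∈ S.Z :=
  ⟨S.hQP hx.1, hx.2.1, S.comm_of_outside hu huQ hx.2.2 h⟩

include hS in
/-- `C_P(Y) = Q`. -/
theorem Setup.mem_Q_of_comm {x : G} (hx : x ∈ S.P) (h : ∀ v ∈ S.Y, x * v = v * x) : x ∈ S.Q := by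
  by_contra hxQ
  obtain ⟨v, hv, hvZ⟩ := S.exists_v hS
  exact hvZ (S.centralizes_Y hv hx hxQ (h v hv))

/-- `Z₀ = Z ∩ Z^d`. -/
def Setup.Z0 (S : Setup G) : Subgroup G := S.Z ⊓ cj S.d S.Z

theorem Setup.Z0_central : ∀ h ∈ S.H, ∀ x ∈ S.Z0, h * x = x * h := by
  intro h hh x hx
  have hc : h ∈ centralizer ({x} : Set G) := by
    refine (sup_le ?_ ?_ : S.P ⊔ cj S.d S.P ≤ _) (S.hgen hh)
    · exact fun p hp => mem_centralizer_singleton_iff.mpr (hx.1.2.2 p hp)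
    · rintro _ ⟨p, hp, rfl⟩
      rw [mem_centralizer_singleton_iff]
      show S.d * p * S.d⁻¹ * x = x * (S.d * p * S.d⁻¹)
      have := (mem_cj.mp hx.2).2.2 p hp
      calc S.d * p * S.d⁻¹ * x = S.d * (p * (S.d⁻¹ * x * S.d)) * S.d⁻¹ := by group
        _ = x * (S.d * p * S.d⁻¹) := by rw [this]; group
  exact mem_centralizer_singleton_iff.mp hc

theorem Setup.cjY {h : G} (hh : h ∈ S.H) : cj h S.Y = S.Y := cj_eq_of_conj_mem (S.Y_normal h hh)

include hS in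
theorem Setup.cj_d_Z_ne : cj S.d S.Z ≠ S.Z := by
  intro h
  refine S.Z_not_normal (S.normal_of_gen S.Z_normal_P ?_)
  rintro _ ⟨p, hp, rfl⟩ x hx
  rw [← h] at hx ⊢
  rw [mem_cj] at hx ⊢
  have := S.Z_normal_P p hp _ hx
  show S.d⁻¹ * (S.d * p * S.d⁻¹ * x * (S.d * p * S.d⁻¹)⁻¹) * S.d ∈ S.Z
  simpa [mul_assoc] using this

include hS in
theorem Setup.Z0_index : S.Z0.relIndex S.Z = 2 := by
  have hd : cj S.d S.Z ≤ S.Y := (cj_mono (S.Z_le_Y hS)).trans (S.cjY S.hd).le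
  have h1 : (cj S.d S.Z).relIndex S.Y = 2 := by
    conv_lhs => rw [← S.cjY S.hd]
    rw [relIndex_cj, S.Y_index hS]
  have h2 : (cj S.d S.Z).relIndex S.Z ≤ 2 :=
    h1 ▸ relIndex_le_of_le_right (S.Z_le_Y hS) index_ne_zero_of_finite
  have h3 : (cj S.d S.Z).relIndex S.Z ≠ 1 := fun h => by
    rw [relIndex_eq_one] at h
    exact S.cj_d_Z_ne hS (eq_of_le_of_card_ge h (card_cj _ _).le).symm
  have h4 : (cj S.d S.Z).relIndex S.Z ≠ 0 := index_ne_zero_of_finite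
  show (S.Z ⊓ cj S.d S.Z).relIndex S.Z = 2
  rw [inf_relIndex_left]
  omega

theorem Setup.Z0_y : S.Z0 ⊓ cj S.y S.Z0 = ⊥ := by
  refine S.hkill _ (fun x hx => hx.1.1.1) (fun h hh x hx => ?_) (fun x hx => ⟨?_, conj_mem_cj hx.1⟩)
  · rw [S.Z0_central h hh x hx.1, mul_inv_cancel_right]; exact hx
  · have h2 := S.cj_y_y (X := S.Z0) (fun z hz => hz.1.1)
      (fun p hp z hz => by rw [S.Z0_central p (S.hPH hp) z hz, mul_inv_cancel_right]; exact hz)
    exact h2 ▸ conj_mem_cj hx.2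

include hS in
theorem Setup.card_Z0_le : Nat.card S.Z0 ≤ 2 := by
  have h1 : (cj S.y S.Z0).relIndex S.Z0 ≤ (cj S.y S.Z0).relIndex S.Z :=
    relIndex_le_of_le_right inf_le_left index_ne_zero_of_finite
  have h2 : (cj S.y S.Z0).relIndex S.Z = 2 := by
    conv_lhs => rw [← S.Z_y]
    rw [relIndex_cj, S.Z0_index hS]
  have h3 : (cj S.y S.Z0).relIndex S.Z0 = Nat.card S.Z0 := by
    rw [← inf_relIndex_left, S.Z0_y, relIndex_bot_left]
  omega

include hS in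
theorem Setup.card_Y_cases : Nat.card S.Y = 4 ∨ Nat.card S.Y = 8 := by
  have h1 := S.card_Z0_le hS
  have h2 : 0 < Nat.card S.Z0 := Nat.card_pos
  have h3 : Nat.card S.Z = 2 * Nat.card S.Z0 := by
    rw [← relIndex_bot_left, ← relIndex_mul_relIndex ⊥ S.Z0 S.Z bot_le inf_le_left,
      relIndex_bot_left, S.Z0_index hS, mul_comm]
  have h4 := S.card_Y hS
  omega

include hS in
/-- The line `[Y, P]`. -/
theorem Setup.exists_line : ∃ z1 ∈ S.Z, z1 ≠ 1 ∧ z1 ∉ S.Z0 ∧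
    (∀ v ∈ S.Y, v ∉ S.Z → ∀ x ∈ S.P, x ∉ S.Q → x * v * x⁻¹ = v * z1) ∧
    (∀ v ∈ S.Y, ∀ x ∈ S.P, x * v * x⁻¹ = v ∨ x * v * x⁻¹ = v * z1) := by
  obtain ⟨u, hu, huQ⟩ := S.exists_outside
  obtain ⟨v0, hv0, hv0Z⟩ := S.exists_v hS
  set z1 := v0⁻¹ * (u * v0 * u⁻¹) with hz1
  have hconj : u * v0 * u⁻¹ = v0 * z1 := by rw [hz1]; group
  have hz1Y : z1 ∈ S.Y := mul_mem (inv_mem hv0) (S.Y_normal u (S.hPH hu) v0 hv0)
  have huu : u * u ∈ S.Q := by
    have := sq_mem_of_index_two S.hidx (⟨u, hu⟩ : S.P)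
    simpa [mem_subgroupOf, pow_two] using this
  have hYc : ∀ a ∈ S.Y, ∀ b ∈ S.Y, a * b = b * a := fun a ha b hb => hb.2.2 a ha.1
  have hz1Z : z1 ∈ S.Z := by
    refine S.centralizes_Y hz1Y hu huQ ?_
    rw [← mul_inv_eq_iff_eq_mul]
    have hA := S.Y_normal u (S.hPH hu) v0 hv0
    have h2 : u * (u * v0 * u⁻¹) * u⁻¹ = v0 := by
      calc u * (u * v0 * u⁻¹) * u⁻¹ = (u * u) * v0 * (u * u)⁻¹ := by group
        _ = v0 := by rw [hv0.2.2 _ huu, mul_inv_cancel_right]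
    have hv' : v0⁻¹ = v0 := inv_eq_of_mul_eq_one_right hv0.2.1
    have hA' : (u * v0 * u⁻¹)⁻¹ = u * v0 * u⁻¹ := inv_eq_of_mul_eq_one_right hA.2.1
    calc u * z1 * u⁻¹ = (u * v0 * u⁻¹)⁻¹ * (u * (u * v0 * u⁻¹) * u⁻¹) := by rw [hz1]; group
      _ = z1 := by rw [h2, hA', hz1, hv', hYc _ hA _ hv0]
  have hall : ∀ v ∈ S.Y, v ∉ S.Z → ∀ x ∈ S.P, x ∉ S.Q → x * v * x⁻¹ = v * z1 := by
    intro v hv hvZ x hx hxQ
    have hw : v * v0⁻¹ ∈ S.Z :=
      (mem_or_mul_mem (S.Y_index hS).le hv0 hv0Z hv).resolve_left hvZ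
    have hq : x * u⁻¹ ∈ S.Q := (mem_or_mul_mem S.hidx.le hu huQ hx).resolve_left hxQ
    have hA := S.Y_normal u (S.hPH hu) v hv
    have huv : u * v * u⁻¹ = v * z1 := by
      calc u * v * u⁻¹ = (u * (v * v0⁻¹) * u⁻¹) * (u * v0 * u⁻¹) := by group
        _ = v * z1 := by rw [hw.2.2 u hu, mul_inv_cancel_right, hconj]; group
    calc x * v * x⁻¹ = (x * u⁻¹) * (u * v * u⁻¹) * (x * u⁻¹)⁻¹ := by group
      _ = v * z1 := by rw [hA.2.2 _ hq, mul_inv_cancel_right, huv]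
  refine ⟨z1, hz1Z, fun h1 => hv0Z ?_, fun h0 => ?_, hall, fun v hv x hx => ?_⟩
  · rw [h1, mul_one, mul_inv_eq_iff_eq_mul] at hconj
    exact S.centralizes_Y hv0 hu huQ hconj
  · -- otherwise `d` centralises `Y`
    have hP : ∀ p ∈ S.P, ∀ v ∈ S.Y, v⁻¹ * (p * v * p⁻¹) ∈ S.Z0 := by
      intro p hp v hv
      by_cases hvZ : v ∈ S.Z
      · rw [hvZ.2.2 p hp, mul_inv_cancel_right, inv_mul_cancel]; exact one_mem _
      by_cases hpQ : p ∈ S.Q
      · rw [hv.2.2 p hpQ, mul_inv_cancel_right, inv_mul_cancel]; exact one_mem _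
      · rw [hall v hv hvZ p hp hpQ, inv_mul_cancel_left]; exact h0
    let N : Subgroup G :=
      { carrier := {h | h ∈ S.H ∧ ∀ v ∈ S.Y, v⁻¹ * (h * v * h⁻¹) ∈ S.Z0}
        one_mem' := ⟨one_mem _, fun v _ => by simp [one_mem]⟩
        mul_mem' := fun {a b} ha hb => ⟨mul_mem ha.1 hb.1, fun v hv => by
          have h1 := ha.2 _ (S.Y_normal b hb.1 v hv)
          have h2 := hb.2 v hv
          rw [show v⁻¹ * (a * b * v * (a * b)⁻¹) = (v⁻¹ * (b * v * b⁻¹)) *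
            ((b * v * b⁻¹)⁻¹ * (a * (b * v * b⁻¹) * a⁻¹)) by group]
          exact mul_mem h2 h1⟩
        inv_mem' := fun {a} ha => ⟨inv_mem ha.1, fun v hv => by
          have h1 := ha.2 _ (S.Y_normal a⁻¹ (inv_mem ha.1) v hv)
          rw [show v⁻¹ * (a⁻¹ * v * a⁻¹⁻¹) = ((a⁻¹ * v * a⁻¹⁻¹)⁻¹ *
            (a * (a⁻¹ * v * a⁻¹⁻¹) * a⁻¹))⁻¹ by group]
          exact inv_mem h1⟩ }
    have hHN : S.H ≤ N := by
      refine S.hgen.trans (sup_le (fun p hp => ⟨S.hPH hp, hP p hp⟩) ?_)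
      rintro _ ⟨p, hp, rfl⟩
      refine ⟨mul_mem (mul_mem S.hd (S.hPH hp)) (inv_mem S.hd), fun v hv => ?_⟩
      have hv' : S.d⁻¹ * v * S.d ∈ S.Y := by simpa using S.Y_normal S.d⁻¹ (inv_mem S.hd) v hv
      have h1 := hP p hp _ hv'
      have h2 := S.Z0_central S.d S.hd _ h1
      show v⁻¹ * (S.d * p * S.d⁻¹ * v * (S.d * p * S.d⁻¹)⁻¹) ∈ S.Z0
      rw [show v⁻¹ * (S.d * p * S.d⁻¹ * v * (S.d * p * S.d⁻¹)⁻¹) =
        S.d * ((S.d⁻¹ * v * S.d)⁻¹ * (p * (S.d⁻¹ * v * S.d) * p⁻¹)) * S.d⁻¹ by group, h2,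
        mul_inv_cancel_right]
      exact h1
    obtain ⟨m, hm, hdm⟩ := S.hodd
    refine S.cj_d_Z_ne hS (cj_eq_of_conj_mem fun x hx => ?_)
    have hxY := S.Z_le_Y hS hx
    set c := x⁻¹ * (S.d * x * S.d⁻¹) with hc
    have hcZ : c ∈ S.Z0 := (hHN S.hd).2 x hxY
    have hiter : ∀ k : ℕ, S.d ^ k * x * (S.d ^ k)⁻¹ = x * c ^ k := by
      intro k
      induction k with
      | zero => simp
      | succ k ih =>
        calc S.d ^ (k + 1) * x * (S.d ^ (k + 1))⁻¹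
            = S.d * (S.d ^ k * x * (S.d ^ k)⁻¹) * S.d⁻¹ := by rw [pow_succ']; group
          _ = (S.d * x * S.d⁻¹) * (S.d * c ^ k * S.d⁻¹) := by rw [ih]; group
          _ = x * c ^ (k + 1) := by
            rw [S.Z0_central S.d S.hd _ (pow_mem hcZ k), mul_inv_cancel_right,
              show S.d * x * S.d⁻¹ = x * c by rw [hc]; group, pow_succ', mul_assoc]
    have h1 := hiter m
    rw [hxY.2.2 _ hdm, mul_inv_cancel_right, eq_comm, mul_eq_left] at h1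
    obtain ⟨j, rfl⟩ := hm
    rw [pow_succ, pow_mul, pow_two, hcZ.1.2.1, one_pow, one_mul] at h1
    rw [show S.d * x * S.d⁻¹ = x * c by rw [hc]; group, h1, mul_one]
    exact hx
  · by_cases hvZ : v ∈ S.Z
    · exact Or.inl (by rw [hvZ.2.2 x hx, mul_inv_cancel_right])
    by_cases hxQ : x ∈ S.Q
    · exact Or.inl (by rw [hv.2.2 x hxQ, mul_inv_cancel_right])
    · exact Or.inr (hall v hv hvZ x hx hxQ)

/-- Words of length `k` in the steps `h y^{±1}`. -/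
def Setup.Path (S : Setup G) : ℕ → Set G
  | 0 => {1}
  | k + 1 => {w | ∃ a ∈ Setup.Path S k, ∃ h ∈ S.H, ∃ t ∈ ({S.y, S.y⁻¹} : Set G), w = a * h * t}

theorem Setup.path_step {k : ℕ} {w h t : G} (hw : w ∈ S.Path k) (hh : h ∈ S.H)
    (ht : t ∈ ({S.y, S.y⁻¹} : Set G)) : h * t * w ∈ S.Path (k + 1) := by
  induction k generalizing w with
  | zero =>
    rw [Setup.Path, Set.mem_singleton_iff] at hw
    exact ⟨1, rfl, h, hh, t, ht, by simp [hw]⟩
  | succ k ih =>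
    obtain ⟨a, ha, h', hh', t', ht', rfl⟩ := hw
    exact ⟨h * t * a, ih ha, h', hh', t', ht', by group⟩

theorem Setup.path_left {k : ℕ} {w : G} (hw : w ∈ S.Path (k + 1)) :
    ∃ h ∈ S.H, ∃ t ∈ ({S.y, S.y⁻¹} : Set G), ∃ a ∈ S.Path k, w = h * t * a := by
  induction k generalizing w with
  | zero =>
    obtain ⟨a, ha, h, hh, t, ht, rfl⟩ := hw
    rw [Setup.Path, Set.mem_singleton_iff] at ha
    exact ⟨h, hh, t, ht, 1, rfl, by simp [ha]⟩
  | succ k ih =>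
    obtain ⟨a, ha, h, hh, t, ht, rfl⟩ := hw
    obtain ⟨h0, hh0, t0, ht0, b, hb, rfl⟩ := ih ha
    exact ⟨h0, hh0, t0, ht0, b * h * t, ⟨b, hb, h, hh, t, ht, rfl⟩, by group⟩

theorem Setup.path_h_mul {k : ℕ} {w h : G} (hw : w ∈ S.Path k) (hh : h ∈ S.H) :
    ∃ w' ∈ S.Path k, ∃ h' ∈ S.H, h * w = w' * h' := by
  cases k with
  | zero =>
    rw [Setup.Path, Set.mem_singleton_iff] at hw
    exact ⟨1, rfl, h, hh, by simp [hw]⟩
  | succ k =>
    obtain ⟨h0, hh0, t0, ht0, b, hb, rfl⟩ := S.path_left hw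
    exact ⟨h * h0 * t0 * b, S.path_step hb (mul_mem hh hh0) ht0, 1, one_mem _, by group⟩

theorem Setup.path_inv {k : ℕ} {w : G} (hw : w ∈ S.Path k) :
    ∃ w' ∈ S.Path k, ∃ h' ∈ S.H, w⁻¹ = w' * h' := by
  induction k generalizing w with
  | zero =>
    rw [Setup.Path, Set.mem_singleton_iff] at hw
    exact ⟨1, rfl, 1, one_mem _, by simp [hw]⟩
  | succ k ih =>
    obtain ⟨a, ha, h, hh, t, ht, rfl⟩ := hw
    obtain ⟨a', ha', h', hh', he⟩ := ih ha
    obtain ⟨a'', ha'', h'', hh'', he'⟩ := S.path_h_mul ha' (inv_mem hh)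
    have ht' : t⁻¹ ∈ ({S.y, S.y⁻¹} : Set G) := by
      rcases ht with rfl | rfl
      · exact Or.inr rfl
      · exact Or.inl (inv_inv _)
    refine ⟨1 * t⁻¹ * a'', S.path_step ha'' (one_mem _) ht', h'' * h', mul_mem hh'' hh', ?_⟩
    calc (a * h * t)⁻¹ = t⁻¹ * (h⁻¹ * a⁻¹) := by group
      _ = t⁻¹ * ((h⁻¹ * a') * h') := by rw [he]; group
      _ = _ := by rw [he']; group

theorem Setup.Y_normal_P : ∀ p ∈ S.P, ∀ x ∈ S.Y, p * x * p⁻¹ ∈ S.Y :=
  fun p hp => S.Y_normal p (S.hPH hp)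

theorem Setup.Y_le_P : S.Y ≤ S.P := fun _ hx => S.hQP hx.1

theorem Setup.cj_step {t : G} (ht : t ∈ ({S.y, S.y⁻¹} : Set G)) :
    cj t S.Y = cj S.y S.Y ∧ cj t S.Q = cj S.y S.Q ∧ cj t S.P = S.P := by
  rcases ht with rfl | rfl
  · exact ⟨rfl, rfl, S.cjP⟩
  · refine ⟨S.cj_inv_y S.Y_le_P S.Y_normal_P,
      S.cj_inv_y S.hQP (fun p hp => S.hQn p (S.hPH hp)), ?_⟩
    conv_lhs => rw [← S.cjP]
    rw [cj_inv_cj]

theorem Setup.cjP_inv : cj S.y⁻¹ S.P = S.P := (S.cj_step (Or.inr rfl)).2.2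

include hS in
theorem Setup.Y_ne_bot : S.Y ≠ ⊥ := fun h =>
  S.Z_ne_bot (le_bot_iff.mp (h ▸ S.Z_le_Y hS))

include hS in
/-- If `Y ^ y` lies outside `Q` then `Q = Y`. -/
theorem Setup.Q_eq_Y (hU : ¬ cj S.y S.Y ≤ S.Q) :
    S.Q = S.Y ∧ ∃ u ∈ S.P, u ∉ S.Q ∧ u * u = 1 := by
  obtain ⟨u, huU, huQ⟩ := SetLike.not_le_iff_exists.mp hU
  have huP : u ∈ S.P := (S.cjP ▸ cj_mono S.Y_le_P) huU
  have hu2 : u * u = 1 := (Elem.cj (⟨fun x hx z hz => hz.2.2 x hx.1, fun x hx => hx.2.1⟩ :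
    Elem S.Y) S.y).2 u huU
  refine ⟨?_, u, huP, huQ, hu2⟩
  set R := S.Q ⊓ cj S.y S.Q with hR
  have hyy : cj S.y (cj S.y S.Y) = S.Y := S.cj_y_y S.Y_le_P S.Y_normal_P
  obtain ⟨v, hvY, hv⟩ : ∃ v ∈ S.Y, v ∉ cj S.y S.Q := by
    by_contra hall
    push Not at hall
    apply hU
    have h1 := cj_mono (g := S.y) (show S.Y ≤ cj S.y S.Q from hall)
    rwa [S.cj_y_y S.hQP (fun p hp => S.hQn p (S.hPH hp))] at h1
  have hidx : R.relIndex S.Q ≤ 2 := by
    rw [hR, inf_relIndex_left]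
    have h3 : (cj S.y S.Q).relIndex S.P = 2 := by
      conv_lhs => rw [← S.cjP]
      rw [relIndex_cj, S.hidx]
    exact h3 ▸ relIndex_le_of_le_right S.hQP index_ne_zero_of_finite
  have hQR : ∀ q ∈ S.Q, q ∈ R ∨ q * v⁻¹ ∈ R := fun q hq =>
    mem_or_mul_mem hidx hvY.1 (fun h => hv h.2) hq
  have hRn : ∀ p ∈ S.P, ∀ x ∈ R, p * x * p⁻¹ ∈ R := by
    intro p hp x hx
    refine ⟨S.hQn p (S.hPH hp) x hx.1, mem_cj.mpr ?_⟩
    have hp' : S.y⁻¹ * p * S.y ∈ S.P := by rw [← mem_cj, S.cjP]; exact hp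
    have := S.hQn _ (S.hPH hp') _ (mem_cj.mp hx.2)
    simpa [mul_assoc] using this
  have hRy : ∀ x ∈ R, S.y * x * S.y⁻¹ ∈ R := fun x hx =>
    ⟨(S.cj_y_y S.hQP fun p hp q hq => S.hQn p (S.hPH hp) q hq) ▸ conj_mem_cj hx.2,
      conj_mem_cj hx.1⟩
  set N := closure ((fun a : G => a * a) '' (S.Q : Set G)) with hN
  have hNR : N ≤ closure ((fun a : G => a * a) '' (R : Set G)) := by
    rw [hN, closure_le]
    rintro _ ⟨q, hq, rfl⟩
    rcases hQR q hq with h | h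
    · exact subset_closure ⟨q, h, rfl⟩
    · refine subset_closure ⟨q * v⁻¹, h, ?_⟩
      have hc := hvY.2.2 q hq
      have hv' : v⁻¹ = v := inv_eq_of_mul_eq_one_right hvY.2.1
      show q * v⁻¹ * (q * v⁻¹) = q * q
      rw [hv', show q * v * (q * v) = q * (v * q) * v by group, ← hc,
        show q * (q * v) * v = q * q * (v * v) by group, hvY.2.1, mul_one]
  have hNR' : closure ((fun a : G => a * a) '' (R : Set G)) ≤ N :=
    closure_mono (Set.image_mono (show (R : Set G) ⊆ S.Q from fun _ h => h.1))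
  have hN0 : N = ⊥ := by
    have hconj : ∀ (X : Subgroup G) (h : G), (∀ x ∈ X, h * x * h⁻¹ ∈ X) →
        ∀ z ∈ closure ((fun a : G => a * a) '' (X : Set G)),
          h * z * h⁻¹ ∈ closure ((fun a : G => a * a) '' (X : Set G)) := by
      intro X h hX z hz
      refine (closure_le (cj h⁻¹ (closure ((fun a : G => a * a) '' (X : Set G))))).mpr ?_ hz
        |> fun h' => by simpa [mem_cj] using h'
      rintro _ ⟨a, ha, rfl⟩
      rw [SetLike.mem_coe, mem_cj]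
      refine subset_closure ⟨h * a * h⁻¹, hX a ha, ?_⟩
      show h * a * h⁻¹ * (h * a * h⁻¹) = h⁻¹⁻¹ * (a * a) * h⁻¹
      group
    refine S.hkill N ?_ (fun h hh => hconj S.Q h (S.hQn h hh)) fun z hz => ?_
    · rw [hN, closure_le]
      rintro _ ⟨q, hq, rfl⟩
      exact mul_mem (S.hQP hq) (S.hQP hq)
    · exact hNR' (hconj R S.y hRy z (hNR hz))
  have hQ2 : ∀ q ∈ S.Q, q * q = 1 := fun q hq => by
    have : q * q ∈ N := subset_closure ⟨q, hq, rfl⟩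
    rwa [hN0, mem_bot] at this
  exact le_antisymm (fun q hq => ⟨hq, hQ2 q hq, fun a ha => comm_of_exp_two hQ2 a ha q hq⟩)
    (fun q hq => hq.1)

/-- `Y ^ y` cannot lie in `Q`. -/
theorem Setup.not_cj_Y_le (hS : S.Big) : ¬ cj S.y S.Y ≤ S.Q := by
  classical
  intro hU
  obtain ⟨z1, hz1, hz1ne, hz10, hline, hline'⟩ := S.exists_line hS
  have hYc : ∀ a ∈ S.Y, ∀ b ∈ S.Y, a * b = b * a := fun a ha b hb => hb.2.2 a ha.1
  have hcentral : ∀ (g : G), ∀ a ∈ cj g S.Y, ∀ q ∈ cj g S.Q, q * a = a * q := by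
    rintro g _ ⟨a, ha, rfl⟩ _ ⟨q, hq, rfl⟩
    rw [← map_mul, ← map_mul, ha.2.2 q hq]
  have hUY : ∀ x ∈ cj S.y S.Y, ∀ v ∈ S.Y, x * v = v * x := fun x hx v hv => hv.2.2 x (hU hx)
  have hkillUY : ¬ ∀ h ∈ S.H, ∀ x ∈ cj S.y S.Y ⊔ S.Y, h * x * h⁻¹ ∈ cj S.y S.Y ⊔ S.Y := by
    intro h
    have h0 := S.hkill _ (sup_le (hU.trans S.hQP) S.Y_le_P) h (fun x hx => by
      have h1 : cj S.y (cj S.y S.Y ⊔ S.Y) ≤ cj S.y S.Y ⊔ S.Y := by
        rw [cj, Subgroup.map_sup]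
        refine sup_le ?_ le_sup_left
        exact (S.cj_y_y S.Y_le_P S.Y_normal_P).le.trans le_sup_right
      exact h1 (conj_mem_cj hx))
    exact S.Y_ne_bot hS (le_bot_iff.mp (h0 ▸ le_sup_right))
  -- a critical word
  obtain ⟨b0, hb0⟩ : ∃ k, ∃ w ∈ S.Path k, ¬ cj w S.Y ≤ S.Q := by
    by_contra hall
    push Not at hall
    let X : Subgroup G := ⨆ (k : ℕ) (w : G) (_ : w ∈ S.Path k), cj w S.Y
    have hXQ : X ≤ S.Q := iSup_le fun k => iSup₂_le fun w hw => hall k w hw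
    have hle : ∀ g : G, (∀ k, ∀ w ∈ S.Path k, cj (g * w) S.Y ≤ X) →
        ∀ x ∈ X, g * x * g⁻¹ ∈ X := by
      intro g hg x hx
      have h1 : cj g X ≤ X := by
        simp only [X, cj, Subgroup.map_iSup]
        refine iSup_le fun k => iSup₂_le fun w hw => ?_
        have := hg k w hw
        rw [← cj_cj] at this
        exact this
      exact h1 (conj_mem_cj hx)
    have hmem : ∀ k, ∀ w ∈ S.Path k, cj w S.Y ≤ X := fun k w hw =>
      le_iSup_of_le k (le_iSup₂_of_le w hw le_rfl)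
    have h0 := S.hkill X (hXQ.trans S.hQP) (fun h hh => hle h fun k w hw => by
      obtain ⟨w', hw', h', hh', he⟩ := S.path_h_mul hw hh
      rw [he, ← cj_cj, S.cjY hh']
      exact hmem k w' hw') (hle S.y fun k w hw => by
        rw [show S.y * w = 1 * S.y * w by group]
        exact hmem (k + 1) _ (S.path_step hw (one_mem _) (Or.inl rfl)))
    exact S.Y_ne_bot hS (le_bot_iff.mp (h0 ▸ (cj_one S.Y ▸ hmem 0 1 rfl)))
  let pred : ℕ → Prop := fun k => ∃ w ∈ S.Path k, ¬ cj w S.Y ≤ S.Q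
  have hex : ∃ k, pred k := ⟨b0, hb0⟩
  set b := Nat.find hex with hb
  have hbw : pred b := Nat.find_spec hex
  have hbmin : ∀ j < b, ∀ w ∈ S.Path j, cj w S.Y ≤ S.Q := fun j hj w hw => by
    by_contra h
    exact Nat.find_min hex hj ⟨w, hw, h⟩
  have hbmin' : ∀ j < b, ∀ w ∈ S.Path j, S.Y ≤ cj w S.Q := fun j hj w hw => by
    obtain ⟨w', hw', h', hh', he⟩ := S.path_inv hw
    refine le_of_cj_le (g := w⁻¹) ?_
    rw [cj_inv_cj, he, ← cj_cj, S.cjY hh']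
    exact hbmin j hj w' hw'
  have hb2 : 2 ≤ b := by
    by_contra hlt
    obtain ⟨w, hw, hwQ⟩ := hbw
    rcases Nat.eq_zero_or_pos b with h0 | h0
    · rw [h0, Setup.Path, Set.mem_singleton_iff] at hw
      rw [hw, cj_one] at hwQ
      exact hwQ fun x hx => hx.1
    · rw [show b = 1 by omega] at hw
      obtain ⟨a, ha, h, hh, t, ht, rfl⟩ := hw
      rw [Setup.Path, Set.mem_singleton_iff] at ha
      rw [ha, one_mul, ← cj_cj, (S.cj_step ht).1] at hwQ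
      exact hwQ ((cj_mono hU).trans (S.cjQ hh).le)
  set g := S.d * S.y with hg
  have hginv : ∀ j, ∀ a ∈ S.Path j, ∃ a' ∈ S.Path (j + 1), ∃ h ∈ S.H, g⁻¹ * a = a' * h := by
    intro j a ha
    obtain ⟨a', ha', h, hh, he⟩ := S.path_h_mul ha (inv_mem S.hd)
    refine ⟨1 * S.y⁻¹ * a', S.path_step ha' (one_mem _) (Or.inr rfl), h, hh, ?_⟩
    calc g⁻¹ * a = S.y⁻¹ * (S.d⁻¹ * a) := by rw [hg]; group
      _ = _ := by rw [he]; group
  -- descent
  have descent : ∀ (t w3 h'' t'' h t' : G), t ∈ ({S.y, S.y⁻¹} : Set G) →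
      t'' ∈ ({S.y, S.y⁻¹} : Set G) → t' ∈ ({S.y, S.y⁻¹} : Set G) → h'' ∈ S.H → h ∈ S.H →
      ∀ w1, w1 = w3 * h'' * t'' → w3 ∈ S.Path (b - 2) →
      (∃ c ∈ S.Path (b - 1), ∃ h0 ∈ S.H, w1 * h * t' = t * c * h0) →
      ¬ cj (w1 * h * t') S.Y ≤ S.Q → ¬ cj (g⁻¹ * w1) S.Y ≤ S.Q := by
    intro t w3 h'' t'' h t' ht ht'' ht' hh'' hh w1 hw1 hw3 ⟨c, hc, h0', hh0', hwc⟩ hcrit hnew
    set w := w1 * h * t' with hw
    have hw1S : w1 ∈ S.Path (b - 1) := by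
      rw [show b - 1 = b - 2 + 1 by omega]
      exact ⟨w3, hw3, h'', hh'', t'', ht'', hw1⟩
    have hU1 : cj g S.Y = cj S.d (cj S.y S.Y) := (cj_cj _ _ _).symm
    have hXg : cj w1 S.Y ≤ cj g S.Q := by
      have := cj_mono (g := g) hnew
      rwa [cj_cj, mul_inv_cancel_left] at this
    have hU1w3 : cj g S.Y ≤ cj w3 S.Q := by
      obtain ⟨a, ha, h0, hh0, he⟩ := hginv _ w3 hw3
      have h1 := hbmin' (b - 2 + 1) (by omega) a ha
      rw [← S.cjQ hh0, cj_cj, ← he] at h1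
      have := cj_mono (g := g) h1
      rwa [cj_cj, mul_inv_cancel_left] at this
    have hedge : cj w1 S.P = cj (w3 * h'') S.P := by
      rw [hw1, ← cj_cj, (S.cj_step ht'').2.2]
    have hU1P : cj g S.Y ≤ cj w1 S.P := by
      rw [hedge, ← cj_cj w3 h'']
      refine hU1w3.trans (cj_mono ?_)
      exact (S.cjQ hh'').ge.trans (cj_mono S.hQP)
    have hU1Q : cj g S.Y ≤ cj w1 S.Q := by
      intro a ha
      rw [mem_cj]
      refine S.mem_Q_of_comm hS (mem_cj.mp (hU1P ha)) fun v hv => ?_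
      have hv' : w1 * v * w1⁻¹ ∈ cj g S.Q := hXg (conj_mem_cj hv)
      have := hcentral g a ha _ hv'
      calc w1⁻¹ * a * w1 * v = w1⁻¹ * (a * (w1 * v * w1⁻¹)) * w1 := by group
        _ = w1⁻¹ * ((w1 * v * w1⁻¹) * a) * w1 := by rw [this]
        _ = v * (w1⁻¹ * a * w1) := by group
    have hedge' : cj w1 S.Q ≤ cj w S.P := by
      rw [hw, ← cj_cj, (S.cj_step ht').2.2, ← cj_cj]
      exact cj_mono ((S.cjQ hh).ge.trans (cj_mono S.hQP))
    have hXP : cj w S.Y ≤ S.P := by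
      rw [hwc, ← cj_cj, S.cjY hh0', ← cj_cj]
      refine (cj_mono (hbmin (b - 1) (by omega) c hc)).trans ?_
      rw [(S.cj_step ht).2.1]
      exact S.cj_y_Q_le
    obtain ⟨x0, hx0, hx0Q⟩ := SetLike.not_le_iff_exists.mp hcrit
    have hx0P := hXP hx0
    obtain ⟨v, hv, hvZ⟩ := S.exists_v hS
    set l := w * z1 * w⁻¹ with hl
    have hlineW : ∀ a ∈ cj w S.P, a * x0 * a⁻¹ = x0 ∨ a * x0 * a⁻¹ = x0 * l := by
      intro a ha
      obtain ⟨a', ha', rfl⟩ := ha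
      have hx' : w⁻¹ * x0 * w ∈ S.Y := mem_cj.mp hx0
      rcases hline' _ hx' a' ha' with h1 | h1
      · left
        show w * a' * w⁻¹ * x0 * (w * a' * w⁻¹)⁻¹ = x0
        calc w * a' * w⁻¹ * x0 * (w * a' * w⁻¹)⁻¹
            = w * (a' * (w⁻¹ * x0 * w) * a'⁻¹) * w⁻¹ := by group
          _ = x0 := by rw [h1]; group
      · right
        show w * a' * w⁻¹ * x0 * (w * a' * w⁻¹)⁻¹ = x0 * l
        calc w * a' * w⁻¹ * x0 * (w * a' * w⁻¹)⁻¹
            = w * (a' * (w⁻¹ * x0 * w) * a'⁻¹) * w⁻¹ := by group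
          _ = x0 * l := by rw [h1, hl]; group
    have hvP : v ∈ cj w S.P := hedge' (hbmin' (b - 1) (by omega) w1 hw1S hv)
    have hlY : l ∈ S.Y := by
      have hne : v * x0 * v⁻¹ ≠ x0 := fun h1 => hvZ (S.centralizes_Y hv hx0P hx0Q
        (mul_inv_eq_iff_eq_mul.mp h1).symm)
      have h1 := (hlineW v hvP).resolve_left hne
      have : l = (x0⁻¹ * v * x0⁻¹⁻¹) * v⁻¹ := by
        calc l = x0⁻¹ * (x0 * l) := by group
          _ = _ := by rw [← h1]; group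
      rw [this]
      exact mul_mem (S.Y_normal _ (S.hPH (inv_mem hx0P)) v hv) (inv_mem hv)
    set M := cj g S.Y ⊔ S.Y with hM
    apply hkillUY
    have hdPn : ∀ p ∈ cj S.d S.P, ∀ x ∈ M, p * x * p⁻¹ ∈ M := by
      intro p hp x hx
      have h1 : cj p M ≤ M := by
        rw [hM, cj, Subgroup.map_sup]
        refine sup_le_sup ?_ ?_
        · rw [hU1]
          rintro _ ⟨a, ha, rfl⟩
          obtain ⟨p', hp', rfl⟩ := hp
          rw [SetLike.mem_coe, mem_cj] at ha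
          rw [mem_cj]
          have hp'' : S.y⁻¹ * p' * S.y ∈ S.P := by rw [← mem_cj, S.cjP]; exact hp'
          have h2 := S.Y_normal_P _ hp'' _ (mem_cj.mp ha)
          rw [mem_cj]
          show S.y⁻¹ * (S.d⁻¹ * (S.d * p' * S.d⁻¹ * a * (S.d * p' * S.d⁻¹)⁻¹) * S.d) * S.y ∈ S.Y
          simpa [mul_assoc] using h2
        · obtain ⟨p', hp', rfl⟩ := hp
          refine (S.cjY (h := S.d * p' * S.d⁻¹) ?_).le
          exact mul_mem (mul_mem S.hd (S.hPH hp')) (inv_mem S.hd)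
      exact h1 (conj_mem_cj hx)
    have hx0n : ∀ x ∈ M, x0 * x * x0⁻¹ ∈ M := by
      intro x hx
      have h1 : cj x0 M ≤ M := by
        rw [hM, cj, Subgroup.map_sup]
        refine sup_le ?_ ((S.cjY (S.hPH hx0P)).le.trans le_sup_right)
        rintro _ ⟨a, ha, rfl⟩
        show x0 * a * x0⁻¹ ∈ M
        rcases hlineW a (hedge' (hU1Q ha)) with h1 | h1
        · have : x0 * a * x0⁻¹ = a := by
            calc x0 * a * x0⁻¹ = (a * x0 * a⁻¹) * a * x0⁻¹ := by rw [h1]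
              _ = a := by group
          rw [this]
          exact mem_sup_left ha
        · have h2 : x0 * a * x0⁻¹ = x0 * l⁻¹ * x0⁻¹ * a := by
            calc x0 * a * x0⁻¹ = x0 * l⁻¹ * x0⁻¹ * (x0 * l) * a * x0⁻¹ := by group
              _ = x0 * l⁻¹ * x0⁻¹ * a := by rw [← h1]; group
          rw [h2]
          exact mul_mem (mem_sup_right (S.Y_normal x0 (S.hPH hx0P) _ (inv_mem hlY)))
            (mem_sup_left ha)
      exact h1 (conj_mem_cj hx)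
    have hQn : ∀ q ∈ S.Q, ∀ x ∈ M, q * x * q⁻¹ ∈ M := fun q hq => hdPn q
      ((S.cjQ S.hd).ge.trans (cj_mono S.hQP) hq)
    have hPn : ∀ p ∈ S.P, ∀ x ∈ M, p * x * p⁻¹ ∈ M := by
      intro p hp x hx
      rcases mem_or_mul_mem S.hidx.le hx0P hx0Q hp with h1 | h1
      · exact hQn p h1 x hx
      · rw [show p * x * p⁻¹ = (p * x0⁻¹) * (x0 * x * x0⁻¹) * (p * x0⁻¹)⁻¹ by group]
        exact hQn _ h1 _ (hx0n x hx)
    have hMH := S.normal_of_gen hPn hdPn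
    intro h0 hh0 x hx
    have hMd : M = cj S.d (cj S.y S.Y ⊔ S.Y) := by
      rw [cj, Subgroup.map_sup, ← cj, ← cj, S.cjY S.hd, hM, hU1]
    have := hMH (S.d * h0 * S.d⁻¹) (mul_mem (mul_mem S.hd hh0) (inv_mem S.hd))
      (S.d * x * S.d⁻¹) (hMd ▸ conj_mem_cj hx)
    rw [hMd, mem_cj] at this
    simpa [mul_assoc] using this
  have hginv' : ∀ i m, ∀ a ∈ S.Path m, ∃ a' ∈ S.Path (m + i), ∃ h ∈ S.H,
      (g⁻¹) ^ i * a = a' * h := by
    intro i
    induction i with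
    | zero => exact fun m a ha => ⟨a, ha, 1, one_mem _, by simp⟩
    | succ i ihi =>
      intro m a ha
      obtain ⟨a', ha', h', hh', he⟩ := ihi m a ha
      obtain ⟨a'', ha'', h'', hh'', he'⟩ := hginv _ _ ha'
      refine ⟨a'', ha'', h'' * h', mul_mem hh'' hh', ?_⟩
      rw [pow_succ', mul_assoc, he, ← mul_assoc, he', mul_assoc]
  have hcritg : ∀ j ≤ b, ∃ p ∈ S.Path (b - j), ¬ cj ((g⁻¹) ^ j * p) S.Y ≤ S.Q ∧
      ∃ t ∈ ({S.y, S.y⁻¹} : Set G), ∃ c ∈ S.Path (b - 1), ∃ h ∈ S.H,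
        (g⁻¹) ^ j * p = t * c * h := by
    intro j hj
    induction j with
    | zero =>
      obtain ⟨w, hw, hwQ⟩ := hbw
      obtain ⟨k, hk⟩ : ∃ k, b = k + 1 := ⟨b - 1, by omega⟩
      rw [hk] at hw
      obtain ⟨h1, hh1, t, ht, c, hc, rfl⟩ := S.path_left hw
      refine ⟨t * c, ?_, ?_, t, ht, c, ?_, 1, one_mem _, by simp⟩
      · have := S.path_step hc (one_mem _) ht
        rw [one_mul] at this
        rwa [Nat.sub_zero, hk]
      · intro h
        rw [pow_zero, one_mul] at h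
        apply hwQ
        rw [mul_assoc, ← cj_cj]
        exact (cj_mono h).trans (S.cjQ hh1).le
      · rwa [show b - 1 = k by omega]
    | succ j ih =>
      obtain ⟨p, hp, hcrit, t, ht, c, hc, h0, hh0, hWc⟩ := ih (by omega)
      obtain ⟨k, hk⟩ : ∃ k, b - j = k + 1 := ⟨b - j - 1, by omega⟩
      rw [hk] at hp
      obtain ⟨p1, hp1, h, hh, t', ht', rfl⟩ := hp
      obtain ⟨w1, hw1, h', hh', he1⟩ := hginv' j k p1 hp1
      rw [show k + j = b - 2 + 1 by omega] at hw1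
      have hw1' := hw1
      obtain ⟨w3, hw3, h'', hh'', t'', ht'', he2⟩ := hw1'
      have hW : (g⁻¹) ^ j * (p1 * h * t') = w1 * (h' * h) * t' := by
        calc (g⁻¹) ^ j * (p1 * h * t') = (g⁻¹) ^ j * p1 * h * t' := by simp only [mul_assoc]
          _ = w1 * (h' * h) * t' := by rw [he1]; simp only [mul_assoc]
      rw [hW] at hcrit hWc
      have hnew := descent t w3 h'' t'' (h' * h) t' ht ht'' ht' hh'' (mul_mem hh' hh) w1 he2 hw3
        ⟨c, hc, h0, hh0, hWc⟩ hcrit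
      obtain ⟨c', hc', h2, hh2, he3⟩ := S.path_h_mul hw1 (inv_mem S.hd)
      refine ⟨p1, by rwa [show b - (j + 1) = k by omega], ?_, S.y⁻¹, Or.inr rfl, c', ?_,
        h2 * h', mul_mem hh2 hh', ?_⟩
      · intro hle
        apply hnew
        rw [pow_succ', mul_assoc, he1, ← mul_assoc, ← cj_cj, S.cjY hh'] at hle
        exact hle
      · rwa [show b - 1 = b - 2 + 1 by omega]
      · rw [pow_succ', mul_assoc, he1, hg,
          show (S.d * S.y)⁻¹ * (w1 * h') = S.y⁻¹ * (S.d⁻¹ * w1) * h' by group, he3]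
        simp only [mul_assoc]
  obtain ⟨p, hp, hcrit, -⟩ := hcritg b le_rfl
  rw [Nat.sub_self, Setup.Path, Set.mem_singleton_iff] at hp
  subst hp
  have hcritb : ¬ cj ((g ^ b)⁻¹) S.Y ≤ S.Q := fun h => hcrit (by
    rwa [mul_one, inv_pow])
  -- everything along the `g`-path
  have hgpath : ∀ j, g ^ j ∈ S.Path j := by
    intro j
    induction j with
    | zero => simp [Setup.Path]
    | succ j ih => exact ⟨g ^ j, ih, S.d, S.hd, S.y, Or.inl rfl, by rw [pow_succ, hg]; group⟩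
  have hnear : ∀ j < b, cj (g ^ j) S.Y ≤ S.Q := fun j hj => hbmin j hj _ (hgpath j)
  have hnear' : ∀ j < b, S.Y ≤ cj (g ^ j) S.Q := fun j hj => hbmin' j hj _ (hgpath j)
  have hE : cj g S.P = cj S.d S.P := by rw [hg, ← cj_cj, S.cjP]
  have hgQP : cj g⁻¹ S.Q ≤ S.P := by
    refine le_of_cj_le (g := g) ?_
    rw [cj_cj_inv, hE]
    exact (S.cjQ S.hd).ge.trans (cj_mono S.hQP)
  have hX : ¬ cj (g ^ b) S.Y ≤ S.Q := by
    intro h
    apply hcritb
    intro a ha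
    refine S.mem_Q_of_comm hS ?_ fun v hv => ?_
    · have h1 : cj (g ^ b)⁻¹ S.Y ≤ cj g⁻¹ S.Q := by
        refine le_of_cj_le (g := g) ?_
        rw [cj_cj, cj_cj_inv]
        refine le_of_cj_le (g := g ^ (b - 1)) ?_
        rw [cj_cj, show g ^ (b - 1) * (g * (g ^ b)⁻¹) = 1 by
          rw [← mul_assoc, ← pow_succ, show b - 1 + 1 = b by omega, mul_inv_cancel], cj_one]
        exact hnear' (b - 1) (by omega)
      exact hgQP (h1 ha)
    · have hv' : v ∈ cj (g ^ b)⁻¹ S.Q := by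
        rw [mem_cj, inv_inv]
        exact h (conj_mem_cj hv)
      exact (hcentral _ a ha v hv').symm
  obtain ⟨x0, hx0, hx0Q⟩ := SetLike.not_le_iff_exists.mp hX
  have hx0E : x0 ∈ cj S.d S.P := by
    rw [← hE]
    have h1 : cj (g ^ b) S.Y ≤ cj g S.Q := by
      rw [show g ^ b = g * g ^ (b - 1) by rw [← pow_succ', show b - 1 + 1 = b by omega], ← cj_cj]
      exact cj_mono (hnear (b - 1) (by omega))
    exact cj_mono S.hQP (h1 hx0)
  have hnotfix : ∀ c ∈ S.Y, x0 * c = c * x0 → c ∈ cj S.d S.Z := by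
    intro c hc hcomm
    have hc' : S.d⁻¹ * c * S.d ∈ S.Y := by simpa using S.Y_normal _ (inv_mem S.hd) c hc
    rw [mem_cj]
    refine S.centralizes_Y hc' (mem_cj.mp hx0E) (fun h => hx0Q ?_) ?_
    · have := S.hQn S.d S.hd _ h
      simpa [mul_assoc] using this
    · calc S.d⁻¹ * x0 * S.d * (S.d⁻¹ * c * S.d) = S.d⁻¹ * (x0 * c) * S.d := by group
        _ = S.d⁻¹ * c * S.d * (S.d⁻¹ * x0 * S.d) := by rw [hcomm]; group
  have hz1comm : ∀ j, j < b → 0 < b - j → b - j < b → z1 ∈ cj (g ^ j) S.Y → False := by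
    intro j _ hpos hlt hmem
    apply hz10
    refine ⟨hz1, hnotfix z1 (S.Z_le_Y hS hz1) ?_⟩
    have h1 : cj (g ^ b) S.Y ≤ cj (g ^ j) S.Q := by
      rw [show g ^ b = g ^ j * g ^ (b - j) by rw [← pow_add]; congr 1; omega, ← cj_cj]
      exact cj_mono (hnear (b - j) hlt)
    exact hcentral _ z1 hmem x0 (h1 hx0)
  -- the critical equation between the two lines
  obtain ⟨v, hv, hvZ⟩ := S.exists_v hS
  have heq : S.d * z1 * S.d⁻¹ = g ^ b * z1 * (g ^ b)⁻¹ := by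
    obtain ⟨v, hv, hvd⟩ : ∃ v ∈ S.Y, v ∉ cj S.d S.Z := by
      refine ⟨S.d * v * S.d⁻¹, S.Y_normal S.d S.hd v hv, fun h => hvZ ?_⟩
      rw [mem_cj] at h
      simpa [mul_assoc] using h
    have hA : x0 * v * x0⁻¹ = v * (S.d * z1 * S.d⁻¹) := by
      have hv' : S.d⁻¹ * v * S.d ∈ S.Y := by simpa using S.Y_normal _ (inv_mem S.hd) v hv
      have := hline _ hv' (fun h => hvd (mem_cj.mpr h)) _ (mem_cj.mp hx0E) (fun h => hx0Q (by
        have := S.hQn S.d S.hd _ h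
        simpa [mul_assoc] using this))
      calc x0 * v * x0⁻¹ = S.d * ((S.d⁻¹ * x0 * S.d) * (S.d⁻¹ * v * S.d) * (S.d⁻¹ * x0 * S.d)⁻¹)
            * S.d⁻¹ := by group
        _ = v * (S.d * z1 * S.d⁻¹) := by rw [this]; group
    have hvE : v ∈ cj (g ^ b) S.P := by
      have h2 : cj (g ^ (b - 1)) S.Q ≤ cj (g ^ b) S.P := by
        rw [show g ^ b = g ^ (b - 1) * g by rw [← pow_succ, show b - 1 + 1 = b by omega],
          ← cj_cj, hE]
        exact cj_mono ((S.cjQ S.hd).ge.trans (cj_mono S.hQP))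
      exact h2 (hnear' (b - 1) (by omega) hv)
    have hw' : (g ^ b)⁻¹ * x0 * g ^ b ∈ S.Y := mem_cj.mp hx0
    set l := g ^ b * z1 * (g ^ b)⁻¹ with hl
    have hx2 : x0 * x0 = 1 := by
      calc x0 * x0 = g ^ b * (((g ^ b)⁻¹ * x0 * g ^ b) * ((g ^ b)⁻¹ * x0 * g ^ b)) * (g ^ b)⁻¹ := by
            group
        _ = 1 := by rw [hw'.2.1]; group
    have hB : v * x0 * v⁻¹ = x0 ∨ v * x0 * v⁻¹ = x0 * l := by
      obtain ⟨v', hv', rfl⟩ := hvE
      rcases hline' _ hw' v' hv' with h1 | h1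
      · left
        show g ^ b * v' * (g ^ b)⁻¹ * x0 * (g ^ b * v' * (g ^ b)⁻¹)⁻¹ = x0
        calc g ^ b * v' * (g ^ b)⁻¹ * x0 * (g ^ b * v' * (g ^ b)⁻¹)⁻¹
            = g ^ b * (v' * ((g ^ b)⁻¹ * x0 * g ^ b) * v'⁻¹) * (g ^ b)⁻¹ := by group
          _ = x0 := by rw [h1]; group
      · right
        show g ^ b * v' * (g ^ b)⁻¹ * x0 * (g ^ b * v' * (g ^ b)⁻¹)⁻¹ = x0 * l
        calc g ^ b * v' * (g ^ b)⁻¹ * x0 * (g ^ b * v' * (g ^ b)⁻¹)⁻¹
            = g ^ b * (v' * ((g ^ b)⁻¹ * x0 * g ^ b) * v'⁻¹) * (g ^ b)⁻¹ := by group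
          _ = x0 * l := by rw [h1, hl]; group
    have hne : v * x0 * v⁻¹ ≠ x0 := fun h => hvd (hnotfix v hv (mul_inv_eq_iff_eq_mul.mp h).symm)
    have hB' := hB.resolve_left hne
    have hv' : v⁻¹ = v := inv_eq_of_mul_eq_one_right hv.2.1
    have hx' : x0⁻¹ = x0 := inv_eq_of_mul_eq_one_right hx2
    have hl' : l⁻¹ = l := by
      rw [hl]
      rw [show (g ^ b * z1 * (g ^ b)⁻¹)⁻¹ = g ^ b * z1⁻¹ * (g ^ b)⁻¹ by group,
        inv_eq_of_mul_eq_one_right hz1.2.1]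
    calc S.d * z1 * S.d⁻¹ = v⁻¹ * (x0 * v * x0⁻¹) := by rw [hA]; group
      _ = (x0⁻¹ * (v * x0 * v⁻¹))⁻¹ := by rw [hv', hx']; simp [mul_assoc, hv', hx']
      _ = l := by rw [hB', inv_mul_cancel_left, hl']
  have hz0Z := conj_mem_of_cj_eq S.Z_y hz1
  obtain ⟨p0, hp0, hyy⟩ := S.hy2
  have hy2z : ∀ z ∈ S.Z, S.y * (S.y * z * S.y⁻¹) * S.y⁻¹ = z := by
    intro z hz
    calc S.y * (S.y * z * S.y⁻¹) * S.y⁻¹ = S.y * S.y * z * (S.y * S.y)⁻¹ := by group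
      _ = z := by rw [hyy z hz.1, hz.2.2 p0 hp0, mul_inv_cancel_right]
  rcases em (S.y * z1 * S.y⁻¹ = z1) with hA | hA
  · -- symmetric lines
    refine hz1comm (b - 1) (by omega) (by omega) (by omega) ?_
    rw [mem_cj]
    have h1 : g * z1 * g⁻¹ = g ^ b * z1 * (g ^ b)⁻¹ := by
      rw [← heq, hg]
      calc S.d * S.y * z1 * (S.d * S.y)⁻¹ = S.d * (S.y * z1 * S.y⁻¹) * S.d⁻¹ := by group
        _ = _ := by rw [hA]
    rw [show g ^ b = g * g ^ (b - 1) by rw [← pow_succ', show b - 1 + 1 = b by omega]] at h1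
    have h2 : z1 = g ^ (b - 1) * z1 * (g ^ (b - 1))⁻¹ := by
      calc z1 = g⁻¹ * (g * z1 * g⁻¹) * g := by group
        _ = _ := by rw [h1]; group
    nth_rewrite 1 [h2]
    simpa [mul_assoc] using S.Z_le_Y hS hz1
  -- the other case: `z0 = z1 ^ y` is central in `H`
  set z0 := S.y * z1 * S.y⁻¹ with hz0
  have hz0H : z0 ∈ S.Z0 := by
    rcases mem_or_mul_mem (S.Z0_index hS).le hz1 hz10 hz0Z with h | h
    · exact h
    exfalso
    set c := z0 * z1⁻¹ with hc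
    have hcne : c ≠ 1 := fun h1 => hA (mul_inv_eq_one.mp h1)
    have hcy : S.y * c * S.y⁻¹ = c := by
      rw [hc, show S.y * (z0 * z1⁻¹) * S.y⁻¹ = (S.y * z0 * S.y⁻¹) * (S.y * z1 * S.y⁻¹)⁻¹ by group,
        hy2z z1 hz1, ← hz0, inv_eq_of_mul_eq_one_right hz0Z.2.1,
        inv_eq_of_mul_eq_one_right hz1.2.1, hz0Z.2.2 z1 hz1.1]
    have hmem : c ∈ S.Z0 ⊓ cj S.y S.Z0 := ⟨h, by rw [← hcy]; exact conj_mem_cj h⟩
    rw [S.Z0_y, mem_bot] at hmem
    exact hcne hmem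
  have hgz1 : g * z1 * g⁻¹ = z0 := by
    calc g * z1 * g⁻¹ = S.d * z0 * S.d⁻¹ := by rw [hg, hz0]; group
      _ = z0 := by rw [S.Z0_central S.d S.hd z0 hz0H, mul_inv_cancel_right]
  have hb' : b = 2 := by
    by_contra hb3
    refine hz1comm (b - 2) (by omega) (by omega) (by omega) ?_
    have h1 : z1 = g ^ (b - 2) * z1 * (g ^ (b - 2))⁻¹ := by
      have e1 : g * z0 * g⁻¹ = S.d * z1 * S.d⁻¹ := by
        rw [hg, hz0]
        calc S.d * S.y * (S.y * z1 * S.y⁻¹) * (S.d * S.y)⁻¹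
            = S.d * (S.y * (S.y * z1 * S.y⁻¹) * S.y⁻¹) * S.d⁻¹ := by group
          _ = _ := by rw [hy2z z1 hz1]
      rw [heq, ← hgz1, show g ^ b = g * (g * g ^ (b - 2)) by
        rw [← pow_succ', ← pow_succ']; congr 1; omega] at e1
      calc z1 = g⁻¹ * (g⁻¹ * (g * (g * z1 * g⁻¹) * g⁻¹) * g) * g := by group
        _ = _ := by rw [e1]; group
    rw [mem_cj]
    nth_rewrite 1 [h1]
    simpa [mul_assoc] using S.Z_le_Y hS hz1
  rw [hb'] at hX hcritb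
  -- `b = 2`
  set U := cj S.y S.Y with hUdef
  set U1 := cj g S.Y with hU1def
  have hU1' : U1 = cj S.d U := (cj_cj _ _ _).symm
  have hU1Q : U1 ≤ S.Q := by
    have := hnear 1 (by omega)
    rwa [pow_one] at this
  have hginvY : cj g⁻¹ S.Y = U := by
    rw [hg, mul_inv_rev, ← cj_cj, S.cjY (inv_mem S.hd), hUdef]
    exact (S.cj_step (Or.inr rfl)).1
  have hginvQ : cj g⁻¹ S.Q = cj S.y S.Q := by
    rw [hg, mul_inv_rev, ← cj_cj, S.cjQ (inv_mem S.hd)]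
    exact (S.cj_step (Or.inr rfl)).2.1
  obtain ⟨c, hcU1, hc⟩ : ∃ c ∈ U1, c ∉ cj S.y S.Q := by
    by_contra hall
    push Not at hall
    apply hX
    have h1 := cj_mono (g := g) (show U1 ≤ cj g⁻¹ S.Q from hginvQ ▸ hall)
    rwa [cj_cj_inv, hU1def, cj_cj, ← pow_two] at h1
  obtain ⟨a, haU, ha⟩ : ∃ a ∈ U, a ∉ cj g S.Q := by
    by_contra hall
    push Not at hall
    apply hcritb
    have h1 := cj_mono (g := g⁻¹) (show U ≤ cj g S.Q from hall)
    rwa [cj_inv_cj, ← hginvY, cj_cj, ← mul_inv_rev, ← pow_two] at h1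
  set R := S.Q ⊓ cj S.y S.Q with hR
  set R' := S.Q ⊓ cj g S.Q with hR'
  have hdR : cj S.d R = R' := by rw [hR, hR', cj_inf, S.cjQ S.hd, cj_cj]
  have hidxQy : R.relIndex S.Q ≤ 2 := by
    rw [hR, inf_relIndex_left]
    have h3 : (cj S.y S.Q).relIndex S.P = 2 := by
      conv_lhs => rw [← S.cjP]
      rw [relIndex_cj, S.hidx]
    exact h3 ▸ relIndex_le_of_le_right S.hQP index_ne_zero_of_finite
  have hidxQg : R'.relIndex S.Q ≤ 2 := by
    have h := relIndex_cj S.d R S.Q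
    rw [S.cjQ S.hd, hdR] at h
    rwa [h]
  have haR : a ∈ R := ⟨hU haU, (cj_mono (g := S.y) (show S.Y ≤ S.Q from fun x hx => hx.1)) haU⟩
  have hcR' : c ∈ R' := ⟨hU1Q hcU1, (cj_mono (g := g) (show S.Y ≤ S.Q from fun x hx => hx.1)) hcU1⟩
  have hRdec : ∀ x ∈ R, x ∈ R ⊓ R' ∨ x * a⁻¹ ∈ R ⊓ R' := by
    intro x hx
    rcases mem_or_mul_mem hidxQg haR.1 (fun h => ha h.2) hx.1 with h | h
    · exact Or.inl ⟨hx, h⟩
    · exact Or.inr ⟨R.mul_mem hx (R.inv_mem haR), h⟩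
  have hR'dec : ∀ x ∈ R', x ∈ R ⊓ R' ∨ x * c⁻¹ ∈ R ⊓ R' := by
    intro x hx
    rcases mem_or_mul_mem hidxQy hcR'.1 (fun h => hc h.2) hx.1 with h | h
    · exact Or.inl ⟨h, hx⟩
    · exact Or.inr ⟨h, R'.mul_mem hx (R'.inv_mem hcR')⟩
  have haR' : ∀ x ∈ R, x * a = a * x := fun x hx => hcentral S.y a haU x hx.2
  have hcR : ∀ x ∈ R', x * c = c * x := fun x hx => hcentral g c hcU1 x hx.2
  have hYelem : Elem S.Y := ⟨hYc, fun x hx => hx.2.1⟩
  have ha2 : a * a = 1 := (hYelem.cj S.y).2 a haU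
  have hc2 : c * c = 1 := (hYelem.cj g).2 c hcU1
  set Nsq := closure ((fun x : G => x * x) '' ((R ⊓ R' : Subgroup G) : Set G)) with hNsq
  have hsqR : ∀ x ∈ R, x * x ∈ Nsq := by
    intro x hx
    rcases hRdec x hx with h | h
    · exact subset_closure ⟨x, h, rfl⟩
    · refine subset_closure ⟨x * a⁻¹, h, ?_⟩
      have h1 := haR' x hx
      show x * a⁻¹ * (x * a⁻¹) = x * x
      rw [inv_eq_of_mul_eq_one_right ha2, show x * a * (x * a) = x * (a * x) * a by group, ← h1,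
        show x * (x * a) * a = x * x * (a * a) by group, ha2, mul_one]
  have hsqR' : ∀ x ∈ R', x * x ∈ Nsq := by
    intro x hx
    rcases hR'dec x hx with h | h
    · exact subset_closure ⟨x, h, rfl⟩
    · refine subset_closure ⟨x * c⁻¹, h, ?_⟩
      have h1 := hcR x hx
      show x * c⁻¹ * (x * c⁻¹) = x * x
      rw [inv_eq_of_mul_eq_one_right hc2, show x * c * (x * c) = x * (c * x) * c by group, ← h1,
        show x * (x * c) * c = x * x * (c * c) by group, hc2, mul_one]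
  have hN0 : Nsq = ⊥ := by
    have hconj : ∀ h : G, (∀ x ∈ R ⊓ R', h * x * h⁻¹ ∈ R ∨ h * x * h⁻¹ ∈ R') →
        ∀ z ∈ Nsq, h * z * h⁻¹ ∈ Nsq := by
      intro h hX z hz
      refine (closure_le (cj h⁻¹ Nsq)).mpr ?_ hz |> fun h' => by simpa [mem_cj] using h'
      rintro _ ⟨x, hx, rfl⟩
      rw [SetLike.mem_coe, mem_cj,
        show h⁻¹⁻¹ * (x * x) * h⁻¹ = h * x * h⁻¹ * (h * x * h⁻¹) by group]
      exact (hX x hx).elim (hsqR _) (hsqR' _)
    have hRn : ∀ p ∈ S.P, ∀ x ∈ R, p * x * p⁻¹ ∈ R := by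
      intro p hp x hx
      refine ⟨S.hQn p (S.hPH hp) x hx.1, mem_cj.mpr ?_⟩
      have hp' : S.y⁻¹ * p * S.y ∈ S.P := by rw [← mem_cj, S.cjP]; exact hp
      have := S.hQn _ (S.hPH hp') _ (mem_cj.mp hx.2)
      simpa [mul_assoc] using this
    refine S.hkill Nsq ?_ (S.normal_of_gen (fun p hp => hconj p fun x hx => Or.inl (hRn p hp x hx.1))
      (fun p hp => hconj p fun x hx => Or.inr ?_)) (hconj S.y fun x hx => Or.inl ?_)
    · rw [hNsq, closure_le]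
      rintro _ ⟨x, hx, rfl⟩
      exact mul_mem (S.hQP hx.1.1) (S.hQP hx.1.1)
    · obtain ⟨p', hp', rfl⟩ := hp
      have hx' : S.d⁻¹ * x * S.d ∈ R := by rw [← mem_cj, hdR]; exact hx.2
      rw [← hdR]
      show S.d * p' * S.d⁻¹ * x * (S.d * p' * S.d⁻¹)⁻¹ ∈ cj S.d R
      rw [show S.d * p' * S.d⁻¹ * x * (S.d * p' * S.d⁻¹)⁻¹ =
        S.d * (p' * (S.d⁻¹ * x * S.d) * p'⁻¹) * S.d⁻¹ by group]
      exact conj_mem_cj (hRn p' hp' _ hx')
    · exact ⟨(S.cj_y_y S.hQP fun p hp q hq => S.hQn p (S.hPH hp) q hq) ▸ conj_mem_cj hx.1.2,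
        conj_mem_cj hx.1.1⟩
  have hR2 : ∀ x ∈ R, x * x = 1 := fun x hx => by simpa [hN0] using hsqR x hx
  have hR'2 : ∀ x ∈ R', x * x = 1 := fun x hx => by simpa [hN0] using hsqR' x hx
  have hSY : R ⊓ R' ≤ S.Y := by
    intro x hx
    refine ⟨hx.1.1, hR2 x hx.1, fun q hq => ?_⟩
    rcases mem_or_mul_mem hidxQy hcR'.1 (fun h => hc h.2) hq with h | h
    · exact comm_of_exp_two hR2 q h x hx.1
    · have e1 := comm_of_exp_two hR2 _ h x hx.1
      have e2 := comm_of_exp_two hR'2 c hcR' x hx.2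
      calc q * x = q * c⁻¹ * (c * x) := by group
        _ = q * c⁻¹ * x * c := by rw [e2]; group
        _ = x * q := by rw [e1]; group
  have hform : ∀ q ∈ S.Q, ∃ s ∈ S.Y, q = s ∨ q = s * a ∨ q = s * c ∨ q = s * a * c := by
    intro q hq
    rcases mem_or_mul_mem hidxQy hcR'.1 (fun h => hc h.2) hq with h | h
    · rcases hRdec q h with h' | h'
      · exact ⟨q, hSY h', Or.inl rfl⟩
      · exact ⟨q * a⁻¹, hSY h', Or.inr (Or.inl (by group))⟩
    · rcases hRdec _ h with h' | h'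
      · exact ⟨q * c⁻¹, hSY h', Or.inr (Or.inr (Or.inl (by group)))⟩
      · exact ⟨q * c⁻¹ * a⁻¹, hSY h', Or.inr (Or.inr (Or.inr (by group)))⟩
  have hac : a * c ≠ c * a := by
    intro hac
    have hsq : ∀ q ∈ S.Q, q * q = 1 := by
      intro q hq
      obtain ⟨s, hs, h | h | h | h⟩ := hform q hq
      · rw [h]; exact hs.2.1
      · rw [h, show s * a * (s * a) = s * (a * s) * a by group, hs.2.2 a haR.1,
          show s * (s * a) * a = s * s * (a * a) by group, hs.2.1, ha2, one_mul]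
      · rw [h, show s * c * (s * c) = s * (c * s) * c by group, hs.2.2 c hcR'.1,
          show s * (s * c) * c = s * s * (c * c) by group, hs.2.1, hc2, one_mul]
      · rw [h, show s * a * c * (s * a * c) = s * ((a * c) * s) * (a * c) by group,
          hs.2.2 _ (mul_mem haR.1 hcR'.1),
          show s * (s * (a * c)) * (a * c) = s * s * (a * (c * a) * c) by group, hs.2.1, ← hac,
          show a * (a * c) * c = a * a * (c * c) by group, ha2, hc2, one_mul, one_mul]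
    have hQY : S.Q ≤ S.Y := fun q hq => ⟨hq, hsq q hq, fun z hz => comm_of_exp_two hsq z hz q hq⟩
    have hUeq : U = S.Y := eq_of_le_of_card_ge (hU.trans hQY) (card_cj _ _).ge
    exact S.Y_ne_bot hS (S.hkill S.Y S.Y_le_P S.Y_normal fun x hx => conj_mem_of_cj_eq hUeq hx)
  have hdY : ∀ {x : G}, x ∈ S.Y → S.d * x * S.d⁻¹ ∈ S.Y := fun {x} hx => S.Y_normal S.d S.hd x hx
  have hdinj : ∀ x, S.d * x * S.d⁻¹ ∈ S.Y → x ∈ S.Y := fun x hx => by
    have := S.Y_normal _ (inv_mem S.hd) _ hx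
    simpa [mul_assoc] using this
  -- image of `a`
  have hda : S.d * a * S.d⁻¹ * c⁻¹ ∈ S.Y := by
    have h1 : S.d * a * S.d⁻¹ ∈ R' := hdR ▸ conj_mem_cj haR
    rcases hR'dec _ h1 with h | h
    · exact absurd (hdinj a (hSY h)) fun hh => ha (by
        have h1 := hnear' 1 (by omega) hh
        rwa [pow_one] at h1)
    · exact hSY h
  -- image of `c`
  have hdc : S.d * c * S.d⁻¹ * a⁻¹ ∈ S.Y := by
    obtain ⟨s, hs, h | h | h | h⟩ := hform _ (S.hQn S.d S.hd c hcR'.1)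
    · exfalso
      have : c ∈ S.Y := hdinj c (h ▸ hs)
      exact hc (hbmin' 1 (by omega) S.y ⟨1, rfl, 1, one_mem _, S.y, Or.inl rfl, by group⟩ this)
    · rw [h]; simpa using hs
    · exfalso
      apply hac
      have h1 : a * c⁻¹ ∈ S.Y := by
        apply hdinj
        have h2 : S.d * (a * c⁻¹) * S.d⁻¹ = (S.d * a * S.d⁻¹ * c⁻¹) * s⁻¹ := by
          rw [show S.d * (a * c⁻¹) * S.d⁻¹ = S.d * a * S.d⁻¹ * (S.d * c * S.d⁻¹)⁻¹ by group, h]
          group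
        rw [h2]
        exact mul_mem hda (inv_mem hs)
      have h3 := h1.2.2 c hcR'.1
      calc a * c = a * c⁻¹ * c * c := by group
        _ = c * (a * c⁻¹) * c := by rw [h3]
        _ = c * a := by group
    · exfalso
      have h1 : (S.d * c * S.d⁻¹) * (S.d * c * S.d⁻¹) = 1 := by
        rw [show S.d * c * S.d⁻¹ * (S.d * c * S.d⁻¹) = S.d * (c * c) * S.d⁻¹ by group, hc2]
        group
      rw [h, show s * a * c * (s * a * c) = s * ((a * c) * s) * (a * c) by group,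
        hs.2.2 _ (mul_mem haR.1 hcR'.1),
        show s * (s * (a * c)) * (a * c) = s * s * (a * c * (a * c)) by group, hs.2.1, one_mul] at h1
      apply hac
      calc a * c = (a * c)⁻¹ := eq_inv_of_mul_eq_one_left h1
        _ = c * a := by
          rw [mul_inv_rev, inv_eq_of_mul_eq_one_right ha2, inv_eq_of_mul_eq_one_right hc2]
  -- odd powers of `d` exchange the cosets of `a` and `c`
  have hodd : ∀ k : ℕ, (S.d ^ (2 * k)) * a * (S.d ^ (2 * k))⁻¹ * a⁻¹ ∈ S.Y := by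
    intro k
    induction k with
    | zero => simp [one_mem]
    | succ k ih =>
      have e : S.d ^ (2 * (k + 1)) * a * (S.d ^ (2 * (k + 1)))⁻¹ * a⁻¹ =
          (S.d * (S.d * (S.d ^ (2 * k) * a * (S.d ^ (2 * k))⁻¹ * a⁻¹) * S.d⁻¹) * S.d⁻¹) *
          (S.d * (S.d * a * S.d⁻¹ * c⁻¹) * S.d⁻¹) * (S.d * c * S.d⁻¹ * a⁻¹) := by
        rw [show 2 * (k + 1) = 2 * k + 1 + 1 by omega, pow_succ', pow_succ']
        group
      rw [e]
      exact mul_mem (mul_mem (hdY (hdY ih)) (hdY hda)) hdc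
  obtain ⟨m, ⟨k, rfl⟩, hdm⟩ := S.hodd
  have h1 : S.d ^ (2 * k + 1) * a * (S.d ^ (2 * k + 1))⁻¹ * c⁻¹ ∈ S.Y := by
    have e : S.d ^ (2 * k + 1) * a * (S.d ^ (2 * k + 1))⁻¹ * c⁻¹ =
        (S.d * (S.d ^ (2 * k) * a * (S.d ^ (2 * k))⁻¹ * a⁻¹) * S.d⁻¹) *
          (S.d * a * S.d⁻¹ * c⁻¹) := by
      rw [pow_succ']; group
    rw [e]
    exact mul_mem (hdY (hodd k)) hda
  obtain ⟨s, hs, h | h | h | h⟩ := hform _ hdm
  all_goals
    apply hac
    have hq : ∀ q, (q * a * q⁻¹ * a⁻¹ ∈ S.Y) → q = S.d ^ (2 * k + 1) → a * c = c * a := by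
      intro q hqa hqeq
      subst hqeq
      have h4 : a * c⁻¹ ∈ S.Y := by
        rw [show a * c⁻¹ = (S.d ^ (2 * k + 1) * a * (S.d ^ (2 * k + 1))⁻¹ * a⁻¹)⁻¹ *
          (S.d ^ (2 * k + 1) * a * (S.d ^ (2 * k + 1))⁻¹ * c⁻¹) by group]
        exact mul_mem (inv_mem hqa) h1
      have h3 := h4.2.2 c hcR'.1
      calc a * c = a * c⁻¹ * c * c := by group
        _ = c * (a * c⁻¹) * c := by rw [h3]
        _ = c * a := by group
  · refine hq s ?_ h.symm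
    rw [← hs.2.2 a haR.1, mul_inv_cancel_right, mul_inv_cancel]; exact one_mem _
  · refine hq _ ?_ h.symm
    rw [show s * a * a * (s * a)⁻¹ * a⁻¹ = s * a * s⁻¹ * a⁻¹ by group, ← hs.2.2 a haR.1,
      mul_inv_cancel_right, mul_inv_cancel]
    exact one_mem _
  · refine hq _ ?_ h.symm
    have hca : c * a * c⁻¹ * a⁻¹ ∈ S.Y := by
      refine hSY ?_
      have hRn : c * a * c⁻¹ ∈ R := by
        refine ⟨S.Q.mul_mem (S.Q.mul_mem hcR'.1 haR.1) (S.Q.inv_mem hcR'.1), mem_cj.mpr ?_⟩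
        have hp' : S.y⁻¹ * c * S.y ∈ S.P := by rw [← mem_cj, S.cjP]; exact S.hQP hcR'.1
        have := S.hQn _ (S.hPH hp') _ (mem_cj.mp haR.2)
        simpa [mul_assoc] using this
      rcases hRdec _ hRn with h5 | h5
      · exfalso
        apply ha
        have h6 := h5.2.2
        have h7 := (cj g S.Q).mul_mem ((cj g S.Q).mul_mem ((cj g S.Q).inv_mem hcR'.2) h6) hcR'.2
        rwa [show c⁻¹ * (c * a * c⁻¹) * c = a by group] at h7
      · exact h5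
    rw [show s * c * a * (s * c)⁻¹ * a⁻¹ =
      (s * (c * a * c⁻¹ * a⁻¹) * s⁻¹) * (s * a * s⁻¹ * a⁻¹) by group, ← hs.2.2 a haR.1,
      mul_inv_cancel_right, mul_inv_cancel, mul_one, hca.2.2 s hs.1, mul_inv_cancel_right]
    exact hca
  · refine hq _ ?_ h.symm
    have hca : c * a * c⁻¹ * a⁻¹ ∈ S.Y := by
      refine hSY ?_
      have hRn : c * a * c⁻¹ ∈ R := by
        refine ⟨S.Q.mul_mem (S.Q.mul_mem hcR'.1 haR.1) (S.Q.inv_mem hcR'.1), mem_cj.mpr ?_⟩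
        have hp' : S.y⁻¹ * c * S.y ∈ S.P := by rw [← mem_cj, S.cjP]; exact S.hQP hcR'.1
        have := S.hQn _ (S.hPH hp') _ (mem_cj.mp haR.2)
        simpa [mul_assoc] using this
      rcases hRdec _ hRn with h5 | h5
      · exfalso
        apply ha
        have h6 := h5.2.2
        have h7 := (cj g S.Q).mul_mem ((cj g S.Q).mul_mem ((cj g S.Q).inv_mem hcR'.2) h6) hcR'.2
        rwa [show c⁻¹ * (c * a * c⁻¹) * c = a by group] at h7
      · exact h5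
    have hsa : s * a ∈ S.Q := mul_mem hs.1 haR.1
    rw [show s * a * c * a * (s * a * c)⁻¹ * a⁻¹ =
      ((s * a) * (c * a * c⁻¹ * a⁻¹) * (s * a)⁻¹) * (s * a * a * (s * a)⁻¹ * a⁻¹) by group,
      hca.2.2 _ hsa, mul_inv_cancel_right,
      show s * a * a * (s * a)⁻¹ * a⁻¹ = s * a * s⁻¹ * a⁻¹ by group, ← hs.2.2 a haR.1,
      mul_inv_cancel_right, mul_inv_cancel, mul_one]
    exact hca

end H36.Amal
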