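import Mathlib.GroupTheory.SpecificGroups.Dihedral
import Mathlib.GroupTheory.SpecificGroups.KleinFour
import Mathlib.GroupTheory.Transfer
import Mathlib.GroupTheory.SchurZassenhaus
import Cfsg.Prelude
import Cfsg.Agent.H1.Cores
import Cfsg.Agent.H2.Gaschutz
import Cfsg.Agent.H39.KleinNormalizer
import Cfsg.Agent.H36.Amalgam

/-!
The groups arising in `H36.Amal`: modulo the odd core they are `V₄`, `S₄` or `S₄ × C₂`.
-/

set_option autoImplicit false
set_option linter.unusedSectionVars false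

namespace H36.AmalShape

open Subgroup Pointwise

/-- Quotient by the odd core. -/
theorem quot_oddCore {L M : Type*} [Group L] [Group M] [Finite L] (f : L →* M)
    (hf : Function.Surjective f) (hker : (Nat.card f.ker).Coprime 2)
    (hM : Cfsg.oddCore M = ⊥) : Nonempty (L ⧸ Cfsg.oddCore L ≃* M) := by
  haveI : Finite M := Finite.of_surjective f hf
  haveI := H1.pPrimeCore_normal' 2 L
  have he : Cfsg.oddCore L = f.ker := by
    refine le_antisymm ?_ (H1.le_pPrimeCore hker)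
    intro x hx
    have h := H1.map_pPrimeCore_le_of_surjective 2 f hf ⟨x, hx, rfl⟩
    rw [show Cfsg.pPrimeCore 2 M = Cfsg.oddCore M from rfl, hM, mem_bot] at h
    exact h
  exact ⟨(QuotientGroup.quotientMulEquivOfEq he).trans
    (QuotientGroup.quotientKerEquivOfSurjective f hf)⟩

/-- Data of the main case. -/
structure Data (L : Type*) [Group L] where
  n : ℕ
  hn : Odd n
  φ : L →* DihedralGroup n
  hφ : Function.Surjective φ
  Z0 : Subgroup L
  z1 : L
  u : L
  d : L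
  hY : ∀ a ∈ φ.ker, a * a = 1
  hZY : Z0 ≤ φ.ker
  hZc : ∀ x ∈ Z0, ∀ g, g * x = x * g
  hZ2 : Nat.card Z0 ≤ 2
  hYcard : Nat.card φ.ker = 4 * Nat.card Z0
  hz1 : z1 ∈ φ.ker
  hd : φ d = DihedralGroup.r 1
  hu : ∃ i, φ u = DihedralGroup.sr i
  hu2 : u * u = 1
  huz : u * z1 * u⁻¹ = z1
  huv : u * (d * z1 * d⁻¹) * u⁻¹ = d * z1 * d⁻¹ * z1
  hz10 : z1 ∉ Z0
  hv0 : d * z1 * d⁻¹ ∉ Z0
  hvz : d * z1 * d⁻¹ * z1 ∉ Z0
  hcover : ∀ w ∈ φ.ker, ∃ c ∈ Z0, w = c ∨ w = z1 * c ∨ w = d * z1 * d⁻¹ * c ∨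
    w = d * z1 * d⁻¹ * z1 * c

variable {L : Type*} [Group L] [Finite L] (D : Data L)

/-- The second element of the four-group. -/
def Data.v : L := D.d * D.z1 * D.d⁻¹

theorem Data.hv : D.v ∈ D.φ.ker := D.φ.normal_ker.conj_mem _ D.hz1 D.d

theorem Data.comm {a b : L} (ha : a ∈ D.φ.ker) (hb : b ∈ D.φ.ker) : a * b = b * a :=
  H36.Amal.comm_of_exp_two D.hY a ha b hb

theorem Data.n_ne : D.n ≠ 0 := by
  obtain ⟨k, hk⟩ := D.hn
  omega

theorem Data.hdn : D.d ^ D.n ∈ D.φ.ker := by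
  rw [MonoidHom.mem_ker, map_pow, D.hd, DihedralGroup.r_one_pow_n]

theorem Data.d_fix_n {w : L} (hw : w ∈ D.φ.ker) : D.d ^ D.n * w * (D.d ^ D.n)⁻¹ = w := by
  rw [D.comm D.hdn hw, mul_inv_cancel_right]

theorem Data.v_ne : D.v ≠ D.z1 := by
  intro h
  apply D.hvz
  show D.v * D.z1 ∈ D.Z0
  rw [h, D.hY _ D.hz1]
  exact one_mem _

theorem Data.d_v : ∃ c ∈ D.Z0, D.d * D.v * D.d⁻¹ = D.v * D.z1 * c := by
  obtain ⟨c, hc, h | h | h | h⟩ := D.hcover _ (D.φ.normal_ker.conj_mem _ D.hv D.d)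
  · exfalso
    apply D.hv0
    have h2 : D.v = D.d⁻¹ * c * D.d := by rw [← h]; group
    show D.v ∈ D.Z0
    rw [h2, D.hZc c hc D.d⁻¹, mul_assoc, inv_mul_cancel, mul_one]
    exact hc
  · exfalso
    -- `d⁴` fixes `z1`, hence so does `d`
    have h2 : D.d ^ 2 * D.z1 * (D.d ^ 2)⁻¹ = D.z1 * c := by
      rw [← h, Data.v, pow_two]; group
    have h4 : D.d ^ 4 * D.z1 * (D.d ^ 4)⁻¹ = D.z1 := by
      calc D.d ^ 4 * D.z1 * (D.d ^ 4)⁻¹
          = D.d ^ 2 * (D.d ^ 2 * D.z1 * (D.d ^ 2)⁻¹) * (D.d ^ 2)⁻¹ := by group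
        _ = D.d ^ 2 * (D.z1 * c) * (D.d ^ 2)⁻¹ := by rw [h2]
        _ = (D.d ^ 2 * D.z1 * (D.d ^ 2)⁻¹) * (D.d ^ 2 * c * (D.d ^ 2)⁻¹) := by group
        _ = D.z1 := by
          rw [h2, D.hZc c hc (D.d ^ 2), mul_inv_cancel_right, mul_assoc, D.hY c (D.hZY hc), mul_one]
    have h4j : ∀ j : ℕ, D.d ^ (4 * j) * D.z1 * (D.d ^ (4 * j))⁻¹ = D.z1 := by
      intro j
      induction j with
      | zero => simp
      | succ j ih =>
        calc D.d ^ (4 * (j + 1)) * D.z1 * (D.d ^ (4 * (j + 1)))⁻¹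
            = D.d ^ 4 * (D.d ^ (4 * j) * D.z1 * (D.d ^ (4 * j))⁻¹) * (D.d ^ 4)⁻¹ := by
              rw [show 4 * (j + 1) = 4 + 4 * j by omega, pow_add]; group
          _ = D.z1 := by rw [ih, h4]
    apply D.v_ne
    have hfix := D.d_fix_n D.hz1
    obtain ⟨k, hk⟩ := D.hn
    rcases Nat.even_or_odd' k with ⟨j, rfl | rfl⟩
    · rw [show D.n = 1 + 4 * j by omega, pow_add, pow_one] at hfix
      calc D.v = D.d * (D.d ^ (4 * j) * D.z1 * (D.d ^ (4 * j))⁻¹) * D.d⁻¹ := by rw [h4j]; rfl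
        _ = D.z1 := by conv_rhs => rw [← hfix]
                       group
    · calc D.v = D.d * (D.d ^ D.n * D.z1 * (D.d ^ D.n)⁻¹) * D.d⁻¹ := by rw [hfix]; rfl
        _ = D.d ^ (4 * (j + 1)) * D.z1 * (D.d ^ (4 * (j + 1)))⁻¹ := by
          rw [show 4 * (j + 1) = 1 + D.n by omega, pow_add, pow_one]; group
        _ = D.z1 := h4j _
  · exfalso
    apply D.hvz
    have h2 : D.v = D.z1 * (D.d⁻¹ * c * D.d) := by
      have e : D.d * D.v * D.d⁻¹ = D.d * (D.z1 * (D.d⁻¹ * c * D.d)) * D.d⁻¹ := by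
        rw [h, show D.d * D.z1 * D.d⁻¹ = D.v from rfl]
        show D.v * c = _
        rw [Data.v]; group
      exact mul_left_cancel (mul_right_cancel e)
    show D.v * D.z1 ∈ D.Z0
    rw [D.hZc c hc D.d⁻¹, mul_assoc, inv_mul_cancel, mul_one] at h2
    rw [h2, mul_assoc, D.comm (D.hZY hc) D.hz1, ← mul_assoc, D.hY _ D.hz1, one_mul]
    exact hc
  · exact ⟨c, hc, h⟩

theorem Data.d_three {w : L} (hw : w ∈ D.φ.ker) : D.d ^ 3 * w * (D.d ^ 3)⁻¹ = w := by
  obtain ⟨c, hc, h⟩ := D.d_v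
  have hz : D.d ^ 3 * D.z1 * (D.d ^ 3)⁻¹ = D.z1 := by
    have hzc : D.z1 * c ∈ D.φ.ker := mul_mem D.hz1 (D.hZY hc)
    calc D.d ^ 3 * D.z1 * (D.d ^ 3)⁻¹ = D.d * (D.d * D.v * D.d⁻¹) * D.d⁻¹ := by
          rw [Data.v, pow_succ, pow_succ, pow_one]; group
      _ = D.d * (D.v * D.z1 * c) * D.d⁻¹ := by rw [h]
      _ = (D.d * D.v * D.d⁻¹) * (D.d * D.z1 * D.d⁻¹) * (D.d * c * D.d⁻¹) := by group
      _ = D.v * (D.z1 * c) * D.v * c := by
          rw [D.hZc c hc D.d, mul_inv_cancel_right, h, show D.d * D.z1 * D.d⁻¹ = D.v from rfl,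
            mul_assoc D.v D.z1 c]
      _ = D.z1 := by
          rw [mul_assoc D.v (D.z1 * c) D.v, D.comm hzc D.hv, ← mul_assoc D.v D.v, D.hY _ D.hv,
            one_mul, mul_assoc, D.hY c (D.hZY hc), mul_one]
  have hv3 : D.d ^ 3 * D.v * (D.d ^ 3)⁻¹ = D.v := by
    calc D.d ^ 3 * D.v * (D.d ^ 3)⁻¹ = D.d * (D.d ^ 3 * D.z1 * (D.d ^ 3)⁻¹) * D.d⁻¹ := by
          rw [Data.v]; group
      _ = D.v := by rw [hz]; rfl
  let K : Subgroup L :=
    { carrier := {x | D.d ^ 3 * x * (D.d ^ 3)⁻¹ = x}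
      one_mem' := by simp
      mul_mem' := fun {a b} ha hb => by
        simp only [Set.mem_setOf_eq] at ha hb ⊢
        rw [show D.d ^ 3 * (a * b) * (D.d ^ 3)⁻¹ =
          (D.d ^ 3 * a * (D.d ^ 3)⁻¹) * (D.d ^ 3 * b * (D.d ^ 3)⁻¹) by group, ha, hb]
      inv_mem' := fun {a} ha => by
        simp only [Set.mem_setOf_eq] at ha ⊢
        rw [show D.d ^ 3 * a⁻¹ * (D.d ^ 3)⁻¹ = (D.d ^ 3 * a * (D.d ^ 3)⁻¹)⁻¹ by group, ha] }
  have hzK : ∀ {x}, x ∈ D.Z0 → x ∈ K := fun {x} hx => by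
    show D.d ^ 3 * x * (D.d ^ 3)⁻¹ = x
    rw [D.hZc x hx, mul_inv_cancel_right]
  obtain ⟨e, he, rfl | rfl | rfl | rfl⟩ := D.hcover w hw
  · exact hzK he
  · exact K.mul_mem hz (hzK he)
  · exact K.mul_mem hv3 (hzK he)
  · exact K.mul_mem (K.mul_mem hv3 hz) (hzK he)

theorem Data.d_pow {w : L} (hw : w ∈ D.φ.ker) (a : ℕ) :
    D.d ^ a * w * (D.d ^ a)⁻¹ = D.d ^ (a % 3) * w * (D.d ^ (a % 3))⁻¹ := by
  induction a using Nat.strong_induction_on with
  | _ a ih =>
    rcases Nat.lt_or_ge a 3 with h | h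
    · rw [Nat.mod_eq_of_lt h]
    · have e : a = 3 + (a - 3) := by omega
      have hw' := D.φ.normal_ker.conj_mem _ hw (D.d ^ (a - 3))
      calc D.d ^ a * w * (D.d ^ a)⁻¹
          = D.d ^ 3 * (D.d ^ (a - 3) * w * (D.d ^ (a - 3))⁻¹) * (D.d ^ 3)⁻¹ := by
            conv_lhs => rw [e, pow_add]
            group
        _ = D.d ^ (a % 3) * w * (D.d ^ (a % 3))⁻¹ := by
            rw [D.d_three hw', ih (a - 3) (by omega), show (a - 3) % 3 = a % 3 by omega]

theorem Data.rot {a : ℕ} (h : D.d ^ a * D.z1 * (D.d ^ a)⁻¹ * D.z1⁻¹ ∈ D.Z0) : 3 ∣ a := by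
  have hzi : D.z1⁻¹ = D.z1 := inv_eq_of_mul_eq_one_right (D.hY _ D.hz1)
  rw [D.d_pow D.hz1, hzi] at h
  have h3 : a % 3 < 3 := Nat.mod_lt _ (by norm_num)
  interval_cases hr : a % 3
  · exact Nat.dvd_of_mod_eq_zero hr
  · exact absurd (by simpa using h) D.hvz
  · exfalso
    obtain ⟨c, hc, hdv⟩ := D.d_v
    rw [show D.d ^ 2 * D.z1 * (D.d ^ 2)⁻¹ = D.d * D.v * D.d⁻¹ by rw [Data.v, pow_two]; group, hdv,
      mul_assoc _ c D.z1, D.comm (D.hZY hc) D.hz1, ← mul_assoc, mul_assoc D.v D.z1 D.z1,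
      D.hY _ D.hz1, mul_one] at h
    exact D.hv0 ((mul_mem_cancel_right hc).mp h)

theorem Data.three_dvd : 3 ∣ D.n :=
  D.rot (by rw [D.d_fix_n D.hz1, mul_inv_cancel]; exact one_mem _)

/-- Every element is `q d^a` or `q d^a u`. -/
theorem Data.normalForm (x : L) : ∃ q ∈ D.φ.ker, ∃ a : ℕ,
    x = q * D.d ^ a ∨ x = q * D.d ^ a * D.u := by
  haveI : NeZero D.n := ⟨D.n_ne⟩
  obtain ⟨i0, hi0⟩ := D.hu
  cases hx : D.φ x with
  | r i =>
    refine ⟨x * (D.d ^ i.val)⁻¹, ?_, i.val, Or.inl (by group)⟩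
    rw [MonoidHom.mem_ker, map_mul, map_inv, map_pow, D.hd, hx, DihedralGroup.r_one_pow,
      ZMod.natCast_zmod_val, mul_inv_cancel]
  | sr i =>
    refine ⟨x * D.u⁻¹ * (D.d ^ (i0 - i).val)⁻¹, ?_, (i0 - i).val, Or.inr (by group)⟩
    rw [MonoidHom.mem_ker, map_mul, map_mul, map_inv, map_inv, map_pow, D.hd, hx, hi0,
      DihedralGroup.r_one_pow, ZMod.natCast_zmod_val, DihedralGroup.inv_sr,
      DihedralGroup.sr_mul_sr, mul_inv_cancel]

/-- The centraliser of the four-group. -/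
def Data.C : Subgroup L := centralizer (D.φ.ker : Set L)

theorem Data.mem_C_of_dvd {x q : L} {a : ℕ} (hq : q ∈ D.φ.ker) (ha : 3 ∣ a)
    (hx : x = q * D.d ^ a) : x ∈ D.C := by
  refine mem_centralizer_iff.mpr fun w hw => ?_
  have h := D.d_pow hw a
  rw [Nat.mod_eq_zero_of_dvd ha, pow_zero, one_mul, inv_one, mul_one] at h
  rw [hx, ← mul_assoc, D.comm hw hq, mul_assoc, ← mul_inv_eq_iff_eq_mul.mp h, mul_assoc]

theorem Data.key {x : L} (hx : ∀ w ∈ D.φ.ker, x * w * x⁻¹ * w⁻¹ ∈ D.Z0) :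
    x ∈ D.C ∧ ∃ a : ℕ, 3 ∣ a ∧ D.φ x = DihedralGroup.r (a : ZMod D.n) := by
  obtain ⟨q, hq, a, rfl | rfl⟩ := D.normalForm x
  · have ha : 3 ∣ a := D.rot (by
      have h := hx _ D.hz1
      have hw := D.φ.normal_ker.conj_mem _ D.hz1 (D.d ^ a)
      rwa [show q * D.d ^ a * D.z1 * (q * D.d ^ a)⁻¹ = q * (D.d ^ a * D.z1 * (D.d ^ a)⁻¹) * q⁻¹
        by group, D.comm hq hw, mul_inv_cancel_right] at h)
    refine ⟨D.mem_C_of_dvd hq ha rfl, a, ha, ?_⟩
    rw [map_mul, MonoidHom.mem_ker.mp hq, one_mul, map_pow, D.hd, DihedralGroup.r_one_pow]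
  · exfalso
    have hconj : ∀ w ∈ D.φ.ker, q * D.d ^ a * D.u * w * (q * D.d ^ a * D.u)⁻¹ =
        D.d ^ a * (D.u * w * D.u⁻¹) * (D.d ^ a)⁻¹ := by
      intro w hw
      have hw' := D.φ.normal_ker.conj_mem _ (D.φ.normal_ker.conj_mem _ hw D.u) (D.d ^ a)
      calc q * D.d ^ a * D.u * w * (q * D.d ^ a * D.u)⁻¹
          = q * (D.d ^ a * (D.u * w * D.u⁻¹) * (D.d ^ a)⁻¹) * q⁻¹ := by group
        _ = _ := by rw [D.comm hq hw', mul_inv_cancel_right]
    have h := hx _ D.hz1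
    rw [hconj _ D.hz1, D.huz] at h
    have ha := D.rot h
    have h2 := hx _ D.hv
    rw [hconj _ D.hv, show D.u * D.v * D.u⁻¹ = D.v * D.z1 from D.huv,
      D.d_pow (mul_mem D.hv D.hz1), Nat.mod_eq_zero_of_dvd ha, pow_zero, one_mul, inv_one, mul_one,
      D.comm D.hv D.hz1, mul_inv_cancel_right] at h2
    exact D.hz10 h2

theorem Data.key_C {x : L} (hx : x ∈ D.C) : ∀ w ∈ D.φ.ker, x * w * x⁻¹ * w⁻¹ ∈ D.Z0 := by
  intro w hw
  rw [← mem_centralizer_iff.mp hx w hw, mul_inv_cancel_right, mul_inv_cancel]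
  exact one_mem _

theorem Data.ker_le_C : D.φ.ker ≤ D.C :=
  fun _ ha => mem_centralizer_iff.mpr fun _ hw => D.comm hw ha

theorem Data.map_C : D.C.map D.φ = zpowers (D.φ (D.d ^ 3)) := by
  refine le_antisymm ?_ ?_
  · rintro _ ⟨x, hx, rfl⟩
    obtain ⟨-, a, ⟨k, rfl⟩, h⟩ := D.key (D.key_C hx)
    rw [h, ← DihedralGroup.r_one_pow, pow_mul, ← D.hd, ← map_pow]
    exact pow_mem (mem_zpowers _) k
  · rw [zpowers_le]
    exact ⟨D.d ^ 3, D.mem_C_of_dvd (one_mem _) dvd_rfl (one_mul _).symm, rfl⟩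

theorem Data.card_C : Nat.card D.C = Nat.card D.φ.ker * (D.n / 3) := by
  have h1 : D.φ.ker.relIndex D.C = D.n / 3 := by
    rw [relIndex_ker, D.map_C, Nat.card_zpowers, map_pow, D.hd, orderOf_pow',
      DihedralGroup.orderOf_r_one, Nat.gcd_eq_right D.three_dvd]
    norm_num
  rw [← h1, ← relIndex_bot_left, ← relIndex_bot_left,
    relIndex_mul_relIndex ⊥ _ _ bot_le D.ker_le_C]

theorem Data.card_L : Nat.card L = Nat.card D.φ.ker * (2 * D.n) := by
  rw [← D.φ.ker.card_mul_index, index_ker, MonoidHom.range_eq_top.mpr D.hφ, card_top,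
    DihedralGroup.nat_card]

theorem Data.card_Z0 : Nat.card D.Z0 = 1 ∨ Nat.card D.Z0 = 2 := by
  have := D.hZ2
  have : 0 < Nat.card D.Z0 := Nat.card_pos
  omega

theorem Data.coprime_ker : (Nat.card D.φ.ker).Coprime (D.n / 3) := by
  have hm : Odd (D.n / 3) := Odd.of_dvd_nat D.hn (Nat.div_dvd_of_dvd D.three_dvd)
  rw [D.hYcard]
  refine Nat.Coprime.mul_left ?_ ?_
  · exact (Nat.Coprime.pow_left 2 (Nat.coprime_two_left.mpr hm) : Nat.Coprime (2 ^ 2) _)
  · rcases D.card_Z0 with h | h <;> rw [h]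
    · exact Nat.coprime_one_left _
    · exact Nat.coprime_two_left.mpr hm

/-- The odd part of the centraliser. -/
theorem Data.exists_O : ∃ O : Subgroup L, O.Normal ∧ O ≤ D.C ∧ Nat.card O = D.n / 3 ∧
    O ⊓ D.φ.ker = ⊥ ∧ (∀ x ∈ D.C, ∃ a ∈ D.φ.ker, ∃ o ∈ O, x = a * o) := by
  set m := D.n / 3 with hm
  haveI : (D.φ.ker.subgroupOf D.C).Normal := D.φ.normal_ker.subgroupOf _
  have hN : Nat.card (D.φ.ker.subgroupOf D.C) = Nat.card D.φ.ker :=
    Nat.card_congr (subgroupOfEquivOfLe D.ker_le_C).toEquiv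
  have hidx : (D.φ.ker.subgroupOf D.C).index = m := by
    have h := (D.φ.ker.subgroupOf D.C).card_mul_index
    rw [hN, D.card_C] at h
    exact Nat.eq_of_mul_eq_mul_left Nat.card_pos h
  obtain ⟨O1, hO1⟩ := exists_right_complement'_of_coprime (N := D.φ.ker.subgroupOf D.C)
    (by rw [hN, hidx]; exact D.coprime_ker)
  set O := O1.map D.C.subtype with hO
  have hOC : O ≤ D.C := map_subtype_le _
  have hcard : Nat.card O = m := by
    rw [hO, card_map_of_injective D.C.subtype_injective, ← hO1.symm.index_eq_card, hidx]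
  have hdec : ∀ x ∈ D.C, ∃ a ∈ D.φ.ker, ∃ o ∈ O, x = a * o := by
    intro x hx
    obtain ⟨⟨⟨a, ha⟩, ⟨o, ho⟩⟩, h⟩ := hO1.2 ⟨x, hx⟩
    exact ⟨a, ha, o, ⟨o, ho, rfl⟩, (congrArg Subtype.val h).symm⟩
  have hinf : O ⊓ D.φ.ker = ⊥ :=
    inf_eq_bot_of_coprime (by rw [hcard]; exact D.coprime_ker.symm)
  have hpow : ∀ o ∈ O, o ^ m = 1 := fun o ho => by
    have := pow_card_eq_one' (x := (⟨o, ho⟩ : O))
    rw [hcard] at this
    exact congrArg Subtype.val this
  refine ⟨O, ⟨fun o ho g => ?_⟩, hOC, hcard, hinf, hdec⟩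
  haveI : D.C.Normal := Subgroup.normal_centralizer
  obtain ⟨a, ha, o', ho', h⟩ := hdec _ (Subgroup.Normal.conj_mem ‹_› o (hOC ho) g)
  have h1 : (g * o * g⁻¹) ^ m = 1 := by rw [conj_pow, hpow o ho]; group
  have hcom : Commute a o' := mem_centralizer_iff.mp (hOC ho') a ha
  rw [h, hcom.mul_pow, hpow o' ho', mul_one] at h1
  have hma : Odd m := Odd.of_dvd_nat D.hn (Nat.div_dvd_of_dvd D.three_dvd)
  obtain ⟨k, hk⟩ := hma
  rw [hk, pow_succ, pow_mul, pow_two, D.hY a ha, one_pow, one_mul] at h1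
  rw [h, h1, one_mul]
  exact ho'

/-- The four elements `1, z1, v, v z1`. -/
def Data.A0 : Subgroup L where
  carrier := {x | x = 1 ∨ x = D.z1 ∨ x = D.v ∨ x = D.v * D.z1}
  one_mem' := Or.inl rfl
  mul_mem' := by
    have e1 : D.z1 * D.z1 = 1 := D.hY _ D.hz1
    have e2 : D.v * D.v = 1 := D.hY _ D.hv
    have e3 : D.z1 * D.v = D.v * D.z1 := D.comm D.hz1 D.hv
    have e4 : ∀ x, D.z1 * (D.z1 * x) = x := fun x => by rw [← mul_assoc, e1, one_mul]
    have e5 : ∀ x, D.v * (D.v * x) = x := fun x => by rw [← mul_assoc, e2, one_mul]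
    have e6 : ∀ x, D.z1 * (D.v * x) = D.v * (D.z1 * x) := fun x => by
      rw [← mul_assoc, e3, mul_assoc]
    rintro a b (rfl | rfl | rfl | rfl) (rfl | rfl | rfl | rfl) <;>
      simp [mul_assoc, e1, e2, e3, e4, e5, e6]
  inv_mem' := by
    have e1 : D.z1⁻¹ = D.z1 := inv_eq_of_mul_eq_one_right (D.hY _ D.hz1)
    have e2 : D.v⁻¹ = D.v := inv_eq_of_mul_eq_one_right (D.hY _ D.hv)
    rintro a (rfl | rfl | rfl | rfl)
    · simp
    · simp [e1]
    · simp [e2]
    · simp [e1, e2, D.comm D.hz1 D.hv]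

theorem Data.A0_le : D.A0 ≤ D.φ.ker := by
  rintro a (rfl | rfl | rfl | rfl)
  exacts [one_mem _, D.hz1, D.hv, mul_mem D.hv D.hz1]

theorem Data.A0_Z0 {a : L} (ha : a ∈ D.A0) (hz : a ∈ D.Z0) : a = 1 := by
  rcases ha with rfl | rfl | rfl | rfl
  · rfl
  · exact absurd hz D.hz10
  · exact absurd hz D.hv0
  · exact absurd hz D.hvz

theorem Data.u_conj {a : L} (ha : a ∈ D.A0) : D.u * a * D.u⁻¹ ∈ D.A0 := by
  rcases ha with rfl | rfl | rfl | rfl
  · simp [one_mem]
  · rw [D.huz]; exact Or.inr (Or.inl rfl)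
  · rw [show D.u * D.v * D.u⁻¹ = D.v * D.z1 from D.huv]; exact Or.inr (Or.inr (Or.inr rfl))
  · rw [show D.u * (D.v * D.z1) * D.u⁻¹ = (D.u * D.v * D.u⁻¹) * (D.u * D.z1 * D.u⁻¹) by group,
      show D.u * D.v * D.u⁻¹ = D.v * D.z1 from D.huv, D.huz, mul_assoc, D.hY _ D.hz1, mul_one]
    exact Or.inr (Or.inr (Or.inl rfl))

theorem oddCore_eq_bot_of_le {M : Type*} [Group M] [Finite M] (N : Subgroup M) [N.Normal]
    (hN : ¬ (Nat.card N).Coprime 2 ∨ N = ⊥) (hN2 : IsPGroup 2 N)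
    (h : centralizer (N : Set M) ≤ N) : Cfsg.oddCore M = ⊥ := by
  haveI := H1.pPrimeCore_normal' 2 M
  have hc := H1.card_pPrimeCore_coprime 2 M
  have hd : Disjoint (Cfsg.pPrimeCore 2 M) N := by
    rw [disjoint_iff]
    obtain ⟨k, hk⟩ := IsPGroup.iff_card.mp hN2
    exact inf_eq_bot_of_coprime (by rw [hk]; exact hc.pow_right k)
  have hle : Cfsg.pPrimeCore 2 M ≤ N := fun x hx =>
    h (mem_centralizer_iff.mpr fun w hw =>
      (commute_of_normal_of_disjoint _ _ inferInstance inferInstance hd x w hx hw).symm)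
  exact le_bot_iff.mp (hd le_rfl hle)

theorem Data.main (D : Data L) : Nonempty (L ⧸ Cfsg.oddCore L ≃* Equiv.Perm (Fin 4)) ∨
    Nonempty (L ⧸ Cfsg.oddCore L ≃* Equiv.Perm (Fin 4) × Multiplicative (ZMod 2)) := by
  obtain ⟨O, hOn, hOC, hOcard, hOY, hdec⟩ := D.exists_O
  haveI := hOn
  set q := QuotientGroup.mk' O with hq
  have hqs : Function.Surjective q := QuotientGroup.mk'_surjective O
  have hqeq : ∀ {x}, q x = 1 ↔ x ∈ O := fun {x} => QuotientGroup.eq_one_iff x
  set m := D.n / 3 with hm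
  have hn3 : D.n = 3 * m := (Nat.mul_div_cancel' D.three_dvd).symm
  have hm0 : 0 < m := hOcard ▸ Nat.card_pos
  have hcardM : Nat.card (L ⧸ O) = 24 * Nat.card D.Z0 := by
    have h := O.card_mul_index
    rw [D.card_L, hOcard, D.hYcard, hn3] at h
    change m * Nat.card (L ⧸ O) = _ at h
    refine Nat.eq_of_mul_eq_mul_left hm0 ?_
    rw [h]; ring
  have hinj : ∀ {S : Subgroup L}, S ≤ D.φ.ker → Nat.card (S.map q) = Nat.card S := by
    intro S hS
    rw [← relIndex_ker, QuotientGroup.ker_mk', ← inf_relIndex_right,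
      le_bot_iff.mp (le_of_le_of_eq (inf_le_inf_left O hS) hOY), relIndex_bot_left]
  haveI : D.Z0.Normal := ⟨fun x hx g => by rw [D.hZc x hx g, mul_inv_cancel_right]; exact hx⟩
  set Z := D.Z0.map q with hZ
  haveI : Z.Normal := Subgroup.Normal.map inferInstance q hqs
  set Y := D.φ.ker.map q with hY
  haveI : Y.Normal := Subgroup.Normal.map inferInstance q hqs
  set q' := QuotientGroup.mk' Z with hq'
  have hq's : Function.Surjective q' := QuotientGroup.mk'_surjective Z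
  set W := Y.map q' with hW
  haveI : W.Normal := Subgroup.Normal.map inferInstance q' hq's
  have hcard24 : Nat.card ((L ⧸ O) ⧸ Z) = 24 := by
    have h := Z.card_mul_index
    rw [hcardM, hinj D.hZY] at h
    change Nat.card D.Z0 * Nat.card ((L ⧸ O) ⧸ Z) = _ at h
    rw [mul_comm 24] at h
    exact Nat.eq_of_mul_eq_mul_left Nat.card_pos h
  have hWcard : Nat.card W = 4 := by
    have h : Z.relIndex Y = Nat.card W := by
      rw [hW, ← relIndex_ker, QuotientGroup.ker_mk']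
    have h2 := relIndex_mul_relIndex ⊥ Z Y bot_le (map_mono D.hZY)
    rw [relIndex_bot_left, relIndex_bot_left, h, hinj le_rfl, hinj D.hZY, D.hYcard,
      mul_comm 4] at h2
    exact Nat.eq_of_mul_eq_mul_left Nat.card_pos h2
  have hWsq : ∀ w ∈ W, w * w = 1 := by
    rintro _ ⟨_, ⟨a, ha, rfl⟩, rfl⟩
    rw [← map_mul, ← map_mul, D.hY a ha, map_one, map_one]
  have hK : IsKleinFour W := by
    refine ⟨hWcard, ?_⟩
    refine ((Nat.dvd_prime Nat.prime_two).mp (Monoid.exponent_dvd_of_forall_pow_eq_one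
      fun w => ?_)).resolve_left fun h => ?_
    · exact Subtype.ext (by rw [pow_two, Subgroup.coe_mul]; exact hWsq _ w.2)
    · haveI := Monoid.exp_eq_one_iff.mp h
      rw [Nat.card_of_subsingleton (1 : W)] at hWcard
      omega
  have hYC : ∀ {x : L}, x ∈ D.C → q x ∈ Y := by
    intro x hx
    obtain ⟨a, ha, o, ho, rfl⟩ := hdec x hx
    exact ⟨a, ha, by rw [map_mul, hqeq.mpr ho, mul_one]⟩
  have hself : ∀ g : (L ⧸ O) ⧸ Z, (∀ w ∈ W, g * w * g⁻¹ = w) → g ∈ W := by
    intro g hg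
    obtain ⟨y, rfl⟩ := hq's g
    obtain ⟨x, rfl⟩ := hqs y
    refine ⟨q x, hYC (D.key fun w hw => ?_).1, rfl⟩
    have h := hg _ ⟨q w, ⟨w, hw, rfl⟩, rfl⟩
    rw [← mul_inv_eq_one, ← map_inv, ← map_inv, ← map_mul, ← map_mul, ← map_mul, ← map_inv,
      ← map_inv, ← map_mul, ← map_mul, ← map_mul] at h
    obtain ⟨z, hz, hzx⟩ := (QuotientGroup.eq_one_iff (N := Z) _).mp h
    have hmem : x * w * x⁻¹ * w⁻¹ ∈ D.φ.ker :=
      mul_mem (D.φ.normal_ker.conj_mem _ hw x) (inv_mem hw)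
    have h2 : (x * w * x⁻¹ * w⁻¹) * z⁻¹ ∈ O ⊓ D.φ.ker :=
      ⟨hqeq.mp (by rw [map_mul, map_inv, hzx]; exact mul_inv_cancel _),
        D.φ.ker.mul_mem hmem (D.φ.ker.inv_mem (D.hZY hz))⟩
    rw [hOY, mem_bot, mul_inv_eq_one] at h2
    rw [h2]
    exact hz
  obtain ⟨e⟩ := H39.perm4_of_klein hK hself hcard24
  have hodd : Cfsg.oddCore (L ⧸ O) = ⊥ := by
    refine oddCore_eq_bot_of_le Y (Or.inl fun h => ?_) ?_ ?_
    · rw [hinj le_rfl, D.hYcard, Nat.coprime_mul_iff_left] at h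
      exact absurd h.1 (by norm_num)
    · refine IsPGroup.iff_card.mpr ?_
      rcases D.card_Z0 with h | h
      · exact ⟨2, by rw [hinj le_rfl, D.hYcard, h]; norm_num⟩
      · exact ⟨3, by rw [hinj le_rfl, D.hYcard, h]; norm_num⟩
    · intro y hy
      obtain ⟨x, rfl⟩ := hqs y
      refine hYC (mem_centralizer_iff.mpr fun w hw => ?_)
      have h := mem_centralizer_iff.mp hy _ ⟨w, hw, rfl⟩
      have h2 : x * w * x⁻¹ * w⁻¹ ∈ O ⊓ D.φ.ker :=
        ⟨hqeq.mp (by rw [map_mul, map_mul, map_mul, map_inv, map_inv, ← h]; group),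
          D.φ.ker.mul_mem (D.φ.normal_ker.conj_mem _ hw x) (D.φ.ker.inv_mem hw)⟩
      rw [hOY, mem_bot, mul_inv_eq_one, mul_inv_eq_iff_eq_mul] at h2
      exact h2.symm
  obtain ⟨f⟩ := quot_oddCore q hqs (by
    rw [QuotientGroup.ker_mk', hOcard]
    exact (Nat.coprime_two_right.mpr (Odd.of_dvd_nat D.hn (Dvd.intro_left 3 hn3.symm)))) hodd
  rcases D.card_Z0 with hz | hz
  · left
    have hZ1 : Z = ⊥ := by rw [← card_eq_one, hinj D.hZY, hz]
    exact ⟨f.trans (((QuotientGroup.quotientMulEquivOfEq hZ1).trans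
      QuotientGroup.quotientBot).symm.trans e)⟩
  right
  have hnrm : zpowers D.u ≤ normalizer (D.A0 : Set L) := by
    rw [zpowers_le, mem_normalizer_iff]
    intro a
    refine ⟨fun ha => D.u_conj ha, fun ha => ?_⟩
    have := D.u_conj ha
    rwa [show D.u * (D.u * a * D.u⁻¹) * D.u⁻¹ = (D.u * D.u) * a * (D.u * D.u)⁻¹ by group, D.hu2,
      one_mul, inv_one, mul_one] at this
  set A := D.A0 ⊔ zpowers D.u with hA
  obtain ⟨i0, hi0⟩ := D.hu
  have hup : ∀ k : ℤ, D.u ^ k = 1 ∨ D.u ^ k = D.u := fun k => by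
    rcases Int.even_or_odd' k with ⟨j, rfl | rfl⟩
    · left; rw [zpow_mul, zpow_two, D.hu2, one_zpow]
    · right; rw [zpow_add, zpow_mul, zpow_two, D.hu2, one_zpow, one_mul, zpow_one]
  have hsup : D.Z0 ⊔ A = D.φ.ker ⊔ zpowers D.u := by
    rw [hA, ← sup_assoc]
    congr 1
    refine le_antisymm (sup_le D.hZY D.A0_le) fun w hw => ?_
    have h1 : D.z1 ∈ D.A0 := Or.inr (Or.inl rfl)
    have h2 : D.v ∈ D.A0 := Or.inr (Or.inr (Or.inl rfl))
    obtain ⟨c, hc, rfl | rfl | rfl | rfl⟩ := D.hcover w hw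
    · exact mem_sup_left hc
    · exact mul_mem (mem_sup_right h1) (mem_sup_left hc)
    · exact mul_mem (mem_sup_right h2) (mem_sup_left hc)
    · exact mul_mem (mul_mem (mem_sup_right h2) (mem_sup_right h1)) (mem_sup_left hc)
  set T := D.φ.ker ⊔ zpowers D.u with hT
  have hTcard : Nat.card T = 16 := by
    have h1 : D.φ.ker.relIndex T = 2 := by
      rw [relIndex_ker, hT, Subgroup.map_sup, (Subgroup.map_eq_bot_iff _).mpr le_rfl, bot_sup_eq,
        MonoidHom.map_zpowers, hi0, Nat.card_zpowers]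
      exact DihedralGroup.orderOf_sr i0
    rw [← relIndex_bot_left, ← relIndex_mul_relIndex ⊥ D.φ.ker T bot_le le_sup_left,
      relIndex_bot_left, h1, D.hYcard, hz]
  have hUcard : Nat.card (T.map q) = 16 := by
    rw [← relIndex_ker, QuotientGroup.ker_mk', ← inf_relIndex_right, inf_eq_bot_of_coprime,
      relIndex_bot_left, hTcard]
    rw [hOcard, hTcard, show 16 = 2 ^ 4 by norm_num]
    exact (Nat.coprime_two_right.mpr (Odd.of_dvd_nat D.hn (Dvd.intro_left 3 hn3.symm))).pow_right 4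
  have hidx : (T.map q).index = 3 := by
    have h := (T.map q).card_mul_index
    rw [hUcard, hcardM, hz] at h
    omega
  have hZcard : Nat.card Z = 2 := by rw [hinj D.hZY, hz]
  haveI : IsMulCommutative Z := by
    haveI : Fact (Nat.Prime 2) := ⟨Nat.prime_two⟩
    haveI := isCyclic_of_prime_card hZcard
    exact IsCyclic.isMulCommutative
  obtain ⟨B, hB⟩ := H2.gaschutz_exists (K := Z) (U := T.map q) (by
      rw [← hsup]; exact map_mono le_sup_left)
    (by rw [hZcard, hidx]; decide) (A.map q) (by rw [← hsup]; exact map_mono le_sup_right)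
    (by
      rw [eq_bot_iff]
      rintro _ ⟨⟨x, hx, rfl⟩, z, hz', hzx⟩
      rw [SetLike.mem_coe, hA, ← SetLike.mem_coe,
        coe_mul_of_right_le_normalizer_left _ _ hnrm] at hx
      obtain ⟨a, ha, _, ⟨k, rfl⟩, rfl⟩ := hx
      have h2 : a * D.u ^ k * z⁻¹ ∈ O :=
        hqeq.mp (by rw [map_mul q (a * D.u ^ k), map_inv, hzx]; exact mul_inv_cancel _)
      rcases hup k with h | h
      · rw [mem_bot]
        simp only at h2 ⊢
        rw [h, mul_one] at h2 ⊢
        have h3 : a * z⁻¹ ∈ O ⊓ D.φ.ker := ⟨h2, D.φ.ker.mul_mem (D.A0_le ha) (D.φ.ker.inv_mem (D.hZY hz'))⟩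
        rw [hOY, mem_bot, mul_inv_eq_one] at h3
        rw [D.A0_Z0 ha (h3 ▸ hz'), map_one]
      · exfalso
        obtain ⟨-, b, -, hb⟩ := D.key (D.key_C (hOC h2))
        rw [h, map_mul, map_mul, map_inv, MonoidHom.mem_ker.mp (D.A0_le ha),
          MonoidHom.mem_ker.mp (D.hZY hz'), hi0] at hb
        simp at hb)
    (by rw [hZ, ← Subgroup.map_sup, hsup])
  let g : B →* (L ⧸ O) ⧸ Z := q'.comp B.subtype
  have hginj : Function.Injective g := by
    rw [← MonoidHom.ker_eq_bot_iff, eq_bot_iff]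
    intro b hb
    have h : (b : L ⧸ O) ∈ Z ⊓ B := ⟨(QuotientGroup.eq_one_iff _).mp hb, b.2⟩
    rw [hB.disjoint.eq_bot, mem_bot] at h
    exact Subtype.ext h
  have hgcard : Nat.card B = Nat.card ((L ⧸ O) ⧸ Z) := by
    rw [hcard24]
    have h := hB.card_mul
    rw [hZcard, hcardM, hz] at h
    omega
  let eB : B ≃* Equiv.Perm (Fin 4) :=
    (MulEquiv.ofBijective g ((Nat.bijective_iff_injective_and_card g).mpr ⟨hginj, hgcard⟩)).trans e
  haveI : Fact (Nat.Prime 2) := ⟨Nat.prime_two⟩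
  let eZ : Z ≃* Multiplicative (ZMod 2) := mulEquivOfPrimeCardEq hZcard (by simp)
  have hcomm : ∀ (b : B) (z : Z), Commute (b : L ⧸ O) (z : L ⧸ O) := by
    rintro b ⟨_, z, hz', rfl⟩
    obtain ⟨x, hx⟩ := hqs b
    show (b : L ⧸ O) * q z = q z * b
    rw [← hx, ← map_mul, D.hZc z hz' x, map_mul]
  let h : B × Z →* L ⧸ O := MonoidHom.noncommCoprod B.subtype Z.subtype hcomm
  have hh : Function.Bijective h := by
    have := hB.symm
    exact this
  exact ⟨(f.trans (MulEquiv.ofBijective h hh).symm).trans (MulEquiv.prodCongr eB eZ)⟩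

/-! ### From the hypotheses to the data -/

open H36.Amal in
theorem shape {G : Type*} [Group G] [Finite G]
    (H : Subgroup G) (hO : Cfsg.pCore 2 ↥H ≠ ⊥) (n : ℕ) (hn : 2 ≤ n)
    (hdih : Nonempty (↥H ⧸ Cfsg.pCore 2 ↥H ≃* DihedralGroup n))
    (P : Subgroup G) (hPH : P ≤ H) (hP : IsPGroup 2 P) (hPsyl : ¬ 2 ∣ P.relIndex H) (y : G)
    (hy2 : y ^ 2 ∈ P ⊔ Subgroup.centralizer (P : Set G)) (hyN : MulAut.conj y • P = P)
    (hyQ : ∀ Q : Subgroup G, Q ≤ P → (Q.subgroupOf H).Normal → MulAut.conj y • Q = Q → Q = ⊥) :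
    (Nat.card P = 4 ∨ Nat.card P = 8 ∨ Nat.card P = 16) ∧
    (Nonempty (↥H ⧸ Cfsg.oddCore ↥H ≃* Multiplicative (ZMod 2) × Multiplicative (ZMod 2)) ∨
     Nonempty (↥H ⧸ Cfsg.oddCore ↥H ≃* Equiv.Perm (Fin 4)) ∨
     Nonempty (↥H ⧸ Cfsg.oddCore ↥H ≃* Equiv.Perm (Fin 4) × Multiplicative (ZMod 2))) := by
  obtain ⟨e⟩ := hdih
  haveI : NeZero n := ⟨by omega⟩
  haveI : Fact (Nat.Prime 2) := ⟨Nat.prime_two⟩
  haveI hQn' := H1.pCore_normal' 2 ↥H
  set Q0 := Cfsg.pCore 2 ↥H with hQ0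
  set φ : ↥H →* DihedralGroup n := e.toMonoidHom.comp (QuotientGroup.mk' Q0) with hφdef
  have hφ : Function.Surjective φ := e.surjective.comp (QuotientGroup.mk'_surjective Q0)
  have hker : φ.ker = Q0 := by
    ext x
    rw [MonoidHom.mem_ker, hφdef, MonoidHom.comp_apply, MulEquiv.coe_toMonoidHom,
      MulEquiv.map_eq_one_iff]
    exact QuotientGroup.eq_one_iff x
  have hcore : Cfsg.pCore 2 (DihedralGroup n) = ⊥ := by
    rw [← H1.map_pCore_equiv 2 e, H1.pCore_quotient_pCore, Subgroup.map_bot]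
  have hnodd : Odd n := by
    by_contra hne
    obtain ⟨k, hk⟩ := Nat.not_odd_iff_even.mp hne
    have hc : ∀ g, g * DihedralGroup.r ((k : ℕ) : ZMod n) = DihedralGroup.r (k : ZMod n) * g := by
      have h2 : ((k : ℕ) : ZMod n) + (k : ZMod n) = 0 := by
        rw [← Nat.cast_add, ← hk, ZMod.natCast_self]
      rintro (i | i)
      · rw [DihedralGroup.r_mul_r, DihedralGroup.r_mul_r, add_comm]
      · rw [DihedralGroup.sr_mul_r, DihedralGroup.r_mul_sr]
        congr 1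
        linear_combination h2
    set r0 := DihedralGroup.r ((k : ℕ) : ZMod n) with hr0
    haveI : (zpowers r0).Normal := ⟨fun x hx g => by
      obtain ⟨j, rfl⟩ := hx
      show g * r0 ^ j * g⁻¹ ∈ zpowers r0
      rw [(Commute.zpow_right (show Commute g r0 from hc g) j).eq, mul_inv_cancel_right]
      exact ⟨j, rfl⟩⟩
    have ho : orderOf r0 = 2 := by
      refine orderOf_eq_prime ?_ ?_
      · rw [pow_two, hr0, DihedralGroup.r_mul_r, ← Nat.cast_add, ← hk, ZMod.natCast_self]; rfl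
      · rw [hr0]
        intro h
        injection h with h1
        have := congrArg ZMod.val h1
        rw [ZMod.val_natCast, ZMod.val_zero, Nat.mod_eq_of_lt (by omega)] at this
        omega
    have hle : zpowers r0 ≤ Cfsg.pCore 2 (DihedralGroup n) :=
      H1.le_pCore (IsPGroup.iff_card.mpr ⟨1, by rw [Nat.card_zpowers, ho, pow_one]⟩)
    rw [hcore, zpowers_le, mem_bot] at hle
    rw [hle, orderOf_one] at ho
    omega
  set Psub := P.subgroupOf H with hPsub
  have hPsub2 : IsPGroup 2 Psub := hP.of_equiv (subgroupOfEquivOfLe hPH).symm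
  let PS : Sylow 2 ↥H := hPsub2.toSylow hPsyl
  have hPScoe : (PS : Subgroup ↥H) = Psub := rfl
  have hQP : Q0 ≤ Psub := hPScoe ▸ H1.pCore_le_sylow PS
  have himg : Nat.card (Psub.map φ) = 2 := by
    have h1 : Nat.card (Psub.map φ) ∣ 2 * n := by
      rw [← DihedralGroup.nat_card (n := n)]; exact card_subgroup_dvd_card _
    obtain ⟨k, hk⟩ := IsPGroup.iff_card.mp (hPsub2.map φ)
    have h2 : (Psub.map φ).index * Nat.card (Psub.map φ) = 2 * n := by
      rw [mul_comm, card_mul_index, DihedralGroup.nat_card]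
    have h3 : ¬ 2 ∣ (Psub.map φ).index := fun h =>
      hPsyl (h.trans (index_map_dvd _ hφ))
    rw [hk] at h1 h2 ⊢
    obtain ⟨j, hj⟩ := hnodd
    rcases k with _ | _ | k
    · exact absurd ⟨n, by simpa using h2⟩ h3
    · rfl
    · exfalso
      obtain ⟨c, hc⟩ := h1
      have : 2 * n = 2 * (2 * (2 ^ k * c)) := by rw [hc]; ring
      omega
  obtain ⟨x, hxmem, hx1⟩ : ∃ x ∈ Psub.map φ, x ≠ 1 := by
    by_contra hall
    push Not at hall
    have := (eq_bot_iff_forall _).mpr hall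
    rw [this, card_bot] at himg
    omega
  have hxx : x * x = 1 := by
    have := pow_card_eq_one' (x := (⟨x, hxmem⟩ : Psub.map φ))
    rw [himg, pow_two] at this
    exact congrArg Subtype.val this
  obtain ⟨i0, rfl⟩ : ∃ i, x = DihedralGroup.sr i := by
    rcases x with i | i
    · exfalso
      apply hx1
      rw [DihedralGroup.r_mul_r] at hxx
      injection hxx with h1
      obtain ⟨j, hj⟩ := hnodd
      have h4 : ((2 * j + 1 : ℕ) : ZMod n) = 0 := by rw [← hj, ZMod.natCast_self]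
      push_cast at h4
      rw [show i = 0 by linear_combination i * h4 - (j : ZMod n) * h1]
      rfl
    · exact ⟨i, rfl⟩
  have himg' : ∀ z ∈ Psub.map φ, z = 1 ∨ z = DihedralGroup.sr i0 := by
    intro z hz
    by_contra hno
    rw [not_or] at hno
    haveI : Fintype (Psub.map φ) := Fintype.ofFinite _
    have := Finset.card_le_univ ({1, ⟨_, hxmem⟩, ⟨z, hz⟩} : Finset (Psub.map φ))
    rw [← Nat.card_eq_fintype_card, himg, Finset.card_insert_of_notMem, Finset.card_pair] at this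
    · omega
    · exact fun h => hno.2 (congrArg Subtype.val h).symm
    · simp only [Finset.mem_insert, Finset.mem_singleton, not_or]
      exact ⟨fun h => hx1 (congrArg Subtype.val h).symm,
        fun h => hno.1 (congrArg Subtype.val h).symm⟩
  obtain ⟨u0, hu0, hu0φ⟩ := hxmem
  obtain ⟨d0, hd0⟩ := hφ (DihedralGroup.r 1)
  -- the amalgam setting
  set Q := Q0.map H.subtype with hQdef
  have hQmem : ∀ {z : ↥H}, (z : G) ∈ Q ↔ z ∈ φ.ker := fun {z} => by
    rw [hker]; exact mem_map_iff_mem H.subtype_injective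
  have hQH : Q ≤ H := map_subtype_le _
  have hQP' : Q ≤ P := by
    rintro _ ⟨z, hz, rfl⟩
    exact hQP hz
  have hcjyP : cj y P = P := by
    refine cj_eq_of_conj_mem fun z hz => ?_
    have := smul_mem_pointwise_smul z (MulAut.conj y) P hz
    rwa [hyN] at this
  have hgen : H ≤ P ⊔ cj (d0 : G) P := by
    intro h hh
    set K := (P ⊔ cj (d0 : G) P).subgroupOf H with hK
    have hPK : Psub ≤ K := fun z hz => mem_sup_left hz
    have hA : DihedralGroup.sr i0 ∈ K.map φ := ⟨u0, hPK hu0, hu0φ⟩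
    have hB : DihedralGroup.r 1 * DihedralGroup.sr i0 * (DihedralGroup.r 1)⁻¹ ∈ K.map φ :=
      ⟨d0 * u0 * d0⁻¹, mem_sup_right (conj_mem_cj hu0), by
        rw [map_mul, map_mul, map_inv, hd0, hu0φ]⟩
    have hr : DihedralGroup.r 1 ∈ K.map φ := by
      have h2 := mul_mem hA hB
      rw [DihedralGroup.r_mul_sr, DihedralGroup.inv_r, DihedralGroup.sr_mul_r,
        DihedralGroup.sr_mul_sr, show i0 - 1 + -1 - i0 = (-2 : ZMod n) by ring] at h2
      obtain ⟨j, hj⟩ := hnodd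
      have h3 := pow_mem h2 j
      rwa [DihedralGroup.r_pow, show (-2 : ZMod n) * (j : ZMod n) = 1 by
        have h4 : ((2 * j + 1 : ℕ) : ZMod n) = 0 := by rw [← hj, ZMod.natCast_self]
        push_cast at h4
        linear_combination -h4] at h3
    have htop : ∀ z, z ∈ K.map φ := by
      have hrot : ∀ i : ZMod n, DihedralGroup.r i ∈ K.map φ := fun i => by
        rw [← ZMod.natCast_zmod_val i, ← DihedralGroup.r_one_pow]
        exact pow_mem hr _
      rintro (i | i)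
      · exact hrot i
      · have := mul_mem hA (hrot (i - i0))
        rwa [DihedralGroup.sr_mul_r, add_sub_cancel] at this
    obtain ⟨z, hz, hzeq⟩ := htop (φ ⟨h, hh⟩)
    have hzk : z⁻¹ * (⟨h, hh⟩ : H) ∈ K := hPK (hQP (hker ▸ MonoidHom.mem_ker.mpr (by
      rw [map_mul, map_inv, hzeq, inv_mul_cancel])))
    have := mul_mem hz hzk
    rwa [mul_inv_cancel_left] at this
  let S : Setup G :=
    { H := H
      Q := Q
      P := P
      y := y
      d := (d0 : G)
      hQP := hQP'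
      hPH := hPH
      hP2 := hP
      hidx := by
        have e1 : P = Psub.map H.subtype := by
          rw [hPsub, subgroupOf_map_subtype, inf_of_le_left hPH]
        rw [e1, hQdef, relIndex_map_map_of_injective Q0 Psub H.subtype_injective, ← hker,
          relIndex_ker, himg]
      hQn := by
        rintro h hh _ ⟨z, hz, rfl⟩
        exact ⟨_, hQn'.conj_mem z hz ⟨h, hh⟩, rfl⟩
      hQ1 := fun h => hO (by rwa [hQdef, map_eq_bot_iff_of_injective _ H.subtype_injective] at h)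
      hd := d0.2
      hgen := hgen
      hodd := ⟨n, hnodd, by
        rw [← SubmonoidClass.coe_pow, hQmem, MonoidHom.mem_ker, map_pow, hd0,
          DihedralGroup.r_one_pow_n]⟩
      hy := fun z hz => by rw [← hcjyP]; exact conj_mem_cj hz
      hy2 := by
        have hle : P ≤ normalizer (centralizer (P : Set G) : Set G) := fun p hp => by
          refine mem_normalizer_iff.mpr fun c => ⟨fun hc => ?_, fun hc => ?_⟩
          · refine mem_centralizer_iff.mpr fun z hz => ?_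
            have := mem_centralizer_iff.mp hc _ (mul_mem (mul_mem (inv_mem hp) hz) hp)
            calc z * (p * c * p⁻¹) = p * (p⁻¹ * z * p * c) * p⁻¹ := by group
              _ = p * c * p⁻¹ * z := by rw [this]; group
          · refine mem_centralizer_iff.mpr fun z hz => ?_
            have := mem_centralizer_iff.mp hc _ (mul_mem (mul_mem hp hz) (inv_mem hp))
            calc z * c = p⁻¹ * (p * z * p⁻¹ * (p * c * p⁻¹)) * p := by group
              _ = c * z := by rw [this]; group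
        rw [← SetLike.mem_coe, coe_mul_of_left_le_normalizer_right _ _ hle] at hy2
        obtain ⟨p0, hp0, c, hc, hpc⟩ := hy2
        refine ⟨p0, hp0, fun z hz => ?_⟩
        simp only at hpc
        rw [← pow_two, ← hpc, show p0 * c * z * (p0 * c)⁻¹ = p0 * (c * z * c⁻¹) * p0⁻¹ by group,
          ← mem_centralizer_iff.mp hc z hz, mul_inv_cancel_right]
      hkill := fun X hXP hXH hXy => by
        refine hyQ X hXP ⟨fun z hz g => hXH g g.2 z hz⟩ ?_
        exact cj_eq_of_conj_mem hXy }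
  have hcardP : Nat.card P = Nat.card Q * 2 := by
    rw [← relIndex_bot_left, ← relIndex_mul_relIndex ⊥ Q P bot_le hQP', relIndex_bot_left]
    exact congrArg _ S.hidx
  by_cases hB : S.Big
  · obtain ⟨hQY, u, hu, huQ, hu2⟩ := S.Q_eq_Y hB (S.not_cj_Y_le hB)
    have hY := S.card_Y_cases hB
    rw [← hQY] at hY
    change Nat.card Q = 4 ∨ Nat.card Q = 8 at hY
    refine ⟨Or.inr (by omega), Or.inr ?_⟩
    obtain ⟨z1, hz1, -, hz10, hline, -⟩ := S.exists_line hB
    have hvY : S.d * z1 * S.d⁻¹ ∈ S.Y := S.Y_normal S.d S.hd _ (S.Z_le_Y hB hz1)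
    have hvZ : S.d * z1 * S.d⁻¹ ∉ S.Z := by
      intro h
      apply hz10
      have h0 : S.d * z1 * S.d⁻¹ ∈ S.Z0 := ⟨h, conj_mem_cj hz1⟩
      have h1 : z1 = S.d * z1 * S.d⁻¹ := by
        have := S.Z0_central S.d⁻¹ (inv_mem S.hd) _ h0
        calc z1 = S.d⁻¹ * (S.d * z1 * S.d⁻¹) * S.d := by group
          _ = _ := by rw [this]; group
      rw [h1]; exact h0
    have hZ0H : S.Z0 ≤ H := fun z hz => hPH hz.1.1
    have hcardZ : Nat.card (S.Z0.subgroupOf H) = Nat.card S.Z0 :=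
      Nat.card_congr (subgroupOfEquivOfLe hZ0H).toEquiv
    have hkerY : ∀ {z : ↥H}, z ∈ φ.ker ↔ (z : G) ∈ S.Y := fun {z} => by
      rw [← hQmem, ← hQY]
    let D : Data ↥H :=
      { n := n
        hn := hnodd
        φ := φ
        hφ := hφ
        Z0 := S.Z0.subgroupOf H
        z1 := ⟨z1, hPH hz1.1⟩
        u := ⟨u, hPH hu⟩
        d := d0
        hY := fun a ha => Subtype.ext (hkerY.mp ha).2.1
        hZY := fun a ha => hkerY.mpr (S.Z_le_Y hB ha.1)
        hZc := fun a ha g => Subtype.ext (S.Z0_central g g.2 a ha)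
        hZ2 := hcardZ ▸ S.card_Z0_le hB
        hYcard := by
          rw [hcardZ, hker, show Nat.card Q0 = Nat.card Q from (card_map_of_injective H.subtype_injective).symm]
          change Nat.card S.Q = _
          rw [hQY, S.card_Y hB, ← relIndex_bot_left (H := S.Z),
            ← relIndex_mul_relIndex ⊥ S.Z0 S.Z bot_le inf_le_left, relIndex_bot_left,
            S.Z0_index hB]
          ring
        hz1 := hkerY.mpr (S.Z_le_Y hB hz1)
        hd := hd0
        hu := by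
          rcases himg' _ ⟨⟨u, hPH hu⟩, hu, rfl⟩ with h | h
          · exact absurd (hQmem.mpr (MonoidHom.mem_ker.mpr h)) huQ
          · exact ⟨i0, h⟩
        hu2 := Subtype.ext hu2
        huz := Subtype.ext (by
          show u * z1 * u⁻¹ = z1
          rw [hz1.2.2 u hu, mul_inv_cancel_right])
        huv := Subtype.ext (hline _ hvY hvZ u hu huQ)
        hz10 := hz10
        hv0 := fun h => hvZ h.1
        hvz := fun h => hvZ (by
          have := mul_mem (show S.d * z1 * S.d⁻¹ * z1 ∈ S.Z from h.1) (inv_mem hz1)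
          rwa [mul_inv_cancel_right] at this)
        hcover := fun w hw => by
          have hwY := hkerY.mp hw
          have hz : ∀ a ∈ S.Z, ∃ c ∈ S.Z0, a = c ∨ a = z1 * c := fun a ha => by
            rcases mem_or_mul_mem (S.Z0_index hB).le hz1 hz10 ha with h | h
            · exact ⟨a, h, Or.inl rfl⟩
            · exact ⟨a * z1⁻¹, h, Or.inr
                ((inv_mul_cancel_right a z1).symm.trans (hz1.2.2 _ h.1.1))⟩
          rcases mem_or_mul_mem (S.Y_index hB).le hvY hvZ hwY with h | h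
          · obtain ⟨c, hc, h1 | h1⟩ := hz _ h
            · exact ⟨⟨c, hZ0H hc⟩, hc, Or.inl (Subtype.ext h1)⟩
            · exact ⟨⟨c, hZ0H hc⟩, hc, Or.inr (Or.inl (Subtype.ext h1))⟩
          · obtain ⟨c, hc, h1 | h1⟩ := hz _ h
            all_goals
              have hcomm := hvY.2.2 _ (S.Z_le_Y hB h).1
              rw [h1] at hcomm
              have hw2 : (w : G) = S.d * z1 * S.d⁻¹ * ((w : G) * (S.d * z1 * S.d⁻¹)⁻¹) := by
                rw [h1, ← hcomm, ← h1]; group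
              rw [h1] at hw2
            · exact ⟨⟨c, hZ0H hc⟩, hc, Or.inr (Or.inr (Or.inl (Subtype.ext hw2)))⟩
            · exact ⟨⟨c, hZ0H hc⟩, hc, Or.inr (Or.inr (Or.inr (Subtype.ext
                (hw2.trans (mul_assoc _ _ _).symm))))⟩ }
    exact D.main
  · have hB' : ∃ c ∈ P, (∀ a ∈ P, a * c = c * a) ∧ c ∉ Q := by
      by_contra hno
      exact hB fun z hz hzc => by_contra fun hzQ => hno ⟨z, hz, hzc, hzQ⟩
    obtain ⟨c, hc, hcc, hcQ⟩ := hB'
    obtain ⟨hP4, -, hPsq⟩ := S.small hc hcQ hcc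
    refine ⟨Or.inl hP4, Or.inl ?_⟩
    have hsq : ∀ a ∈ Psub, a * a = 1 := fun a ha => Subtype.ext (hPsq a ha)
    have hNP : normalizer (PS : Set ↥H) ≤ centralizer (PS : Set ↥H) := by
      intro h hh
      refine mem_centralizer_iff.mpr fun z hz => ?_
      have hhP : h ∈ Psub := by
        have h1 : φ (h * u0 * h⁻¹) = DihedralGroup.sr i0 := by
          rcases himg' _ ⟨h * u0 * h⁻¹, (mem_normalizer_iff.mp hh u0).mp hu0, rfl⟩ with h1 | h1
          · exfalso
            rw [map_mul, map_mul, map_inv, mul_inv_eq_one, mul_eq_left] at h1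
            exact hx1 (hu0φ ▸ h1)
          · exact h1
        rw [map_mul, map_mul, map_inv, hu0φ, mul_inv_eq_iff_eq_mul] at h1
        have h2 : φ h = 1 ∨ φ h = DihedralGroup.sr i0 := by
          obtain ⟨j, hj⟩ := hnodd
          have h4 : ((2 * j + 1 : ℕ) : ZMod n) = 0 := by rw [← hj, ZMod.natCast_self]
          push_cast at h4
          rcases hφh : φ h with k | k
          · rw [hφh, DihedralGroup.r_mul_sr, DihedralGroup.sr_mul_r] at h1
            injection h1 with h5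
            left
            rw [show k = 0 by linear_combination k * h4 + (j : ZMod n) * h5]
            rfl
          · rw [hφh, DihedralGroup.sr_mul_sr, DihedralGroup.sr_mul_sr] at h1
            injection h1 with h5
            right
            rw [show k = i0 by linear_combination (k - i0) * h4 + (j : ZMod n) * h5]
        rcases h2 with h2 | h2
        · exact hQP (hker ▸ MonoidHom.mem_ker.mpr h2)
        · have : h * u0⁻¹ ∈ Psub := hQP (hker ▸ MonoidHom.mem_ker.mpr (by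
            rw [map_mul, map_inv, h2, hu0φ, mul_inv_cancel]))
          have := mul_mem this hu0
          rwa [inv_mul_cancel_right] at this
      exact H36.Amal.comm_of_exp_two hsq z hz h hhP
    have hcompl := MonoidHom.ker_transferSylow_isComplement' PS hNP
    set t := MonoidHom.transferSylow PS hNP with ht
    have htbij : Function.Surjective t := by
      have h := hcompl.symm.index_eq_card
      rw [index_ker] at h
      exact MonoidHom.range_eq_top.mp (eq_top_of_card_eq _ h)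
    have hcardPS : Nat.card PS = 4 := by
      rw [← hP4]; exact Nat.card_congr (subgroupOfEquivOfLe hPH).toEquiv
    haveI hK4 : IsKleinFour PS := by
      refine ⟨hcardPS, ?_⟩
      refine ((Nat.dvd_prime Nat.prime_two).mp (Monoid.exponent_dvd_of_forall_pow_eq_one
        fun w => ?_)).resolve_left fun h => ?_
      · exact Subtype.ext (by rw [pow_two, Subgroup.coe_mul]; exact hsq _ w.2)
      · haveI := Monoid.exp_eq_one_iff.mp h
        rw [Nat.card_of_subsingleton (1 : (PS : Subgroup ↥H))] at hcardPS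
        omega
    have hodd : Cfsg.oddCore PS = ⊥ := by
      have h1 := H1.card_pPrimeCore_coprime 2 PS
      obtain ⟨k, hk⟩ := IsPGroup.iff_card.mp (PS.isPGroup'.to_subgroup (Cfsg.pPrimeCore 2 PS))
      rw [hk] at h1
      rcases k with _ | k
      · exact card_eq_one.mp hk
      · exact absurd h1 (fun h => by simpa using Nat.Coprime.eq_one_of_dvd h.symm (dvd_pow_self 2 (by omega)))
    have hkc : (Nat.card t.ker).Coprime 2 := by
      rw [← hcompl.index_eq_card]
      exact Nat.coprime_comm.mp (Nat.prime_two.coprime_iff_not_dvd.mpr PS.not_dvd_index)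
    obtain ⟨f⟩ := quot_oddCore t htbij hkc hodd
    haveI : IsKleinFour (Multiplicative (ZMod 2) × Multiplicative (ZMod 2)) :=
      ⟨by simp, by simp [Monoid.exponent_prod]⟩
    obtain ⟨g⟩ := IsKleinFour.nonempty_mulEquiv (G₁ := PS)
      (G₂ := Multiplicative (ZMod 2) × Multiplicative (ZMod 2))
    exact ⟨f.trans g⟩

end H36.AmalShape
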