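import Cfsg.Agent.H36.TwinDegree
import Mathlib

/-!
Alternating groups generated by two permutations of large prime orders.
-/

set_option autoImplicit false

namespace H36

open MulAction

variable {β : Type*} [Fintype β] [DecidableEq β]

theorem isPretransitive_of_cover (G : Subgroup (Equiv.Perm β)) {X Y : Equiv.Perm β} (hX : X ∈ G)
    (hY : Y ∈ G) {p : ℕ} (hp : p.Prime) (hXo : orderOf X = p) (hYc : Y.IsCycle)
    (hcount : Fintype.card β < p + Y.support.card) (hcover : ∀ b, X b ≠ b ∨ Y b ≠ b) :
    IsPretransitive G β := by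
  obtain ⟨a, ha, -⟩ := id hYc
  have hYs : ∀ b, Y b ≠ b → ∃ g : G, g • a = b := by
    intro b hb
    obtain ⟨i, hi⟩ := hYc.exists_pow_eq ha hb
    exact ⟨⟨Y ^ i, G.pow_mem hY i⟩, hi⟩
  have hall : ∀ b, ∃ g : G, g • a = b := by
    intro b
    by_cases hb : Y b ≠ b
    · exact hYs b hb
    have hXb : X b ≠ b := (hcover b).resolve_right hb
    -- the `X`-orbit of `b` has `p` points
    have hinj : Function.Injective fun k : Fin p => (X ^ (k : ℕ)) b := by
      have key : ∀ i j : ℕ, i < j → j < p → (X ^ i) b ≠ (X ^ j) b := by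
        intro i j hij hjp h
        have h' : (X ^ (j - i)) b = b := by
          apply (X ^ i).injective
          rw [← Equiv.Perm.mul_apply, ← pow_add, Nat.add_sub_cancel' hij.le, ← h]
        obtain ⟨m, hm⟩ := exists_pow_eq_self_of_coprime (x := X) (n := j - i) (by
          rw [hXo]
          exact (hp.coprime_iff_not_dvd.mpr fun hd => by
            have := Nat.le_of_dvd (by omega) hd; omega).symm)
        exact hXb (hm ▸ Equiv.Perm.pow_apply_eq_self_of_apply_eq_self h' m)
      intro i j h
      by_contra hne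
      rcases lt_or_gt_of_ne (fun e => hne (Fin.ext e) : (i : ℕ) ≠ (j : ℕ)) with hl | hl
      · exact key _ _ hl j.2 h
      · exact key _ _ hl i.2 h.symm
    obtain ⟨k, hk⟩ : ∃ k : Fin p, Y ((X ^ (k : ℕ)) b) ≠ (X ^ (k : ℕ)) b := by
      by_contra hcon
      push Not at hcon
      have hsub : Finset.univ.image (fun k : Fin p => (X ^ (k : ℕ)) b) ⊆ Y.supportᶜ := by
        intro z hz
        obtain ⟨k, -, rfl⟩ := Finset.mem_image.mp hz
        exact Finset.mem_compl.mpr (Equiv.Perm.notMem_support.mpr (hcon k))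
      have h1 := Finset.card_le_card hsub
      rw [Finset.card_image_of_injective _ hinj, Finset.card_univ, Fintype.card_fin,
        Finset.card_compl] at h1
      have := Y.support.card_le_univ
      omega
    obtain ⟨g, hg⟩ := hYs _ hk
    refine ⟨⟨(X ^ (k : ℕ))⁻¹, G.inv_mem (G.pow_mem hX k)⟩ * g, ?_⟩
    rw [mul_smul, hg]
    exact Equiv.Perm.inv_eq_iff_eq.mpr rfl
  refine ⟨fun x y => ?_⟩
  obtain ⟨g, rfl⟩ := hall x
  obtain ⟨h, rfl⟩ := hall y
  exact ⟨h * g⁻¹, by rw [smul_smul, inv_mul_cancel_right]⟩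

theorem isPreprimitive_of_large_cycle (G : Subgroup (Equiv.Perm β)) [IsPretransitive G β]
    {Y : Equiv.Perm β} (hY : Y ∈ G) (hYc : Y.IsCycle) (hq : Y.support.card.Prime)
    (hlt : Fintype.card β < 2 * Y.support.card) : IsPreprimitive G β := by
  classical
  let s : Set β := (Y.support : Set β)ᶜ
  haveI := Equiv.Perm.isPretransitive_of_isCycle_mem (G := G) hYc hY
  have hmemD : ∀ x : β, x ∈ SubMulAction.ofFixingSubgroup G s ↔ x ∈ Y.support := fun x => by
    simp [s, SubMulAction.mem_ofFixingSubgroup_iff]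
  have hcardD : Nat.card (SubMulAction.ofFixingSubgroup G s) = Y.support.card := by
    rw [Nat.card_congr (Equiv.subtypeEquivRight hmemD), Nat.card_eq_fintype_card, Fintype.card_coe]
  haveI : IsPreprimitive (fixingSubgroup G s) (SubMulAction.ofFixingSubgroup G s) :=
    IsPreprimitive.of_prime_card (hcardD ▸ hq)
  let f : SubMulAction.ofFixingSubgroup G s →ₑ[(fixingSubgroup G s).subtype] β :=
    { toFun := fun x => (x : β)
      map_smul' := fun k x => rfl }
  refine IsPreprimitive.of_card_lt (f := f) ?_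
  rw [Set.ncard_range_of_injective (f := f) Subtype.val_injective, hcardD, Nat.card_eq_fintype_card]
  exact hlt

/-- Two even permutations of large prime orders `p < q` covering all points generate the
alternating group. -/
theorem closure_eq_alternating {p q : ℕ} (hp : p.Prime) (hq : q.Prime) (hpq : p + 2 ≤ q)
    {X Y : Equiv.Perm β} (hX : X ∈ alternatingGroup β) (hY : Y ∈ alternatingGroup β)
    (hXo : orderOf X = p) (hYo : orderOf Y = q) (hcover : ∀ b, X b ≠ b ∨ Y b ≠ b)
    (hle : Fintype.card β ≤ 2 * p) (hdouble : Fintype.card β = 2 * p → q + 3 ≤ 2 * p)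
    (htwin : q = p + 2 → p = 3 ∨ p = 5 ∨ p = 11) :
    Subgroup.closure ({X, Y} : Set (Equiv.Perm β)) = alternatingGroup β := by
  set G := Subgroup.closure ({X, Y} : Set (Equiv.Perm β))
  have hXG : X ∈ G := Subgroup.subset_closure (Or.inl rfl)
  have hYG : Y ∈ G := Subgroup.subset_closure (Or.inr rfl)
  have hGA : G ≤ alternatingGroup β := (Subgroup.closure_le _).mpr (by
    rintro z (rfl | rfl) <;> assumption)
  refine le_antisymm hGA ?_
  have hYc : Y.IsCycle := Equiv.Perm.isCycle_of_prime_order (by rwa [hYo])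
    (lt_of_le_of_lt Y.support.card_le_univ (by omega))
  have hYs : Y.support.card = q := hYc.orderOf ▸ hYo
  have hqd : q ≤ Fintype.card β := hYs ▸ Y.support.card_le_univ
  have := isPretransitive_of_cover G hXG hYG hp hXo hYc (by omega) hcover
  have hprim : IsPreprimitive G β := isPreprimitive_of_large_cycle G hYG hYc (hYs ▸ hq) (by omega)
  rcases hle.eq_or_lt with hd | hd
  · exact H58.alternating_le_of_prime_cycle G hprim hq (by have := hdouble hd; omega) hYc hYs hYG
  have hXc : X.IsCycle := Equiv.Perm.isCycle_of_prime_order (by rwa [hXo])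
    (lt_of_le_of_lt X.support.card_le_univ (by omega))
  have hXs : X.support.card = p := hXc.orderOf ▸ hXo
  by_cases hd3 : p + 3 ≤ Fintype.card β
  · exact H58.alternating_le_of_prime_cycle G hprim hp hd3 hXc hXs hXG
  rcases htwin (by omega) with rfl | rfl | rfl
  · exact Equiv.Perm.alternatingGroup_le_of_isPreprimitive_of_isThreeCycle_mem hprim
      (card_support_eq_three_iff.mp hXs) hXG
  · exact alternating_le_seven G hprim hGA (by omega) hXc hXs hXG
  · exact alternating_le_thirteen G hprim hGA (by omega) hXc hXs hXG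

/-- The same, inside a bigger alternating group. -/
theorem exists_alternating_closure {n p q : ℕ} (hp : p.Prime) (hq : q.Prime) (hpq : p + 2 ≤ q)
    (hn : n ≤ 2 * p) (hdouble : n = 2 * p → q + 3 ≤ 2 * p) (htwin : q = p + 2 → p = 3 ∨ p = 5 ∨ p = 11)
    (x y : alternatingGroup (Fin n)) (hx : orderOf x = p) (hy : orderOf y = q) :
    ∃ d : ℕ, 5 ≤ d ∧ Nonempty (Subgroup.closure ({x, y} : Set (alternatingGroup (Fin n))) ≃*
      alternatingGroup (Fin d)) := by
  classical
  obtain ⟨X, hX⟩ := x
  obtain ⟨Y, hY⟩ := y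
  rw [Subgroup.orderOf_mk] at hx hy
  let U : Finset (Fin n) := X.support ∪ Y.support
  have hXU : ∀ b, X b ∈ U ↔ b ∈ U := by
    intro b
    by_cases hb : X b = b
    · rw [hb]
    · simp [U, Equiv.Perm.mem_support, hb]
  have hYU : ∀ b, Y b ∈ U ↔ b ∈ U := by
    intro b
    by_cases hb : Y b = b
    · rw [hb]
    · simp [U, Equiv.Perm.mem_support, hb]
  set X' : Equiv.Perm U := X.subtypePerm hXU
  set Y' : Equiv.Perm U := Y.subtypePerm hYU
  have hX' : Equiv.Perm.ofSubtype X' = X :=
    Equiv.Perm.ofSubtype_subtypePerm _ fun b hb => Finset.mem_union_left _ (Equiv.Perm.mem_support.mpr hb)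
  have hY' : Equiv.Perm.ofSubtype Y' = Y :=
    Equiv.Perm.ofSubtype_subtypePerm _ fun b hb => Finset.mem_union_right _ (Equiv.Perm.mem_support.mpr hb)
  have hXA : X' ∈ alternatingGroup U := by
    rw [Equiv.Perm.mem_alternatingGroup, ← Equiv.Perm.sign_ofSubtype, hX']
    exact Equiv.Perm.mem_alternatingGroup.mp hX
  have hYA : Y' ∈ alternatingGroup U := by
    rw [Equiv.Perm.mem_alternatingGroup, ← Equiv.Perm.sign_ofSubtype, hY']
    exact Equiv.Perm.mem_alternatingGroup.mp hY
  have hXo : orderOf X' = p := by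
    rw [← orderOf_injective Equiv.Perm.ofSubtype Equiv.Perm.ofSubtype_injective, hX', hx]
  have hYo : orderOf Y' = q := by
    rw [← orderOf_injective Equiv.Perm.ofSubtype Equiv.Perm.ofSubtype_injective, hY', hy]
  have hUn : Fintype.card U ≤ n := by
    rw [Fintype.card_coe]; exact U.card_le_univ.trans (Fintype.card_fin n).le
  have hcl := closure_eq_alternating hp hq hpq hXA hYA hXo hYo (by
    rintro ⟨b, hb⟩
    rcases Finset.mem_union.mp hb with h | h
    · exact Or.inl fun e => Equiv.Perm.mem_support.mp h (congrArg Subtype.val e)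
    · exact Or.inr fun e => Equiv.Perm.mem_support.mp h (congrArg Subtype.val e))
    (by omega) (fun h => hdouble (by omega)) htwin
  have hmap : (Subgroup.closure ({⟨X, hX⟩, ⟨Y, hY⟩} : Set (alternatingGroup (Fin n)))).map
      (alternatingGroup (Fin n)).subtype =
      (alternatingGroup U).map (Equiv.Perm.ofSubtype : Equiv.Perm U →* Equiv.Perm (Fin n)) := by
    rw [← hcl, MonoidHom.map_closure, MonoidHom.map_closure, Set.image_pair, Set.image_pair, hX', hY']
    rfl
  have hq5 : 5 ≤ q := by
    have := hp.two_le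
    by_contra h
    interval_cases q <;> first | omega | norm_num at hq
  refine ⟨Fintype.card U, ?_, ⟨?_⟩⟩
  · have := (Equiv.Perm.isCycle_of_prime_order (σ := Y') (by rwa [hYo])
      (lt_of_le_of_lt Y'.support.card_le_univ (by omega))).orderOf
    have := Y'.support.card_le_univ
    omega
  · exact (Subgroup.equivMapOfInjective _ _ (Subgroup.subtype_injective _)).trans
      ((MulEquiv.subgroupCongr hmap).trans
        ((Subgroup.equivMapOfInjective _ _ Equiv.Perm.ofSubtype_injective).symm.trans
          (Equiv.altCongrHom (Fintype.equivFin U))))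

end H36
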