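import Cfsg.Agent.H10.PSolvableDual
import Cfsg.Agent.H82.PLength
import Cfsg.Agent.H33.TwoPrime
import Mathlib

/-!
`2`-length and `3`-length of groups of exponent dividing six.
-/

set_option autoImplicit false

namespace H36

open Cfsg
open scoped commutatorElement

universe u

section abelian

variable {L : Type u} [Group L]

/-- If `(ag)^3 = 1` and `g^3 = 1` then `a · ᵍa · ᵍᵍa = 1`. -/
theorem cube_identity {A : Subgroup L} [A.Normal] (h6 : ∀ x : L, x ^ 6 = 1)
    (hA3 : ∀ a ∈ A, a ^ 3 = 1) {g : L} (hg : g ^ 3 = 1) (a : A) :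
    a * MulAut.conjNormal g a * MulAut.conjNormal g (MulAut.conjNormal g a) = 1 := by
  apply Subtype.ext
  simp only [Subgroup.coe_mul, MulAut.conjNormal_apply, Subgroup.coe_one]
  have e : (a : L) * (g * a * g⁻¹) * (g * (g * a * g⁻¹) * g⁻¹) = ((a : L) * g) ^ 3 := by
    have hg' : g⁻¹ * g⁻¹ = g := by
      rw [← mul_inv_rev, inv_eq_iff_mul_eq_one, ← pow_two, ← pow_succ, hg]
    calc (a : L) * (g * a * g⁻¹) * (g * (g * a * g⁻¹) * g⁻¹)
        = a * g * (a * (g * (a * (g⁻¹ * g⁻¹)))) := by group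
      _ = ((a : L) * g) ^ 3 := by rw [hg', pow_succ, pow_two]; simp only [mul_assoc]
  have hmem : (a : L) * (g * a * g⁻¹) * (g * (g * a * g⁻¹) * g⁻¹) ∈ A :=
    A.mul_mem (A.mul_mem a.2 ((inferInstance : A.Normal).conj_mem _ a.2 g))
      ((inferInstance : A.Normal).conj_mem _ ((inferInstance : A.Normal).conj_mem _ a.2 g) g)
  rw [e] at hmem ⊢
  have h1 := hA3 _ hmem
  have h2 := h6 ((a : L) * g)
  rw [← pow_mul] at h1
  calc ((a : L) * g) ^ 3 = (((a : L) * g) ^ 3) ^ 3 * ((((a : L) * g) ^ 6))⁻¹ := by group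
    _ = 1 := by rw [h2, ← pow_mul, h1]; group

/-- The key computation: in a group of exponent six, an element of order three moving a four group
cyclically forces the four group to centralize every abelian normal subgroup of exponent three. -/
theorem fixed_of_exponent_six {A : Subgroup L} [A.Normal] (hAc : ∀ a ∈ A, ∀ b ∈ A, a * b = b * a)
    (h6 : ∀ x : L, x ^ 6 = 1) (hA3 : ∀ a ∈ A, a ^ 3 = 1) {t u v : L} (ht : t ^ 3 = 1)
    (hu : u * u = 1) (hv : v * v = 1) (huv : u * v = v * u) (htu : t * u * t⁻¹ = v)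
    (htv : t * v * t⁻¹ = u * v) : ∀ a ∈ A, u * a * u⁻¹ = a := by
  letI : CommGroup A := { (inferInstance : Group A) with
    mul_comm := fun a b => Subtype.ext (hAc a a.2 b b.2) }
  have hru : t * u = v * t := mul_inv_eq_iff_eq_mul.mp htu
  have hrv : t * v = u * v * t := mul_inv_eq_iff_eq_mul.mp htv
  have ht3 : t * t * t = 1 := by rw [← ht, pow_succ, pow_two]
  have hru' : ∀ z, t * (u * z) = v * (t * z) := fun z => by rw [← mul_assoc, hru, mul_assoc]
  have hrv' : ∀ z, t * (v * z) = u * (v * (t * z)) := fun z => by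
    rw [← mul_assoc, hrv, mul_assoc, mul_assoc]
  have hvu' : ∀ z, v * (u * z) = u * (v * z) := fun z => by rw [← mul_assoc, ← huv, mul_assoc]
  have huu' : ∀ z, u * (u * z) = z := fun z => by rw [← mul_assoc, hu, one_mul]
  have hvv' : ∀ z, v * (v * z) = z := fun z => by rw [← mul_assoc, hv, one_mul]
  have ht3' : t * (t * t) = 1 := by rw [← mul_assoc]; exact ht3
  have g1 : (u * t) ^ 3 = 1 := by
    simp only [pow_succ, pow_zero, one_mul, mul_assoc, hru', hrv', hvu', huu', hvv', ht3']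
  have g2 : (v * t) ^ 3 = 1 := by
    simp only [pow_succ, pow_zero, one_mul, mul_assoc, hru', hrv', hvu', huu', hvv', ht3']
  have g3 : (u * v * t) ^ 3 = 1 := by
    simp only [pow_succ, pow_zero, one_mul, mul_assoc, hru', hrv', hvu', huu', hvv', ht3']
  set T : MulAut A := MulAut.conjNormal t with hT
  set U : MulAut A := MulAut.conjNormal u with hU
  set V : MulAut A := MulAut.conjNormal v with hV
  have hUU : ∀ a, U (U a) = a := fun a => by
    rw [← MulAut.mul_apply, hU, ← map_mul, hu, map_one]; rfl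
  have hVV : ∀ a, V (V a) = a := fun a => by
    rw [← MulAut.mul_apply, hV, ← map_mul, hv, map_one]; rfl
  have hVU : ∀ a, V (U a) = U (V a) := fun a => by
    rw [← MulAut.mul_apply, ← MulAut.mul_apply, hU, hV, ← map_mul, ← map_mul, huv]
  have hTU : ∀ a, T (U a) = V (T a) := fun a => by
    rw [← MulAut.mul_apply, ← MulAut.mul_apply, hT, hU, hV, ← map_mul, ← map_mul, hru]
  have hTV : ∀ a, T (V a) = U (V (T a)) := fun a => by
    simp only [← MulAut.mul_apply, hT, hU, hV, ← map_mul, hrv, mul_assoc]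
  intro a ha
  obtain ⟨b, hb⟩ : ∃ b : A, b = ⟨a, ha⟩ := ⟨_, rfl⟩
  have e0 := cube_identity (A := A) h6 hA3 ht b
  have e1 := cube_identity (A := A) h6 hA3 g1 b
  have e2 := cube_identity (A := A) h6 hA3 g2 b
  have e3 := cube_identity (A := A) h6 hA3 g3 b
  simp only [map_mul, MulAut.mul_apply, ← hT, ← hU, ← hV, hTU, hTV, hVU, hUU, hVV] at e0 e1 e2 e3
  let E : A →* A :=
    { toFun := fun x => x * U x * V x * U (V x)
      map_one' := by simp
      map_mul' := fun x y => by simp only [map_mul]; ac_rfl }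
  have hEU : ∀ x, U (E x) = E x := fun x => by
    simp only [E, MonoidHom.coe_mk, OneHom.coe_mk, map_mul, hUU]
    ac_rfl
  have hb3 : b ^ 3 = 1 := Subtype.ext (hA3 _ b.2)
  have hTb : T b * T (T b) = b⁻¹ := eq_inv_of_mul_eq_one_right (by rw [← mul_assoc]; exact e0)
  have key : E b = b := by
    have h : b * b * b * b * (E (T b * T (T b))) = 1 := by
      have hprod : (b * T b * T (T b)) * ((b * U (T b) * U (V (T (T b)))) *
          ((b * V (T b) * U (T (T b))) * (b * U (V (T b)) * V (T (T b))))) = 1 := by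
        rw [e0, e1, e2, e3, mul_one, mul_one, mul_one]
      rw [← hprod]
      simp only [E, MonoidHom.coe_mk, OneHom.coe_mk, map_mul]
      ac_rfl
    rw [show b * b * b * b = b ^ 3 * b by rw [pow_succ, pow_two], hb3, one_mul, hTb, map_inv,
      mul_inv_eq_one] at h
    exact h.symm
  have hfin : U b = b := by rw [← key, hEU]
  have := congrArg Subtype.val hfin
  rwa [hb, hU, MulAut.conjNormal_apply] at this

/-- The same for a normal `3`-subgroup of exponent three, by induction along the derived series. -/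
theorem fixed_of_exponent_six' [Finite L] (h6 : ∀ x : L, x ^ 6 = 1) {t u v : L} (ht : t ^ 3 = 1)
    (hu : u * u = 1) (hv : v * v = 1) (huv : u * v = v * u) (htu : t * u * t⁻¹ = v)
    (htv : t * v * t⁻¹ = u * v) (N : Subgroup L) (hN : N.Normal) (hp : IsPGroup 3 N)
    (hN3 : ∀ a ∈ N, a ^ 3 = 1) : ∀ a ∈ N, u * a * u⁻¹ = a := by
  generalize hc : Nat.card N = c
  induction c using Nat.strong_induction_on generalizing N with
  | _ c ih =>
    intro a ha
    by_cases hN1 : N = ⊥
    · rw [hN1, Subgroup.mem_bot] at ha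
      simp [ha]
    have : Fact (Nat.Prime 3) := ⟨Nat.prime_three⟩
    set M : Subgroup L := ⁅N, N⁆ with hM
    have hMn : M.Normal := Subgroup.commutator_normal N N
    have hMle : M ≤ N := Subgroup.commutator_le_self N
    have hMlt : M < N := by
      refine lt_of_le_of_ne hMle fun e => hN1 ?_
      have : Group.IsNilpotent N := hp.isNilpotent
      have : Group.IsSolvable N := IsNilpotent.to_isSolvable
      have : Nontrivial N := (Subgroup.nontrivial_iff_ne_bot _).mpr hN1
      exfalso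
      have h1 := Group.IsSolvable.commutator_lt_top_of_nontrivial N
      have h2 : (commutator N).map N.subtype = ⁅N, N⁆ := Subgroup.map_subtype_commutator N
      rw [← hM, e] at h2
      apply h1.ne
      apply Subgroup.map_injective N.subtype_injective
      rw [h2, ← MonoidHom.range_eq_map, N.range_subtype]
    have hlt : Nat.card M < Nat.card N := lt_of_le_of_ne (Subgroup.card_le_of_le hMlt.le)
      fun e => hMlt.ne (Subgroup.eq_of_le_of_card_ge hMlt.le e.ge)
    have hfix := ih _ (hc ▸ hlt) M hMn (hp.to_le hMle)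
      (fun x hx => hN3 x (hMle hx)) rfl
    set f := QuotientGroup.mk' M
    have : (N.map f).Normal := hN.map f (QuotientGroup.mk'_surjective M)
    have hq := fixed_of_exponent_six (A := N.map f) ?_ ?_ ?_ (t := f t) (u := f u) (v := f v)
      (by rw [← map_pow, ht, map_one]) (by rw [← map_mul, hu, map_one])
      (by rw [← map_mul, hv, map_one]) (by rw [← map_mul, ← map_mul, huv])
      (by rw [← map_inv, ← map_mul, ← map_mul, htu]) (by rw [← map_inv, ← map_mul, ← map_mul, htv, map_mul])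
      (f a) (Subgroup.mem_map_of_mem f ha)
    · rw [← map_inv, ← map_mul, ← map_mul] at hq
      have hmem : a⁻¹ * (u * a * u⁻¹) ∈ M := QuotientGroup.eq.mp hq.symm
      have h1 := hfix _ hmem
      have h2 := hN3 _ (hMle hmem)
      have huinv : u⁻¹ = u := inv_eq_of_mul_eq_one_right hu
      rw [huinv] at h1 hmem h2 ⊢
      set n := a⁻¹ * (u * a * u) with hn
      have h3 : u * a * u = a * n := by rw [hn]; group
      have h4 : a = a * (n * n) := by
        calc a = u * (u * a * u) * u := by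
              simp only [← mul_assoc, hu, one_mul]; rw [mul_assoc, hu, mul_one]
          _ = u * (a * n) * u := by rw [h3]
          _ = (u * a * u) * (u * n * u) := by
              calc u * (a * n) * u = u * a * (u * u) * n * u := by rw [hu, mul_one]; simp only [mul_assoc]
                _ = (u * a * u) * (u * n * u) := by simp only [mul_assoc]
          _ = a * (n * n) := by rw [h1, h3, mul_assoc]
      have h5 : n * n = 1 := by simpa using h4.symm
      have h6' : n = 1 := by
        rw [← h2, pow_succ, pow_two, h5, one_mul]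
      rw [h3, h6', mul_one]
    · rintro _ ⟨x, hx, rfl⟩ _ ⟨y, hy, rfl⟩
      rw [← map_mul, ← map_mul]
      refine QuotientGroup.eq.mpr ?_
      have : (x * y)⁻¹ * (y * x) = ⁅y⁻¹, x⁻¹⁆ := by rw [commutatorElement_def]; group
      rw [this, hM]
      exact Subgroup.commutator_mem_commutator (N.inv_mem hy) (N.inv_mem hx)
    · intro x
      obtain ⟨y, rfl⟩ := QuotientGroup.mk'_surjective M x
      rw [← map_pow, h6, map_one]
    · rintro _ ⟨x, hx, rfl⟩
      rw [← map_pow, hN3 x hx, map_one]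

end abelian

variable {G : Type u} [Group G] [Finite G]

theorem isSolvable_of_exponent_six (h : ∀ x : G, x ^ 6 = 1) : Group.IsSolvable G := by
  refine H33.isSolvable_of_two_primes Nat.prime_two Nat.prime_three fun r hr hd => ?_
  have : Fact r.Prime := ⟨hr⟩
  obtain ⟨x, hx⟩ := exists_prime_orderOf_dvd_card' r hd
  have h1 : r ∣ 2 * 3 := hx ▸ orderOf_dvd_of_pow_eq_one (h x)
  rcases hr.dvd_mul.mp h1 with h2 | h2
  · exact Or.inl ((Nat.prime_dvd_prime_iff_eq hr Nat.prime_two).mp h2)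
  · exact Or.inr ((Nat.prime_dvd_prime_iff_eq hr Nat.prime_three).mp h2)

omit [Finite G] in
theorem sq_eq_one_of_two_group (h : ∀ x : G, x ^ 6 = 1) {S : Subgroup G} (hS : IsPGroup 2 S) :
    ∀ x ∈ S, x * x = 1 := by
  intro x hx
  obtain ⟨k, hk⟩ := hS ⟨x, hx⟩
  have h1 : x ^ 2 ^ k = 1 := congrArg Subtype.val hk
  have h2 : orderOf x ∣ 2 := by
    have a := orderOf_dvd_of_pow_eq_one h1
    have b := orderOf_dvd_of_pow_eq_one (h x)
    have c : (orderOf x).Coprime 3 := Nat.Coprime.coprime_dvd_left a ((by norm_num : Nat.Coprime 2 3).pow_left k)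
    exact c.dvd_of_dvd_mul_right (by simpa using b)
  rw [← pow_two]
  exact orderOf_dvd_iff_pow_eq_one.mp h2

theorem pow_three_eq_one_of_three_group {H : Type*} [Group H] (h : ∀ x : H, x ^ 6 = 1)
    {S : Subgroup H} (hS : IsPGroup 3 S) : ∀ x ∈ S, x ^ 3 = 1 := by
  intro x hx
  obtain ⟨k, hk⟩ := hS ⟨x, hx⟩
  have h1 : x ^ 3 ^ k = 1 := congrArg Subtype.val hk
  refine orderOf_dvd_iff_pow_eq_one.mp ?_
  have a := orderOf_dvd_of_pow_eq_one h1
  have b := orderOf_dvd_of_pow_eq_one (h x)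
  have c : (orderOf x).Coprime 2 := Nat.Coprime.coprime_dvd_left a ((by norm_num : Nat.Coprime 3 2).pow_left k)
  exact c.dvd_of_dvd_mul_left (by simpa using b : orderOf x ∣ 2 * 3)

omit [Finite G] in
theorem commute_of_two_group (h : ∀ x : G, x ^ 6 = 1) {S : Subgroup G} (hS : IsPGroup 2 S) :
    ∀ x ∈ S, ∀ y ∈ S, x * y = y * x := by
  intro x hx y hy
  have e : ∀ z ∈ S, z⁻¹ = z := fun z hz => inv_eq_of_mul_eq_one_right (sq_eq_one_of_two_group h hS z hz)
  calc x * y = (x * y)⁻¹ := (e _ (S.mul_mem hx hy)).symm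
    _ = y * x := by rw [mul_inv_rev, e x hx, e y hy]

theorem index_pPrimePCore_eq (p : ℕ) :
    (pPrimePCore p G).index = (pCore p (G ⧸ pPrimeCore p G)).index :=
  Subgroup.index_comap_of_surjective _ (QuotientGroup.mk'_surjective _)

theorem two_length_le_one (h : ∀ x : G, x ^ 6 = 1) : PLengthLE 2 1 G := by
  refine H82.pLengthLE_one_of_coprime_index ?_
  have : Fact (Nat.Prime 2) := ⟨Nat.prime_two⟩
  rw [index_pPrimePCore_eq]
  set L := G ⧸ pPrimeCore 2 G
  have hL : ∀ x : L, x ^ 6 = 1 := fun x =>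
    QuotientGroup.induction_on x fun g => by rw [← QuotientGroup.mk_pow, h, QuotientGroup.mk_one]
  have := isSolvable_of_exponent_six hL
  have hc := H10.centralizer_pCore_le (H10.isPSolvable_of_isSolvable (G := L) (p := 2))
    (H1.pPrimeCore_quotient_pPrimeCore 2)
  let S : Sylow 2 L := default
  have hle : (S : Subgroup L) ≤ pCore 2 L := by
    refine fun x hx => hc ?_
    rw [Subgroup.mem_centralizer_iff]
    exact fun y hy => commute_of_two_group hL S.isPGroup' y (H1.pCore_le_sylow S hy) x hx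
  exact Nat.Coprime.coprime_dvd_left (Subgroup.index_dvd_of_le hle)
    (Nat.prime_two.coprime_iff_not_dvd.mpr S.not_dvd_index).symm

theorem three_length_le_one (h : ∀ x : G, x ^ 6 = 1) : PLengthLE 3 1 G := by
  refine H82.pLengthLE_one_of_coprime_index ?_
  have h3F : Fact (Nat.Prime 3) := ⟨Nat.prime_three⟩
  have h2F : Fact (Nat.Prime 2) := ⟨Nat.prime_two⟩
  rw [index_pPrimePCore_eq]
  set L := G ⧸ pPrimeCore 3 G
  have hL : ∀ x : L, x ^ 6 = 1 := fun x =>
    QuotientGroup.induction_on x fun g => by rw [← QuotientGroup.mk_pow, h, QuotientGroup.mk_one]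
  have := isSolvable_of_exponent_six hL
  set P := pCore 3 L with hP
  have : P.Normal := H1.pCore_normal' 3 L
  rw [Nat.coprime_comm, Nat.prime_three.coprime_iff_not_dvd]
  intro hd
  have hc := H10.centralizer_pCore_le (H10.isPSolvable_of_isSolvable (G := L) (p := 3))
    (H1.pPrimeCore_quotient_pPrimeCore 3)
  set f := QuotientGroup.mk' P
  have hY : ∀ x : L ⧸ P, x ^ 6 = 1 := fun x =>
    QuotientGroup.induction_on x fun g => by rw [← QuotientGroup.mk_pow, hL, QuotientGroup.mk_one]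
  have := isSolvable_of_exponent_six hY
  have hcY := H10.centralizer_pPrimeCore_le (H10.isPSolvable_of_isSolvable (G := L ⧸ P) (p := 3))
    (H1.pCore_quotient_pCore 3 L)
  set Q := pPrimeCore 3 (L ⧸ P)
  have : Q.Normal := H1.pPrimeCore_normal' 3 _
  obtain ⟨t₁, ht₁⟩ := exists_prime_orderOf_dvd_card' (G := L ⧸ P) 3 hd
  have hQ2 : IsPGroup 2 Q := by
    intro x
    refine ⟨1, orderOf_dvd_iff_pow_eq_one.mp ?_⟩
    rw [pow_one]
    have a : orderOf x ∣ 2 * 3 := by
      rw [← Subgroup.orderOf_coe]; exact orderOf_dvd_of_pow_eq_one (hY _)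
    exact (Nat.Coprime.coprime_dvd_left (orderOf_dvd_natCard x)
      (H1.card_pPrimeCore_coprime 3 (L ⧸ P))).dvd_of_dvd_mul_right a
  have ht₁Q : t₁ ∉ Q := fun hm => by
    have h1 : orderOf t₁ ∣ Nat.card Q := Subgroup.orderOf_dvd_natCard _ hm
    rw [ht₁] at h1
    exact Nat.prime_three.coprime_iff_not_dvd.mp (H1.card_pPrimeCore_coprime 3 (L ⧸ P)).symm h1
  -- a Sylow 2-subgroup of the preimage of `Q`
  set Q2 := Q.comap f with hQ2def
  let S₀ : Sylow 2 Q2 := default
  set S : Subgroup L := (S₀ : Subgroup Q2).map Q2.subtype with hS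
  have hS2 : IsPGroup 2 S := S₀.isPGroup'.map _
  have hSQ : S.map f = Q := by
    have hsur : Function.Surjective (f.subgroupComap Q) :=
      MonoidHom.subgroupComap_surjective_of_surjective f Q (QuotientGroup.mk'_surjective P)
    have htop := IsPGroup.iff_card.mp hQ2
    have h1 : ((S₀ : Subgroup Q2).map (f.subgroupComap Q)) = ⊤ := by
      rw [← Subgroup.index_eq_one]
      obtain ⟨k, hk⟩ := htop
      refine Nat.eq_one_of_dvd_coprimes (a := (S₀ : Subgroup Q2).index) (b := 2 ^ k) ?_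
        (Subgroup.index_map_dvd _ hsur) (hk ▸ Subgroup.index_dvd_card _)
      exact ((Nat.prime_two.coprime_iff_not_dvd.mpr S₀.not_dvd_index).symm).pow_right k
    ext y
    constructor
    · rintro ⟨_, ⟨x, -, rfl⟩, rfl⟩
      exact x.2
    · intro hy
      obtain ⟨x, hx, hxy⟩ := (h1.symm ▸ Subgroup.mem_top (⟨y, hy⟩ : Q) :
        (⟨y, hy⟩ : Q) ∈ (S₀ : Subgroup Q2).map (f.subgroupComap Q))
      exact ⟨x, ⟨x, hx, rfl⟩, congrArg Subtype.val hxy⟩
  have hfr := Sylow.normalizer_sup_eq_top S₀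
  obtain ⟨x₀, hx₀⟩ := QuotientGroup.mk'_surjective P t₁
  obtain ⟨n, hn, q, hq, hnq⟩ := Subgroup.mem_sup_of_normal_right.mp
    (hfr.symm ▸ Subgroup.mem_top x₀ : x₀ ∈ Subgroup.normalizer (S : Set L) ⊔ Q2)
  obtain ⟨t, htdef⟩ : ∃ t, t = n ^ 4 := ⟨_, rfl⟩
  have ht : t ^ 3 = 1 := by rw [htdef, ← pow_mul, show 4 * 3 = 6 * 2 from rfl, pow_mul, hL, one_pow]
  have htS : ∀ s ∈ S, t * s * t⁻¹ ∈ S := fun s hs =>
    (Subgroup.mem_normalizer_iff.mp (htdef ▸ Subgroup.pow_mem _ hn 4) s).mp hs
  -- `f t` and `t₁` act in the same way on `Q`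
  obtain ⟨s₀, hs₀Q, hs₀⟩ : ∃ y ∈ Q, t₁ * y * t₁⁻¹ ≠ y := by
    by_contra hcon
    push Not at hcon
    exact ht₁Q (hcY (Subgroup.mem_centralizer_iff.mpr fun y hy => (mul_inv_eq_iff_eq_mul.mp (hcon y hy)).symm))
  have hQc := commute_of_two_group hY hQ2
  let φ : L ⧸ P →* MulAut Q := MulAut.conjNormal
  have hφq : φ (f q) = 1 := by
    ext y
    simp only [φ, MulAut.conjNormal_apply, MulAut.one_apply]
    rw [hQc _ hq _ y.2, mul_inv_cancel_right]
  have hφ : φ (f t) = φ t₁ := by
    have h1 : φ t₁ = φ (f n) := by rw [← hx₀, ← hnq, map_mul, map_mul, hφq, mul_one]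
    have h3' : t₁ ^ 3 = 1 := orderOf_dvd_iff_pow_eq_one.mp ht₁.dvd
    have h2 : t₁ ^ 4 = t₁ := by rw [pow_succ, h3', one_mul]
    rw [htdef, map_pow, map_pow, ← h1, ← map_pow, h2]
  obtain ⟨s, hs, hfs⟩ := (hSQ.symm ▸ hs₀Q : s₀ ∈ S.map f)
  have hconj : f (t * s * t⁻¹) ≠ f s := by
    rw [map_mul, map_mul, map_inv, hfs]
    intro e
    apply hs₀
    have := congrArg (fun ψ : MulAut Q => ((ψ ⟨s₀, hs₀Q⟩ : Q) : L ⧸ P)) hφ
    simp only [φ, MulAut.conjNormal_apply] at this
    rw [← this, e]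
  have hSc := commute_of_two_group hL hS2
  have hS1 := sq_eq_one_of_two_group hL hS2
  obtain ⟨u, hu⟩ : ∃ u, u = s * (t * s * t⁻¹) := ⟨_, rfl⟩
  have huS : u ∈ S := hu ▸ S.mul_mem hs (htS s hs)
  obtain ⟨v, hv⟩ : ∃ v, v = t * u * t⁻¹ := ⟨_, rfl⟩
  have hvS : v ∈ S := hv ▸ htS u huS
  have htv : t * v * t⁻¹ = u * v := by
    have hw : t * v * t⁻¹ ∈ S := htS v hvS
    obtain ⟨a, ha⟩ : ∃ a, a = t * s * t⁻¹ := ⟨_, rfl⟩
    obtain ⟨b, hb⟩ : ∃ b, b = t * a * t⁻¹ := ⟨_, rfl⟩
    have haS : a ∈ S := ha ▸ htS s hs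
    have hbS : b ∈ S := hb ▸ htS a haS
    have hb' : t * b * t⁻¹ = s := by
      rw [hb, ha]
      calc t * (t * (t * s * t⁻¹) * t⁻¹) * t⁻¹ = t ^ 3 * s * (t ^ 3)⁻¹ := by
            simp only [pow_succ, pow_zero, one_mul, mul_inv_rev, mul_assoc]
        _ = s := by rw [ht, one_mul, inv_one, mul_one]
    have e1 : u = s * a := by rw [hu, ha]
    have e2 : v = a * b := by rw [hv, e1, ha, hb]; rw [ha]; group
    have e3 : t * v * t⁻¹ = b * s := by
      rw [e2]
      calc t * (a * b) * t⁻¹ = (t * a * t⁻¹) * (t * b * t⁻¹) := by group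
        _ = b * s := by rw [← hb, hb']
    rw [e3, e1, e2, ← mul_assoc (s * a), mul_assoc s a a, hS1 a haS, mul_one, hSc b hbS s hs]
  have hfix := fixed_of_exponent_six' hL ht (hS1 u huS) (hS1 v hvS) (hSc u huS v hvS) hv.symm htv P
    inferInstance (H1.isPGroup_pCore 3 L) (pow_three_eq_one_of_three_group hL (H1.isPGroup_pCore 3 L))
  have huP : u ∈ P := hc (Subgroup.mem_centralizer_iff.mpr fun y hy => (mul_inv_eq_iff_eq_mul.mp (hfix y hy)).symm)
  apply hconj
  have h1 : f u = 1 := (QuotientGroup.eq_one_iff u).mpr huP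
  rw [hu, map_mul] at h1
  have h2 : f s * f s = 1 := by rw [← map_mul, hS1 s hs, map_one]
  exact mul_left_cancel (h1.trans h2.symm)

end H36
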