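import Cfsg.Agent.H13.GL23.Order
import Cfsg.Agent.H36.SLThreeThree

/-!
# Facts about `GL(2,3)` transported to a group isomorphic to it
-/

set_option autoImplicit false
set_option maxRecDepth 100000
set_option synthInstance.maxSize 2000

namespace H36.GLFacts

open H13.GL23

theorem three_centralizer : ∀ x ∈ L, mm x (mm x x) = one → x ≠ one →
    (L.filter fun y => mm x y = mm y x).card = 6 := by decide +kernel

theorem three_commuting_involution : ∀ x ∈ L, mm x (mm x x) = one → x ≠ one →
    ∀ y ∈ L, mm x y = mm y x → mm y y = one → y = one ∨ y = neg1 := by decide +kernel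

theorem three_inverting : ∀ x ∈ L, mm x (mm x x) = one → x ≠ one →
    ∃ r ∈ L, mm r r = one ∧ r ≠ one ∧ r ≠ neg1 ∧ mm r (mm x r) = mm x x := by decide +kernel

theorem three_conj : ∀ x ∈ L, mm x (mm x x) = one → x ≠ one →
    ∀ y ∈ L, mm y (mm y y) = one → y ≠ one → ∃ g ∈ L, mm g x = mm y g := by decide +kernel

theorem three_not_normal : ∀ x ∈ L, mm x (mm x x) = one → x ≠ one →
    ∃ g ∈ L, mm g x ≠ mm x g ∧ mm g x ≠ mm (mm x x) g := by decide +kernel

theorem involution_commuting : ∀ x ∈ L, mm x x = one → x ≠ one → x ≠ neg1 →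
    ∀ y ∈ L, mm x y = mm y x → y = one ∨ y = neg1 ∨ y = x ∨ y = mm neg1 x := by decide +kernel

theorem three_pair_words : ∀ u ∈ L, mm u (mm u u) = one → ∀ v ∈ L, mm v (mm v v) = one →
    mm u v ≠ mm v u → 12 < (Finset.univ.image fun p : Fin 3 × Fin 3 × Fin 3 × Fin 3 =>
      mm (mm (npow u p.1) (npow v p.2.1)) (mm (npow u p.2.2.1) (npow v p.2.2.2))).card := by
  decide +kernel

theorem dt_three : ∀ x ∈ L, mm x (mm x x) = one → dt x = 1 := by decide +kernel

theorem dt_involution : ∀ x ∈ L, mm x x = one → x ≠ one → x ≠ neg1 → dt x = 2 := by decide +kernel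

theorem dt_zmod : ∀ a : ZMod 3, a * 1 = a ∧ (1 : ZMod 3) * a = a := by decide

section transport

variable {C : Type*} [Group C] (e : C ≃* Matrix.GeneralLinearGroup (Fin 2) (ZMod 3))
  {z : C} (hz : coord e z = neg1)

theorem coord_eq_one {x : C} : coord e x = one ↔ x = 1 :=
  ⟨fun h => coord_injective e (h.trans (coord_one e).symm), fun h => h ▸ coord_one e⟩

include hz in
theorem coord_eq_neg1 {x : C} : coord e x = neg1 ↔ x = z :=
  ⟨fun h => coord_injective e (h.trans hz.symm), fun h => h ▸ hz⟩

theorem three_eq {x : C} (h : x * (x * x) = 1) :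
    mm (coord e x) (mm (coord e x) (coord e x)) = one := by
  rw [← coord_mul, ← coord_mul, h, coord_one]

theorem two_eq {x : C} (h : x * x = 1) : mm (coord e x) (coord e x) = one := by
  rw [← coord_mul, h, coord_one]

theorem comm_eq {x y : C} (h : x * y = y * x) :
    mm (coord e x) (coord e y) = mm (coord e y) (coord e x) := by
  rw [← coord_mul, ← coord_mul, h]

include e in
theorem card_eq_fortyeight : Nat.card C = 48 := by
  haveI := finite_of_equiv e
  haveI := Fintype.ofFinite C
  exact card_eq e

include e in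
theorem card_centralizer_three {x : C} (h : x * (x * x) = 1) (h1 : x ≠ 1) :
    Nat.card (Subgroup.centralizer ({x} : Set C)) = 6 := by
  classical
  haveI := finite_of_equiv e
  haveI := Fintype.ofFinite C
  rw [Nat.card_eq_fintype_card, Fintype.card_subtype,
    ← three_centralizer _ (coord_mem e x) (three_eq e h) (mt (coord_eq_one e).1 h1),
    ← card_filter_coord e (fun v => mm (coord e x) v = mm v (coord e x))]
  congr 1
  ext y
  simp only [Finset.mem_filter, Finset.mem_univ, true_and, Subgroup.mem_centralizer_singleton_iff]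
  exact ⟨fun h => comm_eq e h.symm,
    fun h => (coord_injective e (by rw [coord_mul, coord_mul]; exact h)).symm⟩

include hz in
theorem eq_of_three_commuting {x y : C} (h : x * (x * x) = 1) (h1 : x ≠ 1) (hc : x * y = y * x)
    (hy : y * y = 1) : y = 1 ∨ y = z :=
  (three_commuting_involution _ (coord_mem e x) (three_eq e h) (mt (coord_eq_one e).1 h1)
    _ (coord_mem e y) (comm_eq e hc) (two_eq e hy)).imp (coord_eq_one e).1 (coord_eq_neg1 e hz).1

include hz in
theorem exists_inverting {x : C} (h : x * (x * x) = 1) (h1 : x ≠ 1) :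
    ∃ r : C, r * r = 1 ∧ r ≠ 1 ∧ r ≠ z ∧ r * x * r = x * x := by
  obtain ⟨v, hv, v2, v1, vz, hvx⟩ :=
    three_inverting _ (coord_mem e x) (three_eq e h) (mt (coord_eq_one e).1 h1)
  obtain ⟨r, rfl⟩ := exists_coord e hv
  refine ⟨r, coord_injective e (by rw [coord_mul, coord_one]; exact v2),
    fun h => v1 ((coord_eq_one e).2 h), fun h => vz ((coord_eq_neg1 e hz).2 h), ?_⟩
  rw [mul_assoc]
  exact coord_injective e (by rw [coord_mul, coord_mul, coord_mul]; exact hvx)

include e in
theorem isConj_three {x y : C} (h : x * (x * x) = 1) (h1 : x ≠ 1) (k : y * (y * y) = 1)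
    (k1 : y ≠ 1) : IsConj x y := by
  obtain ⟨v, hv, hg⟩ := three_conj _ (coord_mem e x) (three_eq e h) (mt (coord_eq_one e).1 h1)
    _ (coord_mem e y) (three_eq e k) (mt (coord_eq_one e).1 k1)
  obtain ⟨g, rfl⟩ := exists_coord e hv
  refine isConj_iff.2 ⟨g, ?_⟩
  rw [← coord_mul, ← coord_mul] at hg
  rw [coord_injective e hg, mul_inv_cancel_right]

include e in
theorem exists_not_normalizing {x : C} (h : x * (x * x) = 1) (h1 : x ≠ 1) :
    ∃ g : C, g * x * g⁻¹ ∉ Subgroup.zpowers x := by
  classical
  obtain ⟨v, hv, v1, v2⟩ :=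
    three_not_normal _ (coord_mem e x) (three_eq e h) (mt (coord_eq_one e).1 h1)
  obtain ⟨g, rfl⟩ := exists_coord e hv
  refine ⟨g, fun hm => ?_⟩
  have ho : orderOf x = 3 := orderOf_eq_prime (by rw [pow_succ', sq]; exact h) h1
  haveI := finite_of_equiv e
  rw [mem_zpowers_iff_mem_range_orderOf] at hm
  obtain ⟨k, hk, hkx⟩ := Finset.mem_image.1 hm
  rw [Finset.mem_range, ho] at hk
  have hgx : g * x = x ^ k * g := by rw [hkx, inv_mul_cancel_right]
  interval_cases k
  · rw [pow_zero, one_mul] at hgx
    exact h1 (mul_eq_left.1 hgx)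
  · rw [pow_one] at hgx
    exact v1 (comm_eq e hgx)
  · rw [sq] at hgx
    exact v2 (by rw [← coord_mul, ← coord_mul, ← coord_mul, hgx])

include hz in
theorem eq_of_involution_commuting {x y : C} (h : x * x = 1) (h1 : x ≠ 1) (h2 : x ≠ z)
    (hc : x * y = y * x) : y = 1 ∨ y = z ∨ y = x ∨ y = z * x := by
  rcases involution_commuting _ (coord_mem e x) (two_eq e h) (mt (coord_eq_one e).1 h1)
    (mt (coord_eq_neg1 e hz).1 h2) _ (coord_mem e y) (comm_eq e hc) with k | k | k | k
  · exact Or.inl ((coord_eq_one e).1 k)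
  · exact Or.inr (Or.inl ((coord_eq_neg1 e hz).1 k))
  · exact Or.inr (Or.inr (Or.inl (coord_injective e k)))
  · exact Or.inr (Or.inr (Or.inr (coord_injective e (k.trans (by rw [coord_mul, hz])))))

include hz in
/-- Two non-commuting elements of order `3` and a reflection generate everything. -/
theorem eq_top_of_mem (H : Subgroup C) {u v r : C} (hu : u * (u * u) = 1) (hv : v * (v * v) = 1)
    (huv : u * v ≠ v * u) (hr : r * r = 1) (r1 : r ≠ 1) (rz : r ≠ z) (mu : u ∈ H) (mv : v ∈ H)
    (mr : r ∈ H) : H = ⊤ := by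
  classical
  haveI := finite_of_equiv e
  haveI := Fintype.ofFinite C
  set f : Fin 3 × Fin 3 × Fin 3 × Fin 3 → C := fun p =>
    u ^ (p.1 : ℕ) * v ^ (p.2.1 : ℕ) * (u ^ (p.2.2.1 : ℕ) * v ^ (p.2.2.2 : ℕ)) with hf
  set S := Finset.univ.image f
  have hcard : 12 < S.card := by
    refine lt_of_lt_of_le (three_pair_words _ (coord_mem e u) (three_eq e hu) _ (coord_mem e v)
      (three_eq e hv) fun h => huv (coord_injective e (by rw [coord_mul, coord_mul]; exact h))) ?_
    rw [← Finset.card_image_of_injective S (coord_injective e), Finset.image_image]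
    refine le_of_eq (congrArg Finset.card (Finset.image_congr fun p _ => ?_))
    simp only [Function.comp_apply, hf, coord_mul, coord_pow]
  have hdetS : ∀ x ∈ S, dt (coord e x) = 1 := by
    intro x hx
    obtain ⟨p, -, rfl⟩ := Finset.mem_image.1 hx
    have hu' : dt (coord e u) = 1 := dt_three _ (coord_mem e u) (three_eq e hu)
    have hv' : dt (coord e v) = 1 := dt_three _ (coord_mem e v) (three_eq e hv)
    have hpow : ∀ {y : C}, dt (coord e y) = 1 → ∀ k : ℕ, dt (coord e (y ^ k)) = 1 := by
      intro y hy k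
      induction k with
      | zero => rw [pow_zero, coord_one]; decide
      | succ k ih => rw [pow_succ, coord_mul, dt_mm, ih, hy, (dt_zmod 1).1]
    simp only [hf, coord_mul, dt_mm, hpow hu', hpow hv', mul_one]
  have hdisj : Disjoint S (S.image (r * ·)) := by
    rw [Finset.disjoint_left]
    intro x hx hx'
    obtain ⟨y, hy, rfl⟩ := Finset.mem_image.1 hx'
    have h2 : dt (coord e r) = 2 := dt_involution _ (coord_mem e r) (two_eq e hr)
      (mt (coord_eq_one e).1 r1) (mt (coord_eq_neg1 e hz).1 rz)
    have := hdetS _ hx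
    rw [coord_mul, dt_mm, hdetS _ hy, h2, mul_one] at this
    exact absurd this (by decide)
  have hsub : S ∪ S.image (r * ·) ⊆ Finset.univ.filter (· ∈ H) := by
    intro x hx
    simp only [Finset.mem_filter, Finset.mem_univ, true_and]
    have hS : ∀ y ∈ S, y ∈ H := by
      intro y hy
      obtain ⟨p, -, rfl⟩ := Finset.mem_image.1 hy
      exact mul_mem (mul_mem (pow_mem mu _) (pow_mem mv _)) (mul_mem (pow_mem mu _) (pow_mem mv _))
    rcases Finset.mem_union.1 hx with h | h
    · exact hS x h
    · obtain ⟨y, hy, rfl⟩ := Finset.mem_image.1 h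
      exact mul_mem mr (hS y hy)
  have h26 : 25 ≤ Nat.card H := by
    rw [Nat.card_eq_fintype_card, Fintype.card_subtype]
    refine le_trans ?_ (Finset.card_le_card hsub)
    rw [Finset.card_union_of_disjoint hdisj,
      Finset.card_image_of_injective _ (mul_right_injective r)]
    omega
  have hdvd : Nat.card H ∣ 48 := card_eq_fortyeight e ▸ H.card_subgroup_dvd_card
  refine (Subgroup.card_eq_iff_eq_top H).1 ?_
  rw [card_eq_fortyeight e]
  obtain ⟨c, hc⟩ := hdvd
  have : c = 1 := by
    rcases Nat.lt_or_ge c 2 with h | h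
    · rcases c with _ | _ | c <;> omega
    · have := Nat.mul_le_mul h26 h
      omega
  subst this
  omega

include hz in
/-- `GL(2,3)` is generated by its non-central involutions. -/
theorem eq_top_of_involutions (H : Subgroup C)
    (h : ∀ r : C, r * r = 1 → r ≠ 1 → r ≠ z → r ∈ H) : H = ⊤ := by
  have hthree : ∀ x : C, x * (x * x) = 1 → x ≠ 1 → x ∈ H := by
    intro x hx hx1
    obtain ⟨r, r2, r1, rz, hrx⟩ := exists_inverting e hz hx hx1
    have hxr : x * r * (x * r) = 1 := by
      calc x * r * (x * r) = x * (r * x * r) := by simp only [mul_assoc]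
        _ = 1 := by rw [hrx, hx]
    by_cases c1 : x * r = 1
    · rw [eq_inv_of_mul_eq_one_left c1]
      exact inv_mem (h r r2 r1 rz)
    by_cases c2 : x * r = z
    · exfalso
      have hxe : x = z * r := by rw [← c2, mul_assoc, r2, mul_one]
      have hzz : z * r = r * z := coord_injective e (by
        rw [coord_mul, coord_mul, hz]
        exact (by decide +kernel : ∀ v : H13.GL23.V, mm neg1 v = mm v neg1) _)
      have hx2 : x * x = 1 := by
        have hzz2 : z * z = 1 := coord_injective e (by
          rw [coord_mul, hz, coord_one]; decide +kernel)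
        rw [hxe]
        calc z * r * (z * r) = z * (r * z) * r := by simp only [mul_assoc]
          _ = 1 := by rw [← hzz, ← mul_assoc, hzz2, one_mul, r2]
      rw [hx2, mul_one] at hx
      exact hx1 hx
    have := mul_mem (h _ hxr c1 c2) (h r r2 r1 rz)
    rwa [mul_assoc, r2, mul_one] at this
  obtain ⟨a, ha⟩ := exists_coord e (show ((1, 0, 0, 2) : H13.GL23.V) ∈ L by decide +kernel)
  obtain ⟨u, hu⟩ := exists_coord e (show ((1, 1, 0, 1) : H13.GL23.V) ∈ L by decide +kernel)
  obtain ⟨v, hv⟩ := exists_coord e (show ((1, 0, 1, 1) : H13.GL23.V) ∈ L by decide +kernel)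
  have a2 : a * a = 1 := coord_injective e (by rw [coord_mul, ha, coord_one]; decide +kernel)
  have a1 : a ≠ 1 := fun h => absurd (ha.symm.trans ((coord_eq_one e).2 h)) (by decide +kernel)
  have az : a ≠ z := fun h => absurd (ha.symm.trans ((coord_eq_neg1 e hz).2 h)) (by decide +kernel)
  have u3 : u * (u * u) = 1 :=
    coord_injective e (by rw [coord_mul, coord_mul, hu, coord_one]; decide +kernel)
  have v3 : v * (v * v) = 1 :=
    coord_injective e (by rw [coord_mul, coord_mul, hv, coord_one]; decide +kernel)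
  have u1 : u ≠ 1 := fun h => absurd (hu.symm.trans ((coord_eq_one e).2 h)) (by decide +kernel)
  have v1 : v ≠ 1 := fun h => absurd (hv.symm.trans ((coord_eq_one e).2 h)) (by decide +kernel)
  refine eq_top_of_mem e hz H u3 v3 (fun h => ?_) a2 a1 az (hthree u u3 u1) (hthree v v3 v1)
    (h a a2 a1 az)
  have := comm_eq e h
  rw [hu, hv] at this
  exact absurd this (by decide +kernel)

end transport

end H36.GLFacts
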