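import Cfsg.Agent.H36.L33Three
import Cfsg.Agent.H5.Burnside

/-!
# Simple groups of order `5616`: the two elementary abelian subgroups through an element of order three
-/

set_option autoImplicit false

open Subgroup

namespace H36.L33

universe u

variable {G : Type u} [Group G]

/-- An element of order three centralised by an involution, with the decomposition of its Sylow
subgroup under a four group. -/
structure Frame (G : Type u) [Group G] where
  h : Hyp G
  t : G
  r : G
  w : G
  x : G
  y : G
  P : Subgroup G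
  ht : orderOf t = 2
  hr : orderOf r = 2
  rt : t * r = r * t
  rne : r ≠ t
  hw : w * (w * w) = 1
  hw1 : w ≠ 1
  tw : t * w = w * t
  rwr : r * w * r = w * w
  hx : x * (x * x) = 1
  hx1 : x ≠ 1
  rx : r * x = x * r
  txt : t * x * t = x * x
  hy : y * (y * y) = 1
  hy1 : y ≠ 1
  sy : t * r * y = y * (t * r)
  tyt : t * y * t = y * y
  cardP : Nat.card P = 27
  wP : w ∈ P
  xP : x ∈ P
  yP : y ∈ P
  cP : P ≤ centralizer ({w} : Set G)
  hP : ∀ g ∈ centralizer ({w} : Set G), ∀ p ∈ P, g * p * g⁻¹ ∈ P
  memP : ∀ g ∈ centralizer ({w} : Set G), g ^ (2 * 13 + 1) = 1 → g ∈ P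
  xy : x * y ≠ y * x

theorem sandwich_mul {r : G} (hr : r * r = 1) (a b : G) : r * (a * b) * r = r * a * r * (r * b * r) := by
  simp only [mul_assoc]; rw [← mul_assoc r r, hr, one_mul]

theorem sandwich_eq_conj {r : G} (hr : r * r = 1) (a : G) : r * a * r = r * a * r⁻¹ := by
  rw [inv_eq_of_mul_eq_one_right hr]

theorem sandwich_sandwich {r : G} (hr : r * r = 1) (a : G) : r * (r * a * r) * r = a := by
  simp only [mul_assoc]; rw [hr, mul_one, ← mul_assoc, hr, one_mul]

theorem sandwich_inv {r : G} (hr : r * r = 1) (a : G) : r * a⁻¹ * r = (r * a * r)⁻¹ := by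
  rw [mul_inv_rev, mul_inv_rev, inv_eq_of_mul_eq_one_right hr, mul_assoc]

theorem sandwich_two {t r : G} (h : t * r = r * t) (a : G) :
    t * r * a * (t * r) = t * (r * a * r) * t := by
  nth_rewrite 2 [h]
  simp only [mul_assoc]

theorem two_commute_ne {t r : G} (ht : t * t = 1) (hr : r * r = 1) (hrt : t * r = r * t) (hne : r ≠ t) :
    t * r * (t * r) = 1 ∧ t * r ≠ 1 := by
  refine ⟨?_, fun e => hne ?_⟩
  · calc t * r * (t * r) = t * (r * t) * r := by simp only [mul_assoc]
      _ = 1 := by rw [← hrt, ← mul_assoc, ht, one_mul, hr]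
  · exact (eq_inv_of_mul_eq_one_right e).trans (inv_eq_of_mul_eq_one_right ht)

theorem mem_normalizer_of_conj_mem [Finite G] {H : Subgroup G} {g : G}
    (hg : ∀ a ∈ H, g * a * g⁻¹ ∈ H) : g ∈ normalizer (H : Set G) := by
  classical
  rw [mem_normalizer_iff]
  intro a
  refine ⟨hg a, fun ha => ?_⟩
  let f : H → H := fun b => ⟨g * b * g⁻¹, hg b b.2⟩
  have hf : Function.Injective f := fun b c e =>
    Subtype.ext (mul_left_cancel (mul_right_cancel (congrArg Subtype.val e)))
  obtain ⟨b, hb⟩ := (Finite.injective_iff_surjective.1 hf) ⟨_, ha⟩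
  have e : (b : G) = a := mul_left_cancel (mul_right_cancel (congrArg Subtype.val hb))
  exact e ▸ b.2

variable [Finite G] [IsSimpleGroup G]

/-- An involution inverting `w` and commuting with `t` fixes an element of `P` inverted by `t`. -/
theorem exists_fixed (h : Hyp G) {t r w : G} (ht : orderOf t = 2) (hr : orderOf r = 2)
    (hrne : r ≠ t) (hrt : t * r = r * t) (hw : w * (w * w) = 1) (hw1 : w ≠ 1) (htw : t * w = w * t)
    (hrw : r * w * r = w * w) (P : Subgroup G) (hP27 : Nat.card P = 27) (hwP : w ∈ P)
    (hcP : P ≤ centralizer ({w} : Set G)) (htP : ∀ p ∈ P, t * p * t ∈ P)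
    (hrP : ∀ p ∈ P, r * p * r ∈ P) :
    ∃ x ∈ P, x * (x * x) = 1 ∧ x ≠ 1 ∧ r * x = x * r ∧ t * x * t = x * x := by
  classical
  have hP3 : IsPGroup 3 P := IsPGroup.of_card (p := 3) (n := 3) (by rw [hP27]; norm_num)
  have t2 := sq_of_two ht
  have r2 := sq_of_two hr
  have hPt : Nat.card ↥(P ⊓ centralizer ({t} : Set G)) ≤ 3 :=
    card_le_three h ht (hP3.to_le inf_le_left) inf_le_right
  have hPtw : P ⊓ centralizer ({t} : Set G) = zpowers w := by
    refine (eq_of_le_of_card_ge (zpowers_le.2 (show w ∈ P ⊓ centralizer ({t} : Set G) from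
      ⟨hwP, mem_centralizer_singleton_iff.2 htw.symm⟩)) ?_).symm
    rw [Nat.card_zpowers, three_of_cube hw hw1]
    exact hPt
  by_cases hfix : ∀ n ∈ P, r * n = n * r → n = 1
  · exfalso
    have hinv : ∀ n ∈ P, r * n * r = n⁻¹ := fun n hn => inverts_of_fixedPointFree P r2 hrP hfix hn
    have hcomm : ∀ a ∈ P, ∀ b ∈ P, a * b = b * a := fun a ha b hb => by
      apply inv_injective
      rw [← hinv _ (P.mul_mem ha hb), sandwich_mul r2, hinv a ha, hinv b hb, mul_inv_rev]
    obtain ⟨s2, s1⟩ := two_commute_ne t2 r2 hrt hrne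
    have hs := two_of_sq s2 s1
    let φ : P →* G :=
      { toFun := fun p => (p : G)⁻¹ * (t * p * t)
        map_one' := by simp [t2]
        map_mul' := fun a b => by
          show ((a : G) * b)⁻¹ * (t * ((a : G) * b) * t) = _
          rw [sandwich_mul t2, mul_inv_rev]
          have e : (b : G)⁻¹ * ((a : G)⁻¹ * (t * a * t)) = (a : G)⁻¹ * (t * a * t) * (b : G)⁻¹ :=
            hcomm _ (P.inv_mem b.2) _ (P.mul_mem (P.inv_mem a.2) (htP _ a.2))
          calc (b : G)⁻¹ * (a : G)⁻¹ * (t * a * t * (t * b * t))
              = (b : G)⁻¹ * ((a : G)⁻¹ * (t * a * t)) * (t * b * t) := by simp only [mul_assoc]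
            _ = (a : G)⁻¹ * (t * a * t) * ((b : G)⁻¹ * (t * b * t)) := by
                rw [e]; simp only [mul_assoc] }
    have hrange : φ.range ≤ P ⊓ centralizer ({t * r} : Set G) := by
      rintro _ ⟨p, rfl⟩
      have hmem : (p : G)⁻¹ * (t * p * t) ∈ P := P.mul_mem (P.inv_mem p.2) (htP _ p.2)
      refine ⟨hmem, mem_centralizer_singleton_iff.2 ?_⟩
      set q := (p : G)⁻¹ * (t * p * t) with hq
      show q * (t * r) = t * r * q
      have h1 : t * q * t = q⁻¹ := by
        rw [hq, sandwich_mul t2, sandwich_sandwich t2, mul_inv_rev, inv_inv]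
        congr 1
        rw [mul_inv_rev, mul_inv_rev, inv_eq_of_mul_eq_one_right t2, mul_assoc]
      have h3 : t * r * q * (r * t) = q := by
        calc t * r * q * (r * t) = t * (r * q * r) * t := by simp only [mul_assoc]
          _ = (t * q * t)⁻¹ := by rw [hinv _ hmem, sandwich_inv t2]
          _ = q := by rw [h1, inv_inv]
      have e : r * t * (t * r) = 1 := by rw [mul_assoc, ← mul_assoc t t, t2, one_mul, r2]
      calc q * (t * r) = t * r * q * (r * t) * (t * r) := by rw [h3]
        _ = t * r * q := by rw [mul_assoc _ (r * t), e, mul_one]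
    have h1 : Nat.card φ.range ≤ 3 :=
      le_trans (card_le_of_le hrange) (card_le_three h hs (hP3.to_le inf_le_left) inf_le_right)
    have h2 : Nat.card φ.ker ≤ 3 := by
      have hsub : φ.ker.map P.subtype ≤ P ⊓ centralizer ({t} : Set G) := by
        rintro _ ⟨p, hp, rfl⟩
        refine ⟨p.2, mem_centralizer_singleton_iff.2 ?_⟩
        have e : (p : G)⁻¹ * (t * p * t) = 1 := hp
        have e' := congrArg (fun z => (p : G) * z * t) e
        simp only [mul_one, mul_inv_cancel_left] at e'
        rw [mul_assoc _ t t, t2, mul_one] at e'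
        exact e'.symm
      rw [← card_subtype P φ.ker]
      exact le_trans (card_le_of_le hsub) hPt
    have hm := φ.ker.card_mul_index
    rw [Subgroup.index_ker, hP27] at hm
    have := Nat.mul_le_mul h2 h1
    rw [hm] at this
    norm_num at this
  · push Not at hfix
    obtain ⟨x, hxP, hrx, hx1⟩ := hfix
    have hPr : Nat.card ↥(P ⊓ centralizer ({r} : Set G)) ≤ 3 :=
      card_le_three h hr (hP3.to_le inf_le_left) inf_le_right
    have hxm : x ∈ P ⊓ centralizer ({r} : Set G) := ⟨hxP, mem_centralizer_singleton_iff.2 hrx.symm⟩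
    have hx3 : x * (x * x) = 1 := by
      apply cube_of_pow
      haveI : Fact (Nat.Prime 3) := ⟨Nat.prime_three⟩
      obtain ⟨k, hk⟩ := (hP3.to_le (inf_le_left : P ⊓ centralizer ({r} : Set G) ≤ P)).exists_card_eq
      rw [← orderOf_dvd_iff_pow_eq_one]
      refine (Subgroup.orderOf_dvd_natCard _ hxm).trans (hk ▸ ?_)
      rcases k with _ | _ | k
      · norm_num
      · norm_num
      · rw [hk] at hPr
        have := Nat.pow_le_pow_right (show 0 < 3 by norm_num) (show 2 ≤ k + 2 by omega)
        omega
    have hzx : P ⊓ centralizer ({r} : Set G) = zpowers x := by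
      refine (eq_of_le_of_card_ge (zpowers_le.2 hxm) ?_).symm
      rw [Nat.card_zpowers, three_of_cube hx3 hx1]
      exact hPr
    have hxt : x * t ≠ t * x := fun e => by
      have : x ∈ zpowers w := hPtw ▸ ⟨hxP, mem_centralizer_singleton_iff.2 e⟩
      rcases (mem_zpowers_three hw).1 this with rfl | rfl | rfl
      · exact hx1 rfl
      · have e2 : r * x * r = x := by rw [hrx, mul_assoc, r2, mul_one]
        rw [hrw] at e2
        exact hw1 (mul_eq_left.1 e2)
      · have e2 : r * (w * w) * r = w * w := by rw [hrx, mul_assoc, r2, mul_one]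
        rw [sandwich_mul r2, hrw, show w * w * (w * w) = w * (w * (w * w)) by group, hw, mul_one] at e2
        exact hw1 (mul_eq_left.1 e2.symm)
    refine ⟨x, hxP, hx3, hx1, hrx, ?_⟩
    have hmem : t * x * t ∈ zpowers x := by
      rw [← hzx]
      refine ⟨htP x hxP, mem_centralizer_singleton_iff.2 ?_⟩
      calc t * x * t * r = t * x * (t * r) := by simp only [mul_assoc]
        _ = t * (x * r) * t := by rw [hrt]; simp only [mul_assoc]
        _ = t * r * (x * t) := by rw [← hrx]; simp only [mul_assoc]
        _ = r * (t * x * t) := by rw [hrt]; simp only [mul_assoc]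
    rcases (mem_zpowers_three hx3).1 hmem with e | e | e
    · exfalso
      apply hx1
      have := congrArg (fun z => t * z * t) e
      simp only [sandwich_sandwich t2, mul_one, t2] at this
      exact this
    · exfalso
      apply hxt
      have := congrArg (fun z => z * t) e
      simp only [mul_assoc, t2, mul_one] at this
      exact this.symm
    · exact e

theorem exists_frame (h : Hyp G) : Nonempty (Frame G) := by
  classical
  haveI : Fact (Nat.Prime 2) := ⟨Nat.prime_two⟩
  haveI : Fact (Nat.Prime 3) := ⟨Nat.prime_three⟩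
  obtain ⟨t, ht⟩ := exists_prime_orderOf_dvd_card' (G := G) 2 (by rw [h.card]; norm_num)
  obtain ⟨⟨w, hwC⟩, hwo⟩ := exists_prime_orderOf_dvd_card' (G := centralizer ({t} : Set G)) 3
    (by rw [card_centralizer_two h ht]; norm_num)
  rw [Subgroup.orderOf_mk] at hwo
  have hw : w * (w * w) = 1 := cube_of_pow (by rw [← hwo, pow_orderOf_eq_one])
  have hw1 : w ≠ 1 := fun e => by rw [e, orderOf_one] at hwo; norm_num at hwo
  have htw : t * w = w * t := (mem_centralizer_singleton_iff.1 hwC).symm
  set C := centralizer ({w} : Set G) with hC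
  have hC54 := card_centralizer_three h ht hw hw1 htw
  obtain ⟨P₀⟩ : Nonempty (Sylow 3 C) := inferInstance
  have hP₀ : Nat.card (P₀ : Subgroup C) = 27 := by
    rw [H62.card_sylow_coe (p := 3) (a := 3) (m := 2) (by rw [hC54]; norm_num) (by norm_num) P₀]
    norm_num
  set P := (P₀ : Subgroup C).map C.subtype with hPdef
  have hP27 : Nat.card P = 27 := by rw [hPdef, card_subtype]; exact hP₀
  have hidx : (P.subgroupOf C).index = 2 := by
    have e : P.subgroupOf C = (P₀ : Subgroup C) := comap_map_eq_self_of_injective C.subtype_injective _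
    have := (P.subgroupOf C).card_mul_index
    rw [e, hP₀, hC54] at this
    rw [e]
    omega
  have memP : ∀ g ∈ C, g ^ (2 * 13 + 1) = 1 → g ∈ P := fun g hg e => mem_of_odd hidx hg e
  have hwP : w ∈ P := memP w (mem_centralizer_singleton_iff.2 rfl)
    (by rw [show 2 * 13 + 1 = 3 * 9 from rfl, pow_mul,
      show w ^ 3 = 1 by rw [pow_succ', sq]; exact hw, one_pow])
  have hcP : P ≤ C := map_subtype_le _
  have hpow : ∀ p ∈ P, p ^ (2 * 13 + 1) = 1 := fun p hp => by
    rw [← orderOf_dvd_iff_pow_eq_one]
    exact (Subgroup.orderOf_dvd_natCard P hp).trans (by rw [hP27])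
  have hPn : ∀ g ∈ C, ∀ p ∈ P, g * p * g⁻¹ ∈ P := fun g hg p hp => by
    refine memP _ (C.mul_mem (C.mul_mem hg (hcP hp)) (C.inv_mem hg)) ?_
    rw [conj_pow, hpow p hp]
    group
  obtain ⟨r, hr, hrne, hrt, hrw⟩ := exists_inverting h ht hw hw1 htw
  have t2 := sq_of_two ht
  have r2 := sq_of_two hr
  have htP : ∀ p ∈ P, t * p * t ∈ P := fun p hp => by
    rw [sandwich_eq_conj t2]; exact hPn t (mem_centralizer_singleton_iff.2 htw) p hp
  have hsand : ∀ {u : G}, u * u = 1 → u * w * u = w * w → ∀ p ∈ P, u * p * u ∈ P := by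
    intro u u2 huw p hp
    refine memP _ (mem_centralizer_singleton_iff.2 ?_) ?_
    · have e : w = u * (w * w) * u := by rw [← huw, sandwich_sandwich u2]
      calc u * p * u * w = u * p * u * (u * (w * w) * u) := by rw [← e]
        _ = u * (p * (w * w)) * u := by simp only [mul_assoc]; rw [← mul_assoc u u, u2, one_mul]
        _ = u * ((w * w) * p) * u := by
            have hc : Commute p w := mem_centralizer_singleton_iff.1 (hcP hp)
            rw [(hc.mul_right hc).eq]
        _ = u * (w * w) * u * (u * p * u) := by rw [sandwich_mul u2]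
        _ = w * (u * p * u) := by rw [← e]
    · rw [sandwich_eq_conj u2, conj_pow, hpow p hp]
      group
  obtain ⟨s2, s1⟩ := two_commute_ne t2 r2 hrt hrne
  have hs := two_of_sq s2 s1
  have hsne : t * r ≠ t := fun e => ne_one_of_two hr (mul_eq_left.1 e)
  have hst : t * (t * r) = t * r * t := by rw [mul_assoc t r t, ← hrt]
  have hsw : t * r * w * (t * r) = w * w := by
    calc t * r * w * (t * r) = t * (r * w * r) * t := sandwich_two hrt w
      _ = w * w := by
          rw [hrw, sandwich_mul t2, show t * w * t = w by rw [htw, mul_assoc, t2, mul_one]]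
  obtain ⟨x, hxP, hx, hx1, hrx, htx⟩ :=
    exists_fixed h ht hr hrne hrt hw hw1 htw hrw P hP27 hwP hcP htP (hsand r2 hrw)
  obtain ⟨y, hyP, hy, hy1, hsy, hty⟩ :=
    exists_fixed h ht hs hsne hst hw hw1 htw hsw P hP27 hwP hcP htP (hsand s2 hsw)
  have hP3 : IsPGroup 3 P := IsPGroup.of_card (p := 3) (n := 3) (by rw [hP27]; norm_num)
  refine ⟨⟨h, t, r, w, x, y, P, ht, hr, hrt, hrne, hw, hw1, htw, hrw, hx, hx1, hrx, htx, hy, hy1, hsy,
    hty, hP27, hwP, hxP, hyP, hcP, hPn, memP, fun hxy => ?_⟩⟩
  -- the abelian case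
  have hwx : w * x = x * w := (mem_centralizer_singleton_iff.1 (hcP hxP)).symm
  have hwy : w * y = y * w := (mem_centralizer_singleton_iff.1 (hcP hyP)).symm
  set A := closure ({w, x} : Set G) with hA
  have hAP : A ≤ P := by
    rw [hA, closure_le]; rintro _ (rfl | rfl) <;> assumption
  have hAc : ∀ a ∈ A, Commute a w ∧ Commute a x ∧ Commute a y := by
    intro a ha
    induction ha using closure_induction with
    | mem z hz =>
      rcases hz with rfl | rfl
      exacts [⟨Commute.refl _, hwx, hwy⟩, ⟨hwx.symm, Commute.refl _, hxy⟩]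
    | one => exact ⟨Commute.one_left _, Commute.one_left _, Commute.one_left _⟩
    | mul a b _ _ ia ib =>
      exact ⟨ia.1.mul_left ib.1, ia.2.1.mul_left ib.2.1, ia.2.2.mul_left ib.2.2⟩
    | inv a _ ia => exact ⟨ia.1.inv_left, ia.2.1.inv_left, ia.2.2.inv_left⟩
  have hAA : ∀ a ∈ A, ∀ b ∈ A, Commute a b := by
    intro a ha b hb
    induction hb using closure_induction with
    | mem z hz => rcases hz with rfl | rfl; exacts [(hAc a ha).1, (hAc a ha).2.1]
    | one => exact Commute.one_right _
    | mul b c _ _ ib ic => exact ib.mul_right ic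
    | inv b _ ib => exact ib.inv_right
  have hAinv : ∀ a ∈ A, t * r * a * (t * r) = a⁻¹ := by
    intro a ha
    induction ha using closure_induction with
    | mem z hz =>
      rcases hz with rfl | rfl
      · rw [hsw]; exact (inv_eq_of_mul_eq_one_right hw).symm
      · calc t * r * z * (t * r) = t * (r * z * r) * t := sandwich_two hrt z
          _ = t * z * t := by rw [hrx, mul_assoc z r r, r2, mul_one]
          _ = z⁻¹ := by rw [htx]; exact (inv_eq_of_mul_eq_one_right hx).symm
    | one => simp [s2]
    | mul a b ha' hb' ia ib =>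
      rw [sandwich_mul s2, ia, ib, mul_inv_rev]
      exact ((hAA a ha' b hb').inv_inv).eq
    | inv a _ ia => rw [sandwich_eq_conj s2, ← conj_inv, ← sandwich_eq_conj s2, ia]
  have hyA : y ∉ A := fun hm => by
    have e := hAinv y hm
    rw [hsy, mul_assoc y, s2, mul_one] at e
    have y2 : y * y = 1 := by nth_rewrite 1 [e]; exact inv_mul_cancel y
    rw [y2, mul_one] at hy
    exact hy1 hy
  -- `P` is commutative
  have hxA : x ∈ A := subset_closure (by simp)
  have hwA : w ∈ A := subset_closure (by simp)
  have hA9 : 9 ≤ Nat.card A := by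
    obtain ⟨k, hk⟩ := (hP3.to_le hAP).exists_card_eq
    rw [hk]
    by_contra hlt
    push Not at hlt
    have hk1 : k ≤ 1 := by
      by_contra hlt'
      have := Nat.pow_le_pow_right (show 0 < 3 by norm_num) (show 2 ≤ k by omega)
      omega
    have hAW : zpowers w = A := eq_of_le_of_card_ge (zpowers_le.2 hwA) (by
      rw [hk, Nat.card_zpowers, hwo]
      interval_cases k <;> norm_num)
    rw [← hAW] at hxA
    obtain ⟨i, hi⟩ := mem_zpowers_iff.1 hxA
    have e : t * x * t = x := by
      rw [← hi, ((show Commute t w from htw).zpow_right i).eq, mul_assoc, t2, mul_one]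
    rw [htx] at e
    exact hx1 (mul_eq_left.1 e)
  have hcomm : ∀ p ∈ P, ∀ q ∈ P, Commute p q := by
    have hle' : closure ({w, x, y} : Set G) ≤ P := by
      rw [closure_le]; rintro _ (rfl | rfl | rfl) <;> assumption
    have hgen : closure ({w, x, y} : Set G) = P := by
      refine eq_of_le_of_card_ge hle' ?_
      have hAB : A ≤ closure ({w, x, y} : Set G) :=
        closure_mono (by rintro _ (rfl | rfl) <;> simp)
      obtain ⟨k, hk⟩ := (hP3.to_le hle').exists_card_eq
      have h1 : Nat.card A < 3 ^ k := hk ▸ Nat.lt_of_le_of_ne (card_le_of_le hAB)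
        (fun e => hyA ((eq_of_le_of_card_ge hAB e.ge).symm ▸ subset_closure (by simp)))
      have h3 : 3 ≤ k := by
        by_contra hlt'
        have := Nat.pow_le_pow_right (show 0 < 3 by norm_num) (show k ≤ 2 by omega)
        omega
      rw [hP27, hk]
      calc 27 = 3 ^ 3 := by norm_num
        _ ≤ 3 ^ k := Nat.pow_le_pow_right (by norm_num) h3
    have hgc : ∀ z ∈ ({w, x, y} : Set G), ∀ q ∈ P, Commute z q := by
      intro z hz q hq
      rw [← hgen] at hq
      induction hq using closure_induction with
      | mem z' hz' =>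
        rcases hz with rfl | rfl | rfl <;> rcases hz' with rfl | rfl | rfl
        exacts [Commute.refl _, hwx, hwy, hwx.symm, Commute.refl _, hxy, hwy.symm, hxy.symm,
          Commute.refl _]
      | one => exact Commute.one_right _
      | mul b c _ _ ib ic => exact ib.mul_right ic
      | inv b _ ib => exact ib.inv_right
    intro p hp q hq
    rw [← hgen] at hp
    induction hp using closure_induction with
    | mem z hz => exact hgc z hz q hq
    | one => exact Commute.one_left _
    | mul b c _ _ ib ic => exact ib.mul_left ic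
    | inv b _ ib => exact ib.inv_left
  obtain ⟨Ps, hPs⟩ := (IsPGroup.of_card (p := 3) (n := 3) (G := P) (by rw [hP27]; norm_num)).exists_le_sylow
  have hPeq : P = (Ps : Subgroup G) := eq_of_le_of_card_ge hPs (by rw [hP27, card_sylow_three h Ps])
  set N := normalizer (P : Set G) with hN
  have htN : t ∈ N := mem_normalizer_of_conj_mem fun a ha => by
    rw [← sandwich_eq_conj t2]; exact htP a ha
  have hrN : r ∈ N := mem_normalizer_of_conj_mem fun a ha => by
    rw [← sandwich_eq_conj r2]; exact hsand r2 hrw a ha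
  let V : Subgroup G :=
    { carrier := {1, t, r, t * r}
      one_mem' := by simp
      mul_mem' := by
        have e1 : t * (t * r) = r := by rw [← mul_assoc, t2, one_mul]
        have e2 : t * r * r = t := by rw [mul_assoc, r2, mul_one]
        have e3 : r * (t * r) = t := by rw [hrt, ← mul_assoc, r2, one_mul]
        have e4 : t * r * t = r := by rw [hrt, mul_assoc, t2, mul_one]
        rintro a b (rfl | rfl | rfl | rfl) (rfl | rfl | rfl | rfl) <;>
          simp [t2, r2, s2, e1, e2, e3, e4, ← hrt]
      inv_mem' := by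
        rintro a (rfl | rfl | rfl | rfl) <;>
          simp [inv_eq_of_mul_eq_one_right t2, inv_eq_of_mul_eq_one_right r2, hrt] }
  have hV : Nat.card V = 4 := by
    have e : Nat.card V = ({1, t, r, t * r} : Set G).ncard := rfl
    rw [e, Set.ncard_insert_of_notMem, Set.ncard_insert_of_notMem, Set.ncard_pair]
    · exact fun e => ne_one_of_two ht (mul_eq_right.1 e.symm)
    · simp only [Set.mem_insert_iff, Set.mem_singleton_iff, not_or]
      exact ⟨hrne.symm, fun e => ne_one_of_two hr (mul_eq_left.1 e.symm)⟩
    · simp only [Set.mem_insert_iff, Set.mem_singleton_iff, not_or]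
      exact ⟨(ne_one_of_two ht).symm, (ne_one_of_two hr).symm, fun e => s1 e.symm⟩
  have hVN : V ≤ N := by
    rintro a (rfl | rfl | rfl | rfl)
    exacts [one_mem _, htN, hrN, mul_mem htN hrN]
  have hPN : P ≤ N := le_normalizer
  have hN4 : 4 ∣ Nat.card N := hV ▸ card_dvd_of_le hVN
  have hN108 : Nat.card N = 108 ∨ Nat.card N = 432 := by
    have := card_normalizer_three h Ps
    rw [← hPeq] at this
    rcases this with e | e | e | e <;> rw [← hN] at e <;> omega
  rcases hN108 with e | e
  · -- fusion takes place in the normaliser of `⟨w⟩`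
    obtain ⟨g, hg⟩ := isConj_iff.1 (isConj_two h hr ht)
    obtain ⟨a, ha⟩ := isConj_iff.1 (isConj_three h ht hw hw1 htw (v := g * x * g⁻¹)
      (by rw [show g * x * g⁻¹ * (g * x * g⁻¹ * (g * x * g⁻¹)) = g * (x * (x * x)) * g⁻¹ by group, hx]
          group)
      (fun e1 => hx1 (conj_eq_one_iff.1 e1)) (by
        rw [← hg]
        calc g * r * g⁻¹ * (g * x * g⁻¹) = g * (r * x) * g⁻¹ := by group
          _ = g * x * g⁻¹ * (g * r * g⁻¹) := by rw [hrx]; group))
    have hconj : g⁻¹ * a * w * (g⁻¹ * a)⁻¹ = x := by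
      calc g⁻¹ * a * w * (g⁻¹ * a)⁻¹ = g⁻¹ * (a * w * a⁻¹) * g := by group
        _ = x := by rw [ha]; group
    obtain ⟨n, hn, hnw⟩ := H5.burnside_fusion_elem Ps
      (fun q hq => (hcomm q (hPeq ▸ hq) w hwP).eq) (fun q hq => (hcomm q (hPeq ▸ hq) x hxP).eq) hconj
    have hn' : n ∈ N := by rw [hN, hPeq]; exact hn
    have hW : N ≤ normalizer (zpowers w : Set G) := by
      have hle : N ⊓ normalizer (zpowers w : Set G) = N := by
        refine eq_of_le_of_card_ge inf_le_left ?_
        have h27 : 27 ∣ Nat.card ↥(N ⊓ normalizer (zpowers w : Set G)) := by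
          rw [← hP27]
          refine card_dvd_of_le (le_inf hPN fun p hp => mem_normalizer_of_conj_mem fun b hb => ?_)
          obtain ⟨i, rfl⟩ := mem_zpowers_iff.1 hb
          rw [(((hcomm p hp w hwP)).zpow_right i).eq, mul_inv_cancel_right]
          exact zpow_mem (mem_zpowers w) i
        have h4 : 4 ∣ Nat.card ↥(N ⊓ normalizer (zpowers w : Set G)) := by
          rw [← hV]
          refine card_dvd_of_le (le_inf hVN ?_)
          have hmem : ∀ {u : G}, u * u = 1 → u * w * u ∈ zpowers w → u ∈ normalizer (zpowers w : Set G) :=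
            fun {u} u2 hu => mem_normalizer_of_conj_mem fun b hb => by
              obtain ⟨i, rfl⟩ := mem_zpowers_iff.1 hb
              rw [← conj_zpow, ← sandwich_eq_conj u2]
              exact zpow_mem hu i
          have m1 := hmem t2 (by rw [htw, mul_assoc, t2, mul_one]; exact mem_zpowers w)
          have m2 := hmem r2 (hrw ▸ mul_mem (mem_zpowers w) (mem_zpowers w))
          rintro b (rfl | rfl | rfl | rfl)
          exacts [one_mem _, m1, m2, mul_mem m1 m2]
        have h108 := Nat.Coprime.mul_dvd_of_dvd_of_dvd (by norm_num : Nat.Coprime 27 4) h27 h4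
        rw [e]
        exact Nat.le_of_dvd Nat.card_pos (by simpa using h108)
      exact hle ▸ inf_le_right
    have hxW : x ∈ zpowers w := hnw ▸ conj_mem_of_normalizer (hW hn') (mem_zpowers w)
    obtain ⟨i, hi⟩ := mem_zpowers_iff.1 hxW
    have e' : t * x * t = x := by
      rw [← hi, ((show Commute t w from htw).zpow_right i).eq, mul_assoc, t2, mul_one]
    rw [htx] at e'
    exact hx1 (mul_eq_left.1 e')
  · -- a central involution of a Sylow `2`-subgroup would normalise a subgroup of order three
    obtain ⟨S, hS⟩ := ((IsPGroup.of_card (p := 2) (n := 2) (G := V) (by rw [hV]; norm_num)).comap_of_injective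
      N.subtype N.subtype_injective).exists_le_sylow
    have hS16 : Nat.card (S : Subgroup N) = 16 := by
      rw [H62.card_sylow_coe (p := 2) (a := 4) (m := 27) (by rw [e]; norm_num) (by norm_num) S]
      norm_num
    haveI : Nontrivial (S : Subgroup N) := Finite.one_lt_card_iff_nontrivial.1 (by rw [hS16]; norm_num)
    haveI := S.isPGroup'.center_nontrivial
    obtain ⟨⟨⟨⟨u, huN⟩, huS⟩, huZ⟩, hu2⟩ := exists_prime_orderOf_dvd_card' (G := center (S : Subgroup N)) 2 (by
      obtain ⟨k, hk⟩ := (S.isPGroup'.to_subgroup (center _)).exists_card_eq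
      have := Finite.one_lt_card (α := center (S : Subgroup N))
      rw [hk] at this ⊢
      exact dvd_pow_self 2 (by rintro rfl; simp at this))
    rw [Subgroup.orderOf_mk, Subgroup.orderOf_mk, Subgroup.orderOf_mk] at hu2
    have huc : ∀ q : N, q ∈ (S : Subgroup N) → (q : G) * u = u * q := fun q hq =>
      congrArg (fun z : (S : Subgroup N) => ((z : N) : G)) (mem_center_iff.1 huZ ⟨q, hq⟩)
    have hut := huc ⟨t, htN⟩ (hS (show (⟨t, htN⟩ : N) ∈ V.comap N.subtype by
      show t ∈ V
      exact Or.inr (Or.inl rfl)))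
    have hur := huc ⟨r, hrN⟩ (hS (show (⟨r, hrN⟩ : N) ∈ V.comap N.subtype by
      show r ∈ V
      exact Or.inr (Or.inr (Or.inl rfl))))
    have key : ∀ (v a : G), orderOf v = 2 → a ∈ P → a * (a * a) = 1 → a ≠ 1 → v * a = a * v →
        u = v → False := by
      intro v a hv haP ha3 ha1 hva huv
      subst huv
      have hle : (S : Subgroup N).map N.subtype ≤ N ⊓ centralizer ({u} : Set G) := by
        rintro _ ⟨q, hq, rfl⟩
        exact ⟨q.2, mem_centralizer_singleton_iff.2 (huc q hq)⟩
      have h16 := card_dvd_of_le hle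
      rw [card_subtype, hS16] at h16
      have ham : a ∈ N ⊓ centralizer ({u} : Set G) :=
        ⟨hPN haP, mem_centralizer_singleton_iff.2 hva.symm⟩
      have h3 := Subgroup.orderOf_dvd_natCard _ ham
      rw [three_of_cube ha3 ha1] at h3
      have h48 := Nat.Coprime.mul_dvd_of_dvd_of_dvd (by norm_num : Nat.Coprime 16 3) h16 h3
      have hCN : centralizer ({u} : Set G) ≤ N := by
        have : N ⊓ centralizer ({u} : Set G) = centralizer ({u} : Set G) := by
          refine eq_of_le_of_card_ge inf_le_right ?_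
          rw [card_centralizer_two h hv]
          exact Nat.le_of_dvd Nat.card_pos (by simpa using h48)
        exact this ▸ inf_le_left
      obtain ⟨g, hgu, hga⟩ := exists_not_normalizing h hv ha3 ha1 hva
      have hgC : g ∈ centralizer ({u} : Set G) := mem_centralizer_singleton_iff.2 hgu.symm
      have hgaP : g * a * g⁻¹ ∈ P ⊓ centralizer ({u} : Set G) :=
        ⟨conj_mem_of_normalizer (hCN hgC) haP,
          Subgroup.mul_mem _ (Subgroup.mul_mem _ hgC (mem_centralizer_singleton_iff.2 hva.symm))
            (Subgroup.inv_mem _ hgC)⟩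
      have he : zpowers a = P ⊓ centralizer ({u} : Set G) :=
        eq_of_le_of_card_ge (zpowers_le.2 ⟨haP, mem_centralizer_singleton_iff.2 hva.symm⟩) (by
          rw [Nat.card_zpowers, three_of_cube ha3 ha1]
          exact card_le_three h hv (hP3.to_le inf_le_left) inf_le_right)
      exact hga (he ▸ hgaP)
    rcases eq_of_two_commuting h ht hr hrne hrt hut hur with e1 | e1 | e1 | e1
    · exact ne_one_of_two hu2 e1
    · exact key t w ht hwP hw hw1 htw e1
    · exact key r x hr hxP hx hx1 hrx e1
    · exact key (t * r) y hs hyP hy hy1 hsy e1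

end H36.L33
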