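import Cfsg.Agent.H36.GL23Facts
import Cfsg.Agent.H36.L33Frame
import Cfsg.Agent.H36.PatternGL23

/-!
# A group `G = O²(G)` with an involution centraliser `GL(2,3)` is simple
-/

set_option autoImplicit false
set_option linter.style.haveILetI false

open Cfsg Subgroup

namespace H36.GLSimple

open H13.GL23

universe u

theorem refl_mem : ((1, 0, 0, 2) : H13.GL23.V) ∈ L := by decide +kernel

theorem refl_sq : mm ((1, 0, 0, 2) : H13.GL23.V) (1, 0, 0, 2) = one := by decide +kernel

theorem refl_ne_one : ((1, 0, 0, 2) : H13.GL23.V) ≠ one := by decide +kernel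

theorem refl_ne_neg : ((1, 0, 0, 2) : H13.GL23.V) ≠ neg1 := by decide +kernel

variable {G : Type u} [Group G] [Finite G] {t : G}
  (e : centralizer ({t} : Set G) ≃* Matrix.GeneralLinearGroup (Fin 2) (ZMod 3))
  (ht : orderOf t = 2) (hO : Cfsg.pResidual 2 G = ⊤)
include e ht hO

/-- All involutions are conjugate. -/
theorem isConj_involution {x : G} (hx : orderOf x = 2) : IsConj t x := by
  classical
  haveI := Fintype.ofFinite G
  let K : Subgroup (centralizer ({t} : Set G)) :=
    { carrier := {y | dt (coord e y) = 1}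
      one_mem' := by show dt (coord e (1 : centralizer ({t} : Set G))) = 1; rw [coord_one]; decide
      mul_mem' := fun {a b} ha hb => by
        show dt (coord e (a * b)) = 1
        rw [coord_mul, dt_mm, show dt (coord e a) = 1 from ha, show dt (coord e b) = 1 from hb]
        decide
      inv_mem' := fun {a} ha => by
        have h : dt (coord e (a * a⁻¹)) = 1 := by rw [mul_inv_cancel, coord_one]; decide
        rw [coord_mul, dt_mm, show dt (coord e a) = 1 from ha, one_mul] at h
        exact h }
  have hK : Nat.card K = 24 := by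
    rw [Nat.card_eq_fintype_card, Fintype.card_subtype, ← card_det_one, ← card_filter_coord e]
    congr 1
    ext y
    simp only [Finset.mem_filter, Finset.mem_univ, true_and]
    rfl
  have hidx : (K.map (centralizer ({t} : Set G)).subtype).index =
      2 * (centralizer ({t} : Set G)).index := by
    rw [Subgroup.index_map_subtype]
    congr 1
    have := K.card_mul_index
    rw [hK, card_eq e] at this
    omega
  by_contra hne
  have hx2 : x ^ 2 = 1 := by rw [← hx]; exact pow_orderOf_eq_one x
  obtain ⟨N, hN, hN2, -⟩ := H6.exists_index_two_of_not_conj_mem _ _ (odd_index e ht) hidx x hx2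
    (by
      rintro g ⟨y, hy, he⟩
      have hy' : (y : G) = g * x * g⁻¹ := he
      refine hne (isConj_iff.mpr ⟨g⁻¹, ?_⟩)
      have hyt : y = tC t := by
        refine det_one_involution e ht (Subtype.ext ?_) (fun h => ?_) hy
        · rw [Subgroup.coe_mul, hy', show g * x * g⁻¹ * (g * x * g⁻¹) = g * (x * x) * g⁻¹ by group,
            ← pow_two, hx2]
          simp
        · rw [h] at hy'
          have : x = 1 := conj_eq_one_iff.mp hy'.symm
          rw [this, orderOf_one] at hx
          exact absurd hx (by norm_num)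
      rw [hyt] at hy'
      rw [show t = g * x * g⁻¹ from hy']
      group)
  haveI := hN
  haveI : Fact (Nat.Prime 2) := ⟨Nat.prime_two⟩
  exact H6.not_normal_index_of_pResidual_eq_top hO N hN2

/-- `G` is simple. -/
theorem isSimpleGroup : IsSimpleGroup G := by
  classical
  haveI := Fintype.ofFinite G
  haveI : Fact (Nat.Prime 2) := ⟨Nat.prime_two⟩
  haveI : Fact (Nat.Prime 3) := ⟨Nat.prime_three⟩
  haveI : Nontrivial G := ⟨⟨t, 1, L33.ne_one_of_two ht⟩⟩
  set C := centralizer ({t} : Set G)
  have hz : coord e (tC t) = neg1 := coord_tC e ht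
  refine IsSimpleGroup.mk fun N hN => ?_
  by_cases h2 : 2 ∣ Nat.card N
  · right
    obtain ⟨⟨v, hv⟩, hv2⟩ := exists_prime_orderOf_dvd_card' 2 h2
    rw [Subgroup.orderOf_mk] at hv2
    have hall : ∀ x : G, orderOf x = 2 → x ∈ N := fun x hx => by
      obtain ⟨g, hg⟩ := isConj_iff.1
        ((isConj_involution e ht hO hv2).symm.trans (isConj_involution e ht hO hx))
      exact hg ▸ hN.conj_mem v hv g
    have hCN : C ≤ N := by
      refine subgroupOf_eq_top.1 (GLFacts.eq_top_of_involutions e hz (N.subgroupOf C) fun r r2 r1 _ => ?_)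
      exact hall r (L33.two_of_sq (congrArg Subtype.val r2) fun h => r1 (Subtype.ext h))
    obtain ⟨S₀, hS₀⟩ := (IsPGroup.of_card (p := 2) (n := 1) (G := zpowers (tC t))
      (by rw [Nat.card_zpowers, ← Subgroup.orderOf_coe (tC t), pow_one]; exact ht)).exists_le_sylow
    have hS16 : Nat.card (S₀ : Subgroup C) = 16 := by
      rw [H62.card_sylow_coe (p := 2) (a := 4) (m := 3)
        (by rw [GLFacts.card_eq_fortyeight e]; norm_num) (by norm_num) S₀]
      norm_num
    have hSi : ¬ 2 ∣ ((S₀ : Subgroup C).map C.subtype).index := by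
      rw [Subgroup.index_map_subtype, ← even_iff_two_dvd]
      exact Nat.not_even_iff_odd.2 ((Nat.not_even_iff_odd.1 fun h =>
        S₀.not_dvd_index (even_iff_two_dvd.1 h)).mul (odd_index e ht))
    set S : Sylow 2 G := (S₀.2.map C.subtype).toSylow hSi
    have hSC : (S : Subgroup G) ≤ C := map_subtype_le _
    have htS : t ∈ (S : Subgroup G) := ⟨tC t, hS₀ (mem_zpowers _), rfl⟩
    have hnorm : normalizer ((S : Subgroup G) : Set G) ≤ N := by
      intro n hn
      have ht' : n * t * n⁻¹ ∈ (S : Subgroup G) := L33.conj_mem_of_normalizer hn htS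
      by_cases heq : n * t * n⁻¹ = t
      · exact hCN (mem_centralizer_singleton_iff.2 (mul_inv_eq_iff_eq_mul.1 heq))
      exfalso
      set a : C := ⟨n * t * n⁻¹, hSC ht'⟩ with ha
      have hmem : ∀ s ∈ (S₀ : Subgroup C), s ∈ ({1, tC t, a, tC t * a} : Finset C) := by
        intro s hs
        have hsS : (s : G) ∈ (S : Subgroup G) := ⟨s, hs, rfl⟩
        have hconj : n⁻¹ * (s : G) * n ∈ C :=
          hSC (by simpa using L33.conj_mem_of_normalizer (inv_mem hn) hsS)
        have hcomm : a * s = s * a := Subtype.ext (by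
          have e1 := mem_centralizer_singleton_iff.1 hconj
          show n * t * n⁻¹ * (s : G) = (s : G) * (n * t * n⁻¹)
          calc n * t * n⁻¹ * (s : G) = n * (t * (n⁻¹ * (s : G) * n)) * n⁻¹ := by group
            _ = n * (n⁻¹ * (s : G) * n * t) * n⁻¹ := by rw [e1]
            _ = (s : G) * (n * t * n⁻¹) := by group)
        rcases GLFacts.eq_of_involution_commuting e hz (x := a) (y := s) (Subtype.ext (by
            show n * t * n⁻¹ * (n * t * n⁻¹) = 1
            rw [show n * t * n⁻¹ * (n * t * n⁻¹) = n * (t * t) * n⁻¹ by group, L33.sq_of_two ht]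
            group))
          (fun h => L33.ne_one_of_two ht (conj_eq_one_iff.1 (congrArg Subtype.val h)))
          (fun h => heq (congrArg Subtype.val h)) hcomm with k | k | k | k <;>
          simp [k]
      have : Nat.card (S₀ : Subgroup C) ≤ 4 := by
        rw [Nat.card_eq_fintype_card, Fintype.card_subtype]
        refine le_trans (Finset.card_le_card (t := ({1, tC t, a, tC t * a} : Finset C)) fun s hs =>
          hmem s (Finset.mem_filter.1 hs).2) ?_
        exact le_trans (Finset.card_insert_le _ _) (Nat.succ_le_succ (le_trans (Finset.card_insert_le _ _)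
          (Nat.succ_le_succ Finset.card_le_two)))
      omega
    haveI := hN
    have := S.normalizer_sup_eq_top' (N := N) (hSC.trans hCN)
    exact (sup_eq_right.2 hnorm).symm.trans this
  · left
    haveI := hN
    have hfix0 : ∀ n ∈ N, t * n = n * t → n = 1 := by
      intro n hn hc
      by_contra hn1
      set a : C := ⟨n, mem_centralizer_singleton_iff.2 hc.symm⟩
      have hd := (orderOf_dvd_natCard a).trans (GLFacts.card_eq_fortyeight e).dvd
      rw [← Subgroup.orderOf_coe a] at hd
      have ho : orderOf n = 3 := by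
        have hodd : ¬ 2 ∣ orderOf n := fun h => h2 (h.trans (Subgroup.orderOf_dvd_natCard N hn))
        have hd3 : orderOf n ∣ 3 := by
          have hcop : Nat.Coprime (orderOf n) 16 := by
            rw [show (16 : ℕ) = 2 ^ 4 by norm_num]
            exact Nat.Coprime.pow_right 4 (Nat.Coprime.symm ((Nat.Prime.coprime_iff_not_dvd Nat.prime_two).2 hodd))
          exact hcop.dvd_of_dvd_mul_left (show orderOf n ∣ 16 * 3 from hd)
        rcases (Nat.dvd_prime Nat.prime_three).1 hd3 with h | h
        · exact absurd (orderOf_eq_one_iff.1 h) hn1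
        · exact h
      have ha3 : a * (a * a) = 1 := Subtype.ext (L33.cube_of_pow (by rw [← ho, pow_orderOf_eq_one]))
      obtain ⟨g, hg⟩ := GLFacts.exists_not_normalizing e ha3 fun h => hn1 (congrArg Subtype.val h)
      -- odd subgroup of `C`
      set D := N.subgroupOf C
      have hD : Nat.card D ∣ 3 := by
        have hd' : Nat.card D ∣ 48 := GLFacts.card_eq_fortyeight e ▸ D.card_subgroup_dvd_card
        have hodd : ¬ 2 ∣ Nat.card D := fun h => h2 (h.trans (by
          rw [← card_subtype C D]
          exact card_dvd_of_le (by rintro _ ⟨x, hx, rfl⟩; exact hx)))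
        have hcop : Nat.Coprime (Nat.card D) 16 := by
          rw [show (16 : ℕ) = 2 ^ 4 by norm_num]
          exact Nat.Coprime.pow_right 4 (Nat.Coprime.symm ((Nat.Prime.coprime_iff_not_dvd Nat.prime_two).2 hodd))
        exact hcop.dvd_of_dvd_mul_left (show Nat.card D ∣ 16 * 3 from hd')
      have hDa : zpowers a = D := eq_of_le_of_card_ge (zpowers_le.2 hn) (by
        rw [Nat.card_zpowers, ← Subgroup.orderOf_coe a]
        exact (Nat.le_of_dvd (by norm_num) hD).trans ho.ge)
      exact hg (hDa ▸ (mem_subgroupOf.2 (hN.conj_mem n hn g)))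
    have hinv : ∀ v : G, orderOf v = 2 → ∀ n ∈ N, v * n * v = n⁻¹ := by
      intro v hv n hn
      have v2 := L33.sq_of_two hv
      refine L33.inverts_of_fixedPointFree N v2 (fun m hm => ?_) (fun m hm hc => ?_) hn
      · have := hN.conj_mem m hm v
        rwa [inv_eq_of_mul_eq_one_right v2] at this
      · obtain ⟨g, hg⟩ := isConj_iff.1 (isConj_involution e ht hO hv)
        have hm' := hfix0 (g⁻¹ * m * g) (by simpa using hN.conj_mem m hm g⁻¹) (by
          rw [← hg] at hc
          calc t * (g⁻¹ * m * g) = g⁻¹ * (g * t * g⁻¹ * m) * g := by group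
            _ = g⁻¹ * m * g * t := by rw [hc]; group)
        have := congrArg (fun z => g * z * g⁻¹) hm'
        simpa [mul_assoc] using this
    obtain ⟨u, hu⟩ := exists_coord e refl_mem
    have u2 : (u : G) * u = 1 := congrArg Subtype.val
      (coord_injective e (by rw [coord_mul, hu, coord_one]; exact refl_sq) : u * u = 1)
    have u1 : (u : G) ≠ 1 := fun h => by
      rw [show u = 1 from Subtype.ext h, coord_one] at hu
      exact refl_ne_one hu.symm
    have ut : (u : G) ≠ t := fun h => by
      rw [show u = tC t from Subtype.ext h] at hu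
      exact refl_ne_neg (hu.symm.trans hz)
    have htu : t * (u : G) = u * t := (mem_centralizer_singleton_iff.1 u.2).symm
    obtain ⟨s2, s1⟩ := L33.two_commute_ne (L33.sq_of_two ht) u2 htu ut
    rw [eq_bot_iff]
    intro n hn
    have i1 := hinv t ht n hn
    have i2 := hinv u (L33.two_of_sq u2 u1) n hn
    have i3 := hinv _ (L33.two_of_sq s2 s1) n hn
    rw [L33.sandwich_two htu, i2, L33.sandwich_inv (L33.sq_of_two ht), i1, inv_inv] at i3
    -- `n = n⁻¹`
    have hn2 : n * n = 1 := by nth_rewrite 1 [i3]; exact inv_mul_cancel n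
    rw [mem_bot]
    by_contra hn1
    exact h2 (L33.two_of_sq hn2 hn1 ▸ Subgroup.orderOf_dvd_natCard N hn)

end H36.GLSimple
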