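import Mathlib.LinearAlgebra.Eigenspace.Triangularizable
import Mathlib.LinearAlgebra.Matrix.ToLin
import Mathlib.FieldTheory.IsAlgClosed.AlgebraicClosure
import Mathlib.FieldTheory.Finite.Basic
import Mathlib.GroupTheory.Solvable
import Mathlib.Data.Nat.Log
import Mathlib.GroupTheory.PGroup
import Cfsg.Agent.H12.Equivalent

/-!
Derived length of `p`-subgroups of linear groups in coprime characteristic.
-/

set_option autoImplicit false
set_option linter.unusedSectionVars false

namespace H36.DL

open Module

universe u v w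

theorem log_two_mul_le {e d : ℕ} (he : 0 < e) (h : 2 * e ≤ d) : Nat.log 2 e + 1 ≤ Nat.log 2 d := by
  rw [← Nat.log_mul_base one_lt_two he.ne', mul_comm]
  exact Nat.log_mono_right h

theorem derivedSeries_succ_le_map {P : Type u} [Group P] (N : Subgroup P)
    (hN : commutator P ≤ N) (j : ℕ) :
    derivedSeries P (j + 1) ≤ (derivedSeries N j).map N.subtype := by
  induction j with
  | zero =>
    rw [derivedSeries_zero, ← MonoidHom.range_eq_map, Subgroup.range_subtype, derivedSeries_one]
    exact hN
  | succ j ih =>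
    rw [derivedSeries_succ, derivedSeries_succ N, Subgroup.map_commutator]
    exact Subgroup.commutator_mono ih ih

variable {K : Type v} [Field K]

section Schur

variable {P : Type u} [Group P] {V : Type w} [AddCommGroup V] [Module K V]

/-- No invariant subspaces other than the two trivial ones. -/
def Irr (ρ : Representation K P V) : Prop :=
  ∀ W : Submodule K V, (∀ g, ∀ v ∈ W, ρ g v ∈ W) → W = ⊥ ∨ W = ⊤

theorem happ (ρ : Representation K P V) (g h : P) (v : V) : ρ g (ρ h v) = ρ (g * h) v := by
  rw [map_mul, Module.End.mul_apply]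

theorem hone (ρ : Representation K P V) (v : V) : ρ 1 v = v := by
  rw [map_one, Module.End.one_apply]

theorem schur [IsAlgClosed K] [FiniteDimensional K V] [Nontrivial V] (ρ : Representation K P V)
    (hirr : Irr ρ) (T : Module.End K V) (hT : ∀ g v, T (ρ g v) = ρ g (T v)) :
    ∃ c : K, ∀ v, T v = c • v := by
  obtain ⟨c, hc⟩ := Module.End.exists_eigenvalue T
  refine ⟨c, fun v => ?_⟩
  have htop : Module.End.eigenspace T c = ⊤ := by
    refine (hirr _ fun g w hw => ?_).resolve_left hc
    rw [Module.End.mem_eigenspace_iff] at hw ⊢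
    rw [hT, hw, map_smul]
  exact Module.End.mem_eigenspace_iff.mp (htop ▸ Submodule.mem_top)

theorem finrank_sum_le [FiniteDimensional K V] {ι : Type*} (s : Finset ι) (E : ι → Submodule K V)
    (h : iSupIndep E) : ∑ i ∈ s, finrank K (E i) ≤ finrank K (s.sup E : Submodule K V) := by
  classical
  induction s using Finset.induction with
  | empty => simp
  | insert i s hi ih =>
    rw [Finset.sum_insert hi, Finset.sup_insert]
    have hd : Disjoint (E i) (s.sup E) := by
      refine (h i).mono_right (Finset.sup_le fun j hj => ?_)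
      exact le_iSup₂_of_le (f := fun (j : ι) (_ : j ≠ i) => E j) j
        (fun hji => hi (hji ▸ hj)) le_rfl
    have h2 := Submodule.finrank_sup_add_finrank_inf_eq (E i) (s.sup E)
    rw [disjoint_iff.mp hd, finrank_bot, add_zero] at h2
    omega

/-- The kernel of a representation of a group. -/
def rker (ρ : Representation K P V) : Subgroup P := MonoidHom.ker ρ

theorem mem_rker {ρ : Representation K P V} {g : P} : g ∈ rker ρ ↔ ρ g = 1 := MonoidHom.mem_ker

theorem rker_normal (ρ : Representation K P V) : (rker ρ).Normal := MonoidHom.normal_ker ρ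

theorem mk_eq_iff {ρ : Representation K P V} {a b : P} :
    (QuotientGroup.mk a : P ⧸ rker ρ) = QuotientGroup.mk b ↔ ρ a = ρ b := by
  rw [QuotientGroup.eq, mem_rker, map_mul]
  have h1 : ρ a⁻¹ * ρ a = 1 := by rw [← map_mul, inv_mul_cancel, map_one]
  have h2 : ρ a * ρ a⁻¹ = 1 := by rw [← map_mul, mul_inv_cancel, map_one]
  constructor
  · intro h
    calc ρ a = ρ a * (ρ a⁻¹ * ρ b) := by rw [h, mul_one]
      _ = ρ b := by rw [← mul_assoc, h2, one_mul]
  · intro h; rw [← h, h1]

end Schur

/-- A representation of degree at most `d` of a finite `p`-group over an algebraically closed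
field of characteristic prime to `p` kills the term `⌊log₂ d⌋ + 1` of the derived series. -/
theorem derived_trivial_of_finrank [IsAlgClosed K] {p : ℕ} [hp : Fact p.Prime]
    (hpK : (p : K) ≠ 0) (d : ℕ) :
    ∀ (P : Type u) [Group P] [Finite P], IsPGroup p P →
      ∀ (V : Type w) [AddCommGroup V] [Module K V] [FiniteDimensional K V]
        (ρ : Representation K P V), finrank K V = d →
        ∀ g ∈ derivedSeries P (Nat.log 2 d + 1), ∀ v, ρ g v = v := by
  classical
  induction d using Nat.strong_induction_on with
  | _ d ih =>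
  intro P _ _ hP V _ _ _ ρ hd
  rcases subsingleton_or_nontrivial V with hV | hV
  · exact fun g _ v => Subsingleton.elim _ _
  haveI : NeZero (Nat.card P : K) := by
    obtain ⟨k, hk⟩ := IsPGroup.iff_card.mp hP
    exact ⟨by rw [hk, Nat.cast_pow]; exact pow_ne_zero k hpK⟩
  by_cases hirr : Irr ρ
  swap
  · simp only [Irr, not_forall] at hirr
    obtain ⟨W, hW, hW'⟩ := hirr
    rw [not_or] at hW'
    let a : Subrepresentation ρ := ⟨W, fun g v hv => hW g v hv⟩
    obtain ⟨b, hb⟩ := H12.exists_isCompl_subrep ρ a
    have ha : finrank K W < d := hd ▸ Submodule.finrank_lt hW'.2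
    have hbW : b.toSubmodule ≠ ⊤ := fun h => hW'.1 (by
      have h2 := hb.inf_eq_bot
      rw [h, inf_top_eq] at h2
      exact h2)
    have hb' : finrank K b.toSubmodule < d := hd ▸ Submodule.finrank_lt hbW
    have key : ∀ (c : Subrepresentation ρ), finrank K c.toSubmodule < d →
        ∀ g ∈ derivedSeries P (Nat.log 2 d + 1), ∀ v ∈ c.toSubmodule, ρ g v = v := by
      intro c hc g hg v hv
      have h1 : Nat.log 2 (finrank K c.toSubmodule) + 1 ≤ Nat.log 2 d + 1 :=
        Nat.add_le_add_right (Nat.log_mono_right hc.le) 1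
      exact congrArg Subtype.val (ih _ hc P hP c.toSubmodule c.toRepresentation rfl g
        (derivedSeries_antitone P h1 hg) ⟨v, hv⟩)
    intro g hg v
    obtain ⟨y, hy, z, hz, rfl⟩ := Submodule.mem_sup.mp
      (hb.sup_eq_top ▸ Submodule.mem_top : v ∈ a.toSubmodule ⊔ b.toSubmodule)
    rw [map_add, key a ha g hg y hy, key b hb' g hg z hz]
  by_cases hab : ∀ a b : P, ρ (a * b) = ρ (b * a)
  · intro g hg v
    have h1 : commutator P ≤ rker ρ := by
      haveI := rker_normal ρ
      rw [commutator_def, Subgroup.commutator_le]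
      intro a _ b _
      rw [mem_rker, commutatorElement_def]
      have h2 : ρ (a * b * a⁻¹ * b⁻¹) = ρ (b * a * a⁻¹ * b⁻¹) := by
        simp only [map_mul]; rw [← map_mul ρ a b, hab, map_mul]
      rw [h2, mul_inv_cancel_right, mul_inv_cancel, map_one]
    have h2 : g ∈ derivedSeries P 1 := derivedSeries_antitone P (by omega) hg
    rw [derivedSeries_one] at h2
    rw [mem_rker.mp (h1 h2), Module.End.one_apply]
  -- an element acting as a noncentral operator, central modulo scalars
  haveI := rker_normal ρ
  set Q := P ⧸ rker ρ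
  have hQ : IsPGroup p Q := hP.to_quotient _
  haveI : Nontrivial (Q ⧸ Subgroup.center Q) := by
    by_contra hnt
    rw [not_nontrivial_iff_subsingleton] at hnt
    apply hab
    intro a b
    have hc : (QuotientGroup.mk a : Q) ∈ Subgroup.center Q :=
      (QuotientGroup.eq_one_iff _).mp (Subsingleton.elim _ _)
    rw [← mk_eq_iff, QuotientGroup.mk_mul, QuotientGroup.mk_mul]
    exact (Subgroup.mem_center_iff.mp hc _).symm
  haveI := (hQ.to_quotient (Subgroup.center Q)).center_nontrivial
  obtain ⟨⟨xx, hxx⟩, hxne⟩ := exists_ne (1 : Subgroup.center (Q ⧸ Subgroup.center Q))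
  obtain ⟨xq, rfl⟩ := QuotientGroup.mk_surjective xx
  obtain ⟨x, rfl⟩ := QuotientGroup.mk_surjective xq
  have hxnc : ∃ g : P, ρ (g * x) ≠ ρ (x * g) := by
    by_contra hall
    push Not at hall
    refine hxne (Subtype.ext ((QuotientGroup.eq_one_iff _).mpr (Subgroup.mem_center_iff.mpr ?_)))
    intro y
    obtain ⟨g, rfl⟩ := QuotientGroup.mk_surjective y
    rw [← QuotientGroup.mk_mul, ← QuotientGroup.mk_mul, mk_eq_iff]
    exact hall g
  set T : Module.End K V := ρ x with hTdef
  have hTinv : ∀ v, ρ x⁻¹ (T v) = v := fun v => by rw [hTdef, happ, inv_mul_cancel, hone]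
  have hR : ∀ g : P, ∃ c : K, c ≠ 0 ∧ ∀ v, T (ρ g v) = c • ρ g (T v) := by
    intro g
    set k := x * g * x⁻¹ * g⁻¹ with hk
    have hkc : (QuotientGroup.mk k : Q) ∈ Subgroup.center Q := by
      rw [← QuotientGroup.eq_one_iff]
      have h := Subgroup.mem_center_iff.mp hxx (QuotientGroup.mk (QuotientGroup.mk g))
      simp only [hk, QuotientGroup.mk_mul, QuotientGroup.mk_inv]
      rw [← h]
      group
    obtain ⟨c, hc⟩ := schur ρ hirr (ρ k) fun h v => by
      rw [happ, happ]
      exact LinearMap.congr_fun (mk_eq_iff.mp (by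
        rw [QuotientGroup.mk_mul, QuotientGroup.mk_mul]
        exact (Subgroup.mem_center_iff.mp hkc _).symm)) v
    refine ⟨c, ?_, fun v => ?_⟩
    · rintro rfl
      obtain ⟨v, hv⟩ := exists_ne (0 : V)
      apply hv
      rw [← hone ρ v, ← inv_mul_cancel k, ← happ, hc, zero_smul, map_zero]
    · rw [← hc, happ, hTdef, happ, happ]
      congr 2
      rw [hk]
      group
  choose c hc0 hc using hR
  have huniq : ∀ (g : P) (a : K), (∀ v, T (ρ g v) = a • ρ g (T v)) → a = c g := by
    intro g a ha
    obtain ⟨v, hv⟩ := exists_ne (0 : V)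
    have hne : ρ g (T v) ≠ 0 := fun h0 => hv (by
      rw [← hTinv v, ← hone ρ (T v), ← inv_mul_cancel g, ← happ, h0, map_zero, map_zero])
    exact smul_left_injective K hne ((ha v).symm.trans (hc g v))
  have hcmul : ∀ g h, c (g * h) = c g * c h := fun g h => (huniq _ _ fun v => by
    rw [← happ, hc, hc, map_smul, smul_smul, happ]).symm
  have hc1 : c 1 = 1 := (huniq _ _ fun v => by simp [hone]).symm
  set N : Subgroup P :=
    { carrier := {g | c g = 1}
      one_mem' := hc1
      mul_mem' := fun {a b} ha hb => by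
        simp only [Set.mem_ofPred_eq] at *
        rw [hcmul, ha, hb, one_mul]
      inv_mem' := fun {a} ha => by
        simp only [Set.mem_ofPred_eq] at *
        rw [← hc1, ← inv_mul_cancel a, hcmul, ha, mul_one] } with hNdef
  have hN : commutator P ≤ N := by
    rw [commutator_def, Subgroup.commutator_le]
    intro a _ b _
    show c _ = 1
    rw [commutatorElement_def, hcmul, hcmul, hcmul, mul_right_comm (c a), ← hcmul a a⁻¹,
      mul_inv_cancel, hc1, one_mul, ← hcmul, mul_inv_cancel, hc1]
  obtain ⟨g0, hg0⟩ : ∃ g : P, c g ≠ 1 := by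
    by_contra hall
    push Not at hall
    obtain ⟨g, hg⟩ := hxnc
    apply hg
    refine LinearMap.ext fun v => ?_
    rw [← happ, ← happ, ← hTdef, hc g v, hall g, one_smul]
  -- eigenspaces
  have hmap : ∀ (g : P) (μ : K) (v : V), v ∈ Module.End.eigenspace T μ →
      ρ g v ∈ Module.End.eigenspace T (c g * μ) := by
    intro g μ v hv
    rw [Module.End.mem_eigenspace_iff] at hv ⊢
    rw [hc, hv, map_smul, smul_smul]
  have hhalf : ∀ μ, Module.End.eigenspace T μ ≠ ⊥ →
      2 * finrank K (Module.End.eigenspace T μ) ≤ d := by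
    intro μ hμ
    have hμ0 : μ ≠ 0 := by
      rintro rfl
      obtain ⟨v, hv, hv0⟩ := Submodule.exists_mem_ne_zero_of_ne_bot hμ
      rw [Module.End.mem_eigenspace_iff, zero_smul] at hv
      exact hv0 (by rw [← hTinv v, hv, map_zero])
    have hne : μ ≠ c g0 * μ := fun h => hg0 (by
      nth_rewrite 1 [← one_mul μ] at h
      exact (mul_right_cancel₀ hμ0 h).symm)
    have hle : finrank K (Module.End.eigenspace T μ) ≤
        finrank K (Module.End.eigenspace T (c g0 * μ)) := by
      refine LinearMap.finrank_le_finrank_of_injective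
        (f := (ρ g0).restrict (hmap g0 μ)) ?_
      intro a b hab
      apply Subtype.ext
      have h1 := congrArg (ρ g0⁻¹) (congrArg Subtype.val hab)
      simpa [LinearMap.restrict_apply, happ, hone] using h1
    have hsum := finrank_sum_le {μ, c g0 * μ} (Module.End.eigenspace T)
      (Module.End.eigenspaces_iSupIndep T)
    rw [Finset.sum_pair hne] at hsum
    have := hsum.trans (Submodule.finrank_le _)
    omega
  intro g hg v
  obtain ⟨g', hg', rfl⟩ := derivedSeries_succ_le_map N hN _ hg
  have hfix : ∀ μ, ∀ w ∈ Module.End.eigenspace T μ, ρ (g' : P) w = w := by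
    intro μ w hw
    by_cases hμ : Module.End.eigenspace T μ = ⊥
    · rw [hμ, Submodule.mem_bot] at hw
      rw [hw, map_zero]
    have hh := hhalf μ hμ
    have hpos : 0 < finrank K (Module.End.eigenspace T μ) :=
      Module.finrank_pos_iff.mpr (Submodule.nontrivial_iff_ne_bot.mpr hμ)
    let σ : Representation K N (Module.End.eigenspace T μ) :=
      { toFun := fun n => (ρ (n : P)).restrict fun y hy => by
          have := hmap n μ y hy
          rwa [show c (n : P) = 1 from n.2, one_mul] at this
        map_one' := by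
          refine LinearMap.ext fun y => Subtype.ext ?_
          simp [LinearMap.restrict_apply, hone]
        map_mul' := fun a b => by
          refine LinearMap.ext fun y => Subtype.ext ?_
          exact (happ ρ (a : P) (b : P) (y : V)).symm }
    exact congrArg Subtype.val (ih _ (by omega) N (hP.to_subgroup N) _ σ rfl g'
      (derivedSeries_antitone N (log_two_mul_le hpos hh) hg') ⟨w, hw⟩)
  have htop : ⨆ μ, Module.End.eigenspace T μ = ⊤ := by
    refine (hirr _ fun h w hw => ?_).resolve_left fun hbot => ?_
    · refine Submodule.iSup_induction _ (motive := fun y => ρ h y ∈ ⨆ μ, Module.End.eigenspace T μ)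
        hw (fun μ y hy => ?_) (by simp) (fun a b ha hb => by rw [map_add]; exact add_mem ha hb)
      exact Submodule.mem_iSup_of_mem (c h * μ) (hmap h μ y hy)
    · obtain ⟨μ, hμ⟩ := Module.End.exists_eigenvalue T
      exact hμ (le_bot_iff.mp (hbot ▸ le_iSup (fun μ => Module.End.eigenspace T μ) μ))
  refine Submodule.iSup_induction _ (motive := fun y => ρ (g' : P) y = y)
    (htop ▸ Submodule.mem_top : v ∈ ⨆ μ, Module.End.eigenspace T μ) hfix (map_zero _) ?_
  intro a b ha hb
  rw [map_add, ha, hb]

/-- Eigenspace dimensions of a matrix fixed by a field automorphism. -/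
theorem finrank_eigenspace_map {n : ℕ} (s : K ≃+* K) (A : Matrix (Fin n) (Fin n) K)
    (hA : ∀ i j, s (A i j) = A i j) (c : K) :
    finrank K (Module.End.eigenspace (Matrix.mulVecLin A) c) ≤
      finrank K (Module.End.eigenspace (Matrix.mulVecLin A) (s c)) := by
  let j : (Fin n → K) →+ (Fin n → K) :=
    { toFun := fun v i => s (v i)
      map_zero' := by funext i; exact map_zero s
      map_add' := fun a b => by funext i; exact map_add s _ _ }
  let bW := Module.finBasis K (Module.End.eigenspace (Matrix.mulVecLin A) c)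
  have hli : LinearIndependent K (fun i => ((bW i : _) : Fin n → K)) :=
    bW.linearIndependent.map' (Submodule.subtype _) (Submodule.ker_subtype _)
  have hli' : LinearIndependent K (j ∘ fun i => ((bW i : _) : Fin n → K)) := by
    refine hli.map_of_injective_injective (fun r => s.symm r) j
      (fun r hr => ?_) (fun v hv => ?_) (fun r v => ?_)
    · exact s.symm.injective (hr.trans (map_zero _).symm)
    · funext i
      exact s.injective ((congrFun hv i).trans (map_zero s).symm)
    · funext i
      show s (s.symm r * v i) = r * s (v i)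
      rw [map_mul, RingEquiv.apply_symm_apply]
  have hmem : ∀ i, (j ∘ fun i => ((bW i : _) : Fin n → K)) i ∈
      Module.End.eigenspace (Matrix.mulVecLin A) (s c) := by
    intro i
    have h0 := Module.End.mem_eigenspace_iff.mp (bW i).2
    rw [Module.End.mem_eigenspace_iff]
    funext k
    have h1 := congrArg s (congrFun h0 k)
    simp only [Matrix.mulVecLin_apply, Matrix.mulVec, dotProduct, map_sum, map_mul,
      Pi.smul_apply, smul_eq_mul, hA] at h1
    exact h1
  have hspan : LinearIndependent K
      (fun i => (⟨_, hmem i⟩ : Module.End.eigenspace (Matrix.mulVecLin A) (s c))) :=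
    LinearIndependent.of_comp (Submodule.subtype _) hli'
  simpa using hspan.fintype_card_le_finrank

/-- A `p`-subgroup of `GL n F` has derived length at most `⌊log₂ (n / e)⌋ + 1`. -/
theorem derived_gl {F : Type v} [Field F] [Fintype F] (p : ℕ) [hp : Fact p.Prime]
    (hpq : ¬ p ∣ Fintype.card F) (n e : ℕ) (he : e = orderOf (Fintype.card F : ZMod p))
    (hen : e ≤ n) (P : Subgroup (GL (Fin n) F)) (hP : IsPGroup p P) :
    derivedSeries ↥P (Nat.log 2 (n / e) + 1) = ⊥ := by
  classical
  let L := AlgebraicClosure F
  set q := Fintype.card F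
  have hq0 : (q : ZMod p) ≠ 0 := fun h => hpq ((CharP.cast_eq_zero_iff (ZMod p) p q).mp h)
  have hpL : (p : L) ≠ 0 := by
    rw [← map_natCast (algebraMap F L), map_ne_zero]
    intro h
    obtain ⟨ℓ, hℓ⟩ := CharP.exists F
    obtain ⟨f, hℓp, hf⟩ := FiniteField.card F ℓ
    have h1 : ℓ ∣ p := (CharP.cast_eq_zero_iff F ℓ p).mp h
    rw [(Nat.prime_dvd_prime_iff_eq hℓp hp.out).mp h1] at hf
    have hf' : q = p ^ (f : ℕ) := hf
    exact hpq (hf' ▸ dvd_pow_self p f.ne_zero)
  haveI : NeZero (Nat.card P : L) := by
    obtain ⟨k, hk⟩ := IsPGroup.iff_card.mp hP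
    exact ⟨by rw [hk, Nat.cast_pow]; exact pow_ne_zero k hpL⟩
  let A : P →* Matrix (Fin n) (Fin n) L :=
    ((algebraMap F L).mapMatrix.toMonoidHom.comp (Units.coeHom _)).comp P.subtype
  let ρ : Representation L P (Fin n → L) :=
    (Matrix.toLinAlgEquiv' (R := L) (n := Fin n)).toAlgHom.toRingHom.toMonoidHom.comp A
  have hρinj : Function.Injective ρ := by
    intro a b hab
    apply Subtype.ext
    apply Units.ext
    have h1 : A a = A b := (Matrix.toLinAlgEquiv' (R := L) (n := Fin n)).injective hab
    exact Matrix.map_injective (algebraMap F L).injective h1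
  let s : L ≃+* L := RingEquiv.ofBijective (FiniteField.frobeniusAlgHom F L).toRingHom
    (Algebra.IsAlgebraic.algHom_bijective (FiniteField.frobeniusAlgHom F L))
  have hs : ∀ y : L, s y = y ^ q := fun y => rfl
  -- a nontrivial constituent of dimension `m` has `e * m ≤ n`
  have hsize : ∀ (U : Subrepresentation ρ), U.toSubmodule ≠ ⊥ →
      Irr U.toRepresentation → (∃ g, U.toRepresentation g ≠ 1) →
      finrank L U.toSubmodule * e ≤ n := by
    intro U hU hirr ⟨g, hg⟩
    haveI := Submodule.nontrivial_iff_ne_bot.mpr hU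
    set σ := U.toRepresentation
    haveI := rker_normal σ
    have hQ : IsPGroup p (P ⧸ rker σ) := hP.to_quotient _
    haveI : Nontrivial (P ⧸ rker σ) :=
      ⟨QuotientGroup.mk g, 1, fun h => hg (mem_rker.mp ((QuotientGroup.eq_one_iff g).mp h))⟩
    haveI := hQ.center_nontrivial
    obtain ⟨k, hk, hk'⟩ := (IsPGroup.nontrivial_iff_card
      (hQ.to_subgroup (Subgroup.center _))).mp hQ.center_nontrivial
    obtain ⟨⟨zq, hzc⟩, hzo⟩ := exists_prime_orderOf_dvd_card'
      (G := Subgroup.center (P ⧸ rker σ)) p (hk' ▸ dvd_pow_self p hk.ne')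
    rw [Subgroup.orderOf_mk] at hzo
    obtain ⟨z, rfl⟩ := QuotientGroup.mk_surjective zq
    obtain ⟨ζ, hζ⟩ := schur σ hirr (σ z) fun h v => by
      rw [happ, happ]
      exact LinearMap.congr_fun (mk_eq_iff.mp (by
        rw [QuotientGroup.mk_mul, QuotientGroup.mk_mul]
        exact (Subgroup.mem_center_iff.mp hzc _).symm)) v
    have hσp : σ (z ^ p) = 1 := by
      rw [← mem_rker, ← QuotientGroup.eq_one_iff, QuotientGroup.mk_pow, ← hzo, pow_orderOf_eq_one]
    have hpow : ∀ (i : ℕ) (v : U.toSubmodule), σ (z ^ i) v = ζ ^ i • v := by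
      intro i
      induction i with
      | zero => simp [hone]
      | succ i ihi =>
        intro v
        rw [pow_succ, ← happ, hζ, map_smul, ihi, smul_smul, ← pow_succ']
    obtain ⟨v, hv⟩ := exists_ne (0 : U.toSubmodule)
    have hζp : ζ ^ p = 1 := by
      have h1 := hpow p v
      rw [hσp, Module.End.one_apply] at h1
      exact (smul_left_injective L hv (h1.symm.trans (one_smul L v).symm))
    have hζ1 : ζ ≠ 1 := by
      rintro rfl
      have : σ z = 1 := LinearMap.ext fun w => by rw [hζ, one_smul, Module.End.one_apply]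
      rw [(QuotientGroup.eq_one_iff z).mpr (mem_rker.mpr this), orderOf_one] at hzo
      exact hp.out.one_lt.ne hzo
    have hord : orderOf ζ = p := orderOf_eq_prime hζp hζ1
    have hdim : ∀ i : ℕ, finrank L U.toSubmodule ≤
        finrank L (Module.End.eigenspace (Matrix.mulVecLin (A z)) (ζ ^ q ^ i)) := by
      intro i
      induction i with
      | zero =>
        rw [pow_zero, pow_one]
        refine Submodule.finrank_mono fun w hw => ?_
        rw [Module.End.mem_eigenspace_iff]
        exact congrArg Subtype.val (hζ ⟨w, hw⟩)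
      | succ i ihi =>
        refine ihi.trans ?_
        have h1 := finrank_eigenspace_map s (A z) (fun a b => by
          rw [hs]
          show (algebraMap F L (((z : GL (Fin n) F) : Matrix (Fin n) (Fin n) F) a b)) ^ q = _
          rw [← map_pow, FiniteField.pow_card]
          rfl) (ζ ^ q ^ i)
        rw [hs, ← pow_mul, ← pow_succ] at h1
        exact h1
    have hinj : Set.InjOn (fun i => ζ ^ q ^ i) (Finset.range e : Set ℕ) := by
      intro i hi j hj hij
      rw [Finset.coe_range, Set.mem_Iio] at hi hj
      have hζ0 : ζ ≠ 0 := by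
        intro h0
        rw [h0, zero_pow hp.out.pos.ne'] at hζp
        exact zero_ne_one hζp
      have h1 := pow_eq_pow_iff_modEq.mp (show (Units.mk0 ζ hζ0) ^ (q ^ i) =
        (Units.mk0 ζ hζ0) ^ (q ^ j) from Units.ext (by simpa using hij))
      rw [← orderOf_units, Units.val_mk0, hord] at h1
      rw [← ZMod.natCast_eq_natCast_iff, Nat.cast_pow, Nat.cast_pow] at h1
      have hi' : i < orderOf (q : ZMod p) := by rw [← he]; exact hi
      have hj' : j < orderOf (q : ZMod p) := by rw [← he]; exact hj
      exact pow_injOn_Iio_orderOf hi' hj' h1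
    have h1 := finrank_sum_le ((Finset.range e).image fun i => ζ ^ q ^ i)
      (Module.End.eigenspace (Matrix.mulVecLin (A z))) (Module.End.eigenspaces_iSupIndep _)
    rw [Finset.sum_image hinj] at h1
    calc finrank L U.toSubmodule * e = ∑ _i ∈ Finset.range e, finrank L U.toSubmodule := by
          rw [Finset.sum_const, Finset.card_range, smul_eq_mul, mul_comm]
      _ ≤ _ := Finset.sum_le_sum fun i _ => hdim i
      _ ≤ _ := h1
      _ ≤ n := (Submodule.finrank_le _).trans (by simp)
  have he0 : 0 < e := by
    rw [he, orderOf_pos_iff, isOfFinOrder_iff_pow_eq_one]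
    exact ⟨p - 1, by have := hp.out.one_lt; omega, ZMod.pow_card_sub_one_eq_one hq0⟩
  have main : ∀ (m : ℕ) (U : Subrepresentation ρ), finrank L U.toSubmodule = m →
      ∀ g ∈ derivedSeries P (Nat.log 2 (n / e) + 1), ∀ v ∈ U.toSubmodule, ρ g v = v := by
    intro m
    induction m using Nat.strong_induction_on with
    | _ m ih =>
    intro U hm g hg v hv
    by_cases hU : U.toSubmodule = ⊥
    · rw [hU, Submodule.mem_bot] at hv
      rw [hv, map_zero]
    by_cases hirr : Irr U.toRepresentation
    · by_cases htriv : ∃ g, U.toRepresentation g ≠ 1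
      · have h1 : finrank L U.toSubmodule ≤ n / e :=
          (Nat.le_div_iff_mul_le he0).mpr (hsize U hU hirr htriv)
        exact congrArg Subtype.val (derived_trivial_of_finrank hpL _ P hP U.toSubmodule
          U.toRepresentation rfl g
          (derivedSeries_antitone P (Nat.add_le_add_right (Nat.log_mono_right h1) 1) hg) ⟨v, hv⟩)
      · push Not at htriv
        exact congrArg Subtype.val (LinearMap.congr_fun (htriv g) ⟨v, hv⟩)
    · simp only [Irr, not_forall] at hirr
      obtain ⟨W, hW, hW'⟩ := hirr
      rw [not_or] at hW'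
      let a : Subrepresentation ρ := ⟨W.map U.toSubmodule.subtype, by
        rintro h _ ⟨w, hw, rfl⟩
        exact ⟨U.toRepresentation h w, hW h w hw, rfl⟩⟩
      obtain ⟨b, hb⟩ := H12.exists_isCompl_subrep ρ a
      let b' : Subrepresentation ρ := ⟨U.toSubmodule ⊓ b.toSubmodule,
        fun h w hw => ⟨U.apply_mem_toSubmodule h hw.1, b.apply_mem_toSubmodule h hw.2⟩⟩
      have hale : a.toSubmodule ≤ U.toSubmodule := Submodule.map_subtype_le _ _
      have halt : finrank L a.toSubmodule < m := by
        rw [← hm, show finrank L a.toSubmodule = finrank L W from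
          Submodule.finrank_map_subtype_eq _ W]
        exact Submodule.finrank_lt hW'.2
      have hblt : finrank L b'.toSubmodule < m := by
        rw [← hm]
        refine Submodule.finrank_lt_finrank_of_lt (lt_of_le_of_ne inf_le_left fun h => hW'.1 ?_)
        have h2 : a.toSubmodule ≤ ⊥ := hb.inf_eq_bot ▸ le_inf le_rfl (hale.trans (h ▸ inf_le_right))
        exact Submodule.map_injective_of_injective U.toSubmodule.subtype_injective
          ((le_bot_iff.mp h2).trans (Submodule.map_bot _).symm)
      have hsup : v ∈ a.toSubmodule ⊔ b'.toSubmodule := by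
        show v ∈ a.toSubmodule ⊔ U.toSubmodule ⊓ b.toSubmodule
        rw [inf_comm, ← sup_inf_assoc_of_le b.toSubmodule hale, hb.sup_eq_top, top_inf_eq]
        exact hv
      obtain ⟨y, hy, z, hz, rfl⟩ := Submodule.mem_sup.mp hsup
      rw [map_add, ih _ halt a rfl g hg y hy, ih _ hblt b' rfl g hg z hz]
  rw [eq_bot_iff]
  intro g hg
  rw [Subgroup.mem_bot]
  apply hρinj
  rw [map_one]
  refine LinearMap.ext fun v => ?_
  exact main _ ⟨⊤, fun _ _ _ => Submodule.mem_top⟩ rfl g hg v Submodule.mem_top

end H36.DL
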