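import Cfsg.Agent.S0051
import Cfsg.Agent.H36.PElements
import Mathlib.GroupTheory.QuotientGroup.Basic
import Mathlib.GroupTheory.Complement
import Mathlib.RingTheory.Coprime.Lemmas

/-!
Gaschütz's criterion for complements of an abelian normal subgroup, prime by prime.
-/

set_option autoImplicit false

namespace H36

open Subgroup

variable {G : Type*} [Group G] [Finite G]

theorem exists_pPart_complement (A : Subgroup G) [A.Normal] (hA : IsMulCommutative ↥A) (p : ℕ)
    [hp : Fact p.Prime] (S : Sylow p (G ⧸ A)) (K : Subgroup G) (hKA : K ⊓ A = ⊥)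
    (hsup : K ⊔ A = (S : Subgroup (G ⧸ A)).comap (QuotientGroup.mk' A)) :
    ∃ H : Subgroup G, (∀ x ∈ H, x ∈ A → (orderOf x).Coprime p) ∧
      ∃ k : ℕ, p ^ k ∣ Nat.card A ∧ H.index = p ^ k := by
  classical
  have hcomm : ∀ a ∈ A, ∀ b ∈ A, Commute a b := fun a ha b hb =>
    congrArg Subtype.val (hA.is_comm.comm ⟨a, ha⟩ ⟨b, hb⟩)
  let B : Subgroup G :=
  { carrier := {x | x ∈ A ∧ (orderOf x).Coprime p}
    one_mem' := ⟨one_mem A, by simp⟩
    inv_mem' := fun {x} hx => ⟨inv_mem hx.1, by rw [orderOf_inv]; exact hx.2⟩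
    mul_mem' := fun {x y} hx hy => ⟨mul_mem hx.1 hy.1, Nat.Coprime.coprime_dvd_left
      (hcomm x hx.1 y hy.1).orderOf_mul_dvd_mul_orderOf (Nat.Coprime.mul_left hx.2 hy.2)⟩ }
  have hBn : B.Normal := ⟨fun x hx g => ⟨Normal.conj_mem inferInstance x hx.1 g, by
    rw [show g * x * g⁻¹ = (MulAut.conj g) x from rfl, MulEquiv.orderOf_eq]
    exact hx.2⟩⟩
  have hBA : B ≤ A := fun x hx => hx.1
  let π := QuotientGroup.mk' B
  have hπ : Function.Surjective π := QuotientGroup.mk'_surjective B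
  have hker : π.ker = B := QuotientGroup.ker_mk' B
  have : (A.map π).Normal := Normal.map inferInstance π hπ
  have : IsMulCommutative ↥(A.map π) := by
    refine ⟨⟨?_⟩⟩
    rintro ⟨_, a, ha, rfl⟩ ⟨_, b, hb, rfl⟩
    exact Subtype.ext ((hcomm a ha b hb).map π)
  have hp' : IsPGroup p (A.map π) := by
    rw [IsPGroup.iff_orderOf]
    rintro ⟨_, a, ha, rfl⟩
    obtain ⟨i, j, hij, hi, hj⟩ := exists_pow_decomp (p := p) a
    have h1 : π (a ^ i) = 1 := by
      rw [← MonoidHom.mem_ker, hker]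
      exact ⟨pow_mem ha _, hi⟩
    obtain ⟨k, hk⟩ := isPEl_map π hj
    refine ⟨k, ?_⟩
    rw [← Subgroup.orderOf_coe]
    show orderOf (π a) = p ^ k
    rw [← hij, map_mul, h1, one_mul]
    exact hk
  obtain ⟨k, hk⟩ := IsPGroup.iff_card.mp hp'
  set U := (S : Subgroup (G ⧸ A)).comap (QuotientGroup.mk' A) with hU
  have hAU : A ≤ U := by
    conv_lhs => rw [← QuotientGroup.ker_mk' A]
    exact ker_le_comap _ _
  have hidx : (U.map π).index = U.index := index_map_eq _ hπ (hker.le.trans (hBA.trans hAU))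
  have hcop : (Nat.card (A.map π)).Coprime (U.map π).index := by
    rw [hk, hidx, hU, index_comap_of_surjective _ (QuotientGroup.mk'_surjective A)]
    exact (hp.out.coprime_iff_not_dvd.mpr S.not_dvd_index).pow_left k
  have hinter : K.map π ⊓ A.map π = ⊥ := by
    rw [eq_bot_iff]
    rintro _ ⟨⟨y, hy, rfl⟩, z, hz, hzy⟩
    have h1 : z⁻¹ * y ∈ B := by
      rw [← hker, MonoidHom.mem_ker, map_mul, map_inv, hzy, inv_mul_cancel]
    have h2 : y ∈ A := by
      have := A.mul_mem hz (hBA h1)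
      rwa [mul_inv_cancel_left] at this
    have h3 : y ∈ K ⊓ A := ⟨hy, h2⟩
    rw [hKA, mem_bot] at h3
    rw [h3, map_one]
    exact one_mem _
  have hsup' : A.map π ⊔ K.map π = U.map π := by rw [← Subgroup.map_sup, sup_comm, hsup]
  obtain ⟨H, hH⟩ := Cfsg.Agent.S0051.result (A.map π) (U.map π) (map_mono hAU) hcop (K.map π)
    (map_mono (le_sup_left.trans hsup.le)) hinter hsup'
  refine ⟨H.comap π, fun x hx hxA => ?_, k, hk ▸ card_map_dvd (f := π) A, ?_⟩
  · have h1 : π x = 1 := Subgroup.mem_bot.mp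
      (hH.disjoint.le_bot ⟨mem_map_of_mem π hxA, hx⟩)
    rw [← MonoidHom.mem_ker, hker] at h1
    exact h1.2
  · rw [index_comap_of_surjective _ hπ, hH.index_eq_card, hk]

theorem exists_complement_of_local (A : Subgroup G) [A.Normal] (hA : IsMulCommutative ↥A)
    (h : ∀ p : ℕ, p.Prime → p ∣ A.index → ∃ (S : Sylow p (G ⧸ A)) (K : Subgroup G),
      K ⊓ A = ⊥ ∧ K ⊔ A = (S : Subgroup (G ⧸ A)).comap (QuotientGroup.mk' A)) :
    ∃ K : Subgroup G, K.IsComplement' A := by
  classical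
  have hloc : ∀ p : ℕ, p.Prime → ∃ H : Subgroup G, (∀ x ∈ H, x ∈ A → (orderOf x).Coprime p) ∧
      ∃ k : ℕ, p ^ k ∣ Nat.card A ∧ H.index = p ^ k := by
    intro p hp
    have := Fact.mk hp
    by_cases hd : p ∣ A.index
    · obtain ⟨S, K, h1, h2⟩ := h p hp hd
      exact exists_pPart_complement A hA p S K h1 h2
    · obtain ⟨S⟩ := (inferInstance : Nonempty (Sylow p (G ⧸ A)))
      refine exists_pPart_complement A hA p S ⊥ (bot_inf_eq _) ?_
      have hS : (S : Subgroup (G ⧸ A)) = ⊥ := by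
        rw [← card_eq_one, S.card_eq_multiplicity,
          Nat.factorization_eq_zero_of_not_dvd (show ¬ p ∣ Nat.card (G ⧸ A) from hd), pow_zero]
      rw [hS, bot_sup_eq, MonoidHom.comap_bot, QuotientGroup.ker_mk']
  choose! H hH k hk hidx using hloc
  set s := (Nat.card A).primeFactors with hs
  refine ⟨⨅ p ∈ s, H p, ?_⟩
  have hdisj : Disjoint (⨅ p ∈ s, H p) A := by
    rw [disjoint_iff_inf_le]
    rintro x ⟨hx, hxA⟩
    rw [mem_bot, ← orderOf_eq_one_iff]
    by_contra hne
    obtain ⟨p, hp, hpd⟩ := Nat.exists_prime_and_dvd hne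
    have hps : p ∈ s := by
      rw [hs, Nat.mem_primeFactors]
      exact ⟨hp, hpd.trans (Subgroup.orderOf_mk x hxA ▸ orderOf_dvd_natCard _), Nat.card_pos.ne'⟩
    have hxH : x ∈ H p := by
      have := mem_iInf.mp hx p
      exact mem_iInf.mp this hps
    exact hp.ne_one (Nat.eq_one_of_dvd_coprimes (hH p hp x hxH hxA) hpd dvd_rfl)
  have hle : (⨅ p ∈ s, H p).index ≤ Nat.card A := by
    have h1 : (⨅ p ∈ s, H p) = ⨅ q : {q // q ∈ s}, H q.1 := by rw [iInf_subtype]
    rw [h1]
    refine (index_iInf_le _).trans ?_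
    rw [Finset.univ_eq_attach, Finset.prod_attach s (fun p => (H p).index)]
    refine Nat.le_of_dvd Nat.card_pos ?_
    rw [Finset.prod_congr rfl fun p hp => hidx p (Nat.prime_of_mem_primeFactors hp)]
    refine Finset.prod_dvd_of_isRelPrime ?_ fun p hp => hk p (Nat.prime_of_mem_primeFactors hp)
    intro a ha b hb hab
    exact Nat.coprime_iff_isRelPrime.mp (((Nat.coprime_primes (Nat.prime_of_mem_primeFactors ha)
      (Nat.prime_of_mem_primeFactors hb)).mpr hab).pow _ _)
  refine isComplement'_of_disjoint_and_mul_eq_univ hdisj ?_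
  apply Set.eq_univ_of_forall
  intro g
  set K := ⨅ p ∈ s, H p
  have htop : K ⊔ A = ⊤ := by
    apply eq_top_of_le_card
    have h1 := relIndex_mul_relIndex ⊥ A (K ⊔ A) bot_le le_sup_right
    rw [relIndex_bot_left, relIndex_bot_left, relIndex_sup_right] at h1
    have h2 : A.relIndex K = Nat.card K := by
      rw [← inf_relIndex_right, show A ⊓ K = ⊥ from hdisj.symm.eq_bot, relIndex_bot_left]
    rw [← h1, h2, ← K.card_mul_index, mul_comm (Nat.card A)]
    exact Nat.mul_le_mul_left _ hle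
  have := mem_top g
  rw [← htop, ← SetLike.mem_coe, mul_normal] at this
  exact this

end H36
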