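import Cfsg.Agent.H36.Kulakoff
import Mathlib

/-!
The number of subgroups of order `p^a` is determined modulo `p²` inside a Sylow subgroup.
-/

set_option autoImplicit false

namespace H36

open MulAction
open scoped Pointwise

/-- Orbit sizes all divisible by `m` force `m` to divide the cardinality. -/
theorem dvd_card_of_orbits {K X : Type*} [Group K] [MulAction K X] [Finite X] {m : ℕ}
    (h : ∀ x : X, m ∣ Nat.card (orbit K x)) : m ∣ Nat.card X := by
  classical
  have : Fintype (orbitRel.Quotient K X) := Fintype.ofFinite _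
  rw [Nat.card_congr (selfEquivSigmaOrbits K X), Nat.card_sigma]
  exact Finset.dvd_sum fun ω _ => h _

variable {G : Type*} [Group G] [Finite G] {p : ℕ} [hp : Fact p.Prime]

/-- The Sylow subgroups containing a subgroup `Q` normalised by each of them: number `≡ 1 mod p`. -/
theorem card_sylow_containing_modEq_one (P : Sylow p G) (Q : Subgroup G) (hQP : Q ≤ (P : Subgroup G))
    (hQ : ∀ R : Sylow p G, Q ≤ (R : Subgroup G) → (R : Subgroup G) ≤ Subgroup.normalizer (Q : Set G)) :
    Nat.card {R : Sylow p G // Q ≤ (R : Subgroup G)} ≡ 1 [MOD p] := by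
  set N := Subgroup.normalizer (Q : Set G)
  refine Eq.trans (congrArg (· % p) (Nat.card_eq_of_bijective
    (fun R : {R : Sylow p G // Q ≤ (R : Subgroup G)} => R.1.subtype (hQ R.1 R.2)) ⟨?_, ?_⟩))
    (card_sylow_modEq_one p N)
  · intro R R' h
    exact Subtype.ext (Sylow.subtype_injective h)
  · intro S
    obtain ⟨R, hR⟩ := (S.isPGroup'.map N.subtype).exists_le_sylow
    obtain ⟨g, hg⟩ := MulAction.exists_smul_eq N (P.subtype (hQ P hQP)) S
    have hQS : Q ≤ (S : Subgroup N).map N.subtype := by
      intro x hx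
      have hgN : ((g : G))⁻¹ * x * g ∈ Q := by
        have h := (Subgroup.mem_normalizer_iff.mp (N.inv_mem g.2) x).mp hx
        rwa [inv_inv] at h
      have hxN : x ∈ N := Subgroup.le_normalizer hx
      refine ⟨⟨x, hxN⟩, ?_, rfl⟩
      rw [← hg]
      have hm : g⁻¹ * ⟨x, hxN⟩ * g ∈ (P.subtype (hQ P hQP) : Subgroup N) := by
        rw [Sylow.coe_subtype, Subgroup.mem_subgroupOf]
        exact hQP hgN
      have := Subgroup.smul_mem_pointwise_smul _ (MulAut.conj g) (P.subtype (hQ P hQP) : Subgroup N) hm
      rw [MulAut.smul_def, MulAut.conj_apply] at this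
      have e : g * (g⁻¹ * ⟨x, hxN⟩ * g) * g⁻¹ = ⟨x, hxN⟩ := by group
      rw [e] at this
      simp only [SetLike.mem_coe, Sylow.coe_subgroup_smul]
      exact this
    refine ⟨⟨R, hQS.trans hR⟩, Sylow.ext (S.is_maximal' (R.subtype (hQ R (hQS.trans hR))).isPGroup' fun x hx => ?_)⟩
    exact hR ⟨x, hx, rfl⟩

/-- Normal subgroups of order `p^a` outside a subgroup of index `p` : a multiple of `p`. -/
theorem dvd_card_normal_outside (R Q : Subgroup G) (hR : IsPGroup p R) (hQR : Q ≤ R)
    (hn : (Q.subgroupOf R).Normal) {a : ℕ} (ha : p ^ a ∣ Nat.card Q) :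
    p ∣ Nat.card {H : Subgroup R // Nat.card H = p ^ a ∧ ¬ H ≤ Q.subgroupOf R ∧ H.Normal} := by
  classical
  have : Fintype (Subgroup R) := Fintype.ofFinite _
  let X := {H : Subgroup R // Nat.card H = p ^ a ∧ ¬ H ≤ Q.subgroupOf R}
  letI act : MulAction R X :=
    { smul := fun g H => ⟨MulAut.conj g • H.1, by
        refine ⟨?_, fun hle => H.2.2 fun x hx => ?_⟩
        · rw [← Nat.card_congr (Subgroup.equivSMul (MulAut.conj g) H.1).toEquiv]; exact H.2.1
        · have hm := hle (Subgroup.smul_mem_pointwise_smul x (MulAut.conj g) H.1 hx)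
          have := hn.conj_mem _ hm g⁻¹
          rw [MulAut.smul_def, MulAut.conj_apply] at this
          simpa [mul_assoc] using this⟩
      one_smul := fun H => Subtype.ext (by show MulAut.conj (1 : R) • H.1 = H.1; simp)
      mul_smul := fun g g' H => Subtype.ext (by
        show MulAut.conj (g * g') • H.1 = MulAut.conj g • MulAut.conj g' • H.1
        rw [map_mul, mul_smul]) }
  have h1 : Nat.card X ≡ 0 [MOD p] := by
    have hall := H35.card_subgroups_prime_pow_modEq_one R p a hp.out
      (ha.trans (Subgroup.card_dvd_of_le hQR))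
    have hin := H35.card_subgroups_prime_pow_modEq_one Q p a hp.out ha
    have hsplit : Nat.card {H : Subgroup R // Nat.card H = p ^ a} =
        Nat.card X + Nat.card {H : Subgroup Q // Nat.card H = p ^ a} := by
      have e : Nat.card {H : Subgroup Q // Nat.card H = p ^ a} =
          Nat.card {H : Subgroup R // Nat.card H = p ^ a ∧ H ≤ Q.subgroupOf R} := by
        refine Nat.card_congr
          { toFun := fun H => ⟨H.1.map (Subgroup.inclusion hQR), ?_, ?_⟩
            invFun := fun H => ⟨H.1.comap (Subgroup.inclusion hQR), ?_⟩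
            left_inv := fun H => Subtype.ext (Subgroup.comap_map_eq_self_of_injective (Subgroup.inclusion_injective hQR) _)
            right_inv := fun H => Subtype.ext (Subgroup.map_comap_eq_self ?_) }
        · rw [Subgroup.card_map_of_injective (Subgroup.inclusion_injective hQR)]; exact H.2
        · rintro _ ⟨x, -, rfl⟩
          exact x.2
        · rw [← Subgroup.card_map_of_injective (Subgroup.inclusion_injective hQR), Subgroup.map_comap_eq_self]
          · exact H.2.1
          · intro x hx
            exact ⟨⟨x, H.2.2 hx⟩, Subtype.ext rfl⟩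
        · intro x hx
          exact ⟨⟨x, H.2.2 hx⟩, Subtype.ext rfl⟩
      rw [e, Nat.card_eq_fintype_card, Nat.card_eq_fintype_card, Nat.card_eq_fintype_card,
        Fintype.card_subtype, Fintype.card_subtype, Fintype.card_subtype, add_comm, ← Finset.filter_filter,
        ← Finset.filter_filter, Finset.card_filter_add_card_filter_not]
    rw [hsplit] at hall
    exact Nat.ModEq.add_right_cancel hin (by simpa using hall)
  have h2 : Nat.card (fixedPoints R X) =
      Nat.card {H : Subgroup R // Nat.card H = p ^ a ∧ ¬ H ≤ Q.subgroupOf R ∧ H.Normal} := by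
    refine Nat.card_congr
      { toFun := fun H => ⟨H.1.1, H.1.2.1, H.1.2.2, ⟨fun x hx g => ?_⟩⟩
        invFun := fun H => ⟨⟨H.1, H.2.1, H.2.2.1⟩, fun g => Subtype.ext ?_⟩
        left_inv := fun H => rfl
        right_inv := fun H => rfl }
    · have h : MulAut.conj g • H.1.1 = H.1.1 := congrArg Subtype.val (H.2 g)
      rw [← h]
      exact Subgroup.smul_mem_pointwise_smul x (MulAut.conj g) H.1.1 hx
    · show MulAut.conj g • H.1 = H.1
      have := H.2.2.2
      ext x
      rw [Subgroup.mem_pointwise_smul_iff_inv_smul_mem]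
      constructor
      · intro hx
        have := (H.2.2.2).conj_mem _ hx g
        simpa [MulAut.smul_def, mul_assoc] using this
      · intro hx
        have := (H.2.2.2).conj_mem _ hx g⁻¹
        simpa [MulAut.smul_def, mul_assoc] using this
  rw [← h2]
  exact Nat.modEq_zero_iff_dvd.mp ((hR.card_modEq_card_fixedPoints X).symm.trans h1)

/-- The subgroups of order `p^a` outside `P`. -/
abbrev Outside (P : Subgroup G) (p a : ℕ) : Type _ := {H : Subgroup G // Nat.card H = p ^ a ∧ ¬ H ≤ P}

theorem card_outside_modEq_zero (P : Sylow p G) {n a : ℕ} (hn : Nat.card (P : Subgroup G) = p ^ n)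
    (ha : a < n) :
    p ^ 2 ∣ Nat.card {H : Subgroup G // Nat.card H = p ^ a ∧ ¬ H ≤ (P : Subgroup G)} := by
  classical
  have : Fintype (Subgroup G) := Fintype.ofFinite _
  have : Fintype (Sylow p G) := Fintype.ofFinite _
  letI act : MulAction (P : Subgroup G) (Outside (P : Subgroup G) p a) :=
    { smul := fun g H => ⟨MulAut.conj (g : G) • H.1, by
        refine ⟨?_, fun hle => H.2.2 fun x hx => ?_⟩
        · rw [← Nat.card_congr (Subgroup.equivSMul (MulAut.conj (g : G)) H.1).toEquiv]; exact H.2.1
        · have hm := hle (Subgroup.smul_mem_pointwise_smul x (MulAut.conj (g : G)) H.1 hx)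
          rw [MulAut.smul_def, MulAut.conj_apply] at hm
          have := (P : Subgroup G).mul_mem ((P : Subgroup G).mul_mem ((P : Subgroup G).inv_mem g.2) hm) g.2
          simpa [mul_assoc] using this⟩
      one_smul := fun H => Subtype.ext (by show MulAut.conj ((1 : (P : Subgroup G)) : G) • H.1 = H.1; simp)
      mul_smul := fun g g' H => Subtype.ext (by
        show MulAut.conj ((g * g' : (P : Subgroup G)) : G) • H.1 = MulAut.conj (g : G) • MulAut.conj (g' : G) • H.1
        rw [Subgroup.coe_mul, map_mul, mul_smul]) }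
  -- the stabiliser
  let stab : (Outside (P : Subgroup G) p a) → Subgroup G := fun H => (P : Subgroup G) ⊓ Subgroup.normalizer (H.1 : Set G)
  have hstab : ∀ H : (Outside (P : Subgroup G) p a), Nat.card (orbit (P : Subgroup G) H) = ((stab H).subgroupOf (P : Subgroup G)).index := by
    intro H
    rw [Nat.card_coe_set_eq, ← MulAction.index_stabilizer]
    congr 1
    ext g
    simp only [stab, mem_stabilizer_iff, Subgroup.mem_subgroupOf, Subgroup.mem_inf]
    refine Iff.trans ?_ (and_iff_right g.2).symm
    rw [Subgroup.mem_normalizer_iff_map_conj_eq]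
    constructor
    · intro h
      exact (congrArg Subtype.val h :)
    · intro h
      exact Subtype.ext h
  have hp_grp : ∀ H : (Outside (P : Subgroup G) p a), IsPGroup p H.1 := fun H => IsPGroup.of_card H.2.1
  -- no fixed points
  have hnofix : ∀ H : (Outside (P : Subgroup G) p a), stab H ≠ (P : Subgroup G) := by
    intro H hs
    apply H.2.2
    have hle : (P : Subgroup G) ≤ Subgroup.normalizer (H.1 : Set G) := hs.ge.trans inf_le_right
    have hsup : IsPGroup p (H.1 ⊔ (P : Subgroup G) : Subgroup G) :=
      (hp_grp H).to_sup_of_normal_left' P.isPGroup' hle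
    exact le_sup_left.trans (P.3 hsup le_sup_right).le
  let U : Set (Outside (P : Subgroup G) p a) := {H | Nat.card (orbit (P : Subgroup G) H) = p}
  have hUc : p ^ 2 ∣ Nat.card (Uᶜ : Set (Outside (P : Subgroup G) p a)) := by
    let Y : SubMulAction (P : Subgroup G) (Outside (P : Subgroup G) p a) :=
      { carrier := Uᶜ
        smul_mem' := fun g H hH => by
          simp only [U, Set.mem_compl_iff, Set.mem_ofPred_eq] at hH ⊢
          rwa [orbit_smul] }
    change p ^ 2 ∣ Nat.card Y
    refine dvd_card_of_orbits (K := (P : Subgroup G)) fun H => ?_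
    have hnp : Nat.card (orbit (P : Subgroup G) (H : (Outside (P : Subgroup G) p a))) ≠ p := H.2
    have he : Nat.card (orbit (P : Subgroup G) H) = Nat.card (orbit (P : Subgroup G) (H : (Outside (P : Subgroup G) p a))) := by
      rw [Nat.card_coe_set_eq, Nat.card_coe_set_eq, ← SubMulAction.val_image_orbit,
        Set.ncard_image_of_injective _ Subtype.val_injective]
    rw [he]
    obtain ⟨j, hj⟩ := P.isPGroup'.index ((stab (H : (Outside (P : Subgroup G) p a))).subgroupOf (P : Subgroup G))
    rw [hstab, hj] at hnp ⊢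
    refine pow_dvd_pow p ?_
    by_contra hj2
    interval_cases j
    · apply hnofix (H : (Outside (P : Subgroup G) p a))
      rw [pow_zero, Subgroup.index_eq_one, Subgroup.subgroupOf_eq_top] at hj
      exact le_antisymm inf_le_left hj
    · exact hnp (pow_one p)
  -- the pairs `(Q, R)`
  let Qs := Finset.univ.filter fun Q : Subgroup G => Q ≤ (P : Subgroup G) ∧ Q.relIndex (P : Subgroup G) = p
  let cnt : Subgroup G → Sylow p G → ℕ := fun Q R =>
    Nat.card {H : Subgroup (R : Subgroup G) // Nat.card H = p ^ a ∧ ¬ H ≤ Q.subgroupOf (R : Subgroup G) ∧ H.Normal}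
  have hQfacts : ∀ Q ∈ Qs, Nat.card Q = p ^ (n - 1) ∧
      ∀ R : Sylow p G, Q ≤ (R : Subgroup G) → (Q.subgroupOf (R : Subgroup G)).index = p ∧
        (Q.subgroupOf (R : Subgroup G)).Normal ∧ (R : Subgroup G) ≤ Subgroup.normalizer (Q : Set G) := by
    intro Q hQ
    obtain ⟨hQP, hQi⟩ := (Finset.mem_filter.mp hQ).2
    have hQc : Nat.card Q = p ^ (n - 1) := by
      have h1 := (Q.subgroupOf (P : Subgroup G)).card_mul_index
      rw [Nat.card_congr (Subgroup.subgroupOfEquivOfLe hQP).toEquiv, ← Subgroup.relIndex, hQi, hn,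
        show p ^ n = p ^ (n - 1) * p by rw [← pow_succ]; congr 1; omega] at h1
      exact Nat.eq_of_mul_eq_mul_right hp.out.pos h1
    refine ⟨hQc, fun R hR => ?_⟩
    have hi : (Q.subgroupOf (R : Subgroup G)).index = p := by
      have h1 := (Q.subgroupOf (R : Subgroup G)).card_mul_index
      rw [Nat.card_congr (Subgroup.subgroupOfEquivOfLe hR).toEquiv, hQc,
        R.card_eq_multiplicity, ← P.card_eq_multiplicity, hn,
        show p ^ n = p ^ (n - 1) * p by rw [← pow_succ]; congr 1; omega] at h1
      exact Nat.eq_of_mul_eq_mul_left (pow_pos hp.out.pos _) h1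
    have hnor := H6.normal_of_index_eq_prime R.isPGroup' hi
    exact ⟨hi, hnor, (Subgroup.normal_subgroupOf_iff_le_normalizer hR).mp hnor⟩
  have hUcard : p ^ 2 ∣ Nat.card U := by
    -- decompose `U`
    let T := {QR : Subgroup G × Sylow p G // QR.1 ∈ Qs ∧ QR.1 ≤ (QR.2 : Subgroup G) ∧ QR.2 ≠ P}
    have hinfP : ∀ t : T, ∀ x, x ∈ (P : Subgroup G) → x ∈ (t.1.2 : Subgroup G) → x ∈ t.1.1 := by
      intro t x hxP hxR
      obtain ⟨hQP, hQi⟩ := (Finset.mem_filter.mp t.2.1).2
      by_contra hxQ
      apply t.2.2.2
      apply Sylow.ext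
      -- `P ∩ R` is bigger than `Q`, so it is `P`
      have hlt : t.1.1 < (P : Subgroup G) ⊓ (t.1.2 : Subgroup G) :=
        lt_of_le_of_ne (le_inf hQP t.2.2.1) fun e => hxQ (e ▸ ⟨hxP, hxR⟩)
      have h1 := Subgroup.relIndex_mul_relIndex _ _ _ hlt.le (inf_le_left : (P : Subgroup G) ⊓ (t.1.2 : Subgroup G) ≤ _)
      rw [hQi] at h1
      rcases (Nat.dvd_prime hp.out).mp (Dvd.intro _ h1) with h | h
      · exact absurd (Subgroup.relIndex_eq_one.mp h) hlt.not_ge
      · rw [h] at h1
        have h2 : ((P : Subgroup G) ⊓ (t.1.2 : Subgroup G)).relIndex (P : Subgroup G) = 1 :=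
          Nat.eq_of_mul_eq_mul_left hp.out.pos (by rw [h1, mul_one])
        have hle : (P : Subgroup G) ≤ (t.1.2 : Subgroup G) := (Subgroup.relIndex_eq_one.mp h2).trans inf_le_right
        exact P.3 t.1.2.isPGroup' hle
    let F : (Σ t : T, {H : Subgroup (t.1.2 : Subgroup G) //
        Nat.card H = p ^ a ∧ ¬ H ≤ t.1.1.subgroupOf (t.1.2 : Subgroup G) ∧ H.Normal}) → U := fun z =>
      ⟨⟨z.2.1.map (z.1.1.2 : Subgroup G).subtype, by
        refine ⟨?_, fun hle => z.2.2.2.1 fun x hx => ?_⟩
        · rw [Subgroup.card_map_of_injective (Subgroup.subtype_injective _)]; exact z.2.2.1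
        · exact hinfP z.1 x (hle ⟨x, hx, rfl⟩) x.2⟩, by
        show Nat.card (orbit (P : Subgroup G) (_ : (Outside (P : Subgroup G) p a))) = p
        rw [hstab]
        obtain ⟨hQP, hQi⟩ := (Finset.mem_filter.mp z.1.2.1).2
        have hn' : (z.1.1.2 : Subgroup G) ≤ Subgroup.normalizer
            ((z.2.1.map (z.1.1.2 : Subgroup G).subtype : Subgroup G) : Set G) := by
          refine (Subgroup.normal_subgroupOf_iff_le_normalizer (Subgroup.map_subtype_le _)).mp ?_
          rw [Subgroup.subgroupOf, Subgroup.comap_map_eq_self_of_injective (Subgroup.subtype_injective _)]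
          exact z.2.2.2.2
        have hle : z.1.1.1 ≤ (P : Subgroup G) ⊓
            Subgroup.normalizer ((z.2.1.map (z.1.1.2 : Subgroup G).subtype : Subgroup G) : Set G) :=
          le_inf hQP (z.1.2.2.1.trans hn')
        have h1 := Subgroup.relIndex_mul_relIndex _ _ (P : Subgroup G) hle inf_le_left
        rw [hQi] at h1
        rcases (Nat.dvd_prime hp.out).mp (Dvd.intro_left _ h1) with h | h
        · exfalso
          refine hnofix ⟨z.2.1.map (z.1.1.2 : Subgroup G).subtype, ?_, ?_⟩ (le_antisymm inf_le_left
            (Subgroup.relIndex_eq_one.mp h))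
          · rw [Subgroup.card_map_of_injective (Subgroup.subtype_injective _)]; exact z.2.2.1
          · exact fun hle => z.2.2.2.1 fun x hx => hinfP z.1 x (hle ⟨x, hx, rfl⟩) x.2
        · exact h⟩
    have hF : Function.Bijective F := by
      constructor
      · rintro ⟨t, H, hH⟩ ⟨t', H', hH'⟩ e
        have e1 : H.map (t.1.2 : Subgroup G).subtype = H'.map (t'.1.2 : Subgroup G).subtype :=
          congrArg (fun u : U => u.1.1) e
        -- recover `Q` and `R`
        have key : ∀ (s : T) (K : Subgroup (s.1.2 : Subgroup G)), ¬ K ≤ s.1.1.subgroupOf (s.1.2 : Subgroup G) →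
            K.Normal → Nat.card K = p ^ a →
            s.1.1 = (P : Subgroup G) ⊓ Subgroup.normalizer ((K.map (s.1.2 : Subgroup G).subtype : Subgroup G) : Set G) ∧
            (s.1.2 : Subgroup G) = K.map (s.1.2 : Subgroup G).subtype ⊔ s.1.1 := by
          intro s K hK hKn hKc
          have hm := (F ⟨s, K, hKc, hK, hKn⟩).2
          obtain ⟨hQP, hQi⟩ := (Finset.mem_filter.mp s.2.1).2
          change Nat.card (orbit (P : Subgroup G) _) = p at hm
          rw [hstab] at hm
          constructor
          · have hn' : (s.1.2 : Subgroup G) ≤ Subgroup.normalizer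
                ((K.map (s.1.2 : Subgroup G).subtype : Subgroup G) : Set G) := by
              refine (Subgroup.normal_subgroupOf_iff_le_normalizer (Subgroup.map_subtype_le _)).mp ?_
              rw [Subgroup.subgroupOf, Subgroup.comap_map_eq_self_of_injective (Subgroup.subtype_injective _)]
              exact hKn
            have hle : s.1.1 ≤ (P : Subgroup G) ⊓
                Subgroup.normalizer ((K.map (s.1.2 : Subgroup G).subtype : Subgroup G) : Set G) :=
              le_inf hQP (s.2.2.1.trans hn')
            have h1 := Subgroup.relIndex_mul_relIndex _ _ (P : Subgroup G) hle inf_le_left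
            rw [hQi] at h1
            change Subgroup.relIndex _ _ = p at hm
            rw [show (stab _) = (P : Subgroup G) ⊓ Subgroup.normalizer
              ((K.map (s.1.2 : Subgroup G).subtype : Subgroup G) : Set G) from rfl] at hm
            rw [hm] at h1
            have h2 := Nat.eq_of_mul_eq_mul_right hp.out.pos (h1.trans (one_mul p).symm)
            exact le_antisymm hle (Subgroup.relIndex_eq_one.mp h2)
          · have hle : K.map (s.1.2 : Subgroup G).subtype ⊔ s.1.1 ≤ (s.1.2 : Subgroup G) :=
              sup_le (Subgroup.map_subtype_le _) s.2.2.1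
            obtain ⟨hi, -, -⟩ := (hQfacts _ s.2.1).2 _ s.2.2.1
            have h1 := Subgroup.relIndex_mul_relIndex _ _ _
              (le_sup_right : s.1.1 ≤ K.map (s.1.2 : Subgroup G).subtype ⊔ s.1.1) hle
            have hi' : s.1.1.relIndex (s.1.2 : Subgroup G) = p := hi
            rw [hi'] at h1
            rcases (Nat.dvd_prime hp.out).mp (Dvd.intro _ h1) with h | h
            · exfalso
              apply hK
              intro x hx
              exact Subgroup.relIndex_eq_one.mp h (Subgroup.mem_sup_left ⟨x, hx, rfl⟩)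
            · rw [h] at h1
              exact le_antisymm (Subgroup.relIndex_eq_one.mp
                (Nat.eq_of_mul_eq_mul_left hp.out.pos (h1.trans (mul_one p).symm))) hle
        obtain ⟨hQ1, hR1⟩ := key t H hH.2.1 hH.2.2 hH.1
        obtain ⟨hQ2, hR2⟩ := key t' H' hH'.2.1 hH'.2.2 hH'.1
        have hQeq : t.1.1 = t'.1.1 := by rw [hQ1, hQ2, e1]
        have hReq : t.1.2 = t'.1.2 := Sylow.ext (by rw [hR1, hR2, e1, hQeq])
        obtain rfl : t = t' := Subtype.ext (Prod.ext hQeq hReq)
        simp only [Sigma.mk.injEq, heq_eq_eq, true_and]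
        exact Subtype.ext (Subgroup.map_injective (Subgroup.subtype_injective _) e1)
      · rintro ⟨H, hH⟩
        change Nat.card (orbit (P : Subgroup G) H) = p at hH
        rw [hstab] at hH
        set Q := stab H with hQdef
        have hQmem : Q ∈ Qs := Finset.mem_filter.mpr ⟨Finset.mem_univ _, inf_le_left, hH⟩
        have hQn : Q ≤ Subgroup.normalizer (H.1 : Set G) := inf_le_right
        obtain ⟨R, hR⟩ := ((hp_grp H).to_sup_of_normal_left' (P.isPGroup'.to_le (inf_le_left : Q ≤ _)) hQn).exists_le_sylow
        have hRne : R ≠ P := fun e => H.2.2 ((le_sup_left.trans hR).trans (le_of_eq (congrArg (fun S : Sylow p G => (S : Subgroup G)) e)))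
        obtain ⟨hi, -, -⟩ := (hQfacts Q hQmem).2 R (le_sup_right.trans hR)
        have hReq : (R : Subgroup G) = H.1 ⊔ Q := by
          have h1 := Subgroup.relIndex_mul_relIndex _ _ _ (le_sup_right : Q ≤ H.1 ⊔ Q) hR
          have hi' : Q.relIndex (R : Subgroup G) = p := hi
          rw [hi'] at h1
          rcases (Nat.dvd_prime hp.out).mp (Dvd.intro _ h1) with h | h
          · exfalso
            exact H.2.2 ((le_sup_left.trans (Subgroup.relIndex_eq_one.mp h)).trans inf_le_left)
          · rw [h] at h1
            exact le_antisymm (Subgroup.relIndex_eq_one.mp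
              (Nat.eq_of_mul_eq_mul_left hp.out.pos (h1.trans (mul_one p).symm))) hR
        have hnor : (R : Subgroup G) ≤ Subgroup.normalizer (H.1 : Set G) := by
          rw [hReq]; exact sup_le Subgroup.le_normalizer hQn
        refine ⟨⟨⟨(Q, R), hQmem, le_sup_right.trans hR, hRne⟩, H.1.subgroupOf (R : Subgroup G), ?_, ?_, ?_⟩, ?_⟩
        · rw [Nat.card_congr (Subgroup.subgroupOfEquivOfLe (le_sup_left.trans hR)).toEquiv]; exact H.2.1
        · intro hle
          apply H.2.2
          intro x hx
          exact (hle (show (⟨x, le_sup_left.trans hR hx⟩ : (R : Subgroup G)) ∈ H.1.subgroupOf _ from hx)).1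
        · exact (Subgroup.normal_subgroupOf_iff_le_normalizer (le_sup_left.trans hR)).mpr hnor
        · exact Subtype.ext (Subtype.ext (Subgroup.map_subgroupOf_eq_of_le (le_sup_left.trans hR)))
    rw [← Nat.card_eq_of_bijective F hF, Nat.card_sigma]
    -- group the pairs by `Q`
    have hsum : (∑ t : T, cnt t.1.1 t.1.2) =
        ∑ Q ∈ Qs, ∑ R ∈ Finset.univ.filter (fun R : Sylow p G => Q ≤ (R : Subgroup G) ∧ R ≠ P), cnt Q R := by
      rw [Finset.sum_sigma']
      refine Finset.sum_bij' (fun t _ => (⟨t.1.1, t.1.2⟩ : Σ _ : Subgroup G, Sylow p G))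
        (fun z hz => (⟨(z.1, z.2), by
          simp only [Finset.mem_sigma, Finset.mem_filter, Finset.mem_univ, true_and] at hz
          exact ⟨hz.1, hz.2.1, hz.2.2⟩⟩ : T)) ?_ ?_ ?_ ?_ ?_
      · intro t _
        simp only [Finset.mem_sigma, Finset.mem_filter, Finset.mem_univ, true_and]
        exact ⟨t.2.1, t.2.2.1, t.2.2.2⟩
      · intro z _; exact Finset.mem_univ _
      · intro t _; rfl
      · intro z _; rfl
      · intro t _; rfl
    show p ^ 2 ∣ ∑ t : T, cnt t.1.1 t.1.2
    rw [hsum]
    refine Finset.dvd_sum fun Q hQ => ?_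
    obtain ⟨hQc, hQR⟩ := hQfacts Q hQ
    obtain ⟨hQP, -⟩ := (Finset.mem_filter.mp hQ).2
    have hconst : ∀ R : Sylow p G, Q ≤ (R : Subgroup G) → cnt Q R = cnt Q P := by
      intro R hR
      obtain ⟨g, hg⟩ := MulAction.exists_smul_eq (Subgroup.normalizer (Q : Set G))
        (P.subtype (hQR P hQP).2.2) (R.subtype (hQR R hR).2.2)
      have hgR : (g : G) • P = R := by
        refine (Sylow.ext (Subgroup.eq_of_le_of_card_ge ?_ ?_)).symm
        · intro x hx
          have hxN : x ∈ Subgroup.normalizer (Q : Set G) := (hQR R hR).2.2 hx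
          have h' : (⟨x, hxN⟩ : Subgroup.normalizer (Q : Set G)) ∈
              ((R.subtype (hQR R hR).2.2 : Sylow p (Subgroup.normalizer (Q : Set G))) : Subgroup _) := by
            rw [Sylow.coe_subtype, Subgroup.mem_subgroupOf]; exact hx
          rw [← hg, Sylow.coe_subgroup_smul, Subgroup.mem_pointwise_smul_iff_inv_smul_mem,
            Sylow.coe_subtype, Subgroup.mem_subgroupOf] at h'
          rw [Sylow.coe_subgroup_smul, Subgroup.mem_pointwise_smul_iff_inv_smul_mem]
          simpa [MulAut.smul_def] using h'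
        · rw [R.card_eq_multiplicity, Sylow.card_eq_multiplicity]
      let e : (P : Subgroup G) ≃* (R : Subgroup G) :=
        (Subgroup.equivSMul (MulAut.conj (g : G)) (P : Subgroup G)).trans
          (MulEquiv.subgroupCongr (by rw [← hgR, Sylow.coe_subgroup_smul]))
      have he : ∀ x : (P : Subgroup G), (e x : G) = (g : G) * x * (g : G)⁻¹ := fun x => rfl
      have hQe : (Q.subgroupOf (P : Subgroup G)).map e.toMonoidHom = Q.subgroupOf (R : Subgroup G) := by
        ext y
        constructor
        · rintro ⟨x, hx, rfl⟩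
          show (e x : G) ∈ Q
          rw [he]
          exact (Subgroup.mem_normalizer_iff.mp g.2 _).mp hx
        · intro hy
          refine ⟨e.symm y, ?_, e.apply_symm_apply y⟩
          show ((e.symm y : (P : Subgroup G)) : G) ∈ Q
          have hy' := hy
          rw [Subgroup.mem_subgroupOf, ← e.apply_symm_apply y, he] at hy'
          exact (Subgroup.mem_normalizer_iff.mp g.2 _).mpr hy'
      refine (Nat.card_congr (Equiv.subtypeEquiv (MulEquiv.mapSubgroup e).toEquiv fun H => ?_)).symm
      show _ ↔ Nat.card (H.map e.toMonoidHom) = p ^ a ∧ ¬ H.map e.toMonoidHom ≤ _ ∧ (H.map e.toMonoidHom).Normal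
      rw [Subgroup.card_map_of_injective e.injective, ← hQe, Subgroup.map_le_map_iff_of_injective e.injective]
      refine and_congr_right fun _ => and_congr_right fun _ => ⟨fun h => h.map _ e.surjective, fun h => ?_⟩
      have := h.comap e.toMonoidHom
      rwa [Subgroup.comap_map_eq_self_of_injective e.injective] at this
    rw [Finset.sum_congr rfl (fun R hR => hconst R (Finset.mem_filter.mp hR).2.1), Finset.sum_const,
      smul_eq_mul, pow_two]
    refine Nat.mul_dvd_mul ?_ ?_
    · have h1 := card_sylow_containing_modEq_one P Q hQP fun R hR => (hQR R hR).2.2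
      rw [Nat.card_eq_fintype_card, Fintype.card_subtype] at h1
      have h2 : (Finset.univ.filter fun R : Sylow p G => Q ≤ (R : Subgroup G) ∧ R ≠ P) =
          (Finset.univ.filter fun R : Sylow p G => Q ≤ (R : Subgroup G)).erase P := by
        ext R; simp [and_comm]
      rw [h2, Finset.card_erase_of_mem
        (show P ∈ Finset.univ.filter fun R : Sylow p G => Q ≤ (R : Subgroup G) from
          Finset.mem_filter.mpr ⟨Finset.mem_univ _, hQP⟩)]
      have h3 : 1 ≤ (Finset.univ.filter fun R : Sylow p G => Q ≤ (R : Subgroup G)).card :=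
        Finset.card_pos.mpr ⟨P, Finset.mem_filter.mpr ⟨Finset.mem_univ _, hQP⟩⟩
      exact (Nat.modEq_iff_dvd' h3).mp h1.symm
    · exact dvd_card_normal_outside (P : Subgroup G) Q P.isPGroup' hQP (hQR P hQP).2.1
        (hQc ▸ Nat.pow_dvd_pow p (by omega))
  show p ^ 2 ∣ Nat.card (Outside (P : Subgroup G) p a)
  rw [← Nat.card_congr (Equiv.Set.sumCompl U), Nat.card_sum]
  exact dvd_add hUcard hUc

/-- Hall: the number of subgroups of order `p^a` is `≡` its value in a Sylow subgroup mod `p²`. -/
theorem card_subgroups_modEq_sylow (P : Sylow p G) {n a : ℕ} (hn : Nat.card (P : Subgroup G) = p ^ n)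
    (ha : a < n) :
    Nat.card {H : Subgroup G // Nat.card H = p ^ a} ≡
      Nat.card {H : Subgroup (P : Subgroup G) // Nat.card H = p ^ a} [MOD p ^ 2] := by
  classical
  have : Fintype (Subgroup G) := Fintype.ofFinite _
  have h1 : Nat.card {H : Subgroup (P : Subgroup G) // Nat.card H = p ^ a} =
      Nat.card {H : Subgroup G // Nat.card H = p ^ a ∧ H ≤ (P : Subgroup G)} := by
    refine Nat.card_congr
      { toFun := fun H => ⟨H.1.map (P : Subgroup G).subtype,
          by rw [Subgroup.card_map_of_injective (Subgroup.subtype_injective _)]; exact H.2,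
          Subgroup.map_subtype_le _⟩
        invFun := fun H => ⟨H.1.subgroupOf _, by
          rw [Nat.card_congr (Subgroup.subgroupOfEquivOfLe H.2.2).toEquiv]; exact H.2.1⟩
        left_inv := fun H => Subtype.ext (Subgroup.comap_map_eq_self_of_injective (Subgroup.subtype_injective _) _)
        right_inv := fun H => Subtype.ext (Subgroup.map_subgroupOf_eq_of_le H.2.2) }
  have h2 : Nat.card {H : Subgroup G // Nat.card H = p ^ a} =
      Nat.card {H : Subgroup G // Nat.card H = p ^ a ∧ H ≤ (P : Subgroup G)} +
      Nat.card {H : Subgroup G // Nat.card H = p ^ a ∧ ¬ H ≤ (P : Subgroup G)} := by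
    rw [Nat.card_eq_fintype_card, Nat.card_eq_fintype_card, Nat.card_eq_fintype_card,
      Fintype.card_subtype, Fintype.card_subtype, Fintype.card_subtype, ← Finset.filter_filter,
      ← Finset.filter_filter, Finset.card_filter_add_card_filter_not]
  rw [h1, h2]
  conv_rhs => rw [← add_zero (Nat.card {H : Subgroup G // Nat.card H = p ^ a ∧ H ≤ (P : Subgroup G)})]
  exact Nat.ModEq.add_left _ (Nat.modEq_zero_iff_dvd.mpr (card_outside_modEq_zero P hn ha))

end H36
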