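import Mathlib

/-!
Krull–Remak–Schmidt for finite groups, by normal endomorphisms and Fitting's lemma.
-/

set_option autoImplicit false

namespace H36.KRS

universe ua ub

/-- Not the internal direct product of two nontrivial normal subgroups. -/
def Indec (A : Type*) [Group A] : Prop :=
  Nontrivial A ∧ ∀ H K : Subgroup A, H.Normal → K.Normal → H ⊓ K = ⊥ → H ⊔ K = ⊤ → H = ⊥ ∨ K = ⊥

/-- An endomorphism commuting with all inner automorphisms. -/
def IsNormalEnd {A : Type*} [Group A] (f : A →* A) : Prop :=
  ∀ g x : A, f (g * x * g⁻¹) = g * f x * g⁻¹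

variable {A : Type*} [Group A]

theorem isNormalEnd_pow {f : Monoid.End A} (hf : IsNormalEnd (f : A →* A)) (k : ℕ) :
    IsNormalEnd ((f ^ k : Monoid.End A) : A →* A) := by
  induction k with
  | zero => intro g x; rfl
  | succ k ih =>
    intro g x
    rw [pow_succ']
    show f ((f ^ k : Monoid.End A) (g * x * g⁻¹)) = g * f ((f ^ k : Monoid.End A) x) * g⁻¹
    rw [show (f ^ k : Monoid.End A) (g * x * g⁻¹) = g * (f ^ k : Monoid.End A) x * g⁻¹ from ih g x]
    exact hf g _

theorem exists_pow_idem {M : Type*} [Monoid M] [Finite M] (a : M) :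
    ∃ k, 0 < k ∧ a ^ k * a ^ k = a ^ k := by
  obtain ⟨i, j, hne, hij⟩ := Finite.exists_ne_map_eq_of_infinite (fun k : ℕ => a ^ k)
  have key : ∀ i j : ℕ, i < j → a ^ i = a ^ j → ∃ k, 0 < k ∧ a ^ k * a ^ k = a ^ k := by
    intro i j hlt h
    obtain ⟨d, hd, rfl⟩ : ∃ d, 0 < d ∧ j = i + d := ⟨j - i, by omega, by omega⟩
    have hper : ∀ m t : ℕ, i ≤ m → a ^ (m + t * d) = a ^ m := by
      intro m t hm
      induction t with
      | zero => simp
      | succ t ih =>
        obtain ⟨s, rfl⟩ := Nat.exists_eq_add_of_le hm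
        calc a ^ (i + s + (t + 1) * d) = a ^ (i + d) * a ^ (s + t * d) := by rw [← pow_add]; ring_nf
          _ = a ^ i * a ^ (s + t * d) := by rw [← h]
          _ = a ^ (i + s + t * d) := by rw [← pow_add]; ring_nf
          _ = a ^ (i + s) := ih
    refine ⟨(i + 1) * d, by positivity, ?_⟩
    rw [← pow_add]
    exact hper _ (i + 1) (by nlinarith)
  rcases Nat.lt_or_gt_of_ne hne with h | h
  · exact key i j h hij
  · exact key j i h hij.symm

/-- Fitting's lemma for a normal endomorphism of an indecomposable finite group. -/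
theorem bijective_or_nilpotent [Finite A] (hA : Indec A) {f : A →* A} (hf : IsNormalEnd f) :
    Function.Bijective f ∨ ∃ k, ∀ x, f^[k] x = 1 := by
  have : Finite (A →* A) := Finite.of_injective (fun g : A →* A => (g : A → A)) DFunLike.coe_injective
  have : Finite (Monoid.End A) := ‹Finite (A →* A)›
  let F : Monoid.End A := f
  obtain ⟨k, hk, hidem⟩ := exists_pow_idem F
  let e : A →* A := (F ^ k : Monoid.End A)
  have hiter : ∀ x, e x = f^[k] x := fun x => congrFun (Monoid.End.coe_pow A F k) x
  have hee : ∀ x, e (e x) = e x := fun x => DFunLike.congr_fun hidem x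
  have hen : IsNormalEnd e := isNormalEnd_pow (f := F) hf k
  have hr : e.range.Normal := ⟨fun y hy g => by
    obtain ⟨x, rfl⟩ := hy
    exact ⟨g * x * g⁻¹, hen g x⟩⟩
  have hinf : e.ker ⊓ e.range = ⊥ := by
    rw [eq_bot_iff]
    rintro y ⟨hy, x, rfl⟩
    have hy' : e (e x) = 1 := hy
    rw [hee] at hy'
    rw [Subgroup.mem_bot, hy']
  have hsup : e.ker ⊔ e.range = ⊤ := by
    rw [eq_top_iff]
    intro x _
    rw [show x = (x * (e x)⁻¹) * e x by group]
    exact mul_mem (Subgroup.mem_sup_left (by rw [MonoidHom.mem_ker, map_mul, map_inv, hee, mul_inv_cancel]))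
      (Subgroup.mem_sup_right ⟨x, rfl⟩)
  rcases hA.2 e.ker e.range inferInstance hr hinf hsup with h | h
  · left
    have hinj : Function.Injective f := by
      have he' : Function.Injective (f^[k]) := fun a b hab =>
        (MonoidHom.ker_eq_bot_iff e).mp h (by rw [hiter, hiter, hab])
      rw [show k = k - 1 + 1 by omega, Function.iterate_succ] at he'
      exact he'.of_comp
    exact Finite.injective_iff_bijective.mp hinj
  · right
    refine ⟨k, fun x => ?_⟩
    have : e x ∈ e.range := ⟨x, rfl⟩
    rwa [h, Subgroup.mem_bot, hiter] at this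

/-- If normal endomorphisms with commuting images multiply to an automorphism, one of them is one. -/
theorem exists_bijective_of_prod [Finite A] (hA : Indec A) :
    ∀ l : List (A →* A), (∀ f ∈ l, IsNormalEnd f) →
      (l.Pairwise fun f g => ∀ x y, Commute (f x) (g y)) →
      Function.Bijective (fun x => (l.map fun f => f x).prod) → ∃ f ∈ l, Function.Bijective f := by
  intro l
  induction l with
  | nil =>
    intro _ _ hbij
    obtain ⟨a, b, hab⟩ := hA.1.exists_pair_ne
    exact absurd (hbij.1 (a₁ := a) (a₂ := b) rfl) hab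
  | cons φ l ih =>
    intro hn hc hbij
    obtain ⟨hφc, hlc⟩ := List.pairwise_cons.mp hc
    have hmul : ∀ (l : List (A →* A)), (l.Pairwise fun f g => ∀ x y, Commute (f x) (g y)) → ∀ x y,
        (l.map fun f => f (x * y)).prod = (l.map fun f => f x).prod * (l.map fun f => f y).prod := by
      intro l hl x y
      induction l with
      | nil => simp
      | cons g l ihl =>
        obtain ⟨hg, hl'⟩ := List.pairwise_cons.mp hl
        simp only [List.map_cons, List.prod_cons]
        rw [ihl hl', map_mul]
        have hcm : Commute (g y) (l.map fun f => f x).prod := by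
          refine Commute.list_prod_right _ _ fun z hz => ?_
          obtain ⟨f, hf, rfl⟩ := List.mem_map.mp hz
          exact hg f hf y x
        simp only [mul_assoc]
        rw [← mul_assoc (g y), hcm.eq, mul_assoc]
    have hnor : ∀ (l : List (A →* A)), (∀ f ∈ l, IsNormalEnd f) → ∀ g x,
        (l.map fun f => f (g * x * g⁻¹)).prod = g * (l.map fun f => f x).prod * g⁻¹ := by
      intro l hl g x
      induction l with
      | nil => simp
      | cons f l ihl =>
        simp only [List.map_cons, List.prod_cons]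
        rw [ihl (fun f' hf' => hl f' (List.mem_cons_of_mem _ hf')), hl f List.mem_cons_self g x]
        group
    let θ : A ≃* A := MulEquiv.ofBijective
      ({ toFun := fun x => ((φ :: l).map fun f => f x).prod
         map_one' := List.prod_eq_one fun z hz => by
           obtain ⟨f, -, rfl⟩ := List.mem_map.mp hz
           exact map_one f
         map_mul' := hmul _ hc } : A →* A) hbij
    have hθ : ∀ x, θ x = φ x * (l.map fun f => f x).prod := fun x => by
      show ((φ :: l).map fun f => f x).prod = _
      simp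
    have hθn : ∀ g y, θ.symm (g * y * g⁻¹) = g * θ.symm y * g⁻¹ := fun g y => by
      apply θ.injective
      rw [MulEquiv.apply_symm_apply]
      show _ = ((φ :: l).map fun f => f (g * θ.symm y * g⁻¹)).prod
      rw [hnor _ hn]
      show g * y * g⁻¹ = g * θ (θ.symm y) * g⁻¹
      rw [MulEquiv.apply_symm_apply]
    let φ' : A →* A := θ.symm.toMonoidHom.comp φ
    have hφ' : IsNormalEnd φ' := fun g x => by
      show θ.symm (φ (g * x * g⁻¹)) = _
      rw [hn φ List.mem_cons_self g x, hθn]
      rfl
    rcases bijective_or_nilpotent hA hφ' with h | ⟨k, hk⟩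
    · refine ⟨φ, List.mem_cons_self, ?_⟩
      have : (φ : A → A) = θ ∘ φ' := funext fun x => (θ.apply_symm_apply _).symm
      rw [this]
      exact θ.bijective.comp h
    · have hinj : Function.Injective (fun x => (l.map fun f => f x).prod) := by
        intro a b hab
        simp only at hab
        have key : ∀ x, (l.map fun f => f x).prod = 1 → x = 1 := by
          intro x hx
          have hfix : φ' x = x := by
            apply θ.injective
            show θ (θ.symm (φ x)) = θ x
            rw [MulEquiv.apply_symm_apply, hθ, hx, mul_one]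
          have : φ'^[k] x = x := Function.iterate_fixed hfix k
          rw [hk] at this
          exact this.symm
        have h1 := hmul l hlc (a * b⁻¹) b
        rw [inv_mul_cancel_right, hab] at h1
        exact mul_inv_eq_one.mp (key _ (by simpa using h1.symm))
      obtain ⟨f, hf, hfb⟩ := ih (fun f hf => hn f (List.mem_cons_of_mem _ hf)) hlc
        (Finite.injective_iff_bijective.mp hinj)
      exact ⟨f, List.mem_cons_of_mem _ hf, hfb⟩

/-- The exchange step. -/
theorem exchange {m n : ℕ} {A : Fin (m + 1) → Type ua} {B : Fin (n + 1) → Type ub} [∀ i, Group (A i)]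
    [∀ j, Group (B j)] [∀ i, Finite (A i)] [∀ j, Finite (B j)] (hA : Indec (A 0)) (hB : ∀ j, Indec (B j))
    (e : (∀ i, A i) ≃* (∀ j, B j)) :
    ∃ j, Nonempty (A 0 ≃* B j) ∧
      Nonempty ((∀ i : Fin m, A i.succ) ≃* (∀ k : Fin n, B (j.succAbove k))) := by
  classical
  let u : ∀ j, A 0 →* B j := fun j => (Pi.evalMonoidHom B j).comp (e.toMonoidHom.comp (MonoidHom.mulSingle A 0))
  let v : ∀ j, B j →* A 0 := fun j =>
    (Pi.evalMonoidHom A 0).comp (e.symm.toMonoidHom.comp (MonoidHom.mulSingle B j))
  let f : Fin (n + 1) → (A 0 →* A 0) := fun j => (v j).comp (u j)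
  have hfn : ∀ j, IsNormalEnd (f j) := by
    intro j g x
    have h1 : (Pi.mulSingle j ((e (Pi.mulSingle 0 (g * x * g⁻¹))) j) : ∀ k, B k) =
        e (Pi.mulSingle 0 g) * Pi.mulSingle j ((e (Pi.mulSingle 0 x)) j) * (e (Pi.mulSingle 0 g))⁻¹ := by
      have h2 : (Pi.mulSingle 0 (g * x * g⁻¹) : ∀ i, A i) =
          Pi.mulSingle 0 g * Pi.mulSingle 0 x * (Pi.mulSingle 0 g)⁻¹ := by
        rw [← Pi.mulSingle_inv, ← Pi.mulSingle_mul, ← Pi.mulSingle_mul]
      funext k
      by_cases hk : k = j
      · subst hk
        simp [h2]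
      · simp [hk]
    show (e.symm (Pi.mulSingle j ((e (Pi.mulSingle 0 (g * x * g⁻¹))) j))) 0 =
      g * (e.symm (Pi.mulSingle j ((e (Pi.mulSingle 0 x)) j))) 0 * g⁻¹
    rw [h1, map_mul, map_mul, map_inv, MulEquiv.symm_apply_apply]
    simp
  have hpair : ((List.finRange (n + 1)).map f).Pairwise fun f g => ∀ x y, Commute (f x) (g y) := by
    rw [List.pairwise_map]
    refine (List.nodup_finRange _).imp fun {j k} hjk x y => ?_
    exact (((Pi.mulSingle_commute hjk (u j x) (u k y)).map e.symm.toMonoidHom).map (Pi.evalMonoidHom A 0))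
  have hid : ∀ x, (((List.finRange (n + 1)).map f).map fun g => g x).prod = x := by
    intro x
    have hy : ((List.finRange (n + 1)).map fun j => (Pi.mulSingle j ((e (Pi.mulSingle 0 x)) j) : ∀ k, B k)).prod
        = e (Pi.mulSingle 0 x) := by
      funext k
      change Pi.evalMonoidHom B k (List.prod _) = _
      rw [map_list_prod, List.map_map, List.prod_map_eq_pow_single k _ fun j hj _ => by simp [hj.symm],
        List.count_eq_one_of_mem (List.nodup_finRange _) (List.mem_finRange k), pow_one]
      simp
    calc (((List.finRange (n + 1)).map f).map fun g => g x).prod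
        = Pi.evalMonoidHom A 0 (e.symm ((List.finRange (n + 1)).map
            fun j => (Pi.mulSingle j ((e (Pi.mulSingle 0 x)) j) : ∀ k, B k)).prod) := by
          rw [map_list_prod, map_list_prod, List.map_map, List.map_map, List.map_map]
          rfl
      _ = x := by rw [hy, MulEquiv.symm_apply_apply]; simp
  obtain ⟨g, hg, hgb⟩ := exists_bijective_of_prod hA _ (fun g hg => by
    obtain ⟨j, -, rfl⟩ := List.mem_map.mp hg
    exact hfn j) hpair (by simp only [hid]; exact Function.bijective_id)
  obtain ⟨j, -, rfl⟩ := List.mem_map.mp hg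
  have hui : Function.Injective (u j) := fun a b hab => hgb.1 (congrArg (v j) hab)
  have hrn : (u j).range.Normal := ⟨fun y hy z => by
    obtain ⟨x, rfl⟩ := hy
    obtain ⟨h, hh⟩ : ∃ h : ∀ i, A i, (e h) j = z := ⟨e.symm (Pi.mulSingle j z), by simp⟩
    refine ⟨h 0 * x * (h 0)⁻¹, ?_⟩
    have h2 : (Pi.mulSingle 0 (h 0 * x * (h 0)⁻¹) : ∀ i, A i) = h * Pi.mulSingle 0 x * h⁻¹ := by
      funext i
      by_cases hi : i = 0
      · subst hi; simp
      · simp [hi]
    show (e (Pi.mulSingle 0 (h 0 * x * (h 0)⁻¹))) j = z * (e (Pi.mulSingle 0 x)) j * z⁻¹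
    rw [h2, map_mul, map_mul, map_inv, ← hh]
    rfl⟩
  have huv : Function.Bijective (u j) := by
    refine ⟨hui, ?_⟩
    have hinf : (v j).ker ⊓ (u j).range = ⊥ := by
      rw [eq_bot_iff]
      rintro y ⟨hy, x, rfl⟩
      have : f j x = f j 1 := by
        show v j (u j x) = _
        rw [map_one, show v j (u j x) = 1 from hy]
      rw [Subgroup.mem_bot, hgb.1 this, map_one]
    have hsup : (v j).ker ⊔ (u j).range = ⊤ := by
      rw [eq_top_iff]
      intro z _
      obtain ⟨x, hx⟩ := hgb.2 (v j z)
      rw [show z = (z * (u j x)⁻¹) * u j x by group]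
      refine mul_mem (Subgroup.mem_sup_left ?_) (Subgroup.mem_sup_right ⟨x, rfl⟩)
      rw [MonoidHom.mem_ker, map_mul, map_inv, ← hx]
      exact mul_inv_cancel _
    rcases (hB j).2 (v j).ker (u j).range inferInstance hrn hinf hsup with h | h
    · intro z
      obtain ⟨x, hx⟩ := hgb.2 (v j z)
      exact ⟨x, (MonoidHom.ker_eq_bot_iff (v j)).mp h hx⟩
    · exfalso
      obtain ⟨a, b, hab⟩ := hA.1.exists_pair_ne
      apply hab
      apply hui
      have h1 : ∀ z, u j z = 1 := fun z => by
        have : u j z ∈ (u j).range := ⟨z, rfl⟩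
        rwa [h, Subgroup.mem_bot] at this
      rw [h1, h1]
  refine ⟨j, ⟨MulEquiv.ofBijective (u j) huv⟩, ?_⟩
  let incl : (∀ k : Fin n, B (j.succAbove k)) →* (∀ k, B k) :=
    MonoidHom.mk' (fun y => Fin.insertNth j 1 y) fun y y' => by
      funext k
      induction k using Fin.succAboveCases j with
      | x => simp
      | p i => simp
  let w : (∀ k : Fin n, B (j.succAbove k)) →* (∀ i : Fin m, A i.succ) :=
    MonoidHom.mk' (fun y => fun i => (e.symm (incl y)) i.succ) fun y y' => by
      funext i
      simp
  refine ⟨(MulEquiv.ofBijective w ⟨?_, ?_⟩).symm⟩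
  · rw [injective_iff_map_eq_one]
    intro y hy
    have h1 : e.symm (incl y) = Pi.mulSingle 0 ((e.symm (incl y)) 0) := by
      funext i
      induction i using Fin.cases with
      | zero => simp
      | succ i => rw [Pi.mulSingle_eq_of_ne (Fin.succ_ne_zero i)]; exact congrFun hy i
    have h2 : u j ((e.symm (incl y)) 0) = 1 := by
      show (e (Pi.mulSingle 0 ((e.symm (incl y)) 0))) j = 1
      rw [← h1, MulEquiv.apply_symm_apply]
      simp [incl]
    have h3 := hui (h2.trans (map_one (u j)).symm)
    rw [h3, Pi.mulSingle_one, map_eq_one_iff _ e.symm.injective] at h1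
    funext k
    simpa [incl] using congrFun h1 (j.succAbove k)
  · intro y
    let g : ∀ i, A i := Fin.cons 1 y
    obtain ⟨a, ha⟩ := huv.2 ((e g) j)⁻¹
    refine ⟨fun k => (e (Pi.mulSingle 0 a * g)) (j.succAbove k), ?_⟩
    have h1 : incl (fun k => (e (Pi.mulSingle 0 a * g)) (j.succAbove k)) = e (Pi.mulSingle 0 a * g) := by
      funext k
      induction k using Fin.succAboveCases j with
      | x =>
        have ha' : (e (Pi.mulSingle 0 a)) j = ((e g) j)⁻¹ := ha
        simp [incl, ha']
      | p i => simp [incl]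
    funext i
    show (e.symm (incl _)) i.succ = y i
    rw [h1, MulEquiv.symm_apply_apply]
    simp [g, Fin.succ_ne_zero]

theorem main : ∀ {m n : ℕ} {A : Fin m → Type ua} {B : Fin n → Type ub} [∀ i, Group (A i)] [∀ j, Group (B j)]
    [∀ i, Finite (A i)] [∀ j, Finite (B j)], (∀ i, Indec (A i)) → (∀ j, Indec (B j)) →
    ((∀ i, A i) ≃* (∀ j, B j)) → ∃ σ : Fin m ≃ Fin n, ∀ i, Nonempty (A i ≃* B (σ i)) := by
  intro m
  induction m with
  | zero =>
    intro n A B _ _ _ _ hA hB e
    cases n with
    | zero => exact ⟨Equiv.refl _, fun i => i.elim0⟩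
    | succ n =>
      exfalso
      obtain ⟨a, b, hab⟩ := (hB 0).1.exists_pair_ne
      apply hab
      classical
      have := congrFun (e.symm.injective (Subsingleton.elim (e.symm (Pi.mulSingle 0 a)) (e.symm (Pi.mulSingle 0 b)))) 0
      simpa using this
  | succ m ih =>
    intro n A B _ _ _ _ hA hB e
    cases n with
    | zero =>
      exfalso
      obtain ⟨a, b, hab⟩ := (hA 0).1.exists_pair_ne
      apply hab
      classical
      have := congrFun (e.injective (Subsingleton.elim (e (Pi.mulSingle 0 a)) (e (Pi.mulSingle 0 b)))) 0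
      simpa using this
    | succ n =>
      obtain ⟨j, ⟨e0⟩, ⟨e'⟩⟩ := exchange (hA 0) hB e
      obtain ⟨σ, hσ⟩ := ih (A := fun i => A i.succ) (B := fun k => B (j.succAbove k))
        (fun i => hA i.succ) (fun k => hB _) e'
      let τ := (finSuccEquiv' (0 : Fin (m + 1))).trans (σ.optionCongr.trans (finSuccEquiv' j).symm)
      refine ⟨τ, fun i => ?_⟩
      induction i using Fin.cases with
      | zero =>
        have h : τ 0 = j := by simp [τ]
        rw [h]
        exact ⟨e0⟩
      | succ i =>
        have h1 : finSuccEquiv' (0 : Fin (m + 1)) i.succ = some i := by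
          rw [← Fin.succAbove_zero_apply, finSuccEquiv'_succAbove]
        have h : τ i.succ = j.succAbove (σ i) := by simp [τ, h1]
        rw [h]
        exact hσ i

end H36.KRS
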