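import Cfsg.Agent.H36.GL23Facts
import Cfsg.Agent.H62.Basic
import Cfsg.Agent.H65.SimpleTools

/-!
# Simple groups of order `5616` with involution centralisers `GL(2,3)`: basic facts
-/

set_option autoImplicit false

open Subgroup

namespace H36.L33

universe u

/-- The standing hypotheses. -/
structure Hyp (G : Type u) [Group G] : Prop where
  card : Nat.card G = 5616
  cent : ∀ s : G, orderOf s = 2 →
    Nonempty (centralizer ({s} : Set G) ≃* Matrix.GeneralLinearGroup (Fin 2) (ZMod 3))

variable {G : Type u} [Group G] [Finite G]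

omit [Finite G] in
theorem sq_of_two {s : G} (hs : orderOf s = 2) : s * s = 1 := by
  rw [← sq, ← hs, pow_orderOf_eq_one]

omit [Finite G] in
theorem ne_one_of_two {s : G} (hs : orderOf s = 2) : s ≠ 1 := fun h => by
  rw [h, orderOf_one] at hs; norm_num at hs

omit [Finite G] in
theorem two_of_sq {s : G} (h : s * s = 1) (h1 : s ≠ 1) : orderOf s = 2 :=
  orderOf_eq_prime (by rw [sq]; exact h) h1

omit [Finite G] in
theorem three_of_cube {w : G} (h : w * (w * w) = 1) (h1 : w ≠ 1) : orderOf w = 3 :=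
  orderOf_eq_prime (by rw [pow_succ', sq]; exact h) h1

omit [Finite G] in
theorem cube_of_pow {w : G} (h : w ^ 3 = 1) : w * (w * w) = 1 := by
  rwa [pow_succ', sq] at h

variable (h : Hyp G)
include h

theorem card_centralizer_two {s : G} (hs : orderOf s = 2) :
    Nat.card (centralizer ({s} : Set G)) = 48 := by
  obtain ⟨e⟩ := h.cent s hs
  haveI := Fintype.ofFinite G
  exact GLFacts.card_eq_fortyeight e

theorem card_centralizer_two_three {s w : G} (hs : orderOf s = 2) (hw : w * (w * w) = 1)
    (hw1 : w ≠ 1) (hc : s * w = w * s) :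
    Nat.card ↥(centralizer ({s} : Set G) ⊓ centralizer ({w} : Set G)) = 6 := by
  obtain ⟨e⟩ := h.cent s hs
  haveI := Fintype.ofFinite G
  set C := centralizer ({s} : Set G)
  set w' : C := ⟨w, mem_centralizer_singleton_iff.2 hc.symm⟩
  have hmap : (centralizer ({w'} : Set C)).map C.subtype = C ⊓ centralizer ({w} : Set G) := by
    ext x
    rw [mem_map, mem_inf, mem_centralizer_singleton_iff]
    constructor
    · rintro ⟨y, hy, rfl⟩
      exact ⟨mem_centralizer_singleton_iff.1 y.2, mem_centralizer_singleton_iff.2 (congrArg Subtype.val (mem_centralizer_singleton_iff.1 hy))⟩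
    · rintro ⟨h1, h2⟩
      exact ⟨⟨x, mem_centralizer_singleton_iff.2 h1⟩, mem_centralizer_singleton_iff.2 (Subtype.ext (mem_centralizer_singleton_iff.1 h2)), rfl⟩
  rw [← hmap, card_subtype]
  exact GLFacts.card_centralizer_three e (Subtype.ext hw) fun e1 => hw1 (congrArg Subtype.val e1)

theorem eq_of_commuting {s w y : G} (hs : orderOf s = 2) (hw : w * (w * w) = 1) (hw1 : w ≠ 1)
    (hc : s * w = w * s) (hy : y * y = 1) (hys : s * y = y * s) (hyw : w * y = y * w) :
    y = 1 ∨ y = s := by
  obtain ⟨e⟩ := h.cent s hs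
  haveI := Fintype.ofFinite G
  have := GLFacts.eq_of_three_commuting e (H13.GL23.coord_tC e hs)
    (x := ⟨w, mem_centralizer_singleton_iff.2 hc.symm⟩)
    (y := ⟨y, mem_centralizer_singleton_iff.2 hys.symm⟩)
    (Subtype.ext hw) (fun e1 => hw1 (congrArg Subtype.val e1)) (Subtype.ext hyw) (Subtype.ext hy)
  exact this.imp (congrArg Subtype.val) (congrArg Subtype.val)

theorem exists_inverting {s w : G} (hs : orderOf s = 2) (hw : w * (w * w) = 1) (hw1 : w ≠ 1)
    (hc : s * w = w * s) : ∃ r : G, orderOf r = 2 ∧ r ≠ s ∧ s * r = r * s ∧ r * w * r = w * w := by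
  obtain ⟨e⟩ := h.cent s hs
  haveI := Fintype.ofFinite G
  obtain ⟨r, r2, r1, rs, hr⟩ := GLFacts.exists_inverting e (H13.GL23.coord_tC e hs)
    (x := ⟨w, mem_centralizer_singleton_iff.2 hc.symm⟩) (Subtype.ext hw)
    (fun e1 => hw1 (congrArg Subtype.val e1))
  exact ⟨r.1, two_of_sq (congrArg Subtype.val r2) (fun e1 => r1 (Subtype.ext e1)),
    fun e1 => rs (Subtype.ext e1), (mem_centralizer_singleton_iff.1 r.2).symm,
    congrArg Subtype.val hr⟩

theorem eq_of_two_commuting {s u y : G} (hs : orderOf s = 2) (hu : orderOf u = 2) (hus : u ≠ s)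
    (hc : s * u = u * s) (hys : s * y = y * s) (hyu : u * y = y * u) :
    y = 1 ∨ y = s ∨ y = u ∨ y = s * u := by
  obtain ⟨e⟩ := h.cent s hs
  haveI := Fintype.ofFinite G
  rcases GLFacts.eq_of_involution_commuting e (H13.GL23.coord_tC e hs)
    (x := ⟨u, mem_centralizer_singleton_iff.2 hc.symm⟩)
    (y := ⟨y, mem_centralizer_singleton_iff.2 hys.symm⟩)
    (Subtype.ext (sq_of_two hu)) (fun e1 => ne_one_of_two hu (congrArg Subtype.val e1))
    (fun e1 => hus (congrArg Subtype.val e1)) (Subtype.ext hyu) with k | k | k | k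
  · exact Or.inl (congrArg Subtype.val k)
  · exact Or.inr (Or.inl (congrArg Subtype.val k))
  · exact Or.inr (Or.inr (Or.inl (congrArg Subtype.val k)))
  · exact Or.inr (Or.inr (Or.inr (congrArg Subtype.val k)))

theorem exists_not_normalizing {s w : G} (hs : orderOf s = 2) (hw : w * (w * w) = 1) (hw1 : w ≠ 1)
    (hc : s * w = w * s) : ∃ g : G, s * g = g * s ∧ g * w * g⁻¹ ∉ zpowers w := by
  obtain ⟨e⟩ := h.cent s hs
  haveI := Fintype.ofFinite G
  obtain ⟨g, hg⟩ := GLFacts.exists_not_normalizing e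
    (x := ⟨w, mem_centralizer_singleton_iff.2 hc.symm⟩) (Subtype.ext hw)
    (fun e1 => hw1 (congrArg Subtype.val e1))
  refine ⟨g.1, (mem_centralizer_singleton_iff.1 g.2).symm, fun hm => hg ?_⟩
  obtain ⟨i, hi⟩ := mem_zpowers_iff.1 hm
  exact mem_zpowers_iff.2 ⟨i, Subtype.ext (by simpa using hi)⟩

theorem isConj_three {s w v : G} (hs : orderOf s = 2) (hw : w * (w * w) = 1) (hw1 : w ≠ 1)
    (hc : s * w = w * s) (hv : v * (v * v) = 1) (hv1 : v ≠ 1) (hcv : s * v = v * s) :
    IsConj w v := by
  obtain ⟨e⟩ := h.cent s hs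
  haveI := Fintype.ofFinite G
  exact MonoidHom.map_isConj (centralizer ({s} : Set G)).subtype
    (GLFacts.isConj_three e (x := ⟨w, mem_centralizer_singleton_iff.2 hc.symm⟩)
      (y := ⟨v, mem_centralizer_singleton_iff.2 hcv.symm⟩) (Subtype.ext hw)
      (fun e1 => hw1 (congrArg Subtype.val e1)) (Subtype.ext hv)
      (fun e1 => hv1 (congrArg Subtype.val e1)))

theorem le_of_generators {s u v r : G} (hs : orderOf s = 2) (H : Subgroup G)
    (hu : u * (u * u) = 1) (hv : v * (v * v) = 1) (huv : u * v ≠ v * u) (hr : orderOf r = 2)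
    (hrs : r ≠ s) (cu : s * u = u * s) (cv : s * v = v * s) (cr : s * r = r * s)
    (mu : u ∈ H) (mv : v ∈ H) (mr : r ∈ H) : centralizer ({s} : Set G) ≤ H := by
  obtain ⟨e⟩ := h.cent s hs
  haveI := Fintype.ofFinite G
  have := GLFacts.eq_top_of_mem e (H13.GL23.coord_tC e hs)
    (H.subgroupOf (centralizer ({s} : Set G)))
    (u := ⟨u, mem_centralizer_singleton_iff.2 cu.symm⟩)
    (v := ⟨v, mem_centralizer_singleton_iff.2 cv.symm⟩)
    (r := ⟨r, mem_centralizer_singleton_iff.2 cr.symm⟩)
    (Subtype.ext hu) (Subtype.ext hv) (fun e1 => huv (congrArg Subtype.val e1))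
    (Subtype.ext (sq_of_two hr)) (fun e1 => ne_one_of_two hr (congrArg Subtype.val e1))
    (fun e1 => hrs (congrArg Subtype.val e1)) mu mv mr
  exact subgroupOf_eq_top.1 this

theorem card_le_three {s : G} (hs : orderOf s = 2) {H : Subgroup G} (hH : IsPGroup 3 H)
    (hle : H ≤ centralizer ({s} : Set G)) : Nat.card H ≤ 3 := by
  haveI : Fact (Nat.Prime 3) := ⟨Nat.prime_three⟩
  obtain ⟨k, hk⟩ := hH.exists_card_eq
  have hd := card_dvd_of_le hle
  rw [card_centralizer_two h hs, hk] at hd
  have hk1 : k ≤ 1 := by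
    by_contra hlt
    exact absurd ((pow_dvd_pow 3 (show 2 ≤ k by omega)).trans hd) (by norm_num)
  rw [hk]
  calc 3 ^ k ≤ 3 ^ 1 := Nat.pow_le_pow_right (by norm_num) hk1
    _ = 3 := by norm_num

variable [IsSimpleGroup G]

theorem not_comm : ¬ IsMulCommutative G :=
  H62.not_comm_of_not_prime (by rw [h.card]; norm_num)

omit [IsSimpleGroup G] in
theorem card_sylow_three (P : Sylow 3 G) : Nat.card (P : Subgroup G) = 27 := by
  haveI : Fact (Nat.Prime 3) := ⟨Nat.prime_three⟩
  rw [H62.card_sylow_coe (p := 3) (a := 3) (m := 208) (by rw [h.card]; norm_num) (by norm_num) P]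
  norm_num

theorem card_normalizer_three (P : Sylow 3 G) :
    Nat.card (normalizer ((P : Subgroup G) : Set G)) = 27 ∨
      Nat.card (normalizer ((P : Subgroup G) : Set G)) = 108 ∨
      Nat.card (normalizer ((P : Subgroup G) : Set G)) = 351 ∨
      Nat.card (normalizer ((P : Subgroup G) : Set G)) = 432 := by
  haveI : Fact (Nat.Prime 3) := ⟨Nat.prime_three⟩
  have hc := H65.sylow_candidate (p := 3) (a := 3) (m := 208) (not_comm h) h.card (by norm_num)
    (by norm_num) (by norm_num)
  have hm := H62.card_normalizer_mul P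
  rw [h.card] at hm
  have : Nat.card (Sylow 3 G) ∈ ({13, 16, 52, 208} : Finset ℕ) := by
    revert hc
    generalize Nat.card (Sylow 3 G) = d
    intro hd
    simp only [Finset.mem_filter, Nat.mem_divisors] at hd
    obtain ⟨⟨hd1, -⟩, hd2, hd3, hd4⟩ := hd
    have hle : d ≤ 208 := Nat.le_of_dvd (by norm_num) hd1
    have hd5 : d ≠ 4 := fun e => by subst e; norm_num [Nat.factorial] at hd4
    interval_cases d <;> first | omega | simp
  simp only [Finset.mem_insert, Finset.mem_singleton] at this
  rcases this with e | e | e | e <;> rw [e] at hm <;> omega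

theorem not_commute_thirteen {w y : G} (hw : orderOf w = 3) (hy : orderOf y = 13) :
    w * y ≠ y * w := by
  intro hc
  haveI : Fact (Nat.Prime 13) := ⟨by norm_num⟩
  obtain ⟨Q, hQ⟩ := (IsPGroup.of_card (p := 13) (n := 1) (G := zpowers y)
    (by rw [Nat.card_zpowers, hy, pow_one])).exists_le_sylow
  have hQc : Nat.card (Q : Subgroup G) = 13 := by
    rw [H62.card_sylow_coe (p := 13) (a := 1) (m := 432) (by rw [h.card]; norm_num) (by norm_num) Q,
      pow_one]
  have hQy : zpowers y = (Q : Subgroup G) :=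
    eq_of_le_of_card_ge hQ (by rw [hQc, Nat.card_zpowers, hy])
  have hcand := H65.sylow_candidate (p := 13) (a := 1) (m := 432) (not_comm h) h.card (by norm_num)
    (by norm_num) (by norm_num)
  have hm := H62.card_normalizer_mul Q
  rw [h.card] at hm
  have hn : Nat.card (Sylow 13 G) = 27 ∨ Nat.card (Sylow 13 G) = 144 := by
    simp only [Finset.mem_filter, Nat.mem_divisors] at hcand
    obtain ⟨⟨hd1, -⟩, hd2, hd3, -⟩ := hcand
    have hle : Nat.card (Sylow 13 G) ≤ 432 := Nat.le_of_dvd (by norm_num) hd1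
    generalize Nat.card (Sylow 13 G) = d at hd1 hd2 hd3 hle
    have : d / 13 ≤ 33 := by omega
    obtain ⟨j, hj, rfl⟩ : ∃ j, j ≤ 33 ∧ d = 13 * j + 1 := ⟨d / 13, this, by omega⟩
    interval_cases j <;> first | omega | norm_num at hd1
  set N := normalizer ((Q : Subgroup G) : Set G)
  set C := centralizer ((Q : Subgroup G) : Set G)
  have hwC : w ∈ C := by
    intro q hq
    rw [SetLike.mem_coe, ← hQy] at hq
    obtain ⟨i, rfl⟩ := mem_zpowers_iff.1 hq
    exact ((Commute.zpow_right (show Commute w y from hc) i).eq).symm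
  have hCN : C ≤ N := by
    intro c hcm
    rw [mem_normalizer_iff]
    intro q
    constructor
    · intro hq
      rwa [← hcm q hq, mul_inv_cancel_right]
    · intro hq
      have := hcm _ hq
      have e1 : q = c * q * c⁻¹ := by
        calc q = c⁻¹ * (c * q * c⁻¹ * c) := by group
          _ = c⁻¹ * (c * (c * q * c⁻¹)) := by rw [this]
          _ = c * q * c⁻¹ := by group
      rw [e1]
      exact hq
  have hrel := H62.relIndex_centralizer_dvd_prime (Q : Subgroup G) hQc
  have hmul : Nat.card C * C.relIndex N = Nat.card N := by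
    rw [← Nat.card_congr (subgroupOfEquivOfLe hCN).toEquiv, relIndex, card_mul_index]
  have hC3 : 3 ∣ Nat.card C := hw ▸ Subgroup.orderOf_dvd_natCard C hwC
  have hC2 : ¬ 2 ∣ Nat.card C := by
    intro h2
    obtain ⟨⟨u, hu⟩, hu2⟩ := exists_prime_orderOf_dvd_card' 2 h2
    rw [Subgroup.orderOf_mk] at hu2
    have hyC : y ∈ centralizer ({u} : Set G) :=
      mem_centralizer_singleton_iff.2 (hu y (hQy ▸ mem_zpowers y))
    have := Subgroup.orderOf_dvd_natCard _ hyC
    rw [hy, card_centralizer_two h hu2] at this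
    norm_num at this
  rcases hn with e | e <;> rw [e] at hm
  · have hN : Nat.card N = 208 := by omega
    rw [hN] at hmul
    have : 208 ∣ Nat.card C * 12 := hmul ▸ Nat.mul_dvd_mul_left _ hrel
    omega
  · have hN : Nat.card N = 39 := by omega
    rw [hN] at hmul
    have h39 : Nat.card C = 39 := by
      have hd : Nat.card C ∣ 39 := ⟨_, hmul.symm⟩
      have hy' : 13 ∣ Nat.card C := hy ▸ Subgroup.orderOf_dvd_natCard C (by
        intro q hq
        rw [SetLike.mem_coe, ← hQy] at hq
        obtain ⟨i, rfl⟩ := mem_zpowers_iff.1 hq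
        exact (((Commute.refl y).zpow_right i).eq).symm)
      have := Nat.le_of_dvd (by norm_num) hd
      omega
    refine H62.not_normalizer_le_centralizer (not_comm h) (by rw [h.card]; norm_num) Q ?_
    exact (eq_of_le_of_card_ge hCN (by rw [hN, h39])).ge

/-- The centraliser of an element of order three has order dividing `432`. -/
theorem centralizer_dvd {w : G} (hw : orderOf w = 3) :
    Nat.card (centralizer ({w} : Set G)) ∣ 432 := by
  have hd := card_subgroup_dvd_card (centralizer ({w} : Set G))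
  rw [h.card, show 5616 = 13 * 432 by norm_num] at hd
  refine (Nat.Coprime.dvd_of_dvd_mul_left (Nat.Coprime.symm ?_) hd)
  refine (Nat.Prime.coprime_iff_not_dvd (by norm_num)).2 fun h13 => ?_
  haveI : Fact (Nat.Prime 13) := ⟨by norm_num⟩
  obtain ⟨⟨y, hy⟩, hy13⟩ := exists_prime_orderOf_dvd_card' 13 h13
  rw [Subgroup.orderOf_mk] at hy13
  exact not_commute_thirteen h hw hy13 (mem_centralizer_singleton_iff.1 hy).symm

end H36.L33
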