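import Cfsg.Agent.H36.L33Plane
import Cfsg.Agent.H57.SL33.Plane

/-!
# Simple groups of order `5616`: coordinates on the plane, and uniqueness
-/

set_option autoImplicit false
set_option maxRecDepth 100000
set_option synthInstance.maxSize 2000
set_option maxHeartbeats 800000

open Subgroup MulAction

namespace H36.L33

open H57.SL33 (vec)

/-- Affine and infinite coordinates of a model point. -/
def aff (p : Fin 13) : ZMod 3 × ZMod 3 := (vec p 0 * vec p 2, vec p 1 * vec p 2)

/-- The direction of a model point at infinity. -/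
def dir (p : Fin 13) : ZMod 3 × ZMod 3 := (vec p 0, vec p 1)

theorem dir_ne : ∀ p : Fin 13, vec p 2 = 0 → dir p ≠ 0 := by decide +kernel

theorem dir_injective : ∀ p q : Fin 13, vec p 2 = 0 → vec q 2 = 0 →
    (dir q = dir p ∨ dir q = -dir p) → p = q := by decide +kernel

theorem aff_injective : ∀ p q : Fin 13, vec p 2 ≠ 0 → vec q 2 ≠ 0 → aff p = aff q → p = q := by
  decide +kernel

theorem line_infinity : ∀ p : Fin 13, H57.SL33.Inc p 12 → vec p 2 = 0 := by decide +kernel

theorem line_affine : ∀ j : Fin 13, j ≠ 12 → ∃ d s : ZMod 3 × ZMod 3, d ≠ 0 ∧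
    ∀ p : Fin 13, H57.SL33.Inc p j → (vec p 2 = 0 ∧ (dir p = d ∨ dir p = -d)) ∨
      (vec p 2 ≠ 0 ∧ ∃ k : Fin 3, aff p = s + (k : ℕ) • d) := by decide +kernel

theorem line_card : ∀ j : Fin 13,
    (Finset.univ.filter fun p : Fin 13 => H57.SL33.Inc p j).card = 4 := by decide +kernel

theorem line_union : ∀ i j : Fin 13, i ≠ j →
    4 < (Finset.univ.filter fun p : Fin 13 => H57.SL33.Inc p i ∨ H57.SL33.Inc p j).card := by
  decide +kernel

theorem multiples : ∀ d : ZMod 3 × ZMod 3, ∀ e : ZMod 3 × ZMod 3, d ≠ 0 →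
    (e = 0 ∨ e = d ∨ e = d + d) → e ≠ 0 → e = d ∨ e = -d := by decide

universe u

variable {G : Type u} [Group G]

theorem pow_val_add {z : G} (hz : z * (z * z) = 1) (a b : ZMod 3) :
    z ^ (a + b).val = z ^ a.val * z ^ b.val := by
  rw [← pow_add, ZMod.val_add]
  exact (pow_eq_pow_mod _ (by rw [pow_succ', sq]; exact hz)).symm

namespace Frame

variable (F : Frame G)

/-- Coordinates on the second subgroup. -/
def co (d : ZMod 3 × ZMod 3) : G := F.w ^ d.1.val * F.y ^ d.2.val

theorem co_mem (d : ZMod 3 × ZMod 3) : F.co d ∈ F.swap.A :=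
  mul_mem (pow_mem F.swap.w_mem _) (pow_mem F.swap.x_mem _)

theorem co_zero : F.co 0 = 1 := by simp [co]

theorem co_add (d e : ZMod 3 × ZMod 3) : F.co (d + e) = F.co d * F.co e := by
  have hwy : Commute F.w F.y := F.swap.wx
  rw [co, co, co, Prod.fst_add, Prod.snd_add, pow_val_add F.hw, pow_val_add F.hy,
    (hwy.pow_pow e.1.val d.2.val).symm.mul_mul_mul_comm]

theorem co_neg (d : ZMod 3 × ZMod 3) : F.co (-d) = (F.co d)⁻¹ :=
  eq_inv_of_mul_eq_one_left (by rw [← co_add, neg_add_cancel, co_zero])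

theorem eq_zero_of_co {d : ZMod 3 × ZMod 3} (h : F.co d = 1) : d = 0 := by
  have hy : F.y ^ d.2.val ∈ zpowers F.w := by
    rw [eq_inv_of_mul_eq_one_right h]
    exact inv_mem (pow_mem (mem_zpowers _) _)
  have hlt := ZMod.val_lt d.2
  have h2 : d.2.val = 0 := by
    by_contra hne
    apply F.swap.x_notMem_zpowers
    show F.y ∈ zpowers F.w
    interval_cases hd : d.2.val
    · exact absurd rfl hne
    · rwa [pow_one] at hy
    · have := mul_mem hy hy
      rwa [← pow_add, show 2 + 2 = 3 + 1 from rfl, pow_add, pow_one,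
        show F.y ^ 3 = 1 by rw [pow_succ', sq]; exact F.hy, one_mul] at this
  rw [co, h2, pow_zero, mul_one] at h
  have hlt1 := ZMod.val_lt d.1
  have h1 : d.1.val = 0 := by
    by_contra hne
    have hord := orderOf_dvd_of_pow_eq_one h
    rw [three_of_cube F.hw F.hw1] at hord
    have := Nat.le_of_dvd (Nat.pos_of_ne_zero hne) hord
    omega
  exact Prod.ext ((ZMod.val_eq_zero _).1 h1) ((ZMod.val_eq_zero _).1 h2)

theorem co_injective : Function.Injective F.co := fun d e h =>
  sub_eq_zero.1 (F.eq_zero_of_co (by rw [sub_eq_add_neg, co_add, co_neg, h, mul_inv_cancel]))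

theorem co_nsmul (d : ZMod 3 × ZMod 3) : ∀ k : ℕ, F.co (k • d) = F.co d ^ k
  | 0 => by rw [zero_smul, pow_zero, co_zero]
  | k + 1 => by rw [succ_nsmul, co_add, co_nsmul d k, pow_succ]

/-- `b` is in the elation group of the point `q` of the base line. -/
def Elation (b : G) (q : F.Pt) : Prop :=
  ∃ k ∈ normalizer (F.swap.A : Set G), (k : F.Pt) = q ∧ k⁻¹ * b * k ∈ zpowers F.w

variable [Finite G] [IsSimpleGroup G]

theorem elation_unique {b : G} (hb : b ≠ 1) {q q' : F.Pt} (h : F.Elation b q) (h' : F.Elation b q') :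
    q = q' := by
  obtain ⟨k, -, rfl, h1⟩ := h
  obtain ⟨m, -, rfl, h2⟩ := h'
  set c := k⁻¹ * b * k with hc
  have hc1 : c ≠ 1 := fun e => hb (by
    have := congrArg (fun z => k * z * k⁻¹) e
    simpa [hc, mul_assoc] using this)
  have hc3 : c * (c * c) = 1 := F.A_cube (F.W_le h1)
  have hgen : zpowers c = zpowers F.w := eq_of_le_of_card_ge (zpowers_le.2 h1) (by
    rw [Nat.card_zpowers, Nat.card_zpowers, three_of_cube F.hw F.hw1, three_of_cube hc3 hc1])
  have hM : m⁻¹ * k ∈ F.M := F.M_conj (by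
    obtain ⟨i, hi⟩ := mem_zpowers_iff.1 (hgen.symm ▸ mem_zpowers F.w : F.w ∈ zpowers c)
    rw [show m⁻¹ * k * F.w * (m⁻¹ * k)⁻¹ = (m⁻¹ * k * c * (m⁻¹ * k)⁻¹) ^ i by rw [conj_zpow, hi]]
    refine zpow_mem ?_ i
    rw [hc, show m⁻¹ * k * (k⁻¹ * b * k) * (m⁻¹ * k)⁻¹ = m⁻¹ * b * m by group]
    exact h2)
  exact (QuotientGroup.eq.2 (F.M_le_and_card.1 hM)).symm

theorem exists_elation {b : G} (hb : b ∈ F.swap.A) (hb1 : b ≠ 1) : ∃ q, F.Elation b q := by
  classical
  haveI := Fintype.ofFinite G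
  have hk : ∀ q : {q : F.Pt // F.Inc q F.l0}, ∃ k ∈ normalizer (F.swap.A : Set G), (k : F.Pt) = q.1 :=
    fun q => inc_l0_iff.1 q.2
  choose k hk1 hk2 using hk
  let e : Bool → G := fun i => bif i then F.w else F.w * F.w
  have heW : ∀ i, e i ∈ zpowers F.w := fun i => by
    cases i
    exacts [mul_mem (mem_zpowers _) (mem_zpowers _), mem_zpowers _]
  have he1 : ∀ i, e i ≠ 1 := fun i hi => by
    cases i
    · exact F.hw1 (by
        have h' : F.w * F.w = 1 := hi
        have := F.hw
        rwa [h', mul_one] at this)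
    · exact F.hw1 hi
  let Φ : {q : F.Pt // F.Inc q F.l0} × Bool → {b : F.swap.A // b ≠ 1} := fun p =>
    ⟨⟨k p.1 * e p.2 * (k p.1)⁻¹, conj_mem_of_normalizer (hk1 p.1) (F.swap.W_le (heW p.2))⟩,
      fun h => he1 p.2 (conj_eq_one_iff.1 (congrArg Subtype.val h))⟩
  have hinj : Function.Injective Φ := by
    rintro ⟨q, i⟩ ⟨q', i'⟩ h
    have h' : k q * e i * (k q)⁻¹ = k q' * e i' * (k q')⁻¹ :=
      congrArg (fun z => ((z.1 : F.swap.A) : G)) h
    have hq : q = q' := Subtype.ext (F.elation_unique (b := k q * e i * (k q)⁻¹)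
      (fun h => he1 i (conj_eq_one_iff.1 h))
      ⟨k q, hk1 q, hk2 q, by simpa [mul_assoc] using heW i⟩
      ⟨k q', hk1 q', hk2 q', by rw [h']; simpa [mul_assoc] using heW i'⟩)
    subst hq
    have hii : e i = e i' := mul_left_cancel (mul_right_cancel h')
    refine Prod.ext rfl ?_
    cases i <;> cases i'
    · rfl
    · exact absurd (mul_eq_left.1 (show F.w * F.w = F.w from hii)) F.hw1
    · exact absurd (mul_eq_left.1 (show F.w * F.w = F.w from hii.symm)) F.hw1
    · rfl
  have hsurj : Function.Surjective Φ := by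
    refine ((Nat.bijective_iff_injective_and_card Φ).2 ⟨hinj, ?_⟩).2
    rw [Nat.card_prod, F.card_points_base, Nat.card_eq_fintype_card (α := {b : F.swap.A // b ≠ 1}),
      Fintype.card_subtype_compl, Fintype.card_subtype_eq, ← Nat.card_eq_fintype_card,
      F.swap.cardA, Nat.card_eq_fintype_card, Fintype.card_bool]
  obtain ⟨⟨q, i⟩, hq⟩ := hsurj ⟨⟨b, hb⟩, fun h => hb1 (congrArg Subtype.val h)⟩
  have h' : k q * e i * (k q)⁻¹ = b := congrArg (fun z => ((z.1 : F.swap.A) : G)) hq
  exact ⟨q.1, k q, hk1 q, hk2 q, by rw [← h']; simpa [mul_assoc] using heW i⟩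

variable {F}

omit [IsSimpleGroup G] in
theorem Elation.inc {b : G} {q : F.Pt} (h : F.Elation b q) : F.Inc q F.l0 := by
  obtain ⟨k, hk, rfl, -⟩ := h
  exact inc_l0_iff.2 ⟨k, hk, rfl⟩

omit [IsSimpleGroup G] in
theorem Elation.fix_line {b : G} {q : F.Pt} (h : F.Elation b q) {l : F.Ln} (hl : F.Inc q l) :
    b • l = l := by
  obtain ⟨k, hk, rfl, hb⟩ := h
  have hl' : F.Inc F.a0 (k⁻¹ • l) := by
    have := hl.smul k⁻¹
    rwa [← smul_a0 k, inv_smul_smul] at this
  have := A_fix_lines (F.W_le hb) hl'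
  rw [mul_smul, mul_smul, smul_inv_smul] at this
  exact MulAction.injective k⁻¹ this

omit [Finite G] [IsSimpleGroup G] in
theorem Elation.inv {b : G} {q : F.Pt} (h : F.Elation b q) : F.Elation b⁻¹ q := by
  obtain ⟨k, hk, hq, hb⟩ := h
  exact ⟨k, hk, hq, by rw [show k⁻¹ * b⁻¹ * k = (k⁻¹ * b * k)⁻¹ by group]; exact inv_mem hb⟩

omit [Finite G] [IsSimpleGroup G] in
theorem Elation.pow {b : G} {q : F.Pt} (h : F.Elation b q) (n : ℕ) : F.Elation (b ^ n) q := by
  obtain ⟨k, hk, hq, hb⟩ := h
  refine ⟨k, hk, hq, ?_⟩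
  have := pow_mem hb n
  rwa [show k⁻¹ * b * k = k⁻¹ * b * k⁻¹⁻¹ by rw [inv_inv], conj_pow, inv_inv] at this

variable (F)

theorem exists_off : ∃ p : F.Pt, ¬ F.Inc p F.l0 := by
  by_contra hall
  push Not at hall
  have := F.card_points_base
  rw [Nat.card_congr (Equiv.subtypeUnivEquiv hall), F.card_Pt] at this
  norm_num at this

/-- The model of the plane carried by the group. -/
theorem exists_model : ∃ (P : Fin 13 ≃ F.Pt) (L : Fin 13 ≃ F.Ln),
    ∀ i j, H57.SL33.Inc i j ↔ F.Inc (P i) (L j) := by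
  classical
  haveI := Fintype.ofFinite G
  haveI : Fintype F.Pt := Fintype.ofFinite _
  haveI : Fintype F.Ln := Fintype.ofFinite _
  obtain ⟨a', ha'⟩ := F.exists_off
  have hq : ∀ d : ZMod 3 × ZMod 3, d ≠ 0 → ∃ q, F.Elation (F.co d) q := fun d hd =>
    F.exists_elation (F.co_mem d) fun h => hd (F.eq_zero_of_co h)
  let qd : ZMod 3 × ZMod 3 → F.Pt := fun d => if hd : d ≠ 0 then (hq d hd).choose else F.a0
  have hqd : ∀ d, d ≠ 0 → F.Elation (F.co d) (qd d) := fun d hd => by
    simp only [qd, dif_pos hd]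
    exact (hq d hd).choose_spec
  have hneg : ∀ d, d ≠ 0 → qd (-d) = qd d := fun d hd =>
    F.elation_unique (fun h => neg_ne_zero.2 hd (F.eq_zero_of_co h)) (hqd _ (neg_ne_zero.2 hd))
      (by rw [co_neg]; exact (hqd d hd).inv)
  have hqinj : ∀ d e, d ≠ 0 → e ≠ 0 → qd d = qd e → e = d ∨ e = -d := by
    intro d e hd he h
    obtain ⟨k, hk, hkq, h1⟩ := hqd d hd
    obtain ⟨m, hm, hmq, h2⟩ := hqd e he
    -- both lie in one group of order three
    have hmk : k⁻¹ * m ∈ normalizer (F.A : Set G) := QuotientGroup.eq.1 (hkq.trans (h.trans hmq.symm))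
    have hM : k⁻¹ * m ∈ F.M := by
      rw [← F.normalizer_inf]
      exact Subgroup.mem_inf.2 ⟨hmk, mul_mem (inv_mem hk) hm⟩
    have h2' : k⁻¹ * F.co e * k ∈ zpowers F.w := by
      have := conj_mem_of_normalizer hM h2
      rwa [show k⁻¹ * m * (m⁻¹ * F.co e * m) * (k⁻¹ * m)⁻¹ = k⁻¹ * F.co e * k by group] at this
    set c := k⁻¹ * F.co d * k with hc
    have hc1 : c ≠ 1 := fun e1 => hd (F.eq_zero_of_co (by
      have := congrArg (fun z => k * z * k⁻¹) e1
      simpa [hc, mul_assoc] using this))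
    have hc3 : c * (c * c) = 1 := F.A_cube (F.W_le h1)
    have hgen : zpowers c = zpowers F.w := eq_of_le_of_card_ge (zpowers_le.2 h1) (by
      rw [Nat.card_zpowers, Nat.card_zpowers, three_of_cube F.hw F.hw1, three_of_cube hc3 hc1])
    rw [← hgen] at h2'
    refine multiples d e hd ?_ he
    rcases (mem_zpowers_three hc3).1 h2' with e1 | e1 | e1
    · left
      refine F.eq_zero_of_co ?_
      have := congrArg (fun z => k * z * k⁻¹) e1
      simpa [mul_assoc] using this
    · right; left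
      refine F.co_injective ?_
      have := congrArg (fun z => k * z * k⁻¹) e1
      simpa [hc, mul_assoc] using this
    · right; right
      refine F.co_injective ?_
      rw [co_add]
      have := congrArg (fun z => k * z * k⁻¹) e1
      simpa [hc, mul_assoc] using this
  have hoff : ∀ d : ZMod 3 × ZMod 3, ¬ F.Inc (F.co d • a') F.l0 := fun d h => ha' (by
    have := h.smul (F.co d)⁻¹
    rwa [inv_smul_smul, smul_l0_eq (inv_mem (le_normalizer (F.co_mem d)))] at this)
  let pt : Fin 13 → F.Pt := fun p => if vec p 2 = 0 then qd (dir p) else F.co (aff p) • a'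
  have hptinj : Function.Injective pt := by
    intro p q h
    by_cases hp : vec p 2 = 0 <;> by_cases hq' : vec q 2 = 0 <;> simp only [pt, hp, hq', if_true,
      if_false] at h
    · exact dir_injective p q hp hq' (hqinj _ _ (dir_ne p hp) (dir_ne q hq') h)
    · exact absurd (h ▸ (hqd _ (dir_ne p hp)).inc) (hoff _)
    · exact absurd (h ▸ (hqd _ (dir_ne q hq')).inc) (hoff _)
    · refine aff_injective p q hp hq' (sub_eq_zero.1 (F.eq_zero_of_co ?_))
      refine eq_one_of_fix (F.co_mem _) ha' ?_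
      rw [sub_eq_add_neg, add_comm, co_add, co_neg, mul_smul, h, inv_smul_smul]
  have hpt : Function.Bijective pt := (Nat.bijective_iff_injective_and_card pt).2
    ⟨hptinj, by rw [F.card_Pt, Nat.card_eq_fintype_card, Fintype.card_fin]⟩
  have hline : ∀ j : Fin 13, ∃ l, ∀ p, H57.SL33.Inc p j → F.Inc (pt p) l := by
    intro j
    by_cases hj : j = 12
    · subst hj
      exact ⟨F.l0, fun p hp => by
        simp only [pt, line_infinity p hp, if_true]
        exact (hqd _ (dir_ne p (line_infinity p hp))).inc⟩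
    obtain ⟨d, s, hd, hs⟩ := line_affine j hj
    obtain ⟨l, hl1, hl2⟩ := exists_line (F := F) (p := qd d) (q := F.co s • a')
      (fun e => hoff s (e ▸ (hqd d hd).inc))
    refine ⟨l, fun p hp => ?_⟩
    rcases hs p hp with ⟨hz, hdir⟩ | ⟨hz, k, hk⟩
    · simp only [pt, hz, if_true]
      rcases hdir with e | e <;> rw [e]
      · exact hl1
      · rw [hneg d hd]; exact hl1
    · simp only [pt, hz, if_false]
      rw [hk, add_comm, co_add, mul_smul, co_nsmul]
      have := hl2.smul (F.co d ^ (k : ℕ))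
      rwa [((hqd d hd).pow (k : ℕ)).fix_line hl1] at this
  choose ln hln using hline
  have hpts : ∀ l : F.Ln, (Finset.univ.filter fun p : Fin 13 => F.Inc (pt p) l).card = 4 := by
    intro l
    rw [← Fintype.card_subtype, ← Nat.card_eq_fintype_card, ← F.card_points l]
    exact Nat.card_congr (Equiv.subtypeEquiv (Equiv.ofBijective pt hpt) fun p => Iff.rfl)
  have hlninj : Function.Injective ln := by
    intro i j h
    by_contra hne
    have hle := Finset.card_le_card (show (Finset.univ.filter fun p : Fin 13 =>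
      H57.SL33.Inc p i ∨ H57.SL33.Inc p j) ⊆ Finset.univ.filter fun p => F.Inc (pt p) (ln i) from by
        intro p hp
        simp only [Finset.mem_filter, Finset.mem_univ, true_and] at hp ⊢
        rcases hp with hp | hp
        · exact hln i p hp
        · exact h ▸ hln j p hp)
    rw [hpts] at hle
    exact absurd hle (not_le.2 (line_union i j hne))
  have hlnb : Function.Bijective ln := (Nat.bijective_iff_injective_and_card ln).2
    ⟨hlninj, by rw [F.card_Ln, Nat.card_eq_fintype_card, Fintype.card_fin]⟩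
  refine ⟨Equiv.ofBijective pt hpt, Equiv.ofBijective ln hlnb, fun i j => ⟨hln j i, fun h => ?_⟩⟩
  have heq : (Finset.univ.filter fun p : Fin 13 => H57.SL33.Inc p j) =
      Finset.univ.filter fun p => F.Inc (pt p) (ln j) := by
    refine Finset.eq_of_subset_of_card_le (fun p hp => ?_) (by rw [hpts, line_card])
    simp only [Finset.mem_filter, Finset.mem_univ, true_and] at hp ⊢
    exact hln j p hp
  have : i ∈ Finset.univ.filter fun p : Fin 13 => H57.SL33.Inc p j := by
    rw [heq]
    simpa using h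
  simpa using this

end Frame

variable [Finite G] [IsSimpleGroup G]

/-- A simple group of order `5616` with involution centralisers `GL(2,3)` is `SL(3,3)`. -/
theorem nonempty_equiv_SL (h : Hyp G) : Nonempty (G ≃* H57.SL33.S) := by
  classical
  obtain ⟨F⟩ := exists_frame h
  obtain ⟨P, L, hPL⟩ := F.exists_model
  let e : H57.SL33.V ≃ F.Pt ⊕ F.Ln := Equiv.sumCongr P L
  let a : G →* Equiv.Perm (F.Pt ⊕ F.Ln) :=
    (Equiv.Perm.sumCongrHom F.Pt F.Ln).comp
      ((MulAction.toPermHom G F.Pt).prod (MulAction.toPermHom G F.Ln))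
  let ρ : G →* Equiv.Perm H57.SL33.V := e.symm.permCongrHom.toMonoidHom.comp a
  have hρl : ∀ g i, ρ g (Sum.inl i) = Sum.inl (P.symm (g • P i)) := fun g i => rfl
  have hρr : ∀ g j, ρ g (Sum.inr j) = Sum.inr (L.symm (g • L j)) := fun g j => rfl
  have hinc : ∀ (g : G) i j, H57.SL33.Inc i j → H57.SL33.Inc (P.symm (g • P i)) (L.symm (g • L j)) := by
    intro g i j hij
    rw [hPL, Equiv.apply_symm_apply, Equiv.apply_symm_apply]
    exact ((hPL i j).1 hij).smul g
  have hpres : ∀ g, H57.SL33.Pres (ρ g) := by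
    intro g v w hvw
    rcases v with i | i <;> rcases w with j | j
    · exact hvw.elim
    · rw [hρl, hρr]; exact hinc g i j hvw
    · rw [hρl, hρr]; exact hinc g j i hvw
    · exact hvw.elim
  have hρ : Function.Injective ρ := by
    rw [← MonoidHom.ker_eq_bot_iff]
    rcases (inferInstance : ρ.ker.Normal).eq_bot_or_eq_top with k | k
    · exact k
    exfalso
    have hall : ∀ g : G, ρ g = 1 := fun g => MonoidHom.mem_ker.1 (k ▸ mem_top g)
    have hfix : ∀ (g : G) i, g • P i = P i := fun g i => by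
      have := congrArg (fun z : Equiv.Perm H57.SL33.V => z (Sum.inl i)) (hall g)
      simp only [hρl, Equiv.Perm.one_apply, Sum.inl.injEq] at this
      simpa using congrArg P this
    haveI : Subsingleton F.Pt := ⟨fun p q => by
      obtain ⟨g, hg⟩ := MulAction.exists_smul_eq G p q
      obtain ⟨i, rfl⟩ := P.surjective p
      rw [← hg, hfix]⟩
    have := F.card_Pt
    rw [Nat.card_of_subsingleton F.a0] at this
    norm_num at this
  have hR : ∀ g : G, ρ g ∈ H57.SL33.selfGraph.rho.range := fun g =>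
    H57.SL33.exists_element (hpres g) (by
      have := hpres g⁻¹
      rwa [map_inv] at this) (by rw [hρl]; rfl)
  let es := MonoidHom.ofInjective (f := H57.SL33.selfGraph.rho) H57.SL33.selfGraph.rho_injective
  let ψ : G →* H57.SL33.S := es.symm.toMonoidHom.comp (ρ.codRestrict _ hR)
  have hψ : Function.Injective ψ := by
    intro x y hxy
    exact hρ (congrArg Subtype.val (es.symm.injective hxy))
  exact ⟨MulEquiv.ofBijective ψ ((Nat.bijective_iff_injective_and_card ψ).2
    ⟨hψ, by rw [h.card, H57.SL33.card_S]⟩)⟩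

end H36.L33
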