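import Cfsg.Agent.H36.L33Sub

/-!
# Simple groups of order `5616`: the projective plane
-/

set_option autoImplicit false

open Subgroup MulAction

namespace H36.L33

universe u

variable {G : Type u} [Group G] [Finite G]

/-- The orbit of the base coset under a subgroup. -/
theorem card_orbit_coset (H K : Subgroup G) :
    Nat.card {q : G ⧸ H // ∃ k ∈ K, (k : G ⧸ H) = q} = H.relIndex K := by
  refine (Nat.card_eq_of_bijective
    (Quotient.lift (s := QuotientGroup.leftRel (H.subgroupOf K))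
      (fun k : K => (⟨((k : G) : G ⧸ H), k, k.2, rfl⟩ : {q : G ⧸ H // ∃ k ∈ K, (k : G ⧸ H) = q}))
      (fun a b e => Subtype.ext (QuotientGroup.eq.2 (by
        exact mem_subgroupOf.1 (QuotientGroup.leftRel_apply.1 e))))) ⟨?_, ?_⟩).symm
  · intro a b
    induction a using Quotient.inductionOn with | h a => ?_
    induction b using Quotient.inductionOn with | h b => ?_
    intro e
    refine Quotient.sound (QuotientGroup.leftRel_apply.2 ?_)
    have := QuotientGroup.eq.1 (congrArg Subtype.val e)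
    exact this
  · rintro ⟨_, k, hk, rfl⟩
    exact ⟨Quotient.mk'' ⟨k, hk⟩, rfl⟩

namespace Frame

variable (F : Frame G)

/-- The points. -/
abbrev Pt : Type u := G ⧸ normalizer (F.A : Set G)

/-- The lines. -/
abbrev Ln : Type u := G ⧸ normalizer (F.swap.A : Set G)

/-- Incidence. -/
def Inc (p : F.Pt) (l : F.Ln) : Prop :=
  ∃ g : G, (g : F.Pt) = p ∧ (g : F.Ln) = l

/-- The base point. -/
def a0 : F.Pt := ((1 : G) : F.Pt)

/-- The base line. -/
def l0 : F.Ln := ((1 : G) : F.Ln)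

variable {F}

theorem Inc.smul {p : F.Pt} {l : F.Ln} (h : F.Inc p l) (g : G) : F.Inc (g • p) (g • l) := by
  obtain ⟨k, rfl, rfl⟩ := h
  exact ⟨g * k, rfl, rfl⟩

theorem inc_smul_iff {p : F.Pt} {l : F.Ln} (g : G) : F.Inc (g • p) (g • l) ↔ F.Inc p l :=
  ⟨fun h => by simpa using h.smul g⁻¹, fun h => h.smul g⟩

theorem smul_a0 (g : G) : g • F.a0 = (g : F.Pt) := by
  show ((g * 1 : G) : F.Pt) = _; rw [mul_one]

theorem smul_l0 (g : G) : g • F.l0 = (g : F.Ln) := by
  show ((g * 1 : G) : F.Ln) = _; rw [mul_one]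

theorem smul_a0_eq {g : G} (hg : g ∈ normalizer (F.A : Set G)) : g • F.a0 = F.a0 := by
  rw [smul_a0, a0, QuotientGroup.eq, mul_one]; exact inv_mem hg

theorem smul_l0_eq {g : G} (hg : g ∈ normalizer (F.swap.A : Set G)) : g • F.l0 = F.l0 := by
  rw [smul_l0, l0, QuotientGroup.eq, mul_one]; exact inv_mem hg

theorem inc_a0_iff {l : F.Ln} :
    F.Inc F.a0 l ↔ ∃ n ∈ normalizer (F.A : Set G), (n : F.Ln) = l := by
  constructor
  · rintro ⟨g, hg, rfl⟩
    rw [a0, QuotientGroup.eq, mul_one] at hg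
    exact ⟨g, by simpa using inv_mem hg, rfl⟩
  · rintro ⟨n, hn, rfl⟩
    exact ⟨n, (smul_a0 n).symm.trans (smul_a0_eq hn), rfl⟩

theorem inc_l0_iff {p : F.Pt} :
    F.Inc p F.l0 ↔ ∃ n ∈ normalizer (F.swap.A : Set G), (n : F.Pt) = p := by
  constructor
  · rintro ⟨g, rfl, hg⟩
    rw [l0, QuotientGroup.eq, mul_one] at hg
    exact ⟨g, by simpa using inv_mem hg, rfl⟩
  · rintro ⟨n, hn, rfl⟩
    exact ⟨n, rfl, (smul_l0 n).symm.trans (smul_l0_eq hn)⟩

theorem inc_base : F.Inc F.a0 F.l0 := ⟨1, rfl, rfl⟩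

variable [IsSimpleGroup G]

theorem card_Pt : Nat.card F.Pt = 13 := by
  have := (normalizer (F.A : Set G)).card_mul_index
  rw [F.card_normalizer, F.h.card, index_eq_card] at this
  show Nat.card (G ⧸ normalizer (F.A : Set G)) = 13
  omega

theorem card_Ln : Nat.card F.Ln = 13 := by
  have := (normalizer (F.swap.A : Set G)).card_mul_index
  rw [F.swap.card_normalizer, F.h.card, index_eq_card] at this
  show Nat.card (G ⧸ normalizer (F.swap.A : Set G)) = 13
  omega

theorem relIndex_normalizer :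
    (normalizer (F.swap.A : Set G)).relIndex (normalizer (F.A : Set G)) = 4 := by
  rw [← inf_relIndex_left]
  have h := ((normalizer (F.A : Set G) ⊓ normalizer (F.swap.A : Set G)).subgroupOf
    (normalizer (F.A : Set G))).card_mul_index
  rw [Nat.card_congr (subgroupOfEquivOfLe inf_le_left).toEquiv, F.normalizer_inf, F.M_le_and_card.2,
    F.card_normalizer] at h
  rw [F.normalizer_inf, relIndex]
  omega

theorem relIndex_normalizer' :
    (normalizer (F.A : Set G)).relIndex (normalizer (F.swap.A : Set G)) = 4 := by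
  rw [← inf_relIndex_right]
  have h := ((normalizer (F.A : Set G) ⊓ normalizer (F.swap.A : Set G)).subgroupOf
    (normalizer (F.swap.A : Set G))).card_mul_index
  rw [Nat.card_congr (subgroupOfEquivOfLe inf_le_right).toEquiv, F.normalizer_inf, F.M_le_and_card.2,
    F.swap.card_normalizer] at h
  rw [F.normalizer_inf, relIndex]
  omega

theorem card_points_base : Nat.card {p : F.Pt // F.Inc p F.l0} = 4 := by
  rw [← F.relIndex_normalizer', ← card_orbit_coset]
  exact Nat.card_congr (Equiv.subtypeEquivRight fun p => inc_l0_iff)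

theorem card_lines_base : Nat.card {l : F.Ln // F.Inc F.a0 l} = 4 := by
  rw [← F.relIndex_normalizer, ← card_orbit_coset]
  exact Nat.card_congr (Equiv.subtypeEquivRight fun l => inc_a0_iff)

theorem card_points (l : F.Ln) : Nat.card {p : F.Pt // F.Inc p l} = 4 := by
  obtain ⟨g, rfl⟩ := QuotientGroup.mk_surjective l
  rw [← F.card_points_base, ← smul_l0 g]
  refine Nat.card_congr (Equiv.subtypeEquiv (MulAction.toPerm g⁻¹) fun p => ?_)
  show _ ↔ F.Inc (g⁻¹ • p) F.l0
  exact ⟨fun h => by simpa using h.smul g⁻¹, fun h => by simpa using h.smul g⟩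

theorem card_lines (p : F.Pt) : Nat.card {l : F.Ln // F.Inc p l} = 4 := by
  obtain ⟨g, rfl⟩ := QuotientGroup.mk_surjective p
  rw [← F.card_lines_base, ← smul_a0 g]
  refine Nat.card_congr (Equiv.subtypeEquiv (MulAction.toPerm g⁻¹) fun l => ?_)
  show _ ↔ F.Inc F.a0 (g⁻¹ • l)
  exact ⟨fun h => by simpa using h.smul g⁻¹, fun h => by simpa using h.smul g⟩

omit [IsSimpleGroup G] in
/-- Three-elements of the flag stabiliser lie in `P`. -/
theorem mem_P_of_M {g : G} (hg : g ∈ F.M) (h3 : g * (g * g) = 1) : g ∈ F.P := by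
  refine F.memP g (mem_centralizer_singleton_iff.2 ?_) (by
    rw [show 2 * 13 + 1 = 3 * 9 from rfl, pow_mul, show g ^ 3 = 1 by rw [pow_succ', sq]; exact h3,
      one_pow])
  rcases (mem_zpowers_three F.hw).1 (conj_mem_of_normalizer hg (mem_zpowers F.w)) with e | e | e
  · exact absurd (conj_eq_one_iff.1 e) F.hw1
  · exact mul_inv_eq_iff_eq_mul.1 e
  · have h4 : g * g * F.w = F.w * (g * g) := by
      have e' : g * F.w = F.w * F.w * g := mul_inv_eq_iff_eq_mul.1 e
      calc g * g * F.w = g * (F.w * F.w * g) := by rw [mul_assoc, e']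
        _ = (g * F.w) * (F.w * g) := by simp only [mul_assoc]
        _ = F.w * F.w * (g * F.w) * g := by rw [e']; simp only [mul_assoc]; rw [← mul_assoc g, e']; simp only [mul_assoc]
        _ = F.w * (F.w * (F.w * F.w)) * (g * g) := by rw [e']; simp only [mul_assoc]
        _ = F.w * (g * g) := by rw [F.hw, mul_one]
    have hc := commute_of_conj_inv (m := 1) (by rw [show 2 * 1 + 1 = 3 from rfl, pow_succ', sq]; exact h3) h4
    exact hc

omit [IsSimpleGroup G] in
theorem eq_zero_pow {k : ℕ} (h : 9 < 3 ^ k) : 27 ≤ 3 ^ k := by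
  have : 3 ≤ k := by
    by_contra hlt
    have := Nat.pow_le_pow_right (show 0 < 3 by norm_num) (show k ≤ 2 by omega)
    omega
  calc 27 = 3 ^ 3 := by norm_num
    _ ≤ 3 ^ k := Nat.pow_le_pow_right (by norm_num) this

omit [IsSimpleGroup G] in
theorem sup_eq_P {a : G} (ha : a ∈ F.P) (haA : a ∉ F.A) (H : Subgroup G) (hA : F.A ≤ H)
    (haH : a ∈ H) : F.P ≤ H := by
  have hle : F.A ⊔ zpowers a ≤ F.P := sup_le F.A_le_P (zpowers_le.2 ha)
  obtain ⟨k, hk⟩ := (F.isPGroup_P.to_le hle).exists_card_eq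
  have hlt : 9 < 3 ^ k := hk ▸ F.cardA ▸ Nat.lt_of_le_of_ne (card_le_of_le le_sup_left)
    (fun e => haA ((eq_of_le_of_card_ge le_sup_left e.ge).symm ▸ mem_sup_right (mem_zpowers a)))
  have heq : F.A ⊔ zpowers a = F.P :=
    eq_of_le_of_card_ge hle (by rw [hk, F.cardP]; exact eq_zero_pow hlt)
  rw [← heq]
  exact sup_le hA (zpowers_le.2 haH)

/-- An element mapping `P` into itself normalises `⟨w⟩`. -/
theorem mem_M_of_conj {g : G} (hg : ∀ p ∈ F.P, g * p * g⁻¹ ∈ F.P) : g ∈ F.M := by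
  refine F.M_conj ?_
  have hgN : g ∈ normalizer (F.P : Set G) := mem_normalizer_of_conj_mem hg
  have hc : ∀ p ∈ F.P, g * F.w * g⁻¹ * p = p * (g * F.w * g⁻¹) := by
    intro p hp
    have hp' : g⁻¹ * p * g ∈ F.P := by simpa using conj_mem_of_normalizer (inv_mem hgN) hp
    calc g * F.w * g⁻¹ * p = g * (F.w * (g⁻¹ * p * g)) * g⁻¹ := by group
      _ = p * (g * F.w * g⁻¹) := by rw [← mem_centralizer_singleton_iff.1 (F.cP hp')]; group
  rw [← F.inf_swap]
  exact ⟨F.centralizer_A (hc _ F.wP) (hc _ F.xP), F.swap.centralizer_A (hc _ F.wP) (hc _ F.yP)⟩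

theorem P_not_normal : ¬ ∀ n ∈ normalizer (F.A : Set G), ∀ p ∈ F.P, n * p * n⁻¹ ∈ F.P := by
  intro h
  have := card_le_of_le (fun n hn => mem_M_of_conj (h n hn) : normalizer (F.A : Set G) ≤ F.M)
  rw [F.card_normalizer, F.M_le_and_card.2] at this
  omega

omit [IsSimpleGroup G] in
theorem A_le_normalizer_swap : F.A ≤ normalizer (F.swap.A : Set G) := F.A_le_P.trans F.swap.P_le

omit [IsSimpleGroup G] in
/-- `A` fixes every line through the base point. -/
theorem A_fix_lines {a : G} (ha : a ∈ F.A) {l : F.Ln} (hl : F.Inc F.a0 l) : a • l = l := by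
  obtain ⟨n, hn, rfl⟩ := inc_a0_iff.1 hl
  show ((a * n : G) : F.Ln) = _
  rw [QuotientGroup.eq]
  have h1 : n⁻¹ * a * n ∈ F.A := by simpa using conj_mem_of_normalizer (inv_mem hn) ha
  have := inv_mem (A_le_normalizer_swap h1)
  rwa [show (n⁻¹ * a * n)⁻¹ = (a * n)⁻¹ * n by group] at this

omit [IsSimpleGroup G] in
/-- The second subgroup fixes every point on the base line. -/
theorem B_fix_points {b : G} (hb : b ∈ F.swap.A) {p : F.Pt} (hp : F.Inc p F.l0) : b • p = p := by
  obtain ⟨n, hn, rfl⟩ := inc_l0_iff.1 hp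
  show ((b * n : G) : F.Pt) = _
  rw [QuotientGroup.eq]
  have h1 : n⁻¹ * b * n ∈ F.swap.A := by simpa using conj_mem_of_normalizer (inv_mem hn) hb
  have := inv_mem (F.P_le (F.swap.A_le_P h1))
  rwa [show (n⁻¹ * b * n)⁻¹ = (b * n)⁻¹ * n by group] at this

omit [IsSimpleGroup G] in
theorem W_le_B : zpowers F.w ≤ F.swap.A := F.swap.W_le

/-- An element of `A` fixing a further point of the base line lies in `⟨w⟩`. -/
theorem mem_W_of_fix {a : G} (ha : a ∈ F.A) {p : F.Pt} (hp : F.Inc p F.l0) (hne : p ≠ F.a0)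
    (hfix : a • p = p) : a ∈ zpowers F.w := by
  obtain ⟨k, hk, rfl⟩ := inc_l0_iff.1 hp
  rw [← F.inf_swap]
  refine ⟨ha, ?_⟩
  by_contra haB
  apply hne
  have hfix' : k⁻¹ * a * k ∈ normalizer (F.A : Set G) := by
    have : ((a * k : G) : F.Pt) = (k : F.Pt) := hfix
    rw [QuotientGroup.eq] at this
    have := inv_mem this
    rwa [show ((a * k)⁻¹ * k)⁻¹ = k⁻¹ * a * k by group] at this
  have hconjM : k⁻¹ * a * k ∈ F.M := by
    rw [← F.normalizer_inf]
    exact Subgroup.mem_inf.2 ⟨hfix', mul_mem (mul_mem (inv_mem hk) (A_le_normalizer_swap ha)) hk⟩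
  have hP' : k⁻¹ * a * k ∈ F.P := mem_P_of_M hconjM (by
    rw [show k⁻¹ * a * k * (k⁻¹ * a * k * (k⁻¹ * a * k)) = k⁻¹ * (a * (a * a)) * k by group,
      F.A_cube ha]
    group)
  have hnot : k⁻¹ * a * k ∉ F.swap.A := fun hm => haB (by
    have := conj_mem_of_normalizer hk hm
    rwa [show k * (k⁻¹ * a * k) * k⁻¹ = a by group] at this)
  have hPle : F.P ≤ F.P.comap (MulAut.conj k).toMonoidHom :=
    sup_eq_P (F := F.swap) hP' hnot (F.P.comap (MulAut.conj k).toMonoidHom)
      (fun b hb => F.swap.A_le_P (conj_mem_of_normalizer hk hb))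
      (show k * (k⁻¹ * a * k) * k⁻¹ ∈ F.P by
        rw [show k * (k⁻¹ * a * k) * k⁻¹ = a by group]; exact F.A_le_P ha)
  have hkM : k ∈ F.M := mem_M_of_conj fun p hp => hPle hp
  exact (smul_a0 k).symm.trans (smul_a0_eq (F.M_le_and_card.1 hkM))

omit [IsSimpleGroup G] in
theorem conj_mem_W_fix {n : G} {b : G} (hb : b ∈ zpowers F.w) {p : F.Pt}
    (hp : F.Inc p ((n : G) : F.Ln)) : (n * b * n⁻¹) • p = p := by
  have hp' : F.Inc (n⁻¹ • p) F.l0 := by
    have := hp.smul n⁻¹
    rwa [← smul_l0 n, inv_smul_smul] at this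
  rw [mul_smul, mul_smul, B_fix_points (W_le_B hb) hp', smul_inv_smul]

theorem unique_line_base {p : F.Pt} (hne : p ≠ F.a0) {l l' : F.Ln} (h1 : F.Inc F.a0 l)
    (h2 : F.Inc p l) (h1' : F.Inc F.a0 l') (h2' : F.Inc p l') : l = l' := by
  obtain ⟨n, hn, rfl⟩ := inc_a0_iff.1 h1
  obtain ⟨m, hm, rfl⟩ := inc_a0_iff.1 h1'
  set b := n * F.w * n⁻¹ with hb
  have hbA : b ∈ F.A := conj_mem_of_normalizer hn F.w_mem
  have hbA' : m⁻¹ * b * m ∈ F.A := by simpa using conj_mem_of_normalizer (inv_mem hm) hbA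
  have hfix : b • p = p := conj_mem_W_fix (mem_zpowers F.w) h2
  have hp' : F.Inc (m⁻¹ • p) F.l0 := by
    have := h2'.smul m⁻¹
    rwa [← smul_l0 m, inv_smul_smul] at this
  have hne' : m⁻¹ • p ≠ F.a0 := fun e => hne (by
    rw [← smul_inv_smul m p, e]; exact smul_a0_eq hm)
  have hW := mem_W_of_fix hbA' hp' hne' (by
    rw [mul_smul, mul_smul, smul_inv_smul, hfix])
  have hmn : m⁻¹ * n ∈ F.M := F.M_conj (by
    rw [show m⁻¹ * n * F.w * (m⁻¹ * n)⁻¹ = m⁻¹ * b * m by rw [hb]; group]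
    exact hW)
  rw [QuotientGroup.eq]
  have := inv_mem (F.swap.M_le_and_card.1 hmn)
  rwa [mul_inv_rev, inv_inv] at this

theorem exists_line_base {p : F.Pt} (hne : p ≠ F.a0) : ∃ l, F.Inc F.a0 l ∧ F.Inc p l := by
  classical
  haveI := Fintype.ofFinite G
  haveI : Fintype F.Pt := Fintype.ofFinite _
  haveI : Fintype F.Ln := Fintype.ofFinite _
  set L := Finset.univ.filter fun l : F.Ln => F.Inc F.a0 l
  set S := L.biUnion fun l => (Finset.univ.filter fun q : F.Pt => F.Inc q l).erase F.a0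
  have hdisj : (L : Set F.Ln).PairwiseDisjoint
      fun l => (Finset.univ.filter fun q : F.Pt => F.Inc q l).erase F.a0 := by
    intro l hl l' hl' hll
    rw [Function.onFun, Finset.disjoint_left]
    intro q hq hq'
    simp only [Finset.mem_erase, Finset.mem_filter, Finset.mem_univ, true_and] at hq hq'
    simp only [L, Finset.coe_filter, Finset.mem_univ, true_and, Set.mem_setOf_eq] at hl hl'
    exact hll (unique_line_base hq.1 hl hq.2 hl' hq'.2)
  have hL : L.card = 4 := by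
    rw [← F.card_lines_base, Nat.card_eq_fintype_card, Fintype.card_subtype]
  have hS : S.card = 12 := by
    rw [Finset.card_biUnion hdisj, Finset.sum_congr rfl (g := fun _ => 3), Finset.sum_const, hL]
    · rfl
    · intro l hl
      simp only [L, Finset.mem_filter, Finset.mem_univ, true_and] at hl
      rw [Finset.card_erase_of_mem (by simpa using hl), ← Fintype.card_subtype,
        ← Nat.card_eq_fintype_card, F.card_points]
  have : S = Finset.univ.erase F.a0 := by
    refine Finset.eq_of_subset_of_card_le ?_ ?_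
    · intro q hq
      obtain ⟨l, -, hq⟩ := Finset.mem_biUnion.1 hq
      exact Finset.mem_erase.2 ⟨(Finset.mem_erase.1 hq).1, Finset.mem_univ _⟩
    · rw [hS, Finset.card_erase_of_mem (Finset.mem_univ _), Finset.card_univ,
        ← Nat.card_eq_fintype_card, F.card_Pt]
  have hp : p ∈ S := this ▸ Finset.mem_erase.2 ⟨hne, Finset.mem_univ _⟩
  obtain ⟨l, hl, hq⟩ := Finset.mem_biUnion.1 hp
  simp only [L, Finset.mem_filter, Finset.mem_univ, true_and, Finset.mem_erase] at hl hq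
  exact ⟨l, hl, hq.2⟩

theorem unique_line {p q : F.Pt} (hne : p ≠ q) {l l' : F.Ln} (h1 : F.Inc p l) (h2 : F.Inc q l)
    (h1' : F.Inc p l') (h2' : F.Inc q l') : l = l' := by
  obtain ⟨g, rfl⟩ := QuotientGroup.mk_surjective p
  rw [← smul_a0 g] at h1 h1' hne
  have key : ∀ {m : F.Ln}, F.Inc (g • F.a0) m → F.Inc q m →
      F.Inc F.a0 (g⁻¹ • m) ∧ F.Inc (g⁻¹ • q) (g⁻¹ • m) := fun hm hm' =>
    ⟨by simpa using hm.smul g⁻¹, hm'.smul g⁻¹⟩
  obtain ⟨a1, a2⟩ := key h1 h2
  obtain ⟨b1, b2⟩ := key h1' h2'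
  exact MulAction.injective g⁻¹ (unique_line_base
    (fun e => hne (by rw [← e, smul_inv_smul])) a1 a2 b1 b2)

theorem exists_line {p q : F.Pt} (hne : p ≠ q) : ∃ l, F.Inc p l ∧ F.Inc q l := by
  obtain ⟨g, rfl⟩ := QuotientGroup.mk_surjective p
  rw [← smul_a0 g] at hne ⊢
  obtain ⟨l, h1, h2⟩ := exists_line_base (p := g⁻¹ • q) (fun e => hne (by rw [← e, smul_inv_smul]))
  exact ⟨g • l, h1.smul g, by simpa using h2.smul g⟩

/-- The second subgroup acts semiregularly off the base line. -/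
theorem eq_one_of_fix {b : G} (hb : b ∈ F.swap.A) {p : F.Pt} (hp : ¬ F.Inc p F.l0)
    (hfix : b • p = p) : b = 1 := by
  classical
  obtain ⟨g, rfl⟩ := QuotientGroup.mk_surjective p
  rw [← smul_a0 g] at hp hfix
  set b' := g⁻¹ * b * g with hb'
  set m0 : F.Ln := g⁻¹ • F.l0
  have hm0 : ¬ F.Inc F.a0 m0 := fun h => hp (by simpa [m0] using h.smul g)
  have hfix_m0 : ∀ {q : F.Pt}, F.Inc q m0 → b' • q = q := fun {q} hq => by
    have := B_fix_points hb (p := g • q) (by simpa [m0] using hq.smul g)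
    rw [hb', mul_smul, mul_smul, this, inv_smul_smul]
  have hfix0 : b' • F.a0 = F.a0 := by rw [hb', mul_smul, mul_smul, hfix, inv_smul_smul]
  have hb'N : b' ∈ normalizer (F.A : Set G) := by
    rw [smul_a0, a0, QuotientGroup.eq, mul_one] at hfix0
    simpa using inv_mem hfix0
  haveI := Fintype.ofFinite G
  haveI : Fintype F.Pt := Fintype.ofFinite _
  haveI : Fintype F.Ln := Fintype.ofFinite _
  set f : {q : F.Pt // F.Inc q m0} → {l : F.Ln // F.Inc F.a0 l} := fun q =>
    ⟨(exists_line (p := F.a0) (q := q.1) (fun e => hm0 (by rw [e]; exact q.2))).choose,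
      (exists_line (p := F.a0) (q := q.1) (fun e => hm0 (by rw [e]; exact q.2))).choose_spec.1⟩ with hf
  have hspec : ∀ q, F.Inc q.1 (f q).1 := fun q =>
    (exists_line (p := F.a0) (q := q.1) (fun e => hm0 (by rw [e]; exact q.2))).choose_spec.2
  have hinj : Function.Injective f := fun q q' e => by
    by_contra hne
    have h2 : F.Inc q.1 (f q').1 := e ▸ hspec q
    have := unique_line (fun e' => hne (Subtype.ext e')) q.2 q'.2 h2 (hspec q')
    exact hm0 (this ▸ (f q').2)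
  have hsurj : Function.Surjective f := ((Nat.bijective_iff_injective_and_card f).2
    ⟨hinj, by rw [F.card_points, F.card_lines_base]⟩).2
  have hfixl : ∀ {l : F.Ln}, F.Inc F.a0 l → b' • l = l := by
    intro l hl
    obtain ⟨q, hq⟩ := hsurj ⟨l, hl⟩
    have h2 : F.Inc q.1 l := by
      have := hspec q
      rwa [hq] at this
    have h3 := hl.smul b'
    have h4 := h2.smul b'
    rw [hfix0] at h3
    rw [hfix_m0 q.2] at h4
    exact unique_line (fun e => hm0 (by rw [e]; exact q.2)) h3 h4 hl h2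
  have hinM : ∀ n ∈ normalizer (F.A : Set G), n⁻¹ * b' * n ∈ F.M := by
    intro n hn
    have := hfixl (inc_a0_iff.2 ⟨n, hn, rfl⟩)
    have h1 : ((b' * n : G) : F.Ln) = (n : F.Ln) := this
    rw [QuotientGroup.eq] at h1
    rw [← F.normalizer_inf]
    refine Subgroup.mem_inf.2 ⟨mul_mem (mul_mem (inv_mem hn) hb'N) hn, ?_⟩
    have := inv_mem h1
    rwa [show ((b' * n)⁻¹ * n)⁻¹ = n⁻¹ * b' * n by group] at this
  have hb3 : b' * (b' * b') = 1 := by
    rw [hb', show g⁻¹ * b * g * (g⁻¹ * b * g * (g⁻¹ * b * g)) = g⁻¹ * (b * (b * b)) * g by group,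
      F.swap.A_cube hb]
    group
  have hinP : ∀ n ∈ normalizer (F.A : Set G), n⁻¹ * b' * n ∈ F.P := fun n hn =>
    mem_P_of_M (hinM n hn) (by
      rw [show n⁻¹ * b' * n * (n⁻¹ * b' * n * (n⁻¹ * b' * n)) = n⁻¹ * (b' * (b' * b')) * n by group,
        hb3]
      group)
  have hb'P : b' ∈ F.P := by simpa using hinP 1 (one_mem _)
  have hb'A : b' ∈ F.A := by
    by_contra hnot
    refine P_not_normal (F := F) fun n hn p hp => ?_
    have hle : F.P ≤ F.P.comap (MulAut.conj n).toMonoidHom :=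
      sup_eq_P hb'P hnot _ (fun a ha => F.A_le_P (conj_mem_of_normalizer hn ha))
        (show n * b' * n⁻¹ ∈ F.P by simpa using hinP n⁻¹ (inv_mem hn))
    exact hle hp
  -- two lines through the base point carry fixed points
  have hcard : Nat.card {q : F.Pt // F.Inc q m0} = 4 := F.card_points m0
  obtain ⟨q₁, q₂, hq⟩ : ∃ q₁ q₂ : {q : F.Pt // F.Inc q m0}, q₁ ≠ q₂ := by
    haveI : Nontrivial {q : F.Pt // F.Inc q m0} := Finite.one_lt_card_iff_nontrivial.1 (by omega)
    exact exists_pair_ne _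
  have key : ∀ q : {q : F.Pt // F.Inc q m0}, ∀ n ∈ normalizer (F.A : Set G),
      (n : F.Ln) = (f q).1 → n⁻¹ * b' * n ∈ zpowers F.w := by
    intro q n hn he
    refine mem_W_of_fix (p := n⁻¹ • q.1) (by simpa using conj_mem_of_normalizer (inv_mem hn) hb'A) ?_ ?_ ?_
    · have := (he ▸ hspec q : F.Inc q.1 (n : F.Ln)).smul n⁻¹
      rwa [← smul_l0 n, inv_smul_smul] at this
    · intro e
      apply hm0
      have : q.1 = F.a0 := by rw [← smul_inv_smul n q.1, e]; exact smul_a0_eq hn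
      exact this ▸ q.2
    · rw [mul_smul, mul_smul, smul_inv_smul, hfix_m0 q.2]
  obtain ⟨n₁, hn₁, e₁⟩ := inc_a0_iff.1 (f q₁).2
  obtain ⟨n₂, hn₂, e₂⟩ := inc_a0_iff.1 (f q₂).2
  have w₁ := key q₁ n₁ hn₁ e₁
  have w₂ := key q₂ n₂ hn₂ e₂
  have hb'1 : b' = 1 := by
    by_contra hb1
    set c := n₂⁻¹ * b' * n₂ with hc
    have hc3 : c * (c * c) = 1 := by
      rw [hc, show n₂⁻¹ * b' * n₂ * (n₂⁻¹ * b' * n₂ * (n₂⁻¹ * b' * n₂)) =
        n₂⁻¹ * (b' * (b' * b')) * n₂ by group, hb3]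
      group
    have hc1 : c ≠ 1 := fun e => hb1 (by
      have := congrArg (fun z => n₂ * z * n₂⁻¹) e
      simpa [hc, mul_assoc] using this)
    have hgen : zpowers c = zpowers F.w := eq_of_le_of_card_ge (zpowers_le.2 w₂) (by
      rw [Nat.card_zpowers, Nat.card_zpowers, three_of_cube F.hw F.hw1, three_of_cube hc3 hc1])
    -- `w` is a power of `c`, and `c` is carried into `⟨w⟩` by `n₁⁻¹ n₂`
    have hM : n₁⁻¹ * n₂ ∈ F.M := F.M_conj (by
      obtain ⟨i, hi⟩ := mem_zpowers_iff.1 (hgen.symm ▸ mem_zpowers F.w : F.w ∈ zpowers c)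
      rw [show n₁⁻¹ * n₂ * F.w * (n₁⁻¹ * n₂)⁻¹ = (n₁⁻¹ * n₂ * c * (n₁⁻¹ * n₂)⁻¹) ^ i by
        rw [conj_zpow, hi]]
      refine zpow_mem ?_ i
      rw [hc, show n₁⁻¹ * n₂ * (n₂⁻¹ * b' * n₂) * (n₁⁻¹ * n₂)⁻¹ = n₁⁻¹ * b' * n₁ by group]
      exact w₁)
    apply hq
    refine hinj (Subtype.ext ?_)
    rw [← e₁, ← e₂, QuotientGroup.eq]
    exact F.swap.M_le_and_card.1 hM
  rw [hb'] at hb'1
  have := congrArg (fun z => g * z * g⁻¹) hb'1
  simpa [mul_assoc] using this

end Frame

end H36.L33
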