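import Cfsg.Agent.H36.L33Frame

/-!
# Simple groups of order `5616`: the subgroups of index `13`
-/

set_option autoImplicit false

open Subgroup

namespace H36.L33

universe u

variable {G : Type u} [Group G]

namespace Frame

/-- The frame with the two subgroups exchanged. -/
def swap (F : Frame G) : Frame G where
  h := F.h
  t := F.t
  r := F.t * F.r
  w := F.w
  x := F.y
  y := F.x
  P := F.P
  ht := F.ht
  hr := two_of_sq (two_commute_ne (sq_of_two F.ht) (sq_of_two F.hr) F.rt F.rne).1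
    (two_commute_ne (sq_of_two F.ht) (sq_of_two F.hr) F.rt F.rne).2
  rt := by rw [mul_assoc F.t F.r F.t, ← F.rt]
  rne := fun e => ne_one_of_two F.hr (mul_eq_left.1 e)
  hw := F.hw
  hw1 := F.hw1
  tw := F.tw
  rwr := by
    rw [sandwich_two F.rt, F.rwr, sandwich_mul (sq_of_two F.ht),
      show F.t * F.w * F.t = F.w by rw [F.tw, mul_assoc, sq_of_two F.ht, mul_one]]
  hx := F.hy
  hx1 := F.hy1
  rx := F.sy
  txt := F.tyt
  hy := F.hx
  hy1 := F.hx1
  sy := by rw [← mul_assoc, sq_of_two F.ht, one_mul, F.rx]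
  tyt := F.txt
  cardP := F.cardP
  wP := F.wP
  xP := F.yP
  yP := F.xP
  cP := F.cP
  hP := F.hP
  memP := F.memP
  xy := fun e => F.xy e.symm

variable (F : Frame G)

/-- The involution inverting the first subgroup. -/
def s : G := F.t * F.r

theorem hs : orderOf F.s = 2 := F.swap.hr

theorem sws : F.s * F.w * F.s = F.w * F.w := F.swap.rwr

theorem sxs : F.s * F.x * F.s = F.x * F.x := by
  show F.t * F.r * F.x * (F.t * F.r) = _
  rw [sandwich_two F.rt, F.rx, mul_assoc F.x F.r F.r, sq_of_two F.hr, mul_one, F.txt]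

theorem wx : F.w * F.x = F.x * F.w := (mem_centralizer_singleton_iff.1 (F.cP F.xP)).symm

/-- The first elementary abelian subgroup. -/
def A : Subgroup G := closure {F.w, F.x}

theorem w_mem : F.w ∈ F.A := subset_closure (by simp)

theorem x_mem : F.x ∈ F.A := subset_closure (by simp)

theorem A_le_P : F.A ≤ F.P := by
  rw [A, closure_le]
  rintro _ (rfl | rfl)
  exacts [F.wP, F.xP]

theorem A_comm_gen {a : G} (ha : a ∈ F.A) : Commute a F.w ∧ Commute a F.x := by
  induction ha using closure_induction with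
  | mem z hz => rcases hz with rfl | rfl; exacts [⟨Commute.refl _, F.wx⟩, ⟨F.wx.symm, Commute.refl _⟩]
  | one => exact ⟨Commute.one_left _, Commute.one_left _⟩
  | mul a b _ _ ia ib => exact ⟨ia.1.mul_left ib.1, ia.2.mul_left ib.2⟩
  | inv a _ ia => exact ⟨ia.1.inv_left, ia.2.inv_left⟩

theorem A_comm {a b : G} (ha : a ∈ F.A) (hb : b ∈ F.A) : Commute a b := by
  induction hb using closure_induction with
  | mem z hz => rcases hz with rfl | rfl; exacts [(F.A_comm_gen ha).1, (F.A_comm_gen ha).2]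
  | one => exact Commute.one_right _
  | mul b c _ _ ib ic => exact ib.mul_right ic
  | inv b _ ib => exact ib.inv_right

theorem A_inverted {a : G} (ha : a ∈ F.A) : F.s * a * F.s = a⁻¹ := by
  induction ha using closure_induction with
  | mem z hz =>
    rcases hz with rfl | rfl
    · rw [F.sws]; exact (inv_eq_of_mul_eq_one_right F.hw).symm
    · rw [F.sxs]; exact (inv_eq_of_mul_eq_one_right F.hx).symm
  | one => rw [mul_one, sq_of_two F.hs, inv_one]
  | mul a b ha' hb' ia ib =>
    rw [sandwich_mul (sq_of_two F.hs), ia, ib, mul_inv_rev]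
    exact ((F.A_comm ha' hb').inv_inv).eq
  | inv a _ ia => rw [sandwich_inv (sq_of_two F.hs), ia]

theorem A_cube {a : G} (ha : a ∈ F.A) : a * (a * a) = 1 := by
  induction ha using closure_induction with
  | mem z hz => rcases hz with rfl | rfl; exacts [F.hw, F.hx]
  | one => simp
  | mul a b ha' hb' ia ib =>
    have hab := F.A_comm ha' hb'
    calc a * b * (a * b * (a * b)) = (a * b) ^ 3 := by rw [pow_succ', sq]
      _ = a ^ 3 * b ^ 3 := hab.mul_pow 3
      _ = 1 := by rw [pow_succ', sq, ia, pow_succ', sq, ib, one_mul]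
  | inv a _ ia =>
    rw [← mul_inv_rev, ← mul_inv_rev, inv_eq_one, mul_assoc]
    exact ia

theorem eq_one_of_fixed {a : G} (ha : a ∈ F.A) (hc : F.s * a = a * F.s) : a = 1 := by
  have e := F.A_inverted ha
  rw [hc, mul_assoc, sq_of_two F.hs, mul_one] at e
  have h2 : a * a = 1 := by nth_rewrite 1 [e]; exact inv_mul_cancel a
  have := F.A_cube ha
  rwa [h2, mul_one] at this

theorem y_notMem : F.y ∉ F.A := fun hm => F.hy1 (F.eq_one_of_fixed hm F.sy)

theorem x_notMem_zpowers : F.x ∉ zpowers F.w := fun hm => by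
  obtain ⟨i, hi⟩ := mem_zpowers_iff.1 hm
  have e : F.t * F.x * F.t = F.x := by
    rw [← hi, ((show Commute F.t F.w from F.tw).zpow_right i).eq, mul_assoc, sq_of_two F.ht, mul_one]
  rw [F.txt] at e
  exact F.hx1 (mul_eq_left.1 e)

variable [Finite G]

theorem isPGroup_P : IsPGroup 3 F.P :=
  IsPGroup.of_card (p := 3) (n := 3) (by rw [F.cardP]; norm_num)

theorem cardA : Nat.card F.A = 9 := by
  haveI : Fact (Nat.Prime 3) := ⟨Nat.prime_three⟩
  obtain ⟨k, hk⟩ := (F.isPGroup_P.to_le F.A_le_P).exists_card_eq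
  have h1 : ¬ k ≤ 1 := fun hk1 => F.x_notMem_zpowers ((eq_of_le_of_card_ge (zpowers_le.2 F.w_mem) (by
    rw [hk, Nat.card_zpowers, three_of_cube F.hw F.hw1]
    interval_cases k <;> norm_num)).symm ▸ F.x_mem)
  have h3 : ¬ 3 ≤ k := fun hk3 => F.y_notMem ((eq_of_le_of_card_ge F.A_le_P (by
    rw [hk, F.cardP]
    calc 27 = 3 ^ 3 := by norm_num
      _ ≤ 3 ^ k := Nat.pow_le_pow_right (by norm_num) hk3)).symm ▸ F.yP)
  rw [hk, show k = 2 by omega]
  norm_num

theorem mem_normalizer_A {g : G} (h1 : g * F.w * g⁻¹ ∈ F.A) (h2 : g * F.x * g⁻¹ ∈ F.A) :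
    g ∈ normalizer (F.A : Set G) := by
  refine mem_normalizer_of_conj_mem fun a ha => ?_
  have : F.A ≤ F.A.comap (MulAut.conj g).toMonoidHom := by
    conv_lhs => rw [A]
    rw [closure_le]
    rintro _ (rfl | rfl)
    exacts [h1, h2]
  exact this ha

theorem t_mem : F.t ∈ normalizer (F.A : Set G) := by
  refine F.mem_normalizer_A ?_ ?_ <;> rw [← sandwich_eq_conj (sq_of_two F.ht)]
  · rw [F.tw, mul_assoc, sq_of_two F.ht, mul_one]; exact F.w_mem
  · rw [F.txt]; exact mul_mem F.x_mem F.x_mem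

theorem r_mem : F.r ∈ normalizer (F.A : Set G) := by
  refine F.mem_normalizer_A ?_ ?_ <;> rw [← sandwich_eq_conj (sq_of_two F.hr)]
  · rw [F.rwr]; exact mul_mem F.w_mem F.w_mem
  · rw [F.rx, mul_assoc, sq_of_two F.hr, mul_one]; exact F.x_mem

theorem P_le : F.P ≤ normalizer (F.A : Set G) := by
  haveI : Fact (Nat.Prime 3) := ⟨Nat.prime_three⟩
  haveI : (F.A.subgroupOf F.P).Normal := by
    apply normal_of_index_eq_minFac_card
    have := (F.A.subgroupOf F.P).card_mul_index
    rw [Nat.card_congr (subgroupOfEquivOfLe F.A_le_P).toEquiv, F.cardA, F.cardP] at this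
    rw [F.cardP, show (27 : ℕ) = 3 ^ 3 by norm_num, Nat.pow_minFac (by norm_num),
      Nat.prime_three.minFac_eq]
    omega
  exact le_normalizer_of_normal_subgroupOf F.A_le_P

theorem W_le : zpowers F.w ≤ F.A := zpowers_le.2 F.w_mem

variable [IsSimpleGroup G]

theorem centralizer_A {g : G} (hw : g * F.w = F.w * g) (hx : g * F.x = F.x * g) : g ∈ F.A := by
  classical
  haveI : Fact (Nat.Prime 2) := ⟨Nat.prime_two⟩
  haveI : Fact (Nat.Prime 3) := ⟨Nat.prime_three⟩
  set C := centralizer ({F.w} : Set G)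
  set D := C ⊓ centralizer ({F.x} : Set G)
  have hCc : Nat.card C = 54 := card_centralizer_three F.h F.ht F.hw F.hw1 F.tw
  have h54 : Nat.card D ∣ 54 := hCc ▸ card_dvd_of_le inf_le_left
  have hodd : ¬ 2 ∣ Nat.card D := by
    intro h2
    obtain ⟨z, hz2⟩ := exists_prime_orderOf_dvd_card' 2 h2
    obtain ⟨u, hu2, huC, hux⟩ : ∃ u : G, orderOf u = 2 ∧ u ∈ C ∧ u ∈ centralizer ({F.x} : Set G) :=
      ⟨z, (Subgroup.orderOf_coe z).trans hz2, z.2⟩
    have hcard2 : ∀ {v : G}, v ∈ C → orderOf v = 2 → ∀ Q : Sylow 2 C, ∀ hv : v ∈ C,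
        (⟨v, hv⟩ : C) ∈ (Q : Subgroup C) → (Q : Subgroup C) = zpowers ⟨v, hv⟩ := by
      intro v _ hv2 Q hv hvQ
      refine (eq_of_le_of_card_ge (zpowers_le.2 hvQ) ?_).symm
      rw [Nat.card_zpowers, Subgroup.orderOf_mk, hv2,
        H62.card_sylow_coe (p := 2) (a := 1) (m := 27) (by rw [hCc]; norm_num) (by norm_num) Q, pow_one]
    obtain ⟨Q, hQ⟩ := (IsPGroup.of_card (p := 2) (n := 1) (G := zpowers (⟨u, huC⟩ : C))
      (by rw [Nat.card_zpowers, Subgroup.orderOf_mk, hu2, pow_one])).exists_le_sylow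
    have htC : F.t ∈ C := mem_centralizer_singleton_iff.2 F.tw
    obtain ⟨T, hT⟩ := (IsPGroup.of_card (p := 2) (n := 1) (G := zpowers (⟨F.t, htC⟩ : C))
      (by rw [Nat.card_zpowers, Subgroup.orderOf_mk, F.ht, pow_one])).exists_le_sylow
    obtain ⟨c, hc⟩ := MulAction.exists_smul_eq C T Q
    have hmem : c * ⟨F.t, htC⟩ * c⁻¹ ∈ zpowers (⟨u, huC⟩ : C) := by
      rw [← hcard2 huC hu2 Q huC (hQ (mem_zpowers _)), ← hc, Sylow.coe_subgroup_smul]
      exact mem_map_of_mem (MulAut.conj c).toMonoidHom (hT (mem_zpowers _))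
    have hcu : (c : G) * F.t * (c : G)⁻¹ = u := by
      obtain ⟨i, hi⟩ := mem_zpowers_iff.1 hmem
      have hi' : u ^ i = (c : G) * F.t * (c : G)⁻¹ := congrArg Subtype.val hi
      have e2 : u ^ (i % 2) = u ^ i := by
        conv_rhs => rw [← Int.mul_ediv_add_emod i 2, zpow_add, zpow_mul,
          show (2 : ℤ) = ((2 : ℕ) : ℤ) from rfl, zpow_natCast, sq, sq_of_two hu2, one_zpow, one_mul]
        rfl
      rw [← e2] at hi'
      have h0 := Int.emod_nonneg i (by norm_num : (2 : ℤ) ≠ 0)
      have h1 := Int.emod_lt_of_pos i (by norm_num : (0 : ℤ) < 2)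
      interval_cases i % 2
      · rw [zpow_zero] at hi'
        exact absurd (conj_eq_one_iff.1 hi'.symm) (ne_one_of_two F.ht)
      · rw [zpow_one] at hi'
        exact hi'.symm
    -- `t` centralises a conjugate of `x`
    have hp : (c : G)⁻¹ * F.x * c ∈ F.P ⊓ centralizer ({F.t} : Set G) := by
      refine ⟨by simpa using F.hP _ (C.inv_mem c.2) _ F.xP, mem_centralizer_singleton_iff.2 ?_⟩
      have e : u * F.x = F.x * u := mem_centralizer_singleton_iff.1 hux
      rw [← hcu] at e
      calc (c : G)⁻¹ * F.x * c * F.t = (c : G)⁻¹ * (F.x * ((c : G) * F.t * (c : G)⁻¹)) * c := by group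
        _ = F.t * ((c : G)⁻¹ * F.x * c) := by rw [← e]; group
    have hPt : F.P ⊓ centralizer ({F.t} : Set G) = zpowers F.w := by
      refine (eq_of_le_of_card_ge (zpowers_le.2 (show F.w ∈ F.P ⊓ centralizer ({F.t} : Set G) from
        ⟨F.wP, mem_centralizer_singleton_iff.2 F.tw.symm⟩)) ?_).symm
      rw [Nat.card_zpowers, three_of_cube F.hw F.hw1]
      exact card_le_three F.h F.ht (F.isPGroup_P.to_le inf_le_left) inf_le_right
    rw [hPt] at hp
    obtain ⟨i, hi⟩ := mem_zpowers_iff.1 hp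
    refine F.x_notMem_zpowers (mem_zpowers_iff.2 ⟨i, ?_⟩)
    have hcw : (c : G) * F.w = F.w * c := mem_centralizer_singleton_iff.1 c.2
    calc F.w ^ i = (c : G) * F.w ^ i * (c : G)⁻¹ := by
          rw [((show Commute (c : G) F.w from hcw).zpow_right i).eq, mul_inv_cancel_right]
      _ = F.x := by rw [hi]; group
  have hAD : F.A ≤ D := fun a ha =>
    ⟨mem_centralizer_singleton_iff.2 (F.A_comm_gen ha).1, mem_centralizer_singleton_iff.2 (F.A_comm_gen ha).2⟩
  have hd9 : 9 ∣ Nat.card D := F.cardA ▸ card_dvd_of_le hAD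
  have hD9 : Nat.card D = 9 := by
    obtain ⟨c, hc⟩ := hd9
    rw [hc] at h54 hodd ⊢
    have hc6 : c ∣ 6 := Nat.dvd_of_mul_dvd_mul_left (k := 9) (by norm_num) h54
    have := Nat.le_of_dvd (by norm_num) hc6
    have h3 : c ≠ 3 := by
      rintro rfl
      have hDP : D ≤ F.P := by
        rintro p ⟨hpC, hpx⟩
        refine F.memP p hpC ?_
        rw [← orderOf_dvd_iff_pow_eq_one]
        exact (Subgroup.orderOf_dvd_natCard D ⟨hpC, hpx⟩).trans (by rw [hc])
      have : D = F.P := eq_of_le_of_card_ge hDP (by rw [F.cardP, hc])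
      exact F.xy (mem_centralizer_singleton_iff.1 (this ▸ F.yP).2).symm
    interval_cases c <;> omega
  exact eq_of_le_of_card_ge hAD (by rw [hD9, F.cardA]) ▸
    ⟨mem_centralizer_singleton_iff.2 hw, mem_centralizer_singleton_iff.2 hx⟩

/-- A second element of order three centralised by `s`. -/
theorem exists_second : ∃ v ∈ normalizer (F.A : Set G), v * (v * v) = 1 ∧ F.s * v = v * F.s ∧
    F.y * v ≠ v * F.y := by
  classical
  haveI : Fact (Nat.Prime 3) := ⟨Nat.prime_three⟩
  set C := centralizer ({F.x} : Set G)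
  have hC : Nat.card C = 54 := card_centralizer_three F.h F.hr F.hx F.hx1 F.rx
  obtain ⟨P₀⟩ : Nonempty (Sylow 3 C) := inferInstance
  have hP₀ : Nat.card (P₀ : Subgroup C) = 27 := by
    rw [H62.card_sylow_coe (p := 3) (a := 3) (m := 2) (by rw [hC]; norm_num) (by norm_num) P₀]
    norm_num
  set Q := (P₀ : Subgroup C).map C.subtype with hQdef
  have hQ27 : Nat.card Q = 27 := by rw [hQdef, card_subtype]; exact hP₀
  have hidx : (Q.subgroupOf C).index = 2 := by
    have e : Q.subgroupOf C = (P₀ : Subgroup C) := comap_map_eq_self_of_injective C.subtype_injective _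
    have := (Q.subgroupOf C).card_mul_index
    rw [e, hP₀, hC] at this
    rw [e]
    omega
  have hQC : Q ≤ C := map_subtype_le _
  have hpow : ∀ p ∈ Q, p ^ (2 * 13 + 1) = 1 := fun p hp => by
    rw [← orderOf_dvd_iff_pow_eq_one]
    exact (Subgroup.orderOf_dvd_natCard Q hp).trans (by rw [hQ27])
  have hQ3 : IsPGroup 3 Q := IsPGroup.of_card (p := 3) (n := 3) (by rw [hQ27]; norm_num)
  have hmemQ : ∀ g ∈ C, g * (g * g) = 1 → g ∈ Q := fun g hg e => mem_of_odd hidx hg (m := 13) (by
    rw [show 2 * 13 + 1 = 3 * 9 from rfl, pow_mul, show g ^ 3 = 1 by rw [pow_succ', sq]; exact e,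
      one_pow])
  have hAQ : F.A ≤ Q := fun a ha =>
    hmemQ a (mem_centralizer_singleton_iff.2 (F.A_comm_gen ha).2) (F.A_cube ha)
  have hQN : Q ≤ normalizer (F.A : Set G) := by
    haveI : (F.A.subgroupOf Q).Normal := by
      apply normal_of_index_eq_minFac_card
      have := (F.A.subgroupOf Q).card_mul_index
      rw [Nat.card_congr (subgroupOfEquivOfLe hAQ).toEquiv, F.cardA, hQ27] at this
      rw [hQ27, show (27 : ℕ) = 3 ^ 3 by norm_num, Nat.pow_minFac (by norm_num),
        Nat.prime_three.minFac_eq]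
      omega
    exact le_normalizer_of_normal_subgroupOf hAQ
  have s2 := sq_of_two F.hs
  have hsQ : ∀ p ∈ Q, F.s * p * F.s ∈ Q := by
    intro p hp
    refine mem_of_odd hidx (m := 13) (mem_centralizer_singleton_iff.2 ?_) ?_
    · have e : F.x = F.s * (F.x * F.x) * F.s := by rw [← F.sxs, sandwich_sandwich s2]
      calc F.s * p * F.s * F.x = F.s * p * F.s * (F.s * (F.x * F.x) * F.s) := by rw [← e]
        _ = F.s * (p * (F.x * F.x)) * F.s := by simp only [mul_assoc]; rw [← mul_assoc F.s F.s, s2, one_mul]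
        _ = F.s * ((F.x * F.x) * p) * F.s := by
            have hc : Commute p F.x := mem_centralizer_singleton_iff.1 (hQC hp)
            rw [(hc.mul_right hc).eq]
        _ = F.s * (F.x * F.x) * F.s * (F.s * p * F.s) := by rw [sandwich_mul s2]
        _ = F.x * (F.s * p * F.s) := by rw [← e]
    · rw [sandwich_eq_conj s2, conj_pow, hpow p hp]
      group
  by_cases hfix : ∀ n ∈ Q, F.s * n = n * F.s → n = 1
  · exfalso
    have hinv : ∀ n ∈ Q, F.s * n * F.s = n⁻¹ := fun n hn => inverts_of_fixedPointFree Q s2 hsQ hfix hn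
    have hQP : Q ≤ F.P := fun q hq => by
      refine F.memP q (mem_centralizer_singleton_iff.2 ?_) (hpow q hq)
      have hwQ : F.w ∈ Q := hAQ F.w_mem
      apply inv_injective
      rw [← hinv _ (Q.mul_mem hq hwQ), sandwich_mul s2, hinv q hq, hinv _ hwQ, mul_inv_rev]
    have : Q = F.P := eq_of_le_of_card_ge hQP (by rw [F.cardP, hQ27])
    exact F.xy (mem_centralizer_singleton_iff.1 (hQC (this ▸ F.yP))).symm
  · push Not at hfix
    obtain ⟨v, hvQ, hsv, hv1⟩ := hfix
    have hvm : v ∈ Q ⊓ centralizer ({F.s} : Set G) := ⟨hvQ, mem_centralizer_singleton_iff.2 hsv.symm⟩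
    have hv3 : v * (v * v) = 1 := by
      apply cube_of_pow
      rw [← orderOf_dvd_iff_pow_eq_one]
      refine (Subgroup.orderOf_dvd_natCard _ hvm).trans ?_
      have h3 := card_le_three F.h F.hs (hQ3.to_le inf_le_left : IsPGroup 3 ↥(Q ⊓ _)) inf_le_right
      obtain ⟨k, hk⟩ := (hQ3.to_le (inf_le_left : Q ⊓ centralizer ({F.s} : Set G) ≤ Q)).exists_card_eq
      rw [hk] at h3 ⊢
      rcases k with _ | _ | k
      · norm_num
      · norm_num
      · have := Nat.pow_le_pow_right (show 0 < 3 by norm_num) (show 2 ≤ k + 2 by omega)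
        omega
    refine ⟨v, hQN hvQ, hv3, hsv, fun hc => ?_⟩
    set D := centralizer ({F.s} : Set G) ⊓ centralizer ({F.y} : Set G)
    have hD : Nat.card D = 6 := card_centralizer_two_three F.h F.hs F.hy F.hy1 F.sy
    have hyD : zpowers F.y ≤ D := zpowers_le.2
      ⟨mem_centralizer_singleton_iff.2 F.sy.symm, mem_centralizer_singleton_iff.2 rfl⟩
    have hidx' : ((zpowers F.y).subgroupOf D).index = 2 := by
      have := ((zpowers F.y).subgroupOf D).card_mul_index
      rw [Nat.card_congr (subgroupOfEquivOfLe hyD).toEquiv, Nat.card_zpowers,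
        three_of_cube F.hy F.hy1, hD] at this
      omega
    have hvy : v ∈ zpowers F.y := mem_of_odd hidx' (m := 1) (show v ∈ D from
      ⟨mem_centralizer_singleton_iff.2 hsv.symm, mem_centralizer_singleton_iff.2 hc.symm⟩) (by
        rw [show 2 * 1 + 1 = 3 from rfl, pow_succ', sq, hv3])
    have hvx : Commute v F.x := mem_centralizer_singleton_iff.1 (hQC hvQ)
    rcases (mem_zpowers_three F.hy).1 hvy with e | e | e
    · exact hv1 e
    · exact F.xy (e ▸ hvx).symm
    · rw [e] at hvx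
      have h4 : F.y * F.y * (F.y * F.y) = F.y := by
        rw [show F.y * F.y * (F.y * F.y) = F.y * (F.y * (F.y * F.y)) by group, F.hy, mul_one]
      exact F.xy (h4 ▸ hvx.mul_left hvx).symm

theorem centralizer_s_le : centralizer ({F.s} : Set G) ≤ normalizer (F.A : Set G) := by
  obtain ⟨v, hvN, hv, hsv, hyv⟩ := F.exists_second
  refine le_of_generators F.h F.hs _ F.hy hv hyv F.hr ?_ F.sy hsv ?_ (F.P_le F.yP) hvN F.r_mem
  · intro e
    exact ne_one_of_two F.ht (mul_eq_right.1 e.symm)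
  · show F.t * F.r * F.r = F.r * (F.t * F.r)
    rw [← mul_assoc, ← F.rt]

/-- The normaliser has index `13`. -/
theorem card_normalizer : Nat.card (normalizer (F.A : Set G)) = 432 := by
  classical
  set N := normalizer (F.A : Set G)
  let f : F.A × centralizer ({F.s} : Set G) → N := fun p =>
    ⟨p.1.1 * p.2.1, mul_mem (le_normalizer p.1.2) (F.centralizer_s_le p.2.2)⟩
  have hf : Function.Bijective f := by
    constructor
    · rintro ⟨a, c⟩ ⟨a', c'⟩ e
      have e' : (a : G) * c = a' * c' := congrArg Subtype.val e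
      have h1 : (a' : G)⁻¹ * a = c' * (c : G)⁻¹ := by
        calc (a' : G)⁻¹ * a = (a' : G)⁻¹ * (a * c) * (c : G)⁻¹ := by group
          _ = c' * (c : G)⁻¹ := by rw [e']; group
      have h2 : (a' : G)⁻¹ * a = 1 := F.eq_one_of_fixed (mul_mem (inv_mem a'.2) a.2) (by
        rw [h1]
        exact (mem_centralizer_singleton_iff.1 (mul_mem c'.2 (inv_mem c.2))).symm)
      have ha : a = a' := Subtype.ext (inv_mul_eq_one.1 h2).symm
      subst ha
      simp only [mul_right_inj] at e'
      exact Prod.ext rfl (Subtype.ext e')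
    · rintro ⟨n, hn⟩
      have s2 := sq_of_two F.hs
      set a := n * F.s * n⁻¹ * F.s with ha
      have hfix : ∀ g ∈ F.A, a * g = g * a := by
        intro g hg
        have hg' : n⁻¹ * g * n ∈ F.A := by simpa using conj_mem_of_normalizer (inv_mem hn) hg
        have e1 : n * F.s * n⁻¹ * g⁻¹ * (n * F.s * n⁻¹) = g := by
          calc n * F.s * n⁻¹ * g⁻¹ * (n * F.s * n⁻¹) = n * (F.s * (n⁻¹ * g * n)⁻¹ * F.s) * n⁻¹ := by
                group
            _ = g := by rw [F.A_inverted (inv_mem hg'), inv_inv]; group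
        have e2 : a * g * a⁻¹ = g := by
          calc a * g * a⁻¹ = n * F.s * n⁻¹ * (F.s * g * F.s⁻¹) * (n * F.s⁻¹ * n⁻¹) := by
                rw [ha]; group
            _ = n * F.s * n⁻¹ * g⁻¹ * (n * F.s * n⁻¹) := by
                rw [← sandwich_eq_conj s2, F.A_inverted hg, inv_eq_of_mul_eq_one_right s2]
            _ = g := e1
        exact mul_inv_eq_iff_eq_mul.1 e2
      have haA : a ∈ F.A := F.centralizer_A (hfix _ F.w_mem) (hfix _ F.x_mem)
      set b := a * a with hb
      have hbA : b ∈ F.A := mul_mem haA haA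
      have hbb : b * b = a := by
        rw [hb, show a * a * (a * a) = a * (a * (a * a)) by group, F.A_cube haA, mul_one]
      have e3 : F.s * b⁻¹ = b * F.s := by
        calc F.s * b⁻¹ = F.s * b⁻¹ * F.s * F.s := by rw [mul_assoc _ F.s F.s, s2, mul_one]
          _ = b * F.s := by rw [F.A_inverted (inv_mem hbA), inv_inv]
      have hns : n * F.s * n⁻¹ = b * F.s * b⁻¹ := by
        calc n * F.s * n⁻¹ = a * F.s := by rw [ha, mul_assoc _ F.s F.s, s2, mul_one]
          _ = b * (b * F.s) := by rw [← mul_assoc, hbb]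
          _ = b * (F.s * b⁻¹) := by rw [e3]
          _ = b * F.s * b⁻¹ := by group
      refine ⟨(⟨b, hbA⟩, ⟨b⁻¹ * n, mem_centralizer_singleton_iff.2 ?_⟩), Subtype.ext ?_⟩
      · calc b⁻¹ * n * F.s = b⁻¹ * (n * F.s * n⁻¹) * n := by group
          _ = F.s * (b⁻¹ * n) := by rw [hns]; group
      · show b * (b⁻¹ * n) = n
        group
  rw [← Nat.card_eq_of_bijective f hf, Nat.card_prod, F.cardA, card_centralizer_two F.h F.hs]

/-- The flag stabiliser. -/
def M : Subgroup G := normalizer (zpowers F.w : Set G)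

theorem M_conj {g : G} (hg : g * F.w * g⁻¹ ∈ zpowers F.w) : g ∈ F.M :=
  mem_normalizer_of_conj_mem fun b hb => by
    obtain ⟨i, rfl⟩ := mem_zpowers_iff.1 hb
    rw [← conj_zpow]
    exact zpow_mem hg i

theorem P_le_M : F.P ≤ F.M := fun p hp => F.M_conj (by
  rw [mem_centralizer_singleton_iff.1 (F.cP hp), mul_inv_cancel_right]; exact mem_zpowers _)

theorem t_mem_M : F.t ∈ F.M := F.M_conj (by
  rw [← sandwich_eq_conj (sq_of_two F.ht), F.tw, mul_assoc, sq_of_two F.ht, mul_one]
  exact mem_zpowers _)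

theorem r_mem_M : F.r ∈ F.M := F.M_conj (by
  rw [← sandwich_eq_conj (sq_of_two F.hr), F.rwr]
  exact mul_mem (mem_zpowers _) (mem_zpowers _))

theorem card_M_le : Nat.card F.M ≤ 108 := by
  refine le_trans (card_le_two_mul (x := F.w) fun g hg => ?_)
    (by rw [card_centralizer_three F.h F.ht F.hw F.hw1 F.tw])
  rcases (mem_zpowers_three F.hw).1 (conj_mem_of_normalizer hg (mem_zpowers F.w)) with e | e | e
  · exact absurd (conj_eq_one_iff.1 e) F.hw1
  · exact Or.inl e
  · exact Or.inr e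

theorem M_le_and_card : F.M ≤ normalizer (F.A : Set G) ∧ Nat.card F.M = 108 := by
  set K := F.M ⊓ normalizer (F.A : Set G)
  have h27 : 27 ∣ Nat.card K := F.cardP ▸ card_dvd_of_le (le_inf F.P_le_M F.P_le)
  have htK : F.t ∈ K := ⟨F.t_mem_M, F.t_mem⟩
  have hrK : F.r ∈ K := ⟨F.r_mem_M, F.r_mem⟩
  haveI : Fact (Nat.Prime 2) := ⟨Nat.prime_two⟩
  have h4 : 4 ∣ Nat.card K := by
    by_contra h4
    have h2 : 2 ∣ Nat.card K := F.ht ▸ Subgroup.orderOf_dvd_natCard K htK
    obtain ⟨Q, hQ⟩ := (IsPGroup.of_card (p := 2) (n := 1) (G := zpowers (⟨F.t, htK⟩ : K))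
      (by rw [Nat.card_zpowers, Subgroup.orderOf_mk, F.ht, pow_one])).exists_le_sylow
    obtain ⟨k, hk⟩ := Q.isPGroup'.exists_card_eq
    have hk1 : k ≤ 1 := by
      by_contra hlt
      exact h4 (((pow_dvd_pow 2 (show 2 ≤ k by omega)).trans hk.symm.dvd).trans (card_subgroup_dvd_card _))
    -- a four group inside
    let V : Subgroup K :=
      (zpowers (⟨F.t, htK⟩ : K)) ⊔ zpowers (⟨F.r, hrK⟩ : K)
    have hV : IsPGroup 2 V := by
      intro g
      refine ⟨1, ?_⟩
      have hcomm : Commute (⟨F.t, htK⟩ : K) ⟨F.r, hrK⟩ := Subtype.ext F.rt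
      obtain ⟨g, hg⟩ := g
      refine Subtype.ext ?_
      show g ^ 2 ^ 1 = 1
      suffices g ^ 2 = 1 ∧ Commute g ⟨F.t, htK⟩ ∧ Commute g ⟨F.r, hrK⟩ by simpa using this.1
      have hgc : g ∈ closure ({⟨F.t, htK⟩, ⟨F.r, hrK⟩} : Set K) := by
        refine (sup_le ?_ ?_ : V ≤ _) hg <;> exact zpowers_le.2 (subset_closure (by simp))
      clear hg
      induction hgc using closure_induction with
      | mem z hz =>
        rcases hz with rfl | rfl
        · exact ⟨Subtype.ext (by rw [sq]; exact sq_of_two F.ht), Commute.refl _, hcomm⟩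
        · exact ⟨Subtype.ext (by rw [sq]; exact sq_of_two F.hr), hcomm.symm, Commute.refl _⟩
      | one => exact ⟨one_pow _, Commute.one_left _, Commute.one_left _⟩
      | mul a b ha hb ia ib =>
        refine ⟨?_, ia.2.1.mul_left ib.2.1, ia.2.2.mul_left ib.2.2⟩
        have hab : Commute a b := by
          clear ib
          induction hb using closure_induction with
          | mem z hz => rcases hz with rfl | rfl; exacts [ia.2.1, ia.2.2]
          | one => exact Commute.one_right _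
          | mul c d _ _ ic id => exact ic.mul_right id
          | inv c _ ic => exact ic.inv_right
        rw [hab.mul_pow, ia.1, ib.1, one_mul]
      | inv a _ ia => exact ⟨by rw [inv_pow, ia.1, inv_one], ia.2.1.inv_left, ia.2.2.inv_left⟩
    obtain ⟨j, hj⟩ := hV.exists_card_eq
    have hj1 : j ≤ 1 := by
      by_contra hlt
      exact h4 (((pow_dvd_pow 2 (show 2 ≤ j by omega)).trans hj.symm.dvd).trans (card_subgroup_dvd_card _))
    have : V = zpowers (⟨F.t, htK⟩ : K) := (eq_of_le_of_card_ge le_sup_left (by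
      rw [hj, Nat.card_zpowers, Subgroup.orderOf_mk, F.ht]
      interval_cases j <;> norm_num)).symm
    have hm : (⟨F.r, hrK⟩ : K) ∈ zpowers (⟨F.t, htK⟩ : K) :=
      this ▸ mem_sup_right (mem_zpowers _)
    obtain ⟨i, hi⟩ := mem_zpowers_iff.1 hm
    have hr' : F.r = F.t ^ i := (congrArg Subtype.val hi).symm
    have e : F.r * F.w * F.r = F.w := by
      rw [hr', ((show Commute F.t F.w from F.tw).zpow_left i).eq, mul_assoc, ← zpow_add, ← two_mul,
        zpow_mul, show (2 : ℤ) = ((2 : ℕ) : ℤ) from rfl, zpow_natCast, sq, sq_of_two F.ht, one_zpow,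
        mul_one]
    rw [F.rwr] at e
    exact F.hw1 (mul_eq_left.1 e)
  have h108 : 108 ∣ Nat.card K := by
    simpa using Nat.Coprime.mul_dvd_of_dvd_of_dvd (by norm_num : Nat.Coprime 27 4) h27 h4
  have hKle : Nat.card K ≤ Nat.card F.M := card_le_of_le inf_le_left
  have hle := Nat.le_of_dvd Nat.card_pos h108
  have hK : K = F.M := eq_of_le_of_card_ge inf_le_left (F.card_M_le.trans hle)
  exact ⟨hK ▸ inf_le_right, le_antisymm F.card_M_le (hle.trans hKle)⟩

theorem inf_swap : F.A ⊓ F.swap.A = zpowers F.w := by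
  refine le_antisymm ?_ (le_inf F.W_le F.swap.W_le)
  intro g hg
  obtain ⟨k, hk⟩ := (F.isPGroup_P.to_le ((inf_le_left : F.A ⊓ F.swap.A ≤ F.A).trans F.A_le_P)).exists_card_eq
  have hk1 : k ≤ 1 := by
    by_contra hlt
    have hge : Nat.card F.A ≤ Nat.card ↥(F.A ⊓ F.swap.A) := by
      rw [F.cardA, hk]
      calc 9 = 3 ^ 2 := by norm_num
        _ ≤ 3 ^ k := Nat.pow_le_pow_right (by norm_num) (by omega)
    have hle : F.A ≤ F.swap.A := (eq_of_le_of_card_ge inf_le_left hge).symm.le.trans inf_le_right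
    have heq : F.A = F.swap.A := eq_of_le_of_card_ge hle (by rw [F.cardA, F.swap.cardA])
    exact F.y_notMem (heq ▸ F.swap.x_mem)
  have := (eq_of_le_of_card_ge (le_inf F.W_le F.swap.W_le) (by
    rw [hk, Nat.card_zpowers, three_of_cube F.hw F.hw1]
    interval_cases k <;> norm_num)).symm.le hg
  exact this

theorem normalizer_inf : normalizer (F.A : Set G) ⊓ normalizer (F.swap.A : Set G) = F.M := by
  refine le_antisymm ?_ (le_inf F.M_le_and_card.1 F.swap.M_le_and_card.1)
  rintro g ⟨h1, h2⟩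
  refine F.M_conj ?_
  rw [← F.inf_swap]
  exact ⟨conj_mem_of_normalizer h1 F.w_mem, conj_mem_of_normalizer h2 F.swap.w_mem⟩

end Frame

end H36.L33
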