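import Cfsg.Agent.H36.L33Basic

/-!
# Simple groups of order `5616`: centralisers of elements of order three
-/

set_option autoImplicit false

open Subgroup

namespace H36.L33

universe u

variable {G : Type u} [Group G] [Finite G]

omit [Finite G] in
theorem conj_mem_of_normalizer {H : Subgroup G} {n g : G} (hn : n ∈ normalizer (H : Set G))
    (hg : g ∈ H) : n * g * n⁻¹ ∈ H :=
  (mem_normalizer_iff.1 hn g).1 hg

/-- A fixed-point-free involution inverts. -/
theorem inverts_of_fixedPointFree (N : Subgroup G) {r : G} (hr : r * r = 1)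
    (hN : ∀ n ∈ N, r * n * r ∈ N) (hfix : ∀ n ∈ N, r * n = n * r → n = 1) {n : G} (hn : n ∈ N) :
    r * n * r = n⁻¹ := by
  let f : N → N := fun p => ⟨(p : G)⁻¹ * (r * p * r), N.mul_mem (N.inv_mem p.2) (hN _ p.2)⟩
  have hf : Function.Injective f := by
    intro a b hab
    have e : (a : G)⁻¹ * (r * a * r) = (b : G)⁻¹ * (r * b * r) := congrArg Subtype.val hab
    have e2 : r * ((b : G) * (a : G)⁻¹) * r = (b : G) * (a : G)⁻¹ := by
      have : r * (b : G) * r = (b : G) * (a : G)⁻¹ * (r * a * r) := by
        rw [mul_assoc ((b : G)), e]; group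
      calc r * ((b : G) * (a : G)⁻¹) * r = r * (b : G) * r * (r * (a : G)⁻¹ * r) := by
            simp only [mul_assoc]; rw [← mul_assoc r r, hr, one_mul]
        _ = (b : G) * (a : G)⁻¹ * (r * a * r) * (r * (a : G)⁻¹ * r) := by rw [this]
        _ = (b : G) * (a : G)⁻¹ := by
            simp only [mul_assoc]
            rw [← mul_assoc r r, hr, one_mul, mul_inv_cancel_left, hr, mul_one]
    have := hfix _ (N.mul_mem b.2 (N.inv_mem a.2)) (by
      calc r * ((b : G) * (a : G)⁻¹) = r * ((b : G) * (a : G)⁻¹) * r * r := by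
            rw [mul_assoc (r * _) r r, hr, mul_one]
        _ = (b : G) * (a : G)⁻¹ * r := by rw [e2])
    exact Subtype.ext (eq_of_mul_inv_eq_one this).symm
  obtain ⟨a, ha⟩ := (Finite.injective_iff_surjective.1 hf) ⟨n, hn⟩
  have e : (a : G)⁻¹ * (r * a * r) = n := congrArg Subtype.val ha
  rw [← e]
  calc r * ((a : G)⁻¹ * (r * a * r)) * r = r * (a : G)⁻¹ * (r * a) * (r * r) := by group
    _ = ((a : G)⁻¹ * (r * a * r))⁻¹ := by
        rw [hr, mul_one, mul_inv_rev, inv_inv, mul_inv_rev, mul_inv_rev,
          inv_eq_of_mul_eq_one_right hr]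
        group

omit [Finite G] in
/-- A `3`-element of a group lies in each subgroup of index two. -/
theorem mem_of_odd {C P : Subgroup G} (hidx : (P.subgroupOf C).index = 2) {g : G} (hg : g ∈ C)
    {m : ℕ} (hm : g ^ (2 * m + 1) = 1) : g ∈ P := by
  have h2 := Subgroup.sq_mem_of_index_two hidx ((⟨g, hg⟩ : C) ^ (m + 1))
  rw [mem_subgroupOf] at h2
  have e : ((((⟨g, hg⟩ : C) ^ (m + 1)) ^ 2 : C) : G) = g := by
    simp only [coe_pow]
    rw [← pow_mul, show (m + 1) * 2 = 2 * m + 1 + 1 by ring, pow_succ, hm, one_mul]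
  rwa [e] at h2

/-- At most two images. -/
theorem card_le_two_mul {H : Subgroup G} {x : G}
    (hH : ∀ g ∈ H, g * x * g⁻¹ = x ∨ g * x * g⁻¹ = x * x) :
    Nat.card H ≤ 2 * Nat.card (centralizer ({x} : Set G)) := by
  classical
  haveI := Fintype.ofFinite G
  rw [Nat.card_eq_fintype_card, Nat.card_eq_fintype_card, Fintype.card_subtype,
    Fintype.card_subtype]
  refine le_trans (Finset.card_le_mul_card_image (f := fun g => g * x * g⁻¹) _
    (Finset.univ.filter fun g : G => g ∈ centralizer ({x} : Set G)).card ?_) ?_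
  · intro b hb
    obtain ⟨g₀, hg₀, rfl⟩ := Finset.mem_image.1 hb
    refine Finset.card_le_card_of_injOn (fun g => g₀⁻¹ * g) ?_ ?_
    · intro g hg
      simp only [Finset.coe_filter, Finset.mem_filter, Finset.mem_univ, true_and,
        Set.mem_setOf_eq] at hg ⊢
      rw [mem_centralizer_singleton_iff]
      calc g₀⁻¹ * g * x = g₀⁻¹ * (g * x * g⁻¹) * g := by group
        _ = x * (g₀⁻¹ * g) := by rw [hg.2]; group
    · intro a _ b _ hab
      exact mul_left_cancel hab
  · rw [Nat.mul_comm 2]
    refine Nat.mul_le_mul_left _ (le_trans (Finset.card_le_card (t := {x, x * x}) ?_) Finset.card_le_two)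
    intro b hb
    obtain ⟨g, hg, rfl⟩ := Finset.mem_image.1 hb
    simp only [Finset.mem_filter, Finset.mem_univ, true_and] at hg
    rcases hH g hg with e | e <;> simp [e]

omit [Finite G] in
theorem mem_zpowers_three {x g : G} (hx : x * (x * x) = 1) :
    g ∈ zpowers x ↔ g = 1 ∨ g = x ∨ g = x * x := by
  constructor
  · intro hg
    obtain ⟨i, rfl⟩ := mem_zpowers_iff.1 hg
    have h3 : x ^ (3 : ℤ) = 1 := by
      rw [show (3 : ℤ) = ((3 : ℕ) : ℤ) from rfl, zpow_natCast, pow_succ', sq, hx]
    have e : x ^ i = x ^ (i % 3) := by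
      conv_lhs => rw [← Int.mul_ediv_add_emod i 3, zpow_add, zpow_mul, h3, one_zpow, one_mul]
    have h1 := Int.emod_nonneg i (by norm_num : (3 : ℤ) ≠ 0)
    have h2 := Int.emod_lt_of_pos i (by norm_num : (0 : ℤ) < 3)
    rw [e]
    interval_cases i % 3
    · left; exact zpow_zero x
    · right; left; exact zpow_one x
    · right; right
      rw [show (2 : ℤ) = ((2 : ℕ) : ℤ) from rfl, zpow_natCast, sq]
  · rintro (e | e | e) <;> rw [e]
    · exact one_mem _
    · exact mem_zpowers x
    · exact mul_mem (mem_zpowers x) (mem_zpowers x)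

omit [Finite G] in
theorem commute_of_conj_inv {p w : G} {m : ℕ} (hp : p ^ (2 * m + 1) = 1)
    (h : p * p * w = w * (p * p)) : p * w = w * p := by
  have hc : Commute ((p * p) ^ (m + 1)) w := Commute.pow_left h _
  have e : (p * p) ^ (m + 1) = p := by
    rw [← sq, ← pow_mul, show 2 * (m + 1) = 2 * m + 1 + 1 by ring, pow_succ, hp, one_mul]
  rwa [e] at hc

variable (h : Hyp G)
include h

theorem sylow_pow (P : Sylow 3 G) {g : G} (hg : g ∈ (P : Subgroup G)) :
    g ^ (2 * 13 + 1) = 1 := by
  rw [← orderOf_dvd_iff_pow_eq_one]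
  exact (Subgroup.orderOf_dvd_natCard (P : Subgroup G) hg).trans (by rw [card_sylow_three h P])

variable [IsSimpleGroup G]

theorem isConj_two {s u : G} (hs : orderOf s = 2) (hu : orderOf u = 2) : IsConj s u := by
  obtain ⟨e⟩ := h.cent s hs
  haveI := Fintype.ofFinite G
  exact H13.GL23.isConj_involution e hs hu

omit [Finite G] [IsSimpleGroup G] h in
theorem nat_card_centralizer_conj (g w : G) :
    Nat.card (centralizer ({g * w * g⁻¹} : Set G)) = Nat.card (centralizer ({w} : Set G)) := by
  have e : centralizer ({g * w * g⁻¹} : Set G) =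
      (centralizer ({w} : Set G)).map (MulAut.conj g).toMonoidHom := by
    ext x
    rw [mem_map_equiv, MulAut.conj_symm_apply, mem_centralizer_singleton_iff,
      mem_centralizer_singleton_iff]
    constructor
    · intro h
      calc g⁻¹ * x * g * w = g⁻¹ * (x * (g * w * g⁻¹)) * g := by group
        _ = w * (g⁻¹ * x * g) := by rw [h]; group
    · intro h
      calc x * (g * w * g⁻¹) = g * (g⁻¹ * x * g * w) * g⁻¹ := by group
        _ = g * w * g⁻¹ * x := by rw [h]; group
  rw [e, card_map_of_injective (MulAut.conj g).injective]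

/-- The centraliser of an element of order three centralised by an involution has order `54`. -/
theorem card_centralizer_three {t w : G} (ht : orderOf t = 2) (hw : w * (w * w) = 1)
    (hw1 : w ≠ 1) (hc : t * w = w * t) : Nat.card (centralizer ({w} : Set G)) = 54 := by
  classical
  haveI : Fact (Nat.Prime 2) := ⟨Nat.prime_two⟩
  haveI : Fact (Nat.Prime 3) := ⟨Nat.prime_three⟩
  set C := centralizer ({w} : Set G) with hCdef
  have hwo := three_of_cube hw hw1
  have htC : t ∈ C := mem_centralizer_singleton_iff.2 hc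
  have hwC : w ∈ C := mem_centralizer_singleton_iff.2 rfl
  have hd := centralizer_dvd h hwo
  rw [← hCdef] at hd
  -- the Sylow `2`-subgroups of `C` have order two
  have h4 : ¬ 4 ∣ Nat.card C := by
    obtain ⟨Q, hQ⟩ := (IsPGroup.of_card (p := 2) (n := 1) (G := zpowers (⟨t, htC⟩ : C))
      (by rw [Nat.card_zpowers, Subgroup.orderOf_mk, ht, pow_one])).exists_le_sylow
    have htQ : (⟨t, htC⟩ : C) ∈ (Q : Subgroup C) := hQ (mem_zpowers _)
    haveI : Nontrivial (Q : Subgroup C) := nontrivial_iff_ne_bot _ |>.2 fun e => by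
      rw [e, mem_bot] at htQ
      exact ne_one_of_two ht (congrArg Subtype.val htQ)
    haveI := Q.isPGroup'.center_nontrivial
    obtain ⟨⟨u, hu⟩, hu2⟩ := exists_prime_orderOf_dvd_card' (G := center (Q : Subgroup C)) 2 (by
      obtain ⟨k, hk⟩ := (Q.isPGroup'.to_subgroup (center _)).exists_card_eq
      have := Finite.one_lt_card (α := center (Q : Subgroup C))
      rw [hk] at this ⊢
      exact dvd_pow_self 2 (by rintro rfl; simp at this))
    rw [Subgroup.orderOf_mk] at hu2
    have huu : ((u : C) : G) * ((u : C) : G) = 1 := by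
      have := sq_of_two hu2
      exact congrArg (fun z : (Q : Subgroup C) => ((z : C) : G)) this
    have hcomm : ∀ q ∈ (Q : Subgroup C), (q : G) * ((u : C) : G) = ((u : C) : G) * q := fun q hq =>
      congrArg (fun z : (Q : Subgroup C) => ((z : C) : G)) (mem_center_iff.1 hu ⟨q, hq⟩)
    have hut : ((u : C) : G) = t := by
      rcases eq_of_commuting h ht hw hw1 hc huu (hcomm _ htQ)
        (mem_centralizer_singleton_iff.1 (u : C).2).symm with e | e
      · exact absurd (Subtype.ext (Subtype.ext e) : u = 1) (ne_one_of_two hu2)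
      · exact e
    have hle : (Q : Subgroup C).map C.subtype ≤ centralizer ({t} : Set G) ⊓ C := by
      rintro _ ⟨q, hq, rfl⟩
      exact ⟨mem_centralizer_singleton_iff.2 (hut ▸ hcomm q hq), q.2⟩
    have h6 := card_dvd_of_le hle
    rw [card_centralizer_two_three h ht hw hw1 hc, card_subtype] at h6
    obtain ⟨k, hk⟩ := Q.isPGroup'.exists_card_eq
    have hk1 : k ≤ 1 := by
      by_contra hlt
      rw [hk] at h6
      exact absurd ((pow_dvd_pow 2 (show 2 ≤ k by omega)).trans h6) (by norm_num)
    intro h4
    have hm := (Q : Subgroup C).card_mul_index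
    rw [← hm, hk] at h4
    interval_cases k
    · simp only [pow_zero, one_mul] at h4
      exact Q.not_dvd_index ((show 2 ∣ 4 by norm_num).trans h4)
    · rw [pow_one, show 4 = 2 * 2 from rfl] at h4
      exact Q.not_dvd_index (Nat.dvd_of_mul_dvd_mul_left (by norm_num) h4)
  have h2 : 2 ∣ Nat.card C := ht ▸ Subgroup.orderOf_dvd_natCard C htC
  -- a Sylow subgroup through `w`
  obtain ⟨P, hP⟩ := (IsPGroup.of_card (p := 3) (n := 1) (G := zpowers w)
    (by rw [Nat.card_zpowers, hwo, pow_one])).exists_le_sylow
  have hwP : w ∈ (P : Subgroup G) := hP (mem_zpowers w)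
  have hP27 := card_sylow_three h P
  haveI : Nontrivial (P : Subgroup G) := Finite.one_lt_card_iff_nontrivial.1 (by rw [hP27]; norm_num)
  haveI := P.isPGroup'.center_nontrivial
  obtain ⟨⟨⟨z, hzP⟩, hzZ⟩, hz1⟩ := exists_prime_orderOf_dvd_card' (G := center (P : Subgroup G)) 3 (by
      obtain ⟨k, hk⟩ := (P.isPGroup'.to_subgroup (center _)).exists_card_eq
      have := Finite.one_lt_card (α := center (P : Subgroup G))
      rw [hk] at this ⊢
      exact dvd_pow_self 3 (by rintro rfl; simp at this))
  rw [Subgroup.orderOf_mk, Subgroup.orderOf_mk] at hz1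
  have hz3 : z * (z * z) = 1 := cube_of_pow (by rw [← hz1, pow_orderOf_eq_one])
  have hzne : z ≠ 1 := fun e => by rw [e, orderOf_one] at hz1; norm_num at hz1
  have hzc : ∀ p ∈ (P : Subgroup G), p * z = z * p := fun p hp =>
    congrArg Subtype.val (mem_center_iff.1 hzZ ⟨p, hp⟩)
  set K := C ⊓ (P : Subgroup G) with hK
  have hwK : w ∈ K := ⟨hwC, hwP⟩
  have hzK : z ∈ K := ⟨mem_centralizer_singleton_iff.2 (hzc w hwP).symm, hzP⟩
  obtain ⟨k, hk⟩ := (P.isPGroup'.to_le (inf_le_right : K ≤ (P : Subgroup G))).exists_card_eq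
  have hKC : 3 ^ k ∣ Nat.card C := hk ▸ card_dvd_of_le inf_le_left
  -- reduce to eighteen
  have h18 : 9 ∣ Nat.card C → Nat.card C = 18 ∨ Nat.card C = 54 := by
    intro h9
    generalize Nat.card C = n at hd h2 h4 h9
    obtain ⟨c, rfl⟩ : 18 ∣ n := Nat.Coprime.mul_dvd_of_dvd_of_dvd (by norm_num : Nat.Coprime 2 9) h2 h9
    have hc' : c ∣ 24 := Nat.dvd_of_mul_dvd_mul_left (k := 18) (by norm_num) hd
    have := Nat.le_of_dvd (by norm_num) hc'
    interval_cases c <;> omega
  by_cases hzw : z ∈ zpowers w
  · -- `w` is central in `P`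
    have hPC : (P : Subgroup G) ≤ C := by
      intro p hp
      refine mem_centralizer_singleton_iff.2 ?_
      have hwz : w ∈ zpowers z := by
        rcases (mem_zpowers_three hw).1 hzw with e | e | e
        · exact absurd e hzne
        · rw [e]; exact mem_zpowers w
        · rw [e]
          refine mem_zpowers_iff.2 ⟨((2 : ℕ) : ℤ), ?_⟩
          rw [zpow_natCast, sq, show w * w * (w * w) = w * (w * (w * w)) by group, hw, mul_one]
      obtain ⟨i, rfl⟩ := mem_zpowers_iff.1 hwz
      exact ((show Commute p z from hzc p hp).zpow_right i).eq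
    have h27 := card_dvd_of_le hPC
    rw [hP27] at h27
    rcases h18 ((show 9 ∣ 27 by norm_num).trans h27) with e | e
    · rw [e] at h27; norm_num at h27
    · exact e
  -- otherwise `K` has order nine
  have hk2 : 2 ≤ k := by
    by_contra hlt
    have hle : Nat.card K ≤ Nat.card (zpowers w) := by
      rw [hk, Nat.card_zpowers, hwo]
      interval_cases k <;> norm_num
    exact hzw ((eq_of_le_of_card_ge (zpowers_le.2 hwK) hle).symm ▸ hzK)
  rcases h18 ((pow_dvd_pow 3 hk2).trans hKC) with h18' | h54
  swap
  · exact h54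
  exfalso
  have hK9 : Nat.card K = 9 := by
    rw [hk]
    have hk3 : k ≤ 2 := by
      by_contra hlt
      rw [h18'] at hKC
      exact absurd ((pow_dvd_pow 3 (show 3 ≤ k by omega)).trans hKC) (by norm_num)
    rw [show k = 2 by omega]; norm_num
  have hKidx : (K.subgroupOf C).index = 2 := by
    have := (K.subgroupOf C).card_mul_index
    rw [Nat.card_congr (subgroupOfEquivOfLe (inf_le_left : K ≤ C)).toEquiv, hK9, h18'] at this
    omega
  -- conjugates of central elements have centralisers of order 27
  have hCz : centralizer ({z} : Set G) = (P : Subgroup G) := by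
    have hle : (P : Subgroup G) ≤ centralizer ({z} : Set G) :=
      fun p hp => mem_centralizer_singleton_iff.2 (hzc p hp)
    refine (eq_of_le_of_card_ge hle ?_).symm
    have hd' := centralizer_dvd h hz1
    have h27 := card_dvd_of_le hle
    rw [hP27] at h27 ⊢
    have hodd : ¬ 2 ∣ Nat.card (centralizer ({z} : Set G)) := by
      intro h2'
      obtain ⟨⟨u, hu⟩, hu2⟩ := exists_prime_orderOf_dvd_card' 2 h2'
      rw [Subgroup.orderOf_mk] at hu2
      obtain ⟨g, hg⟩ := isConj_iff.1 (isConj_two h hu2 ht)
      have hzu := mem_centralizer_singleton_iff.1 hu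
      have hcz : t * (g * z * g⁻¹) = g * z * g⁻¹ * t := by
        rw [← hg]
        calc g * u * g⁻¹ * (g * z * g⁻¹) = g * (u * z) * g⁻¹ := by group
          _ = g * z * g⁻¹ * (g * u * g⁻¹) := by rw [hzu]; group
      obtain ⟨a, ha⟩ := isConj_iff.1 (isConj_three h ht hw hw1 hc
        (v := g * z * g⁻¹) (by rw [show g * z * g⁻¹ * (g * z * g⁻¹ * (g * z * g⁻¹)) =
            g * (z * (z * z)) * g⁻¹ by group, hz3]; group)
        (fun e => hzne (conj_eq_one_iff.1 e)) hcz)
      rw [← nat_card_centralizer_conj g z, ← ha, nat_card_centralizer_conj a w, ← hCdef, h18'] at h27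
      norm_num at h27
    obtain ⟨c, hc'⟩ := h27
    rw [hc'] at hd' hodd ⊢
    have : c ∣ 16 := Nat.dvd_of_mul_dvd_mul_left (k := 27) (by norm_num) hd'
    have := Nat.le_of_dvd (by norm_num) this
    interval_cases c <;> omega
  have hsq : ∀ x : G, t * x * t = t * x * t⁻¹ := fun x => by
    rw [inv_eq_of_mul_eq_one_right (sq_of_two ht)]
  set z' := t * z * t with hz'
  have hz'3 : z' * (z' * z') = 1 := by
    rw [hz', hsq, show t * z * t⁻¹ * (t * z * t⁻¹ * (t * z * t⁻¹)) = t * (z * (z * z)) * t⁻¹ by group,
      hz3]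
    group
  have hz'K : z' ∈ K := by
    refine mem_of_odd hKidx (m := 1) (C.mul_mem (C.mul_mem htC hzK.1) htC) ?_
    rw [show 2 * 1 + 1 = 3 from rfl, pow_succ', sq, hz'3]
  have hcard' : Nat.card (centralizer ({z'} : Set G)) = 27 := by
    rw [hz', hsq, nat_card_centralizer_conj, hCz, hP27]
  by_cases hz'z : z' ∈ zpowers z
  · -- `t` normalises `P`
    have htN : t ∈ normalizer ((P : Subgroup G) : Set G) := by
      have hmem : ∀ x, x ∈ (P : Subgroup G) → t * x * t⁻¹ ∈ (P : Subgroup G) := by
        intro x hx
        rw [← hCz, mem_centralizer_singleton_iff] at hx ⊢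
        obtain ⟨i, hi⟩ := mem_zpowers_iff.1 hz'z
        have hzz' : z ∈ zpowers z' := by
          rcases (mem_zpowers_three hz3).1 hz'z with e | e | e
          · rw [hz', hsq] at e
            exact absurd (conj_eq_one_iff.1 e) hzne
          · rw [e]; exact mem_zpowers z
          · rw [e]
            refine mem_zpowers_iff.2 ⟨((2 : ℕ) : ℤ), ?_⟩
            rw [zpow_natCast, sq, show z * z * (z * z) = z * (z * (z * z)) by group, hz3, mul_one]
        have hxz' : Commute (t * x * t⁻¹) z' := by
          rw [hz', hsq]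
          exact (show Commute x z from hx).map (MulAut.conj t).toMonoidHom
        obtain ⟨j, hj⟩ := mem_zpowers_iff.1 hzz'
        have := hxz'.zpow_right j
        rw [hj] at this
        exact this.eq
      refine mem_normalizer_iff.2 fun x => ⟨hmem x, fun hx => ?_⟩
      have := hmem _ hx
      rwa [inv_eq_of_mul_eq_one_right (sq_of_two ht),
        show t * (t * x * t) * t = (t * t) * x * (t * t) by group, sq_of_two ht, one_mul, mul_one]
        at this
    have hN2 : 2 ∣ Nat.card (normalizer ((P : Subgroup G) : Set G)) :=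
      ht ▸ Subgroup.orderOf_dvd_natCard _ htN
    have hN : Nat.card (normalizer ((P : Subgroup G) : Set G)) ≤ 54 := by
      refine le_trans (card_le_two_mul (x := z) fun n hn => ?_) (by rw [hCz, hP27])
      set v := n * z * n⁻¹ with hv
      have hvP : v ∈ (P : Subgroup G) := conj_mem_of_normalizer hn hzP
      have hvc : ∀ p ∈ (P : Subgroup G), p * v = v * p := by
        intro p hp
        have hp' : n⁻¹ * p * n ∈ (P : Subgroup G) := by
          simpa using conj_mem_of_normalizer (inv_mem hn) hp
        calc p * v = n * (n⁻¹ * p * n * z) * n⁻¹ := by rw [hv]; group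
          _ = v * p := by rw [hzc _ hp', hv]; group
      have hvK : v ∈ K := ⟨mem_centralizer_singleton_iff.2 (hvc w hwP).symm, hvP⟩
      by_contra hnot
      push Not at hnot
      -- `⟨z⟩` and `v` generate `K`, making `w` central
      have hcentK : ∀ g ∈ K, ∀ p ∈ (P : Subgroup G), p * g = g * p := by
        let Z : Subgroup G :=
          (K ⊓ centralizer ((P : Subgroup G) : Set G))
        have hzZ' : z ∈ Z := ⟨hzK, fun p hp => hzc p hp⟩
        have hvZ : v ∈ Z := ⟨hvK, fun p hp => hvc p hp⟩
        have hZK : Z = K := by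
          obtain ⟨j, hj⟩ := (P.isPGroup'.to_le (inf_le_left.trans inf_le_right :
            Z ≤ (P : Subgroup G))).exists_card_eq
          have hj2 : 2 ≤ j := by
            by_contra hlt
            have hle : Nat.card Z ≤ Nat.card (zpowers z) := by
              rw [hj, Nat.card_zpowers, hz1]
              interval_cases j <;> norm_num
            have := (eq_of_le_of_card_ge (zpowers_le.2 hzZ') hle).symm ▸ hvZ
            rcases (mem_zpowers_three hz3).1 this with e | e | e
            · exact hzne (conj_eq_one_iff.1 e)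
            · exact hnot.1 e
            · exact hnot.2 e
          refine eq_of_le_of_card_ge inf_le_left ?_
          rw [hK9, hj]
          calc 9 = 3 ^ 2 := by norm_num
            _ ≤ 3 ^ j := Nat.pow_le_pow_right (by norm_num) hj2
        intro g hg p hp
        rw [← hZK] at hg
        exact hg.2 p hp
      have hPC : (P : Subgroup G) ≤ C := fun p hp =>
        mem_centralizer_singleton_iff.2 (hcentK w hwK p hp)
      have := card_dvd_of_le hPC
      rw [hP27, h18'] at this
      norm_num at this
    rcases card_normalizer_three h P with e | e | e | e <;> rw [e] at hN hN2 <;> omega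
  · -- `z'` is conjugate to `w` or its inverse
    obtain ⟨p, hp, hpw⟩ : ∃ p ∈ (P : Subgroup G), p * w ≠ w * p := by
      by_contra hall
      push Not at hall
      have hPC : (P : Subgroup G) ≤ C := fun p hp => mem_centralizer_singleton_iff.2 (hall p hp)
      have := card_dvd_of_le hPC
      rw [hP27, h18'] at this
      norm_num at this
    have hp27 := sylow_pow h P hp
    have hpp : p * p * w ≠ w * (p * p) := fun e => hpw (commute_of_conj_inv hp27 e)
    haveI hKn : (K.subgroupOf (P : Subgroup G)).Normal := by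
      apply normal_of_index_eq_minFac_card
      have := (K.subgroupOf (P : Subgroup G)).card_mul_index
      rw [Nat.card_congr (subgroupOfEquivOfLe (inf_le_right : K ≤ (P : Subgroup G))).toEquiv, hK9,
        hP27] at this
      rw [hP27, show (27 : ℕ) = 3 ^ 3 by norm_num, Nat.pow_minFac (by norm_num),
        Nat.prime_three.minFac_eq]
      omega
    have hKconj : ∀ q ∈ (P : Subgroup G), ∀ g ∈ K, q * g * q⁻¹ ∈ K := by
      intro q hq g hg
      have := hKn.conj_mem ⟨g, hg.2⟩ (mem_subgroupOf.2 hg) ⟨q, hq⟩
      rwa [mem_subgroupOf] at this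
    haveI := Fintype.ofFinite G
    set Pf : Finset G := Finset.univ.filter fun q => q ∈ (P : Subgroup G) with hPf
    set O : G → Finset G := fun a => Pf.image fun q => q * a * q⁻¹ with hO
    set T : Finset G := (Finset.univ.filter fun g => g ∈ K) \
      (Finset.univ.filter fun g => g ∈ zpowers z) with hT
    have hT6 : T.card = 6 := by
      rw [hT, Finset.card_sdiff_of_subset, ← Fintype.card_subtype, ← Fintype.card_subtype,
        ← Nat.card_eq_fintype_card, ← Nat.card_eq_fintype_card, hK9, Nat.card_zpowers, hz1]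
      intro g hg
      simp only [Finset.mem_filter, Finset.mem_univ, true_and] at hg ⊢
      exact zpowers_le.2 hzK hg
    have hzfix : ∀ q ∈ (P : Subgroup G), ∀ g ∈ zpowers z, q * g * q⁻¹ = g := by
      intro q hq g hg
      obtain ⟨i, rfl⟩ := mem_zpowers_iff.1 hg
      rw [((show Commute q z from hzc q hq).zpow_right i).eq, mul_inv_cancel_right]
    have hsub : ∀ a ∈ K, a ∉ zpowers z → O a ⊆ T := by
      intro a ha haz b hb
      obtain ⟨q, hq, rfl⟩ := Finset.mem_image.1 hb
      simp only [hPf, Finset.mem_filter, Finset.mem_univ, true_and] at hq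
      simp only [hT, Finset.mem_sdiff, Finset.mem_filter, Finset.mem_univ, true_and]
      refine ⟨hKconj q hq a ha, fun hz => haz ?_⟩
      have := hzfix q⁻¹ (inv_mem hq) _ hz
      rw [show q⁻¹ * (q * a * q⁻¹) * q⁻¹⁻¹ = a by group] at this
      rw [this]
      exact hz
    have hpmem : ∀ q ∈ ({1, p, p * p} : Finset G), q ∈ Pf := by
      intro q hq
      simp only [Finset.mem_insert, Finset.mem_singleton] at hq
      simp only [hPf, Finset.mem_filter, Finset.mem_univ, true_and]
      rcases hq with rfl | rfl | rfl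
      exacts [one_mem _, hp, mul_mem hp hp]
    have hge : ∀ a : G, (∀ q : G, q * a = a * q ↔ q * w = w * q) → 3 ≤ (O a).card := by
      intro a hiff
      have hinj : Set.InjOn (fun q => q * a * q⁻¹) (({1, p, p * p} : Finset G) : Set G) := by
        intro q₁ h₁ q₂ h₂ e
        have hc' : q₂⁻¹ * q₁ * a = a * (q₂⁻¹ * q₁) := by
          calc q₂⁻¹ * q₁ * a = q₂⁻¹ * (q₁ * a * q₁⁻¹) * q₁ := by group
            _ = q₂⁻¹ * (q₂ * a * q₂⁻¹) * q₁ := by rw [show q₁ * a * q₁⁻¹ = q₂ * a * q₂⁻¹ from e]
            _ = a * (q₂⁻¹ * q₁) := by group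
        have hcw := (hiff _).1 hc'
        have hcw' : (q₂⁻¹ * q₁)⁻¹ * w = w * (q₂⁻¹ * q₁)⁻¹ :=
          (Commute.inv_left (show Commute (q₂⁻¹ * q₁) w from hcw)).eq
        simp only [Finset.coe_insert, Finset.coe_singleton, Set.mem_insert_iff,
          Set.mem_singleton_iff] at h₁ h₂
        rcases h₁ with rfl | rfl | rfl <;> rcases h₂ with rfl | rfl | rfl <;>
          first
            | rfl
            | (exfalso; simp [mul_assoc] at hcw hcw'; first
                | exact hpw hcw
                | exact hpw hcw'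
                | exact hpp (by simpa [mul_assoc] using hcw)
                | exact hpp (by simpa [mul_assoc] using hcw'))
      have h3 : ({1, p, p * p} : Finset G).card = 3 := by
        have p1 : p ≠ 1 := fun e => hpw (by rw [e, one_mul, mul_one])
        have pp1 : p * p ≠ 1 := fun e => hpp (by rw [e, one_mul, mul_one])
        rw [Finset.card_insert_of_notMem, Finset.card_pair]
        · exact fun e => p1 (mul_eq_left.1 e.symm)
        · simp only [Finset.mem_insert, Finset.mem_singleton, not_or]
          exact ⟨Ne.symm p1, Ne.symm pp1⟩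
      rw [← h3, ← Finset.card_image_of_injOn hinj]
      exact Finset.card_le_card (Finset.image_subset_image hpmem)
    have hwinv : w⁻¹ = w * w := inv_eq_of_mul_eq_one_right hw
    have hdisj : Disjoint (O w) (O w⁻¹) := by
      rw [Finset.disjoint_left]
      intro b h1 h2
      obtain ⟨q₁, hq₁, rfl⟩ := Finset.mem_image.1 h1
      obtain ⟨q₂, hq₂, e⟩ := Finset.mem_image.1 h2
      simp only [hPf, Finset.mem_filter, Finset.mem_univ, true_and] at hq₁ hq₂
      set q := q₂⁻¹ * q₁
      have hqw : q * w * q⁻¹ = w⁻¹ := by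
        calc q * w * q⁻¹ = q₂⁻¹ * (q₁ * w * q₁⁻¹) * q₂ := by simp only [q]; group
          _ = w⁻¹ := by rw [← e]; group
      have hq2 : q * q * w = w * (q * q) := by
        calc q * q * w = q * (q * w * q⁻¹) * q := by group
          _ = q * w⁻¹ * q := by rw [hqw]
          _ = (q * w * q⁻¹)⁻¹ * (q * q) := by group
          _ = w * (q * q) := by rw [hqw, inv_inv]
      have := commute_of_conj_inv (sylow_pow h P (mul_mem (inv_mem hq₂) hq₁)) hq2
      rw [this, mul_inv_cancel_right] at hqw
      have hw2 : w * w = 1 := by nth_rewrite 1 [hqw]; exact inv_mul_cancel w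
      rw [hw2, mul_one] at hw
      exact hw1 hw
    have hwz : w ∉ zpowers z := fun hm => by
      have := hzfix p hp w hm
      exact hpw (mul_inv_eq_iff_eq_mul.1 this)
    have hall : T = O w ∪ O w⁻¹ := by
      refine (Finset.eq_of_subset_of_card_le ?_ ?_).symm
      · exact Finset.union_subset (hsub w hwK hwz)
          (hsub _ (inv_mem hwK) fun hm => hwz (inv_mem_iff.1 hm))
      · rw [hT6, Finset.card_union_of_disjoint hdisj]
        have h1 := hge w fun q => Iff.rfl
        have h2 := hge w⁻¹ fun q => by
          constructor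
          · intro e
            exact (Commute.inv_right_iff.1 (show Commute q w⁻¹ from e)).eq
          · intro e
            exact ((show Commute q w from e).inv_right).eq
        omega
    have hz'T : z' ∈ T := by
      simp only [hT, Finset.mem_sdiff, Finset.mem_filter, Finset.mem_univ, true_and]
      exact ⟨hz'K, hz'z⟩
    rw [hall, Finset.mem_union] at hz'T
    rcases hz'T with hm | hm <;> obtain ⟨q, -, e⟩ := Finset.mem_image.1 hm <;>
      rw [← e, nat_card_centralizer_conj] at hcard'
    · rw [← hCdef, h18'] at hcard'; norm_num at hcard'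
    · have : centralizer ({w⁻¹} : Set G) = C := by
        ext x
        rw [hCdef, mem_centralizer_singleton_iff, mem_centralizer_singleton_iff]
        exact Commute.inv_right_iff (a := x) (b := w)
      rw [this, h18'] at hcard'; norm_num at hcard'

end H36.L33
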