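import Cfsg.Agent.H36.M11Triad

/-!
# The graph on the `55` Sylow `3`-subgroups of a simple group of order `7920`
-/

set_option autoImplicit false
set_option maxHeartbeats 800000

open Cfsg Subgroup

namespace H36.M11

universe u

variable {G : Type u} [Group G] [Fintype G] [IsSimpleGroup G]

omit [Fintype G] [IsSimpleGroup G] in
theorem adj_of_eq {P Q Q' : Sylow 3 G} (h : Adj P Q) (e : Q = Q') : Adj P Q' := e ▸ h

theorem zmod_seven : ∀ a b : ZMod 7,
    3 * (3 * 3) * a + 3 * 3 * 4 * b + (3 * 3 * 4 * b + 3 * 6 * 4 * b) +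
        (3 * 3 * 4 * b + 3 * 6 * 4 * b + (3 * 6 * 4 * b + 6 * 6 * 4 * b)) =
      6 * a + 6 * b := by decide +kernel

theorem zmod_seven_trace : ¬ ((6 : ZMod 7) • (0 : ZMod 7) + (6 : ZMod 7) • (55 : ZMod 7) =
    (0 : ZMod 7) ^ 7) := by decide +kernel

theorem zmod_nineteen_trace : ¬ (((55 : ℕ) : ZMod 19) = 0) := by decide +kernel

variable (hG : Nat.card G = 7920)
include hG

theorem card_vertices : Nat.card (Sylow 3 G) = 55 := by
  haveI : Fact (Nat.Prime 3) := ⟨Nat.prime_three⟩
  obtain ⟨P⟩ := (inferInstance : Nonempty (Sylow 3 G))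
  have h := H62.card_normalizer_mul P
  rw [card_normalizer_sylow_three hG P, hG] at h
  omega

/-- The only element of `P` fixing another vertex is the identity. -/
theorem eq_of_smul_eq {P Q : Sylow 3 G} (hPQ : P ≠ Q) {x y : G} (hx : x ∈ (P : Subgroup G))
    (hy : y ∈ (P : Subgroup G)) (h : x • Q = y • Q) : x = y := by
  have h1 : (x⁻¹ * y) • Q = Q := by rw [mul_smul, ← h, inv_smul_smul]
  have hm : x⁻¹ * y ∈ (P : Subgroup G) := mul_mem (inv_mem hx) hy
  exact inv_mul_eq_one.1 (no_three_common hG hPQ (Subgroup.le_normalizer hm)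
    (smul_fixed_iff.1 h1) (pow_three hG P hm))

/-- The vertices adjacent to `P`: the images of the two others in a triad under `P`. -/
theorem adj_cases (P : Sylow 3 G) {t : G} (ht : Inverts P t) {Q S : Sylow 3 G}
    (hall : ∀ T, Inverts T t → T = P ∨ T = Q ∨ T = S) {R : Sylow 3 G} (hR : Adj P R) :
    ∃ x ∈ (P : Subgroup G), R = x • Q ∨ R = x • S := by
  obtain ⟨hne, t', h1, h2⟩ := hR
  obtain ⟨p, hp, hpt⟩ := inverts_conj hG P ht h1
  have h3 := h2.smul p⁻¹
  rw [show p⁻¹ * t' * p⁻¹⁻¹ = t by rw [← hpt]; group] at h3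
  refine ⟨p, hp, ?_⟩
  rcases hall _ h3 with h | h | h
  · exfalso
    refine hne ?_
    have := congrArg (p • ·) h
    simp only [smul_inv_smul] at this
    rw [this, smul_fixed_iff.2 (Subgroup.le_normalizer hp)]
  · left; rw [← h, smul_inv_smul]
  · right; rw [← h, smul_inv_smul]

/-- The two halves of a neighbourhood are disjoint. -/
theorem half_disjoint (P : Sylow 3 G) {t : G} (ht : Inverts P t) {Q S : Sylow 3 G}
    (hPQ : P ≠ Q) (hQS : Q ≠ S) (hQ : Inverts Q t) (hS : Inverts S t) {x y : G}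
    (hx : x ∈ (P : Subgroup G)) (hy : y ∈ (P : Subgroup G)) : x • Q ≠ y • S := by
  intro h
  set z := y⁻¹ * x with hz
  have hzS : z • Q = S := by rw [hz, mul_smul, h, inv_smul_smul]
  have hzP : z ∈ (P : Subgroup G) := mul_mem (inv_mem hy) hx
  have h1 : Inverts P (z * t * z⁻¹) := by
    have := ht.smul z
    rwa [smul_fixed_iff.2 (Subgroup.le_normalizer hzP)] at this
  have h2 : Inverts S (z * t * z⁻¹) := hzS ▸ hQ.smul z
  have hPS : P ≠ S := fun e => by
    rw [← hzS] at e
    exact hPQ ((MulAction.injective z) ((smul_fixed_iff.2 (Subgroup.le_normalizer hzP)).trans e))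
  obtain ⟨j, -, hj⟩ := two_pow_normalizers hG hPS
  have e := inverts_unique_of_mem hG P h1 ht _ ⟨j, hj⟩
    (Subgroup.mem_inf.2 ⟨h1.mem_normalizer, h2.mem_normalizer⟩)
    (Subgroup.mem_inf.2 ⟨ht.mem_normalizer, hS.mem_normalizer⟩)
  have hz1 : z = 1 := eq_one_of_eq_inv hG P hzP (by
    rw [← ht.2 z hzP]; exact (mul_inv_eq_of_eq_mul (mul_inv_eq_iff_eq_mul.1 e).symm).symm)
  rw [hz1, one_smul] at hzS
  exact hQS hzS

/-- In the stabiliser of an edge all elements commute with its involution. -/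
theorem edge_stabilizer (P : Sylow 3 G) {t : G} (ht : Inverts P t) {Q : Sylow 3 G} (hPQ : P ≠ Q)
    (hQ : Inverts Q t) {n : G} (hP : n • P = P) (hnQ : n • Q = Q) : n * t = t * n := by
  obtain ⟨j, -, hj⟩ := two_pow_normalizers hG hPQ
  have h1 := ht.smul n
  rw [hP] at h1
  have h2 := hQ.smul n
  rw [hnQ] at h2
  exact mul_inv_eq_iff_eq_mul.1 (inverts_unique_of_mem hG P h1 ht _ ⟨j, hj⟩
    (Subgroup.mem_inf.2 ⟨h1.mem_normalizer, h2.mem_normalizer⟩)
    (Subgroup.mem_inf.2 ⟨ht.mem_normalizer, hQ.mem_normalizer⟩))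

/-- A frame at a vertex: a triad, its kernel and a swap. -/
structure Frame (_hord : Nat.card G = 7920) (P : Sylow 3 G) where
  t : G
  Q : Sylow 3 G
  S : Sylow 3 G
  K : Subgroup G
  ht : Inverts P t
  hQ : Inverts Q t
  hS : Inverts S t
  hPQ : P ≠ Q
  hPS : P ≠ S
  hQS : Q ≠ S
  hall : ∀ T, Inverts T t → T = P ∨ T = Q ∨ T = S
  cardK : Nat.card K = 8
  memK : ∀ k, k ∈ K ↔ k * t = t * k ∧ k • P = P ∧ k • Q = Q ∧ k • S = S
  invK : ∀ k ∈ K, k ≠ 1 → k ^ 2 = 1 → k = t
  n : G
  hn : n * t = t * n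
  hnP : n • P = P
  hnQ : n • Q = S
  hnS : n • S = Q

theorem exists_frame (P : Sylow 3 G) : Nonempty (Frame hG P) := by
  obtain ⟨t, ht⟩ := exists_inverts hG P
  obtain ⟨Q, S, K, h1, h2, h3, h4, h5, h6, h7, h8, h9, n, h10, h11, h12, h13⟩ := triad_data hG P ht
  exact ⟨⟨t, Q, S, K, ht, h4, h5, h1, h2, h3, h6, h7, h8, h9, n, h10, h11, h12, h13⟩⟩

variable {hG}
variable {P : Sylow 3 G} (F : Frame hG P)

theorem Frame.adjQ : Adj P F.Q := ⟨F.hPQ, F.t, F.ht, F.hQ⟩

theorem Frame.adjS : Adj P F.S := ⟨F.hPS, F.t, F.ht, F.hS⟩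

/-- `K` is transitive on `P ∖ 1`. -/
theorem Frame.exists_conj {x y : G} (hx : x ∈ (P : Subgroup G)) (hx1 : x ≠ 1)
    (hy : y ∈ (P : Subgroup G)) (hy1 : y ≠ 1) : ∃ k ∈ F.K, k * x * k⁻¹ = y := by
  classical
  have hKN : ∀ k ∈ F.K, k ∈ normalizer ((P : Subgroup G) : Set G) := fun k hk =>
    smul_fixed_iff.1 ((F.memK k).1 hk).2.1
  let f : F.K → {v : (P : Subgroup G) // v ≠ 1} := fun k =>
    ⟨⟨(k : G) * x * (k : G)⁻¹, (Subgroup.mem_normalizer_iff.1 (hKN k k.2) x).1 hx⟩,
      fun h => hx1 (conj_eq_one_iff.1 (congrArg Subtype.val h))⟩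
  have hf : Function.Injective f := by
    intro a b hab
    have e : (a : G) * x * (a : G)⁻¹ = (b : G) * x * (b : G)⁻¹ :=
      congrArg (fun v : {v : (P : Subgroup G) // v ≠ 1} => ((v.1 : (P : Subgroup G)) : G)) hab
    set m := (a : G)⁻¹ * (b : G) with hm
    have hmx : x * m = m * x := by
      calc x * m = (a : G)⁻¹ * ((a : G) * x * (a : G)⁻¹) * (b : G) := by rw [hm]; group
        _ = (a : G)⁻¹ * ((b : G) * x * (b : G)⁻¹) * (b : G) := by rw [e]
        _ = m * x := by rw [hm]; group
    by_contra hne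
    have hm1 : m ≠ 1 := fun h => hne (Subtype.ext (inv_mul_eq_one.1 h))
    have hmK : m ∈ F.K := mul_mem (inv_mem a.2) b.2
    haveI : Fact (Nat.Prime 2) := ⟨Nat.prime_two⟩
    obtain ⟨j, hj, hje⟩ := (Nat.dvd_prime_pow Nat.prime_two).1
      (show orderOf m ∣ 2 ^ 3 by
        rw [show (2 : ℕ) ^ 3 = Nat.card F.K by rw [F.cardK]; norm_num]
        exact Subgroup.orderOf_dvd_natCard _ hmK)
    have hj1 : j ≠ 0 := by
      rintro rfl
      exact hm1 ((orderOf_eq_one_iff (x := m)).1 (by rw [hje, pow_zero]))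
    obtain ⟨i, rfl⟩ := Nat.exists_eq_succ_of_ne_zero hj1
    have h2 : (m ^ 2 ^ i) ^ 2 = 1 := by
      rw [← pow_mul, ← pow_succ, ← hje, pow_orderOf_eq_one]
    have h1' : m ^ 2 ^ i ≠ 1 := by
      intro h
      have := orderOf_dvd_of_pow_eq_one h
      rw [hje] at this
      have := Nat.le_of_dvd (by positivity) this
      rw [pow_succ] at this
      have : 0 < 2 ^ i := by positivity
      omega
    have ht := F.invK _ (pow_mem hmK _) h1' h2
    have htx : x * F.t = F.t * x :=
      ht ▸ ((show Commute x m from hmx).pow_right (2 ^ i)).eq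
    exact hx1 (eq_one_of_eq_inv hG P hx
      (by rw [← F.ht.2 x hx]; exact (mul_inv_eq_of_eq_mul htx.symm).symm))
  have hb : Function.Bijective f := by
    refine (Nat.bijective_iff_injective_and_card f).2 ⟨hf, ?_⟩
    rw [F.cardK, Nat.card_eq_fintype_card, Fintype.card_subtype_compl, Fintype.card_subtype_eq,
      ← Nat.card_eq_fintype_card, card_sylow_three hG P]
  obtain ⟨k, hk⟩ := hb.2 ⟨⟨y, hy⟩, fun h => hy1 (congrArg Subtype.val h)⟩
  exact ⟨k, k.2, congrArg (fun v : {v : (P : Subgroup G) // v ≠ 1} => ((v.1 : (P : Subgroup G)) : G)) hk⟩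

/-- The stabiliser of `P` moves any neighbour to any other. -/
theorem Frame.adj_trans {R : Sylow 3 G} (hR : Adj P R) : ∃ g : G, g • P = P ∧ g • F.Q = R := by
  obtain ⟨x, hx, h | h⟩ := adj_cases hG P F.ht F.hall hR
  · exact ⟨x, smul_fixed_iff.2 (Subgroup.le_normalizer hx), h.symm⟩
  · exact ⟨x * F.n, by rw [mul_smul, F.hnP, smul_fixed_iff.2 (Subgroup.le_normalizer hx)],
      by rw [mul_smul, F.hnQ, h]⟩

include F in
/-- The neighbours of `P`. -/
theorem Frame.card_neighbors : Nat.card {R : Sylow 3 G // Adj P R} = 18 := by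
  classical
  let f : ↥(P : Subgroup G) × Bool → {R : Sylow 3 G // Adj P R} := fun q =>
    ⟨(q.1 : G) • (if q.2 then F.Q else F.S), by
      have h : Adj P (if q.2 then F.Q else F.S) := by
        split
        · exact F.adjQ
        · exact F.adjS
      have := h.smul (q.1 : G)
      rwa [smul_fixed_iff.2 (Subgroup.le_normalizer q.1.2)] at this⟩
  have hf : Function.Bijective f := by
    constructor
    · rintro ⟨⟨a, ha⟩, i⟩ ⟨⟨b, hb⟩, j⟩ h
      have e : a • (if i then F.Q else F.S) = b • (if j then F.Q else F.S) := congrArg Subtype.val h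
      cases i <;> cases j <;> simp only [if_true, Bool.false_eq_true, if_false] at e
      · rw [Subtype.ext (eq_of_smul_eq hG F.hPS ha hb e) (a1 := (⟨a, ha⟩ : (P : Subgroup G))) (a2 := ⟨b, hb⟩)]
      · exact absurd e.symm (half_disjoint hG P F.ht F.hPQ F.hQS F.hQ F.hS hb ha)
      · exact absurd e (half_disjoint hG P F.ht F.hPQ F.hQS F.hQ F.hS ha hb)
      · rw [Subtype.ext (eq_of_smul_eq hG F.hPQ ha hb e) (a1 := (⟨a, ha⟩ : (P : Subgroup G))) (a2 := ⟨b, hb⟩)]
    · rintro ⟨R, hR⟩
      obtain ⟨x, hx, h | h⟩ := adj_cases hG P F.ht F.hall hR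
      · exact ⟨(⟨x, hx⟩, true), Subtype.ext h.symm⟩
      · exact ⟨(⟨x, hx⟩, false), Subtype.ext h.symm⟩
  rw [← Nat.card_eq_of_bijective f hf, Nat.card_prod, card_sylow_three hG P]
  norm_num

omit F in
/-- The stabiliser of a non-adjacent pair has order at most `4`. -/
theorem card_stabilizer_le {D : Sylow 3 G} (hPD : P ≠ D) (hn : ¬ Adj P D) :
    Nat.card (normalizer ((P : Subgroup G) : Set G) ⊓ normalizer ((D : Subgroup G) : Set G) :
      Subgroup G) ≤ 4 := by
  classical
  haveI : Fact (Nat.Prime 2) := ⟨Nat.prime_two⟩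
  set N := normalizer ((P : Subgroup G) : Set G) with hN
  set X := N ⊓ normalizer ((D : Subgroup G) : Set G) with hX
  obtain ⟨j, hj, hje⟩ := two_pow_normalizers hG hPD
  by_contra hgt
  have hj3 : 3 ≤ j := by
    by_contra h
    apply hgt
    rw [hje]
    calc 2 ^ j ≤ 2 ^ 2 := Nat.pow_le_pow_right (by norm_num) (by omega)
      _ = 4 := by norm_num
  obtain ⟨R, hR⟩ := (IsPGroup.of_card (p := 2) (n := j)
    (show Nat.card (X.subgroupOf N) = 2 ^ j by
      rw [Nat.card_congr (subgroupOfEquivOfLe inf_le_left).toEquiv]; exact hje) :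
    IsPGroup 2 (X.subgroupOf N)).exists_le_sylow
  have hRc : Nat.card (R : Subgroup N) = 16 := by
    rw [H62.card_sylow_coe (p := 2) (a := 4) (m := 9)
      (by rw [show Nat.card N = 144 from card_normalizer_sylow_three hG P]; norm_num) (by norm_num) R]
    norm_num
  set X' := (R : Subgroup N).map N.subtype with hX'
  have hX'N : X' ≤ N := Subgroup.map_subtype_le _
  have hX'c : Nat.card X' = 16 := by
    rw [hX', Subgroup.card_map_of_injective N.subtype_injective, hRc]
  have hXX' : X ≤ X' := fun v hv => ⟨⟨v, hv.1⟩, hR hv, rfl⟩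
  haveI : (X.subgroupOf X').Normal := by
    have h := (X.subgroupOf X').card_mul_index
    rw [Nat.card_congr (subgroupOfEquivOfLe hXX').toEquiv, hje, hX'c] at h
    rcases (show j = 3 ∨ j = 4 by omega) with rfl | rfl
    · exact Subgroup.normal_of_index_eq_two (by omega)
    · have hix : (X.subgroupOf X').index = 1 := by omega
      rw [Subgroup.index_eq_one] at hix
      rw [hix]; infer_instance
  -- a central involution of `X'` in `X`
  have hpg : IsPGroup 2 X' := IsPGroup.of_card (n := 4) (by rw [hX'c]; norm_num)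
  letI : MulAction X' (X.subgroupOf X') :=
    { smul := fun a v => ⟨a * (v : X') * a⁻¹, (inferInstance : (X.subgroupOf X').Normal).conj_mem _ v.2 a⟩
      one_smul := fun v => Subtype.ext (by
        show (1 : X') * (v : X') * (1 : X')⁻¹ = v
        simp)
      mul_smul := fun a b v => Subtype.ext (by
        show a * b * (v : X') * (a * b)⁻¹ = a * (b * (v : X') * b⁻¹) * a⁻¹
        group) }
  have hd : 2 ∣ Nat.card (X.subgroupOf X') := by
    rw [Nat.card_congr (subgroupOfEquivOfLe hXX').toEquiv, hje]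
    exact dvd_pow_self 2 (by omega)
  have h1fix : (1 : X.subgroupOf X') ∈ MulAction.fixedPoints X' (X.subgroupOf X') := fun a =>
    Subtype.ext (by show a * (1 : X') * a⁻¹ = 1; simp)
  obtain ⟨⟨⟨z, hzX'⟩, hzX⟩, hzfix, hz1⟩ :=
    hpg.exists_fixed_point_of_prime_dvd_card_of_fixed_point (X.subgroupOf X') hd h1fix
  have hzc : ∀ a ∈ X', a * z = z * a := by
    intro a ha
    have h := congrArg (fun v : X.subgroupOf X' => ((v : X') : G)) (hzfix ⟨a, ha⟩)
    exact mul_inv_eq_iff_eq_mul.1 h
  have hzne : z ≠ 1 := fun h => hz1 (Subtype.ext (Subtype.ext h.symm))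
  have hzd : orderOf z ∣ 2 ^ 4 := by
    rw [show (2 : ℕ) ^ 4 = Nat.card X' by rw [hX'c]; norm_num]
    exact Subgroup.orderOf_dvd_natCard _ hzX'
  obtain ⟨i, hi, hie⟩ := (Nat.dvd_prime_pow Nat.prime_two).1 hzd
  obtain ⟨i, rfl⟩ := Nat.exists_eq_succ_of_ne_zero (show i ≠ 0 by
    rintro rfl
    exact hzne ((orderOf_eq_one_iff (x := z)).1 (by rw [hie, pow_zero])))
  set w := z ^ 2 ^ i with hw
  have hwX : w ∈ X := pow_mem (mem_subgroupOf.1 hzX) _
  have hwo : orderOf w = 2 := by
    rw [hw, orderOf_pow, hie, Nat.gcd_eq_right (Nat.pow_dvd_pow 2 (Nat.le_succ i)),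
      Nat.pow_div (Nat.le_succ i) (by norm_num), show i.succ - i = 1 by omega, pow_one]
  have hwc : ∀ a ∈ X', a * w = w * a := fun a ha =>
    ((show Commute a z from hzc a ha).pow_right _).eq
  have hwP : Inverts P w := by
    by_contra hni
    have := card_le_four hG P hwX.1 hwo hni X' hX'N
      (inf_eq_bot_of_two_pow hG P X' ⟨4, by rw [hX'c]; norm_num⟩) hwc
    omega
  have hwD : ¬ Inverts D w := fun h => hn ⟨hPD, w, hwP, h⟩
  exact hgt (card_le_four hG D hwX.2 hwo hwD X inf_le_right
    (inf_eq_bot_of_two_pow hG D X ⟨j, hje⟩) (fun a ha => hwc a (hXX' ha)))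

include F in
theorem Frame.card_nonadj : Nat.card {D : Sylow 3 G // P ≠ D ∧ ¬ Adj P D} = 36 := by
  classical
  have h1 := F.card_neighbors
  have h2 := card_vertices hG
  rw [Nat.card_eq_fintype_card, Fintype.card_subtype] at h1 ⊢
  rw [Nat.card_eq_fintype_card, ← Finset.card_univ] at h2
  have h3 := Finset.card_filter_add_card_filter_not (s := (Finset.univ : Finset (Sylow 3 G)))
    (fun R => Adj P R)
  have h4 : (Finset.univ.filter fun R => ¬ Adj P R) =
      insert P (Finset.univ.filter fun D => P ≠ D ∧ ¬ Adj P D) := by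
    ext R
    simp only [Finset.mem_filter, Finset.mem_univ, true_and, Finset.mem_insert]
    constructor
    · intro h
      by_cases hPR : R = P
      · exact Or.inl hPR
      · exact Or.inr ⟨Ne.symm hPR, h⟩
    · rintro (rfl | h)
      · exact fun h => h.1 rfl
      · exact h.2
  rw [h4, Finset.card_insert_of_notMem (by simp)] at h3
  omega

omit F in
/-- The stabiliser of `P` is transitive on the non-adjacent vertices. -/
theorem nonadj_trans {D D' : Sylow 3 G} (hPD : P ≠ D) (hn : ¬ Adj P D) (hPD' : P ≠ D')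
    (hn' : ¬ Adj P D') : ∃ g : G, g • P = P ∧ g • D = D' := by
  classical
  obtain ⟨F⟩ := exists_frame hG P
  set N := normalizer ((P : Subgroup G) : Set G) with hN
  have hsub : MulAction.orbit N D ⊆ {D : Sylow 3 G | P ≠ D ∧ ¬ Adj P D} := by
    rintro R ⟨g, rfl⟩
    have hg : (g : G) • P = P := smul_fixed_iff.2 g.2
    refine ⟨fun h => hPD ((MulAction.injective (g : G)) (hg.trans h)), fun h => hn ?_⟩
    exact (adj_smul_iff (g : G)).1 (hg.symm ▸ h)
  have h := (MulAction.stabilizer N D).card_mul_index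
  have hst : MulAction.stabilizer N D = (normalizer ((D : Subgroup G) : Set G)).subgroupOf N := by
    ext g
    rw [MulAction.mem_stabilizer_iff, mem_subgroupOf]
    exact smul_fixed_iff
  have hle := card_stabilizer_le (hG := hG) hPD hn
  rw [MulAction.index_stabilizer, hst, ← inf_subgroupOf_right,
    Nat.card_congr (subgroupOfEquivOfLe inf_le_right).toEquiv, inf_comm,
    show Nat.card N = 144 from card_normalizer_sylow_three hG P] at h
  have h36 : ({D : Sylow 3 G | P ≠ D ∧ ¬ Adj P D} : Set _).ncard = 36 := by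
    rw [← Nat.card_coe_set_eq]; exact F.card_nonadj
  have heq : MulAction.orbit N D = {D : Sylow 3 G | P ≠ D ∧ ¬ Adj P D} :=
    Set.eq_of_subset_of_ncard_le hsub (by rw [h36]; nlinarith)
  have hmem : D' ∈ MulAction.orbit N D := heq.symm ▸ (⟨hPD', hn'⟩ : P ≠ D' ∧ ¬ Adj P D')
  obtain ⟨g, hg⟩ := hmem
  exact ⟨(g : G), smul_fixed_iff.2 g.2, hg⟩

/-- The number of common neighbours. -/
noncomputable def common (P Q : Sylow 3 G) : ℕ := Nat.card {R : Sylow 3 G // Adj P R ∧ Adj Q R}

omit F hG in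
omit [IsSimpleGroup G] [Fintype G] in
theorem common_smul (g : G) (P Q : Sylow 3 G) : common (g • P) (g • Q) = common P Q := by
  unfold common
  refine (Nat.card_congr ((MulAction.toPerm g).subtypeEquiv fun R => ?_)).symm
  show _ ↔ Adj (g • P) (g • R) ∧ Adj (g • Q) (g • R)
  rw [adj_smul_iff, adj_smul_iff]

omit F in
theorem common_self : common P P = 18 := by
  obtain ⟨F⟩ := exists_frame hG P
  rw [← F.card_neighbors]
  unfold common
  simp only [and_self]

theorem common_adj {A B : Sylow 3 G} (h : Adj A B) : common A B = common P F.Q := by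
  obtain ⟨c, hc⟩ := MulAction.exists_smul_eq G A P
  have h' : Adj P (c • B) := hc ▸ h.smul c
  obtain ⟨g, hg, hgQ⟩ := F.adj_trans h'
  rw [← common_smul c A B, hc, ← hgQ]
  nth_rw 1 [← hg]
  exact common_smul g P F.Q

omit F in
theorem common_nonadj {D : Sylow 3 G} (hPD : P ≠ D) (hn : ¬ Adj P D) {A B : Sylow 3 G}
    (hAB : A ≠ B) (h : ¬ Adj A B) : common A B = common P D := by
  obtain ⟨c, hc⟩ := MulAction.exists_smul_eq G A P
  have h1 : P ≠ c • B := fun e => hAB ((MulAction.injective c) (hc.trans e))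
  have h2 : ¬ Adj P (c • B) := fun e => h ((adj_smul_iff c).1 (hc.symm ▸ e))
  obtain ⟨g, hg, hgD⟩ := nonadj_trans (hG := hG) hPD hn h1 h2
  rw [← common_smul c A B, hc, ← hgD]
  nth_rw 1 [← hg]
  exact common_smul g P D

/-- The counting identity of the parameters. -/
theorem Frame.count {D : Sylow 3 G} (hPD : P ≠ D) (hn : ¬ Adj P D) :
    18 + 18 * common P F.Q + 36 * common P D = 324 := by
  classical
  have h18 : ∀ R : Sylow 3 G, (Finset.univ.filter fun X => Adj R X).card = 18 := by
    intro R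
    obtain ⟨F'⟩ := exists_frame hG R
    rw [← F'.card_neighbors, Nat.card_eq_fintype_card, Fintype.card_subtype]
  have hc : ∀ X, common P X = ∑ R ∈ Finset.univ.filter (fun R => Adj P R), if Adj R X then 1 else 0 := by
    intro X
    rw [Finset.sum_boole, Finset.filter_filter]
    unfold common
    rw [Nat.card_eq_fintype_card, Fintype.card_subtype]
    simp only [Nat.cast_id]
    congr 1
    exact Finset.filter_congr fun R _ => ⟨fun h => ⟨h.1, h.2.symm⟩, fun h => ⟨h.1, h.2.symm⟩⟩
  have htot : ∑ X : Sylow 3 G, common P X = 324 := by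
    rw [Finset.sum_congr rfl (fun X _ => hc X), Finset.sum_comm,
      Finset.sum_congr rfl (fun R _ => by rw [Finset.sum_boole, Nat.cast_id, h18 R]),
      Finset.sum_const, h18 P, smul_eq_mul]
  have hA := h18 P
  have hN : (Finset.univ.filter fun X => P ≠ X ∧ ¬ Adj P X).card = 36 := by
    rw [← Fintype.card_subtype, ← Nat.card_eq_fintype_card]
    exact F.card_nonadj
  have hsplit : (Finset.univ : Finset (Sylow 3 G)) = insert P
      ((Finset.univ.filter fun X => Adj P X) ∪ (Finset.univ.filter fun X => P ≠ X ∧ ¬ Adj P X)) := by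
    ext X
    simp only [Finset.mem_univ, Finset.mem_insert, Finset.mem_union, Finset.mem_filter, true_and,
      true_iff]
    by_cases h1 : X = P
    · exact Or.inl h1
    · by_cases h2 : Adj P X
      · exact Or.inr (Or.inl h2)
      · exact Or.inr (Or.inr ⟨Ne.symm h1, h2⟩)
  rw [hsplit, Finset.sum_insert (by
      simp only [Finset.mem_union, Finset.mem_filter, Finset.mem_univ, true_and, not_or]
      exact ⟨fun h => h.1 rfl, fun h => h.1 rfl⟩),
    Finset.sum_union (Finset.disjoint_left.2 fun X h1 h2 =>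
      (Finset.mem_filter.1 h2).2.2 (Finset.mem_filter.1 h1).2), common_self (P := P) (hG := hG),
    Finset.sum_congr rfl (fun X hX => common_adj F (A := P) (Finset.mem_filter.1 hX).2),
    Finset.sum_congr (s₁ := Finset.univ.filter fun X => P ≠ X ∧ ¬ Adj P X) rfl
      (fun X hX => common_nonadj (hG := hG) hPD hn (Finset.mem_filter.1 hX).2.1 (Finset.mem_filter.1 hX).2.2),
    Finset.sum_const, Finset.sum_const, hA, hN, smul_eq_mul, smul_eq_mul] at htot
  linarith

/-- No strongly regular graph with parameters `(55,18,1,8)` or `(55,18,17,0)`. -/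
theorem Frame.not_parameters {D : Sylow 3 G} (hPD : P ≠ D) (hn : ¬ Adj P D) :
    ¬ (common P F.Q = 1 ∧ common P D = 8) ∧ ¬ (common P F.Q = 17 ∧ common P D = 0) := by
  classical
  have h18 : ∀ R : Sylow 3 G, (Finset.univ.filter fun X => Adj R X).card = 18 := by
    intro R
    obtain ⟨F'⟩ := exists_frame hG R
    rw [← F'.card_neighbors, Nat.card_eq_fintype_card, Fintype.card_subtype]
  have h55 : Fintype.card (Sylow 3 G) = 55 := by
    rw [← Nat.card_eq_fintype_card]; exact card_vertices hG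
  have hcommon : ∀ X Y : Sylow 3 G, (Finset.univ.filter fun R => Adj X R ∧ Adj R Y).card = common X Y := by
    intro X Y
    unfold common
    rw [Nat.card_eq_fintype_card, Fintype.card_subtype]
    exact congrArg Finset.card
      (Finset.filter_congr fun R _ => ⟨fun h => ⟨h.1, h.2.symm⟩, fun h => ⟨h.1, h.2.symm⟩⟩)
  have hval : ∀ X Y : Sylow 3 G, common X Y =
      if X = Y then 18 else if Adj X Y then common P F.Q else common P D := by
    intro X Y
    split
    · next h => subst h; exact common_self (hG := hG)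
    · next h =>
      split
      · next h' => exact common_adj F h'
      · next h' => exact common_nonadj (hG := hG) hPD hn h h'
  have hMM : ∀ (p : ℕ) (X Y : Sylow 3 G),
      ((Matrix.of fun X Y : Sylow 3 G => if Adj X Y then (1 : ZMod p) else 0) *
        (Matrix.of fun X Y : Sylow 3 G => if Adj X Y then (1 : ZMod p) else 0)) X Y =
      (common X Y : ZMod p) := by
    intro p X Y
    rw [Matrix.mul_apply, ← hcommon X Y]
    simp only [Matrix.of_apply, ite_mul, one_mul, zero_mul]
    rw [Finset.card_filter, Nat.cast_sum]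
    refine Finset.sum_congr rfl fun R _ => ?_
    by_cases h1 : Adj X R <;> by_cases h2 : Adj R Y <;> simp [h1, h2]
  constructor
  · rintro ⟨hl, hm⟩
    haveI : Fact (Nat.Prime 7) := ⟨by norm_num⟩
    set M : Matrix (Sylow 3 G) (Sylow 3 G) (ZMod 7) :=
      Matrix.of fun X Y => if Adj X Y then 1 else 0 with hM
    set J : Matrix (Sylow 3 G) (Sylow 3 G) (ZMod 7) := Matrix.of fun _ _ => 1 with hJ
    have hM2 : M * M = (3 : ZMod 7) • 1 + J := by
      ext X Y
      rw [hM, hMM 7 X Y, hval X Y, hl, hm]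
      simp only [Matrix.add_apply, Matrix.smul_apply, hJ, Matrix.of_apply, Matrix.one_apply,
        smul_eq_mul]
      by_cases h : X = Y
      · simp only [h, if_true]; (first | rfl | decide +kernel +revert)
      · by_cases h' : Adj X Y
        · simp only [h, h', if_true, if_false]; (first | rfl | decide +kernel +revert)
        · simp only [h, h', if_false]; (first | rfl | decide +kernel +revert)
    have hMJ : M * J = (4 : ZMod 7) • J := by
      ext X Y
      rw [Matrix.mul_apply]
      simp only [hM, hJ, Matrix.of_apply, mul_one, Matrix.smul_apply, smul_eq_mul]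
      rw [Finset.sum_boole, h18 X]
      first | rfl | decide +kernel +revert
    have hJJ : J * J = (6 : ZMod 7) • J := by
      ext X Y
      rw [Matrix.mul_apply]
      simp only [hJ, Matrix.of_apply, mul_one, Finset.sum_const, Finset.card_univ, h55,
        Matrix.smul_apply, smul_eq_mul, nsmul_eq_mul]
      first | rfl | decide +kernel +revert
    have h7 : M ^ 7 = (6 : ZMod 7) • M + (6 : ZMod 7) • J := by
      rw [show M ^ 7 = M * ((M * M) * (M * M) * (M * M)) by
        simp only [pow_succ, pow_zero, one_mul, mul_assoc], hM2]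
      simp only [add_mul, mul_add, smul_mul_assoc, mul_smul_comm, one_mul, mul_one, smul_add, hJJ,
        smul_smul, hMJ]
      ext X Y
      simp only [Matrix.add_apply, Matrix.smul_apply, smul_eq_mul]
      generalize M X Y = a
      generalize J X Y = b
      exact zmod_seven a b
    have htr := ZMod.trace_pow_card M
    have hM0 : M.trace = 0 := by
      simp only [Matrix.trace, Matrix.diag, hM, Matrix.of_apply]
      refine Finset.sum_eq_zero fun X _ => if_neg fun h => h.1 rfl
    rw [h7, Matrix.trace_add, Matrix.trace_smul, Matrix.trace_smul, hM0] at htr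
    have hJt : J.trace = (55 : ZMod 7) := by
      simp [Matrix.trace, hJ, h55]
    rw [hJt] at htr
    exact zmod_seven_trace htr
  · rintro ⟨hl, hm⟩
    haveI : Fact (Nat.Prime 19) := ⟨by norm_num⟩
    set M : Matrix (Sylow 3 G) (Sylow 3 G) (ZMod 19) :=
      Matrix.of fun X Y => if Adj X Y then 1 else 0 with hM
    have hM2 : (M + 1) * (M + 1) = 0 := by
      rw [add_mul, mul_add, one_mul, mul_one]
      ext X Y
      simp only [Matrix.add_apply, hM, hMM 19 X Y, hval X Y, hl, hm, Matrix.of_apply, Matrix.one_apply,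
        Matrix.zero_apply]
      by_cases h : X = Y
      · subst h
        have : ¬ Adj X X := fun h => h.1 rfl
        simp only [this, if_true, if_false]
        first | rfl | decide +kernel +revert
      · by_cases h' : Adj X Y
        · simp only [h, h', if_true, if_false]; (first | rfl | decide +kernel +revert)
        · simp only [h, h', if_false]; (first | rfl | decide +kernel +revert)
    have h19 : (M + 1) ^ 19 = 0 := by
      rw [show (M + 1) ^ 19 = (M + 1) ^ 2 * (M + 1) ^ 17 from pow_add _ 2 17, pow_two, hM2, zero_mul]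
    have htr := ZMod.trace_pow_card (M + 1)
    rw [h19, Matrix.trace_zero, Matrix.trace_add, Matrix.trace_one, h55] at htr
    have hM0 : M.trace = 0 := by
      simp only [Matrix.trace, Matrix.diag, hM, Matrix.of_apply]
      refine Finset.sum_eq_zero fun X _ => if_neg fun h => h.1 rfl
    rw [hM0, zero_add, ZMod.pow_card] at htr
    exact zmod_nineteen_trace htr.symm

/-- The neighbourhood of `P` consists of two cliques of size `9`, matched by edges. -/
theorem Frame.neighborhood :
    (∀ x ∈ (P : Subgroup G), x ≠ 1 → Adj F.Q (x • F.Q)) ∧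
      (∀ x ∈ (P : Subgroup G), x ≠ 1 → ¬ Adj F.Q (x • F.S)) := by
  classical
  have hQS : Adj F.Q F.S := ⟨F.hQS, F.t, F.hQ, F.hS⟩
  have hmove : ∀ (R : Sylow 3 G), (∀ k ∈ F.K, k • R = R) → ∀ x ∈ (P : Subgroup G), x ≠ 1 →
      ∀ y ∈ (P : Subgroup G), y ≠ 1 → Adj F.Q (x • R) → Adj F.Q (y • R) := by
    intro R hR x hx hx1 y hy hy1 h
    obtain ⟨k, hk, hkx⟩ := F.exists_conj hx hx1 hy hy1
    have h1 := h.smul k
    rw [((F.memK k).1 hk).2.2.1, ← mul_smul] at h1
    rwa [← hkx, mul_smul, show k⁻¹ • R = R by nth_rw 1 [← hR k hk]; rw [inv_smul_smul]]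
  have hKQ : ∀ k ∈ F.K, k • F.Q = F.Q := fun k hk => ((F.memK k).1 hk).2.2.1
  have hKS : ∀ k ∈ F.K, k • F.S = F.S := fun k hk => ((F.memK k).1 hk).2.2.2
  obtain ⟨x₀, hx₀, hx₀1⟩ : ∃ x ∈ (P : Subgroup G), x ≠ 1 := by
    by_contra h
    push Not at h
    have : (P : Subgroup G) = ⊥ := (Subgroup.eq_bot_iff_forall _).2 h
    have h9 := card_sylow_three hG P
    rw [this, Subgroup.card_bot] at h9
    norm_num at h9
  -- the common neighbours in terms of the halves
  obtain ⟨D, hPD, hn⟩ : ∃ D, P ≠ D ∧ ¬ Adj P D := by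
    have h := F.card_nonadj
    by_contra hh
    push Not at hh
    haveI : IsEmpty {D : Sylow 3 G // P ≠ D ∧ ¬ Adj P D} := ⟨fun d => d.2.2 (hh d.1 d.2.1)⟩
    rw [Nat.card_of_isEmpty] at h
    omega
  obtain ⟨np1, np2⟩ := F.not_parameters hPD hn
  have hcount := F.count hPD hn
  have hcom : common P F.Q =
      Nat.card {x : (P : Subgroup G) // Adj F.Q ((x : G) • F.Q)} +
      Nat.card {x : (P : Subgroup G) // Adj F.Q ((x : G) • F.S)} := by
    rw [← Nat.card_sum]
    unfold common
    refine (Nat.card_eq_of_bijective (Sum.elim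
      (fun x : {x : (P : Subgroup G) // Adj F.Q ((x : G) • F.Q)} =>
        (⟨((x : (P : Subgroup G)) : G) • F.Q, by
          have h := F.adjQ.smul ((x : (P : Subgroup G)) : G)
          rwa [smul_fixed_iff.2 (Subgroup.le_normalizer (x : (P : Subgroup G)).2)] at h, x.2⟩ :
            {R : Sylow 3 G // Adj P R ∧ Adj F.Q R}))
      (fun x : {x : (P : Subgroup G) // Adj F.Q ((x : G) • F.S)} =>
        (⟨((x : (P : Subgroup G)) : G) • F.S, by
          have h := F.adjS.smul ((x : (P : Subgroup G)) : G)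
          rwa [smul_fixed_iff.2 (Subgroup.le_normalizer (x : (P : Subgroup G)).2)] at h, x.2⟩ :
            {R : Sylow 3 G // Adj P R ∧ Adj F.Q R}))) ⟨?_, ?_⟩).symm
    · rintro (a | a) (b | b) h
      · exact congrArg Sum.inl (Subtype.ext (Subtype.ext
          (eq_of_smul_eq hG F.hPQ a.1.2 b.1.2 (congrArg Subtype.val h))))
      · exact absurd (congrArg Subtype.val h)
          (half_disjoint hG P F.ht F.hPQ F.hQS F.hQ F.hS a.1.2 b.1.2)
      · exact absurd (congrArg Subtype.val h).symm
          (half_disjoint hG P F.ht F.hPQ F.hQS F.hQ F.hS b.1.2 a.1.2)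
      · exact congrArg Sum.inr (Subtype.ext (Subtype.ext
          (eq_of_smul_eq hG F.hPS a.1.2 b.1.2 (congrArg Subtype.val h))))
    · rintro ⟨R, hR, hRQ⟩
      obtain ⟨x, hx, h | h⟩ := adj_cases hG P F.ht F.hall hR
      · exact ⟨Sum.inl ⟨⟨x, hx⟩, h ▸ hRQ⟩, Subtype.ext h.symm⟩
      · exact ⟨Sum.inr ⟨⟨x, hx⟩, h ▸ hRQ⟩, Subtype.ext h.symm⟩
  have hPc := card_sylow_three hG P
  rw [Nat.card_eq_fintype_card] at hPc
  -- the inner and cross counts
  have hin : (∀ x ∈ (P : Subgroup G), x ≠ 1 → Adj F.Q (x • F.Q)) ∧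
        Nat.card {x : (P : Subgroup G) // Adj F.Q ((x : G) • F.Q)} = 8 ∨
      (∀ x ∈ (P : Subgroup G), ¬ Adj F.Q (x • F.Q)) ∧
        Nat.card {x : (P : Subgroup G) // Adj F.Q ((x : G) • F.Q)} = 0 := by
    by_cases h : Adj F.Q (x₀ • F.Q)
    · left
      have hA := fun y hy hy1 => hmove F.Q hKQ x₀ hx₀ hx₀1 y hy hy1 h
      refine ⟨hA, ?_⟩
      have e : ∀ x : (P : Subgroup G), Adj F.Q ((x : G) • F.Q) ↔ x ≠ 1 := fun x => by
        refine ⟨fun h hx => ?_, fun hx => hA _ x.2 fun h => hx (Subtype.ext h)⟩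
        rw [hx, OneMemClass.coe_one, one_smul] at h
        exact h.1 rfl
      simp only [e]
      rw [Nat.card_eq_fintype_card, Fintype.card_subtype_compl, Fintype.card_subtype_eq, hPc]
    · right
      have hA : ∀ x ∈ (P : Subgroup G), ¬ Adj F.Q (x • F.Q) := by
        intro x hx ha
        by_cases hx1 : x = 1
        · rw [hx1, one_smul] at ha; exact ha.1 rfl
        · exact h (hmove F.Q hKQ x hx hx1 x₀ hx₀ hx₀1 ha)
      refine ⟨hA, ?_⟩
      haveI : IsEmpty {x : (P : Subgroup G) // Adj F.Q ((x : G) • F.Q)} :=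
        ⟨fun x => hA _ x.1.2 x.2⟩
      exact Nat.card_of_isEmpty
  have hcr : (∀ x ∈ (P : Subgroup G), Adj F.Q (x • F.S)) ∧
        Nat.card {x : (P : Subgroup G) // Adj F.Q ((x : G) • F.S)} = 9 ∨
      (∀ x ∈ (P : Subgroup G), x ≠ 1 → ¬ Adj F.Q (x • F.S)) ∧
        Nat.card {x : (P : Subgroup G) // Adj F.Q ((x : G) • F.S)} = 1 := by
    by_cases h : Adj F.Q (x₀ • F.S)
    · left
      have hA : ∀ x ∈ (P : Subgroup G), Adj F.Q (x • F.S) := by
        intro x hx
        by_cases hx1 : x = 1
        · rw [hx1, one_smul]; exact hQS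
        · exact hmove F.S hKS x₀ hx₀ hx₀1 x hx hx1 h
      refine ⟨hA, ?_⟩
      rw [Nat.card_congr (Equiv.subtypeUnivEquiv fun x : (P : Subgroup G) => hA _ x.2),
        Nat.card_eq_fintype_card, hPc]
    · right
      have hA : ∀ x ∈ (P : Subgroup G), x ≠ 1 → ¬ Adj F.Q (x • F.S) :=
        fun x hx hx1 ha => h (hmove F.S hKS x hx hx1 x₀ hx₀ hx₀1 ha)
      refine ⟨hA, ?_⟩
      have e : ∀ x : (P : Subgroup G), Adj F.Q ((x : G) • F.S) ↔ x = 1 := fun x => by
        refine ⟨fun h => ?_, fun hx => by rw [hx, OneMemClass.coe_one, one_smul]; exact hQS⟩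
        by_contra hx
        exact hA _ x.2 (fun h => hx (Subtype.ext h)) h
      simp only [e]
      rw [Nat.card_eq_fintype_card, Fintype.card_subtype_eq]
  rcases hin with ⟨hA, c1⟩ | ⟨hA, c1⟩ <;> rcases hcr with ⟨hB, c2⟩ | ⟨hB, c2⟩ <;>
    rw [c1, c2] at hcom
  · exact absurd ⟨hcom, by omega⟩ np2
  · exact ⟨hA, hB⟩
  · -- a complete bipartite neighbourhood has too many common neighbours
    exfalso
    set Q' := x₀ • F.Q with hQ'
    have hne : F.Q ≠ Q' := fun e =>
      hx₀1 (eq_of_smul_eq hG F.hPQ (one_mem _) hx₀ (by rw [one_smul]; exact e)).symm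
    have hQQ' : ¬ Adj F.Q Q' := hA x₀ hx₀
    have hc4 := common_nonadj (hG := hG) hPD hn hne hQQ'
    have hge : 10 ≤ common F.Q Q' := by
      have hP' : Adj Q' P := by
        have h := F.adjQ.smul x₀
        rw [smul_fixed_iff.2 (Subgroup.le_normalizer hx₀)] at h
        exact h.symm
      let f : Option (P : Subgroup G) → {R : Sylow 3 G // Adj F.Q R ∧ Adj Q' R} := fun o =>
        match o with
        | none => ⟨P, F.adjQ.symm, hP'⟩
        | some x => ⟨(x : G) • F.S, hB _ x.2, by
            have h := (hB _ (mul_mem (inv_mem hx₀) x.2)).smul x₀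
            rwa [← mul_smul, ← mul_assoc, mul_inv_cancel, one_mul] at h⟩
      have hf : Function.Injective f := by
        rintro (_ | a) (_ | b) h
        · rfl
        · exfalso
          have e : P = (b : G) • F.S := congrArg Subtype.val h
          exact F.hPS ((MulAction.injective (b : G))
            ((smul_fixed_iff.2 (Subgroup.le_normalizer b.2)).trans e))
        · exfalso
          have e : P = (a : G) • F.S := (congrArg Subtype.val h).symm
          exact F.hPS ((MulAction.injective (a : G))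
            ((smul_fixed_iff.2 (Subgroup.le_normalizer a.2)).trans e))
        · exact congrArg some (Subtype.ext
            (eq_of_smul_eq hG F.hPS a.2 b.2 (congrArg Subtype.val h)))
      have := Nat.card_le_card_of_injective f hf
      rwa [Nat.card_eq_fintype_card, Fintype.card_option, hPc] at this
    omega
  · exact absurd ⟨hcom, by omega⟩ np1

end H36.M11
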