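import Cfsg.Agent.H36.M11Graph
import Cfsg.Agent.H91.SharpTrans

/-!
# The eleven points of a simple group of order `7920`
-/

set_option autoImplicit false
set_option maxHeartbeats 800000

open Cfsg Subgroup

namespace H36.M11

universe u

variable {G : Type u} [Group G] [Fintype G] [IsSimpleGroup G]

/-- Ten vertices pairwise adjacent. -/
def IsLine (C : Finset (Sylow 3 G)) : Prop := C.card = 10 ∧ ∀ A ∈ C, ∀ B ∈ C, A ≠ B → Adj A B

/-- The eleven points. -/
abbrev Line (G : Type u) [Group G] := {C : Finset (Sylow 3 G) // IsLine C}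

omit [Fintype G] [IsSimpleGroup G] in
theorem IsLine.map {C : Finset (Sylow 3 G)} (h : IsLine C) (g : G) :
    IsLine (C.map (MulAction.toPerm g).toEmbedding) := by
  refine ⟨by rw [Finset.card_map, h.1], ?_⟩
  intro A hA B hB hne
  obtain ⟨a, ha, rfl⟩ := Finset.mem_map.1 hA
  obtain ⟨b, hb, rfl⟩ := Finset.mem_map.1 hB
  exact (h.2 a ha b hb fun e => hne (by rw [e])).smul g

noncomputable instance instMulActionLine : MulAction G (Line G) where
  smul g C := ⟨C.1.map (MulAction.toPerm g).toEmbedding, C.2.map g⟩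
  one_smul C := Subtype.ext (by
    show C.1.map (MulAction.toPerm (1 : G)).toEmbedding = C.1
    ext A
    simp)
  mul_smul g h C := Subtype.ext (by
    show C.1.map (MulAction.toPerm (g * h)).toEmbedding =
      (C.1.map (MulAction.toPerm h).toEmbedding).map (MulAction.toPerm g).toEmbedding
    rw [Finset.map_map]
    congr 1
    exact Function.Embedding.ext fun A => mul_smul g h A)

omit [Fintype G] [IsSimpleGroup G] in
theorem mem_smul_line {g : G} {C : Line G} {A : Sylow 3 G} :
    A ∈ (g • C).1 ↔ g⁻¹ • A ∈ C.1 := by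
  show A ∈ C.1.map (MulAction.toPerm g).toEmbedding ↔ _
  simp [Finset.mem_map, eq_inv_smul_iff]

variable {hG : Nat.card G = 7920} {P : Sylow 3 G} (F : Frame hG P)

/-- The same frame with the two other vertices exchanged. -/
def Frame.swap : Frame hG P where
  t := F.t
  Q := F.S
  S := F.Q
  K := F.K
  ht := F.ht
  hQ := F.hS
  hS := F.hQ
  hPQ := F.hPS
  hPS := F.hPQ
  hQS := F.hQS.symm
  hall T hT := by rcases F.hall T hT with h | h | h <;> simp [h]
  cardK := F.cardK
  memK k := by rw [F.memK]; tauto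
  invK := F.invK
  n := F.n
  hn := F.hn
  hnP := F.hnP
  hnQ := F.hnS
  hnS := F.hnQ

include F in
theorem Frame.smulP {x : G} (hx : x ∈ (P : Subgroup G)) : x • P = P :=
  smul_fixed_iff.2 (Subgroup.le_normalizer hx)

/-- The vertices of the line through `P` and `Q`. -/
noncomputable def Frame.lineSet : Finset (Sylow 3 G) :=
  open scoped Classical in
  insert P (Finset.univ.filter fun R => ∃ x ∈ (P : Subgroup G), R = x • F.Q)

theorem Frame.mem_lineSet {R : Sylow 3 G} :
    R ∈ F.lineSet ↔ R = P ∨ ∃ x ∈ (P : Subgroup G), R = x • F.Q := by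
  classical
  simp [Frame.lineSet]

theorem Frame.adj_half {x : G} (hx : x ∈ (P : Subgroup G)) : Adj P (x • F.Q) := by
  have h := F.adjQ.smul x
  rwa [F.smulP hx] at h

theorem Frame.isLine : IsLine F.lineSet := by
  classical
  obtain ⟨hin, -⟩ := F.neighborhood
  refine ⟨?_, ?_⟩
  · rw [Frame.lineSet, Finset.card_insert_of_notMem, ← Fintype.card_subtype,
      ← Nat.card_eq_fintype_card]
    · have h : Nat.card {R : Sylow 3 G // ∃ x ∈ (P : Subgroup G), R = x • F.Q} = 9 := by
        rw [← card_sylow_three hG P]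
        refine (Nat.card_eq_of_bijective
          (fun x : ↥(P : Subgroup G) => (⟨(x : G) • F.Q, x, x.2, rfl⟩ :
            {R : Sylow 3 G // ∃ x ∈ (P : Subgroup G), R = x • F.Q})) ⟨?_, ?_⟩).symm
        · exact fun a b h => Subtype.ext (eq_of_smul_eq hG F.hPQ a.2 b.2 (congrArg Subtype.val h))
        · rintro ⟨R, x, hx, rfl⟩
          exact ⟨⟨x, hx⟩, rfl⟩
      omega
    · simp only [Finset.mem_filter, Finset.mem_univ, true_and, not_exists, not_and]
      exact fun x hx h => (F.adj_half hx).1 h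
  · intro A hA B hB hne
    rcases F.mem_lineSet.1 hA with rfl | ⟨x, hx, rfl⟩ <;>
      rcases F.mem_lineSet.1 hB with rfl | ⟨y, hy, rfl⟩
    · exact absurd rfl hne
    · exact F.adj_half hy
    · exact (F.adj_half hx).symm
    · have hxy : x⁻¹ * y ≠ 1 := fun e => hne (by rw [inv_mul_eq_one.1 e])
      have h := (hin _ (mul_mem (inv_mem hx) hy) hxy).smul x
      rwa [← mul_smul, ← mul_assoc, mul_inv_cancel, one_mul] at h

/-- The line through `P` and `Q`. -/
noncomputable def Frame.line : Line G := ⟨F.lineSet, F.isLine⟩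

theorem Frame.P_mem : P ∈ F.line.1 := F.mem_lineSet.2 (Or.inl rfl)

theorem Frame.Q_mem : F.Q ∈ F.line.1 :=
  F.mem_lineSet.2 (Or.inr ⟨1, one_mem _, (one_smul _ _).symm⟩)

theorem Frame.S_notMem : F.S ∉ F.line.1 := by
  intro h
  rcases F.mem_lineSet.1 h with h | ⟨x, hx, h⟩
  · exact F.hPS h.symm
  · exact half_disjoint hG P F.ht F.hPQ F.hQS F.hQ F.hS hx (one_mem _) (by rw [one_smul]; exact h.symm)

/-- A line containing `P` and `Q` is `F.line`. -/
theorem Frame.line_unique {C : Line G} (hP : P ∈ C.1) (hQ : F.Q ∈ C.1) : C = F.line := by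
  classical
  obtain ⟨-, hcross⟩ := F.neighborhood
  have hsub : ∀ R ∈ C.1, R ∈ F.lineSet ∨ R = F.S := by
    intro R hR
    by_cases hRP : R = P
    · exact Or.inl (F.mem_lineSet.2 (Or.inl hRP))
    obtain ⟨x, hx, h | h⟩ := adj_cases hG P F.ht F.hall (C.2.2 P hP R hR (Ne.symm hRP))
    · exact Or.inl (F.mem_lineSet.2 (Or.inr ⟨x, hx, h⟩))
    · right
      by_contra hne
      have hx1 : x ≠ 1 := fun e => hne (by rw [h, e, one_smul])
      have hRQ : F.Q ≠ R := fun e => half_disjoint hG P F.ht F.hPQ F.hQS F.hQ F.hS (one_mem _) hx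
        (by rw [one_smul, e, h])
      exact hcross x hx hx1 (h ▸ C.2.2 _ hQ R hR hRQ)
  by_cases hS : F.S ∈ C.1
  · exfalso
    obtain ⟨R, hR, hRn⟩ : ∃ R ∈ C.1, R ∉ ({P, F.Q, F.S} : Finset (Sylow 3 G)) := by
      refine Finset.exists_mem_notMem_of_card_lt_card ?_
      refine lt_of_le_of_lt Finset.card_le_three ?_
      rw [C.2.1]; norm_num
    simp only [Finset.mem_insert, Finset.mem_singleton, not_or] at hRn
    rcases hsub R hR with h | h
    · rcases F.mem_lineSet.1 h with h | ⟨x, hx, rfl⟩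
      · exact hRn.1 h
      · have hx1 : x⁻¹ ≠ 1 := fun e => hRn.2.1 (by rw [inv_eq_one.1 e, one_smul])
        have h := (C.2.2 _ hR _ hS hRn.2.2).smul x⁻¹
        rw [inv_smul_smul] at h
        exact hcross _ (inv_mem hx) hx1 h
    · exact hRn.2.2 h
  · refine Subtype.ext (Finset.eq_of_subset_of_card_le (fun R hR => ?_) ?_)
    · rcases hsub R hR with h | h
      · exact h
      · exact absurd (h ▸ hR) hS
    · show F.lineSet.card ≤ _
      rw [F.isLine.1, C.2.1]

theorem Frame.smul_line {x : G} (hx : x ∈ (P : Subgroup G)) : x • F.line = F.line := by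
  refine Subtype.ext (Finset.ext fun R => ?_)
  rw [mem_smul_line]
  show x⁻¹ • R ∈ F.lineSet ↔ R ∈ F.lineSet
  rw [F.mem_lineSet, F.mem_lineSet, inv_smul_eq_iff, F.smulP hx]
  constructor
  · rintro (h | ⟨y, hy, h⟩)
    · exact Or.inl h
    · exact Or.inr ⟨x * y, mul_mem hx hy, by rw [mul_smul, ← h, smul_inv_smul]⟩
  · rintro (h | ⟨y, hy, h⟩)
    · exact Or.inl h
    · exact Or.inr ⟨x⁻¹ * y, mul_mem (inv_mem hx) hy, by rw [mul_smul, ← h]⟩

/-- There are exactly two lines through `P`. -/
theorem Frame.two_lines {C : Line G} (hP : P ∈ C.1) : C = F.line ∨ C = F.swap.line := by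
  classical
  obtain ⟨R, hR, hRP⟩ : ∃ R ∈ C.1, R ≠ P := Finset.exists_mem_ne (by rw [C.2.1]; norm_num) P
  obtain ⟨x, hx, h | h⟩ := adj_cases hG P F.ht F.hall (C.2.2 P hP R hR (Ne.symm hRP))
  · left
    have h1 : P ∈ (x⁻¹ • C).1 := mem_smul_line.2 (by rw [inv_inv, F.smulP hx]; exact hP)
    have h2 : F.Q ∈ (x⁻¹ • C).1 := mem_smul_line.2 (by rw [inv_inv, ← h]; exact hR)
    have h3 := F.line_unique h1 h2
    rw [inv_smul_eq_iff] at h3
    rw [h3, F.smul_line hx]
  · right
    have h1 : P ∈ (x⁻¹ • C).1 := mem_smul_line.2 (by rw [inv_inv, F.smulP hx]; exact hP)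
    have h2 : F.swap.Q ∈ (x⁻¹ • C).1 := mem_smul_line.2 (by rw [inv_inv]; show x • F.S ∈ _; rw [← h]; exact hR)
    have h3 := F.swap.line_unique h1 h2
    rw [inv_smul_eq_iff] at h3
    rw [h3, F.swap.smul_line hx]

theorem Frame.line_ne : F.line ≠ F.swap.line := fun h =>
  F.S_notMem (h ▸ F.swap.Q_mem)

theorem Frame.line_smul_n : F.n • F.line = F.swap.line := by
  refine F.swap.line_unique (mem_smul_line.2 ?_) (mem_smul_line.2 ?_)
  · rw [inv_smul_eq_iff.2 F.hnP.symm]; exact F.P_mem
  · show F.n⁻¹ • F.S ∈ _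
    rw [inv_smul_eq_iff.2 F.hnQ.symm]; exact F.Q_mem

omit F
include hG

/-- Two vertices lie on at most one line. -/
theorem line_eq_of_two {A B : Sylow 3 G} (hAB : A ≠ B) {C D : Line G} (hA : A ∈ C.1) (hB : B ∈ C.1)
    (hA' : A ∈ D.1) (hB' : B ∈ D.1) : C = D := by
  obtain ⟨F⟩ := exists_frame hG A
  obtain ⟨g, hgA, hgQ⟩ := F.adj_trans (C.2.2 A hA B hB hAB)
  have key : ∀ E : Line G, A ∈ E.1 → B ∈ E.1 → g⁻¹ • E = F.line := fun E h1 h2 =>
    F.line_unique (mem_smul_line.2 (by rw [inv_inv, hgA]; exact h1))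
      (mem_smul_line.2 (by rw [inv_inv, hgQ]; exact h2))
  exact (MulAction.injective g⁻¹) ((key C hA hB).trans (key D hA' hB').symm)

theorem card_lines_through (A : Sylow 3 G) : Nat.card {C : Line G // A ∈ C.1} = 2 := by
  classical
  obtain ⟨F⟩ := exists_frame hG A
  rw [Nat.card_eq_fintype_card, Fintype.card_subtype]
  rw [show (Finset.univ.filter fun C : Line G => A ∈ C.1) = {F.line, F.swap.line} from ?_,
    Finset.card_pair F.line_ne]
  ext C
  simp only [Finset.mem_filter, Finset.mem_univ, true_and, Finset.mem_insert, Finset.mem_singleton]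
  refine ⟨fun h => F.two_lines h, ?_⟩
  rintro (rfl | rfl)
  · exact F.P_mem
  · exact F.swap.P_mem

theorem card_line : Nat.card (Line G) = 11 := by
  classical
  have h1 : Nat.card (Σ C : Line G, {A : Sylow 3 G // A ∈ C.1}) =
      Nat.card (Σ A : Sylow 3 G, {C : Line G // A ∈ C.1}) :=
    Nat.card_congr
      { toFun := fun x => ⟨x.2.1, x.1, x.2.2⟩
        invFun := fun x => ⟨x.2.1, x.1, x.2.2⟩
        left_inv := fun x => rfl
        right_inv := fun x => rfl }
  rw [Nat.card_sigma, Nat.card_sigma, Finset.sum_congr rfl (g := fun _ => 10) (fun C _ => by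
      rw [Nat.card_eq_fintype_card, Fintype.card_coe, C.2.1]),
    Finset.sum_congr rfl (g := fun _ => 2) (fun A _ => card_lines_through (hG := hG) A),
    Finset.sum_const, Finset.sum_const, Finset.card_univ, Finset.card_univ, smul_eq_mul, smul_eq_mul,
    ← Nat.card_eq_fintype_card, ← Nat.card_eq_fintype_card, card_vertices hG] at h1
  omega

/-- Two lines meet. -/
theorem exists_meet {C D : Line G} (hCD : C ≠ D) : ∃ A, A ∈ C.1 ∧ A ∈ D.1 := by
  classical
  let f : Sylow 3 G → {s : Finset (Line G) // s ∈ Finset.powersetCard 2 Finset.univ} := fun A =>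
    ⟨Finset.univ.filter fun C => A ∈ C.1, Finset.mem_powersetCard.2 ⟨Finset.subset_univ _, by
      rw [← Fintype.card_subtype, ← Nat.card_eq_fintype_card]; exact card_lines_through (hG := hG) A⟩⟩
  have hf : Function.Injective f := by
    intro A B h
    by_contra hne
    have h' : (Finset.univ.filter fun C : Line G => A ∈ C.1) =
        Finset.univ.filter fun C : Line G => B ∈ C.1 := congrArg Subtype.val h
    have hc : 1 < (Finset.univ.filter fun C : Line G => A ∈ C.1).card := by
      rw [← Fintype.card_subtype, ← Nat.card_eq_fintype_card, card_lines_through (hG := hG) A]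
      norm_num
    obtain ⟨C, hC, D, hD, hCD⟩ := Finset.one_lt_card.1 hc
    have hC' := h' ▸ hC
    have hD' := h' ▸ hD
    simp only [Finset.mem_filter, Finset.mem_univ, true_and] at hC hD hC' hD'
    exact hCD (line_eq_of_two (hG := hG) hne hC hC' hD hD')
  have hb : Function.Bijective f := by
    refine (Nat.bijective_iff_injective_and_card f).2 ⟨hf, ?_⟩
    rw [card_vertices hG, Nat.card_eq_fintype_card, Fintype.card_coe, Finset.card_powersetCard,
      Finset.card_univ, ← Nat.card_eq_fintype_card, card_line (hG := hG)]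
    decide
  obtain ⟨A, hA⟩ := hb.2 ⟨{C, D}, Finset.mem_powersetCard.2 ⟨Finset.subset_univ _, Finset.card_pair hCD⟩⟩
  have hA' : (Finset.univ.filter fun C : Line G => A ∈ C.1) = {C, D} := congrArg Subtype.val hA
  have h1 : C ∈ (Finset.univ.filter fun C : Line G => A ∈ C.1) := hA' ▸ (by simp)
  have h2 : D ∈ (Finset.univ.filter fun C : Line G => A ∈ C.1) := hA' ▸ (by simp)
  exact ⟨A, (Finset.mem_filter.1 h1).2, (Finset.mem_filter.1 h2).2⟩

/-- The action on the eleven points is `4`-transitive. -/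
theorem isMultiplyPretransitive_line : MulAction.IsMultiplyPretransitive G (Line G) 4 := by
  classical
  obtain ⟨P⟩ := (inferInstance : Nonempty (Sylow 3 G))
  obtain ⟨F⟩ := exists_frame hG P
  obtain ⟨FQ⟩ := exists_frame hG F.Q
  -- the third line: the other line through `Q`
  obtain ⟨E₀, hE₀Q, hE₀ne⟩ : ∃ E : Line G, F.Q ∈ E.1 ∧ E ≠ F.line := by
    by_cases h : FQ.line = F.line
    · exact ⟨FQ.swap.line, FQ.swap.P_mem, fun e => FQ.line_ne (h.trans e.symm)⟩
    · exact ⟨FQ.line, FQ.P_mem, h⟩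
  have hE₀uniq : ∀ E : Line G, F.Q ∈ E.1 → E ≠ F.line → E = E₀ := by
    intro E hE hne
    rcases FQ.two_lines hE with h1 | h1 <;> rcases FQ.two_lines hE₀Q with h2 | h2 <;>
      rcases FQ.two_lines F.Q_mem with h3 | h3
    · exact h1.trans h2.symm
    · exact h1.trans h2.symm
    · exact absurd (h1.trans h3.symm) hne
    · exact absurd (h2.trans h3.symm) hE₀ne
    · exact absurd (h2.trans h3.symm) hE₀ne
    · exact absurd (h1.trans h3.symm) hne
    · exact h1.trans h2.symm
    · exact h1.trans h2.symm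
  obtain ⟨x₀, hx₀, hx₀1⟩ : ∃ x ∈ (P : Subgroup G), x ≠ 1 := by
    by_contra h
    push Not at h
    have : (P : Subgroup G) = ⊥ := (Subgroup.eq_bot_iff_forall _).2 h
    have h9 := card_sylow_three hG P
    rw [this, Subgroup.card_bot] at h9
    norm_num at h9
  -- the standard position
  have key : ∀ C D E H : Line G, C ≠ D → E ≠ C → E ≠ D → H ≠ C → H ≠ D → H ≠ E → ∃ g : G,
      g • C = F.line ∧ g • D = F.swap.line ∧ g • E = E₀ ∧ g • H = x₀ • E₀ := by
    intro C D E H hCD hEC hED hHC hHD hHE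
    -- the first two
    obtain ⟨A, hAC, hAD⟩ := exists_meet (hG := hG) hCD
    obtain ⟨c, hc⟩ := MulAction.exists_smul_eq G A P
    obtain ⟨g₁, hg₁C, hg₁D⟩ : ∃ g : G, g • C = F.line ∧ g • D = F.swap.line := by
      have hC' : P ∈ (c • C).1 := mem_smul_line.2 (by rw [← hc, inv_smul_smul]; exact hAC)
      have hD' : P ∈ (c • D).1 := mem_smul_line.2 (by rw [← hc, inv_smul_smul]; exact hAD)
      have hne : c • C ≠ c • D := fun h => hCD ((MulAction.injective c) h)
      rcases F.two_lines hC' with h1 | h1 <;> rcases F.two_lines hD' with h2 | h2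
      · exact absurd (h1.trans h2.symm) hne
      · exact ⟨c, h1, h2⟩
      · refine ⟨F.n * c, ?_, ?_⟩
        · rw [mul_smul, h1]; exact F.swap.line_smul_n
        · rw [mul_smul, h2]; exact F.line_smul_n
      · exact absurd (h1.trans h2.symm) hne
    -- the third
    obtain ⟨g₂, hg₂C, hg₂D, hg₂E⟩ : ∃ g : G, g • C = F.line ∧ g • D = F.swap.line ∧ g • E = E₀ := by
      have h1 : g₁ • E ≠ F.line := fun h => hEC ((MulAction.injective g₁) (h.trans hg₁C.symm))
      have h2 : g₁ • E ≠ F.swap.line := fun h => hED ((MulAction.injective g₁) (h.trans hg₁D.symm))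
      obtain ⟨R, hR1, hR2⟩ := exists_meet (hG := hG) h1
      rcases F.mem_lineSet.1 hR2 with rfl | ⟨x, hx, rfl⟩
      · rcases F.two_lines hR1 with h | h
        · exact absurd h h1
        · exact absurd h h2
      · refine ⟨x⁻¹ * g₁, ?_, ?_, ?_⟩
        · rw [mul_smul, hg₁C, F.smul_line (inv_mem hx)]
        · rw [mul_smul, hg₁D, F.swap.smul_line (inv_mem hx)]
        · rw [mul_smul]
          refine hE₀uniq _ (mem_smul_line.2 (by rw [inv_inv]; exact hR1)) fun h => h1 ?_
          rw [inv_smul_eq_iff, F.smul_line hx] at h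
          exact h
    -- the fourth
    have h1 : g₂ • H ≠ F.line := fun h => hHC ((MulAction.injective g₂) (h.trans hg₂C.symm))
    have h2 : g₂ • H ≠ F.swap.line := fun h => hHD ((MulAction.injective g₂) (h.trans hg₂D.symm))
    have h3 : g₂ • H ≠ E₀ := fun h => hHE ((MulAction.injective g₂) (h.trans hg₂E.symm))
    obtain ⟨R, hR1, hR2⟩ := exists_meet (hG := hG) h1
    rcases F.mem_lineSet.1 hR2 with rfl | ⟨x, hx, rfl⟩
    · rcases F.two_lines hR1 with h | h
      · exact absurd h h1
      · exact absurd h h2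
    · have hx1 : x ≠ 1 := fun e => h3 (hE₀uniq _ (by rw [e, one_smul] at hR1; exact hR1) h1)
      obtain ⟨k, hk, hkx⟩ := F.exists_conj hx hx1 hx₀ hx₀1
      obtain ⟨-, hkP, hkQ, hkS⟩ := (F.memK k).1 hk
      have hk1 : k • F.line = F.line := F.line_unique
        (mem_smul_line.2 (by rw [inv_smul_eq_iff.2 hkP.symm]; exact F.P_mem))
        (mem_smul_line.2 (by rw [inv_smul_eq_iff.2 hkQ.symm]; exact F.Q_mem))
      have hk2 : k • F.swap.line = F.swap.line := F.swap.line_unique
        (mem_smul_line.2 (by rw [inv_smul_eq_iff.2 hkP.symm]; exact F.swap.P_mem))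
        (mem_smul_line.2 (by
          show k⁻¹ • F.S ∈ _
          rw [inv_smul_eq_iff.2 hkS.symm]; exact F.swap.Q_mem))
      have hk3 : k • E₀ = E₀ := hE₀uniq _
        (mem_smul_line.2 (by rw [inv_smul_eq_iff.2 hkQ.symm]; exact hE₀Q))
        (fun h => hE₀ne ((MulAction.injective k) (h.trans hk1.symm)))
      refine ⟨k * g₂, by rw [mul_smul, hg₂C, hk1], by rw [mul_smul, hg₂D, hk2],
        by rw [mul_smul, hg₂E, hk3], ?_⟩
      rw [mul_smul]
      have hne : x₀⁻¹ • k • g₂ • H ≠ F.line := by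
        intro h
        rw [inv_smul_eq_iff, F.smul_line hx₀] at h
        exact h1 ((MulAction.injective k) (h.trans hk1.symm))
      have hmem : F.Q ∈ (x₀⁻¹ • k • g₂ • H).1 := by
        refine mem_smul_line.2 (mem_smul_line.2 ?_)
        rw [inv_inv, ← mul_smul, ← hkx, show k⁻¹ * (k * x * k⁻¹) = x * k⁻¹ by group, mul_smul,
          inv_smul_eq_iff.2 hkQ.symm]
        exact hR1
      exact inv_smul_eq_iff.1 (hE₀uniq _ hmem hne)
  rw [MulAction.isMultiplyPretransitive_iff]
  intro x y
  have hn : ∀ (z : Fin 4 ↪ Line G) (i j : Fin 4), i ≠ j → z i ≠ z j := fun z i j h e =>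
    h (z.injective e)
  obtain ⟨g, a0, a1, a2, a3⟩ := key (x 0) (x 1) (x 2) (x 3) (hn x _ _ (by decide))
    (hn x _ _ (by decide)) (hn x _ _ (by decide)) (hn x _ _ (by decide)) (hn x _ _ (by decide))
    (hn x _ _ (by decide))
  obtain ⟨g', b0, b1, b2, b3⟩ := key (y 0) (y 1) (y 2) (y 3) (hn y _ _ (by decide))
    (hn y _ _ (by decide)) (hn y _ _ (by decide)) (hn y _ _ (by decide)) (hn y _ _ (by decide))
    (hn y _ _ (by decide))
  refine ⟨g'⁻¹ * g, ?_⟩
  refine Function.Embedding.ext fun i => ?_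
  show (g'⁻¹ * g) • x i = y i
  rw [mul_smul, inv_smul_eq_iff]
  fin_cases i
  · exact a0.trans b0.symm
  · exact a1.trans b1.symm
  · exact a2.trans b2.symm
  · exact a3.trans b3.symm

/-- The action on the eleven points is sharply `4`-transitive. -/
theorem stabilizer_line (x : Fin 4 ↪ Line G) : MulAction.stabilizer G x = ⊥ := by
  classical
  haveI := isMultiplyPretransitive_line (hG := hG)
  have h := MulAction.index_stabilizer_of_transitive (G := G) x
  have h11 : Fintype.card (Line G) = 11 := by rw [← Nat.card_eq_fintype_card]; exact card_line (hG := hG)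
  rw [Nat.card_eq_fintype_card (α := Fin 4 ↪ Line G), Fintype.card_embedding_eq, Fintype.card_fin,
    h11, show Nat.descFactorial 11 4 = 7920 from rfl] at h
  have h2 := (MulAction.stabilizer G x).card_mul_index
  rw [h, hG] at h2
  exact Subgroup.card_eq_one.1 (by omega)

end H36.M11
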