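import Cfsg.Agent.H36.M11Local

/-!
# The three Sylow `3`-subgroups inverted by an involution in order `7920`
-/

set_option autoImplicit false

open Cfsg Subgroup

namespace H36.M11

universe u

variable {G : Type u} [Group G] [Fintype G] [IsSimpleGroup G]

/-- Two Sylow `3`-subgroups inverted by a common involution. -/
def Adj (P Q : Sylow 3 G) : Prop := P ≠ Q ∧ ∃ t, Inverts P t ∧ Inverts Q t

omit [Fintype G] [IsSimpleGroup G] in
theorem Adj.symm {P Q : Sylow 3 G} (h : Adj P Q) : Adj Q P := by
  obtain ⟨hne, t, h1, h2⟩ := h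
  exact ⟨hne.symm, t, h2, h1⟩

omit [Fintype G] [IsSimpleGroup G] in
theorem Adj.smul {P Q : Sylow 3 G} (h : Adj P Q) (g : G) : Adj (g • P) (g • Q) := by
  obtain ⟨hne, t, h1, h2⟩ := h
  exact ⟨fun e => hne ((MulAction.injective g) e), _, h1.smul g, h2.smul g⟩

omit [Fintype G] [IsSimpleGroup G] in
theorem adj_smul_iff {P Q : Sylow 3 G} (g : G) : Adj (g • P) (g • Q) ↔ Adj P Q :=
  ⟨fun h => by simpa using h.smul g⁻¹, fun h => h.smul g⟩

omit [Fintype G] [IsSimpleGroup G] in
theorem smul_fixed_iff {P : Sylow 3 G} {g : G} :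
    g • P = P ↔ g ∈ normalizer ((P : Subgroup G) : Set G) :=
  Sylow.smul_eq_iff_mem_normalizer

omit [Fintype G] [IsSimpleGroup G] in
theorem Inverts.smul_of_commute {P : Sylow 3 G} {t g : G} (h : Inverts P t) (hg : g * t = t * g) :
    Inverts (g • P) t := by
  have h1 := h.smul g
  rwa [mul_inv_eq_of_eq_mul hg] at h1

variable (hG : Nat.card G = 7920)
include hG

/-- An involution inverting `P` inverts exactly three Sylow `3`-subgroups, permuted transitively
by its centraliser. -/
theorem triad_orbit (P : Sylow 3 G) {t : G} (ht : Inverts P t) :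
    Nat.card {Q : Sylow 3 G // Inverts Q t} = 3 ∧
      ∀ Q, Inverts Q t → ∃ g ∈ centralizer ({t} : Set G), g • P = Q := by
  classical
  haveI : Fact (Nat.Prime 3) := ⟨Nat.prime_three⟩
  set C := centralizer ({t} : Set G) with hC
  have htrans : ∀ Q, Inverts Q t → ∃ g ∈ C, g • P = Q := by
    intro Q hQ
    obtain ⟨g, rfl⟩ := MulAction.exists_smul_eq G P Q
    have h1 := hQ.smul g⁻¹
    rw [inv_smul_smul] at h1
    obtain ⟨p, hp, hpt⟩ := inverts_conj hG P ht h1
    rw [inv_inv] at hpt
    refine ⟨g * p, mem_centralizer_singleton_iff.2 ?_, ?_⟩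
    · calc g * p * t = g * (p * t * p⁻¹) * p := by group
        _ = t * (g * p) := by rw [hpt]; group
    · rw [mul_smul, smul_fixed_iff.2 (Subgroup.le_normalizer hp)]
  refine ⟨?_, htrans⟩
  have horb : MulAction.orbit C P = {Q | Inverts Q t} := by
    ext Q
    constructor
    · rintro ⟨g, rfl⟩
      exact ht.smul_of_commute (mem_centralizer_singleton_iff.1 g.2)
    · intro hQ
      obtain ⟨g, hg, hgQ⟩ := htrans Q hQ
      exact ⟨⟨g, hg⟩, hgQ⟩
  have hst : MulAction.stabilizer C P = (normalizer ((P : Subgroup G) : Set G)).subgroupOf C := by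
    ext g
    rw [MulAction.mem_stabilizer_iff, mem_subgroupOf]
    exact smul_fixed_iff
  have h := (MulAction.stabilizer C P).card_mul_index
  rw [MulAction.index_stabilizer, horb, ← Nat.card_coe_set_eq, hst, ← inf_subgroupOf_right,
    Nat.card_congr (subgroupOfEquivOfLe inf_le_right).toEquiv, inf_comm,
    card_centralizer_inf_normalizer hG P ht,
    show Nat.card C = 48 from card_centralizer_involution hG ht.1] at h
  have h' : Nat.card {Q : Sylow 3 G // Inverts Q t} = 3 := by
    show Nat.card ↥{Q : Sylow 3 G | Inverts Q t} = 3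
    omega
  exact h'

/-- A `2`-subgroup of `C(t)` containing `t` and normalised by an element of order `3` of `C(t)`
has order `2` modulo `3`. -/
theorem card_mod_three {t σ : G} (ht : orderOf t = 2) (hσ : orderOf σ = 3)
    (hσt : σ * t = t * σ) (X : Subgroup G) (hX : ∃ j, Nat.card X = 2 ^ j) (htX : t ∈ X)
    (hnorm : ∀ x ∈ X, σ * x * σ⁻¹ ∈ X) : Nat.card X % 3 = 2 := by
  classical
  haveI : Fact (Nat.Prime 3) := ⟨Nat.prime_three⟩
  obtain ⟨P, hσP⟩ := (IsPGroup.of_card (p := 3) (n := 1)
    (by rw [Nat.card_zpowers, hσ, pow_one]) : IsPGroup 3 (zpowers σ)).exists_le_sylow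
  have hσ1 : σ ≠ 1 := fun h => by rw [h, orderOf_one] at hσ; norm_num at hσ
  obtain ⟨hcσ, -⟩ := centralizer_three hG P (hσP (mem_zpowers σ)) hσ1
  let f : Equiv.Perm X := Equiv.ofBijective (fun x => ⟨σ * (x : G) * σ⁻¹, hnorm x x.2⟩)
    (Finite.injective_iff_bijective.1 fun a b h =>
      Subtype.ext ((MulAut.conj σ).injective (congrArg Subtype.val h)))
  have hf : ∀ (n : ℕ) (x : X), (((f ^ n) x : X) : G) = σ ^ n * (x : G) * (σ ^ n)⁻¹ := by
    intro n
    induction n with
    | zero => intro x; simp
    | succ n ih =>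
      intro x
      rw [pow_succ', Equiv.Perm.mul_apply]
      show σ * (((f ^ n) x : X) : G) * σ⁻¹ = _
      rw [ih x]; group
  have hf3 : f ^ 3 ^ 1 = 1 := by
    refine Equiv.Perm.ext fun x => Subtype.ext ?_
    rw [hf, pow_one, ← hσ, pow_orderOf_eq_one]
    simp
  have h1 := Equiv.Perm.card_compl_support_modEq (p := 3) (n := 1) hf3
  have hfix : f.supportᶜ.card = Nat.card (X ⊓ centralizer ({σ} : Set G) : Subgroup G) := by
    rw [← Fintype.card_coe, ← Nat.card_eq_fintype_card]
    refine Nat.card_congr
      { toFun := fun x => ⟨((x : X) : G), (x : X).2, ?_⟩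
        invFun := fun x => ⟨⟨(x : G), x.2.1⟩, ?_⟩
        left_inv := fun x => rfl
        right_inv := fun x => rfl }
    · show ((x : X) : G) ∈ centralizer ({σ} : Set G)
      rw [mem_centralizer_singleton_iff]
      have h := x.2
      simp only [Finset.mem_compl, Equiv.Perm.mem_support, not_not] at h
      exact (mul_inv_eq_iff_eq_mul.1 (congrArg Subtype.val h)).symm
    · simp only [Finset.mem_compl, Equiv.Perm.mem_support, not_not]
      exact Subtype.ext (mul_inv_eq_of_eq_mul (mem_centralizer_singleton_iff.1 x.2.2).symm)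
  have h2 : Nat.card (X ⊓ centralizer ({σ} : Set G) : Subgroup G) = 2 := by
    obtain ⟨j, hj⟩ := hX
    have hd : Nat.card (X ⊓ centralizer ({σ} : Set G) : Subgroup G) ∣ Nat.gcd (2 ^ j) 18 :=
      Nat.dvd_gcd (hj ▸ card_dvd_of_le inf_le_left) (hcσ ▸ card_dvd_of_le inf_le_right)
    have hg : Nat.gcd (2 ^ j) 18 ∣ 2 := by
      have hc : Nat.Coprime (Nat.gcd (2 ^ j) 18) 9 :=
        Nat.Coprime.coprime_dvd_left (Nat.gcd_dvd_left _ _) (Nat.Coprime.pow_left j (by norm_num))
      exact hc.dvd_of_dvd_mul_right (show Nat.gcd (2 ^ j) 18 ∣ 2 * 9 from Nat.gcd_dvd_right _ _)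
    have h2le : 2 ∣ Nat.card (X ⊓ centralizer ({σ} : Set G) : Subgroup G) :=
      ht ▸ Subgroup.orderOf_dvd_natCard _
        (Subgroup.mem_inf.2 ⟨htX, mem_centralizer_singleton_iff.2 hσt.symm⟩)
    exact Nat.dvd_antisymm (hd.trans hg) h2le
  rw [hfix, h2, ← Nat.card_eq_fintype_card] at h1
  exact h1.symm

/-- The data at a pair `(P, t)` with `t` inverting `P`: the two other Sylow subgroups inverted by
`t`, the kernel `K` of order `8` with unique involution `t`, and a swapping element. -/
theorem triad_data (P : Sylow 3 G) {t : G} (ht : Inverts P t) :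
    ∃ (Q S : Sylow 3 G) (K : Subgroup G), P ≠ Q ∧ P ≠ S ∧ Q ≠ S ∧ Inverts Q t ∧ Inverts S t ∧
      (∀ T, Inverts T t → T = P ∨ T = Q ∨ T = S) ∧ Nat.card K = 8 ∧
      (∀ k, k ∈ K ↔ k * t = t * k ∧ k • P = P ∧ k • Q = Q ∧ k • S = S) ∧
      (∀ k ∈ K, k ≠ 1 → k ^ 2 = 1 → k = t) ∧
      (∃ n, n * t = t * n ∧ n • P = P ∧ n • Q = S ∧ n • S = Q) := by
  classical
  haveI : Fact (Nat.Prime 3) := ⟨Nat.prime_three⟩
  haveI : Fact (Nat.Prime 2) := ⟨Nat.prime_two⟩
  obtain ⟨h3, htrans⟩ := triad_orbit hG P ht
  set T := {Q : Sylow 3 G // Inverts Q t} with hT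
  rw [Nat.card_eq_fintype_card] at h3
  obtain ⟨⟨Q, hQ⟩, hQne⟩ := Fintype.exists_ne_of_one_lt_card (by rw [h3]; norm_num) (⟨P, ht⟩ : T)
  have hPQ : P ≠ Q := fun h => hQne (Subtype.ext h.symm)
  obtain ⟨⟨S, hS⟩, hSmem⟩ := Finset.card_pos.1
    (show 0 < ((Finset.univ : Finset T) \ {(⟨P, ht⟩ : T), (⟨Q, hQ⟩ : T)}).card by
      rw [Finset.card_sdiff_of_subset (Finset.subset_univ _), Finset.card_univ, h3,
        Finset.card_pair (fun h => hPQ (congrArg Subtype.val h))]
      norm_num)
  simp only [Finset.mem_sdiff, Finset.mem_univ, Finset.mem_insert, Finset.mem_singleton,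
    true_and, not_or, Subtype.mk.injEq] at hSmem
  have hSP : S ≠ P := fun h => hSmem.1 (Subtype.ext h)
  have hSQ : S ≠ Q := fun h => hSmem.2 (Subtype.ext h)
  have hall : ∀ R, Inverts R t → R = P ∨ R = Q ∨ R = S := by
    intro R hR
    by_contra h
    push Not at h
    have h4 : ({(⟨P, ht⟩ : T), ⟨Q, hQ⟩, ⟨S, hS⟩, ⟨R, hR⟩} : Finset T).card = 4 := by
      rw [Finset.card_insert_of_notMem (by
          simp only [Finset.mem_insert, Finset.mem_singleton, not_or]
          exact ⟨fun e => hPQ (congrArg Subtype.val e), fun e => hSP (congrArg Subtype.val e).symm,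
            fun e => h.1 (congrArg Subtype.val e).symm⟩),
        Finset.card_insert_of_notMem (by
          simp only [Finset.mem_insert, Finset.mem_singleton, not_or]
          exact ⟨fun e => hSQ (congrArg Subtype.val e).symm, fun e => h.2.1 (congrArg Subtype.val e).symm⟩),
        Finset.card_pair (fun e => h.2.2 (congrArg Subtype.val e).symm)]
    have := Finset.card_le_univ ({(⟨P, ht⟩ : T), ⟨Q, hQ⟩, ⟨S, hS⟩, ⟨R, hR⟩} : Finset T)
    omega
  set C := centralizer ({t} : Set G) with hC
  let K : Subgroup G := C ⊓ (normalizer ((P : Subgroup G) : Set G) ⊓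
    (normalizer ((Q : Subgroup G) : Set G) ⊓ normalizer ((S : Subgroup G) : Set G)))
  have hK : ∀ k, k ∈ K ↔ k * t = t * k ∧ k • P = P ∧ k • Q = Q ∧ k • S = S := by
    intro k
    simp only [K, Subgroup.mem_inf, hC, mem_centralizer_singleton_iff, smul_fixed_iff]
  -- the permutation action of the centraliser
  letI : MulAction C T :=
    { smul := fun g R => ⟨(g : G) • R.1, R.2.smul_of_commute (mem_centralizer_singleton_iff.1 g.2)⟩
      one_smul := fun R => Subtype.ext (one_smul G R.1)
      mul_smul := fun a b R => Subtype.ext (mul_smul (a : G) (b : G) R.1) }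
  set φ := MulAction.toPermHom C T with hφ
  have hker : φ.ker = K.subgroupOf C := by
    ext g
    rw [MonoidHom.mem_ker, mem_subgroupOf, hK]
    constructor
    · intro h
      have e := fun R : T => congrArg Subtype.val (Equiv.Perm.ext_iff.1 h R)
      exact ⟨mem_centralizer_singleton_iff.1 g.2, e ⟨P, ht⟩, e ⟨Q, hQ⟩, e ⟨S, hS⟩⟩
    · rintro ⟨-, hP', hQ', hS'⟩
      refine Equiv.Perm.ext fun R => Subtype.ext ?_
      show (g : G) • R.1 = R.1
      rcases hall R.1 R.2 with h | h | h <;> rw [h] <;> assumption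
  have hKle : K ≤ C ⊓ normalizer ((P : Subgroup G) : Set G) :=
    le_inf inf_le_left (inf_le_right.trans inf_le_left)
  have hK16 : Nat.card K ∣ 16 := card_centralizer_inf_normalizer hG P ht ▸ card_dvd_of_le hKle
  have hK2 : ∃ j, Nat.card K = 2 ^ j := by
    obtain ⟨j, -, hj⟩ := (Nat.dvd_prime_pow Nat.prime_two).1 (show Nat.card K ∣ 2 ^ 4 by simpa using hK16)
    exact ⟨j, hj⟩
  have hK8 : 8 ≤ Nat.card K := by
    have h1 : Nat.card φ.range ≤ 6 := by
      refine le_trans (Subgroup.card_le_card_group _) ?_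
      rw [Nat.card_eq_fintype_card, Fintype.card_perm, h3]
      rfl
    have h2 := φ.ker.card_mul_index
    rw [Subgroup.index_ker, hker,
      Nat.card_congr (subgroupOfEquivOfLe inf_le_left).toEquiv,
      show Nat.card C = 48 from card_centralizer_involution hG ht.1] at h2
    nlinarith
  have htK : t ∈ K := (hK t).2 ⟨rfl, smul_fixed_iff.2 ht.mem_normalizer,
    smul_fixed_iff.2 hQ.mem_normalizer, smul_fixed_iff.2 hS.mem_normalizer⟩
  obtain ⟨⟨σ, hσC⟩, hσo⟩ := exists_prime_orderOf_dvd_card' (G := C) 3
    (by rw [show Nat.card C = 48 from card_centralizer_involution hG ht.1]; norm_num)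
  rw [Subgroup.orderOf_mk] at hσo
  have hσt : σ * t = t * σ := mem_centralizer_singleton_iff.1 hσC
  have hnorm : ∀ x ∈ K, σ * x * σ⁻¹ ∈ K := by
    intro x hx
    have hxC : x ∈ C := (inf_le_left : K ≤ C) hx
    have h1 : (⟨σ, hσC⟩ : C) * ⟨x, hxC⟩ * (⟨σ, hσC⟩ : C)⁻¹ ∈ φ.ker :=
      (inferInstance : φ.ker.Normal).conj_mem _ (by rw [hker, mem_subgroupOf]; exact hx) _
    rw [hker, mem_subgroupOf] at h1
    exact h1
  have hmod := card_mod_three hG ht.1 hσo hσt K hK2 htK hnorm
  have hK8' : Nat.card K = 8 := by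
    have := Nat.le_of_dvd (by norm_num) hK16
    interval_cases hc : Nat.card K <;> omega
  refine ⟨Q, S, K, hPQ, Ne.symm hSP, Ne.symm hSQ, hQ, hS, hall, hK8', hK, ?_, ?_⟩
  · -- `t` is the only involution of `K`
    by_contra hcon
    push Not at hcon
    obtain ⟨u, huK, hu1, hu2, hut⟩ := hcon
    obtain ⟨htt, hti⟩ := inv_of_orderOf_two ht.1
    let U := {x : K // (x : G) ^ 2 = 1 ∧ (x : G) ≠ 1 ∧ (x : G) ≠ t}
    have hcomm : ∀ x : K, (x : G) * t = t * (x : G) := fun x => ((hK x).1 x.2).1
    let τ : Equiv.Perm U :=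
      { toFun := fun x => ⟨⟨(x : K) * t, mul_mem x.1.2 htK⟩, by
          refine ⟨?_, ?_, ?_⟩
          · show (((x : K) : G) * t) ^ 2 = 1
            rw [(Commute.mul_pow (hcomm x.1 : Commute ((x : K) : G) t)), x.2.1, one_mul, pow_two, htt]
          · exact fun h => x.2.2.2 ((mul_eq_one_iff_eq_inv.1 h).trans hti)
          · exact fun h => x.2.2.1 (mul_eq_right.1 h)⟩
        invFun := fun x => ⟨⟨(x : K) * t, mul_mem x.1.2 htK⟩, by
          refine ⟨?_, ?_, ?_⟩
          · show (((x : K) : G) * t) ^ 2 = 1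
            rw [(Commute.mul_pow (hcomm x.1 : Commute ((x : K) : G) t)), x.2.1, one_mul, pow_two, htt]
          · exact fun h => x.2.2.2 ((mul_eq_one_iff_eq_inv.1 h).trans hti)
          · exact fun h => x.2.2.1 (mul_eq_right.1 h)⟩
        left_inv := fun x => Subtype.ext (Subtype.ext (by
          show ((x : K) : G) * t * t = _
          rw [mul_assoc, htt, mul_one]))
        right_inv := fun x => Subtype.ext (Subtype.ext (by
          show ((x : K) : G) * t * t = _
          rw [mul_assoc, htt, mul_one])) }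
    have hτ2 : τ ^ 2 ^ 1 = 1 := by
      refine Equiv.Perm.ext fun x => Subtype.ext (Subtype.ext ?_)
      show ((x : K) : G) * t * t = _
      rw [mul_assoc, htt, mul_one]
      rfl
    have h2 := Equiv.Perm.card_compl_support_modEq (p := 2) (n := 1) hτ2
    have hτfix : τ.supportᶜ.card = 0 := by
      rw [Finset.card_eq_zero, Finset.eq_empty_iff_forall_notMem]
      intro x hx
      simp only [Finset.mem_compl, Equiv.Perm.mem_support, not_not] at hx
      have e : ((x : K) : G) * t = ((x : K) : G) := congrArg (fun y : U => ((y : K) : G)) hx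
      have := ht.1
      rw [mul_eq_left.1 e, orderOf_one] at this
      norm_num at this
    let ρ : Equiv.Perm U :=
      Equiv.ofBijective (fun x => (⟨⟨σ * ((x : K) : G) * σ⁻¹, hnorm _ x.1.2⟩, by
        have e : σ * t * σ⁻¹ = t := mul_inv_eq_of_eq_mul hσt
        refine ⟨?_, ?_, ?_⟩
        · rw [conj_pow, x.2.1]; group
        · exact fun h => x.2.2.1 (conj_eq_one_iff.1 h)
        · exact fun h => x.2.2.2 ((MulAut.conj σ).injective (h.trans e.symm))⟩ : U))
        (Finite.injective_iff_bijective.1 fun a b h => Subtype.ext (Subtype.ext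
          ((MulAut.conj σ).injective (congrArg (fun y : U => ((y : K) : G)) h))))
    have hρn : ∀ (n : ℕ) (x : U), ((((ρ ^ n) x : U) : K) : G) = σ ^ n * ((x : K) : G) * (σ ^ n)⁻¹ := by
      intro n
      induction n with
      | zero => intro x; simp
      | succ n ih =>
        intro x
        rw [pow_succ', Equiv.Perm.mul_apply]
        show σ * ((((ρ ^ n) x : U) : K) : G) * σ⁻¹ = _
        rw [ih x]; group
    have hρ3 : ρ ^ 3 ^ 1 = 1 := by
      refine Equiv.Perm.ext fun x => Subtype.ext (Subtype.ext ?_)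
      rw [hρn, pow_one, ← hσo, pow_orderOf_eq_one]
      simp
    have h3' := Equiv.Perm.card_compl_support_modEq (p := 3) (n := 1) hρ3
    obtain ⟨R, hσR⟩ := (IsPGroup.of_card (p := 3) (n := 1)
      (by rw [Nat.card_zpowers, hσo, pow_one]) : IsPGroup 3 (zpowers σ)).exists_le_sylow
    obtain ⟨hcσ, -⟩ := centralizer_three hG R (hσR (mem_zpowers σ))
      (fun h => by rw [h, orderOf_one] at hσo; norm_num at hσo)
    have hρfix : ρ.supportᶜ.card = 0 := by
      rw [Finset.card_eq_zero, Finset.eq_empty_iff_forall_notMem]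
      intro x hx
      simp only [Finset.mem_compl, Equiv.Perm.mem_support, not_not] at hx
      have e : σ * ((x : K) : G) * σ⁻¹ = ((x : K) : G) := congrArg (fun y : U => ((y : K) : G)) hx
      set X := K ⊓ centralizer ({σ} : Set G) with hX
      have hxX : ((x : K) : G) ∈ X :=
        Subgroup.mem_inf.2 ⟨x.1.2, mem_centralizer_singleton_iff.2 (mul_inv_eq_iff_eq_mul.1 e).symm⟩
      have htX : t ∈ X := Subgroup.mem_inf.2 ⟨htK, mem_centralizer_singleton_iff.2 hσt.symm⟩
      have hle : Nat.card X ∣ Nat.gcd 8 18 :=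
        Nat.dvd_gcd (hK8' ▸ card_dvd_of_le inf_le_left) (hcσ ▸ card_dvd_of_le inf_le_right)
      have h3le : 3 ≤ Nat.card X := by
        have hsub : ({1, t, ((x : K) : G)} : Finset G) ⊆ Finset.univ.filter (fun v => v ∈ X) := by
          intro v hv
          simp only [Finset.mem_insert, Finset.mem_singleton] at hv
          rw [Finset.mem_filter]
          refine ⟨Finset.mem_univ _, ?_⟩
          rcases hv with rfl | rfl | rfl
          exacts [one_mem _, htX, hxX]
        have h4 := Finset.card_le_card hsub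
        rw [← Fintype.card_subtype, ← Nat.card_eq_fintype_card,
          Finset.card_insert_of_notMem (by
            simp only [Finset.mem_insert, Finset.mem_singleton, not_or]
            exact ⟨fun h => by have := ht.1; rw [← h, orderOf_one] at this; norm_num at this,
              fun h => x.2.2.1 h.symm⟩),
          Finset.card_pair (fun h => x.2.2.2 h.symm)] at h4
        rw [Nat.card_eq_fintype_card] at h4 ⊢
        exact h4
      have := Nat.le_of_dvd (by norm_num) hle
      have e2 : Nat.gcd 8 18 = 2 := rfl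
      omega
    have hUle : Fintype.card U ≤ 6 := by
      have hsub : (Finset.univ.filter (fun x : K => (x : G) ^ 2 = 1 ∧ (x : G) ≠ 1 ∧ (x : G) ≠ t)) ⊆
          Finset.univ \ {(1 : K), ⟨t, htK⟩} := by
        intro x hx
        simp only [Finset.mem_filter, Finset.mem_univ, true_and] at hx
        simp only [Finset.mem_sdiff, Finset.mem_univ, Finset.mem_insert, Finset.mem_singleton,
          true_and, not_or]
        exact ⟨fun h => hx.2.1 (congrArg Subtype.val h), fun h => hx.2.2 (congrArg Subtype.val h)⟩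
      have := Finset.card_le_card hsub
      rw [← Fintype.card_subtype, Finset.card_sdiff_of_subset (Finset.subset_univ _), Finset.card_univ,
        ← Nat.card_eq_fintype_card (α := K), hK8', Finset.card_pair (fun h => by
          have := ht.1
          rw [show t = 1 from (congrArg Subtype.val h).symm, orderOf_one] at this
          norm_num at this)] at this
      exact this
    have hUpos : 0 < Fintype.card U := Fintype.card_pos_iff.2 ⟨⟨⟨u, huK⟩, hu2, hu1, hut⟩⟩
    rw [hτfix] at h2
    rw [hρfix] at h3'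
    have hU6 : Fintype.card U = 6 := by
      have a2 : Fintype.card U % 2 = 0 := h2.symm
      have a3 : Fintype.card U % 3 = 0 := h3'.symm
      omega
    -- exponent two
    have hexp : ∀ x : K, (x : G) ^ 2 = 1 := by
      intro x
      by_contra hx
      have hsub : (Finset.univ.filter (fun x : K => (x : G) ^ 2 = 1 ∧ (x : G) ≠ 1 ∧ (x : G) ≠ t)) ⊆
          Finset.univ \ {(1 : K), ⟨t, htK⟩, x} := by
        intro y hy
        simp only [Finset.mem_filter, Finset.mem_univ, true_and] at hy
        simp only [Finset.mem_sdiff, Finset.mem_univ, Finset.mem_insert, Finset.mem_singleton,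
          true_and, not_or]
        exact ⟨fun h => hy.2.1 (congrArg Subtype.val h), fun h => hy.2.2 (congrArg Subtype.val h),
          fun h => hx (h ▸ hy.1)⟩
      have := Finset.card_le_card hsub
      rw [← Fintype.card_subtype, Finset.card_sdiff_of_subset (Finset.subset_univ _), Finset.card_univ,
        ← Nat.card_eq_fintype_card (α := K), hK8', Finset.card_insert_of_notMem (by
          simp only [Finset.mem_insert, Finset.mem_singleton, not_or]
          refine ⟨fun h => ?_, fun h => hx (by rw [← h]; simp)⟩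
          have := ht.1
          rw [show t = 1 from (congrArg Subtype.val h).symm, orderOf_one] at this
          norm_num at this), Finset.card_pair (fun h => hx (by
            rw [← h, pow_two]; exact htt))] at this
      have h6 : Fintype.card U ≤ 5 := this
      omega
    have hab : ∀ x y : K, (x : G) * (y : G) = (y : G) * (x : G) := by
      intro x y
      have hx := hexp x
      have hy := hexp y
      have hxy := hexp (x * y)
      rw [Subgroup.coe_mul, pow_two] at hxy
      rw [pow_two] at hx hy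
      calc (x : G) * (y : G) = (x : G) * ((x : G) * (y : G) * ((x : G) * (y : G))) * (y : G) := by
            rw [hxy, mul_one]
        _ = ((x : G) * (x : G)) * (y : G) * (x : G) * ((y : G) * (y : G)) := by group
        _ = (y : G) * (x : G) := by rw [hx, hy, one_mul, mul_one]
    have huo : orderOf u = 2 := orderOf_eq_prime hu2 hu1
    have hle4 := card_le_four hG P ((hKle huK).2) huo
      (fun h => hut (inverts_unique_of_mem hG P h ht K hK2 huK htK)) K (fun k hk => (hKle hk).2)
      (inf_eq_bot_of_two_pow hG P K hK2) (fun k hk => hab ⟨k, hk⟩ ⟨u, huK⟩)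
    omega
  · -- the swap
    by_contra hcon
    push Not at hcon
    have hle : C ⊓ normalizer ((P : Subgroup G) : Set G) ≤ K := by
      intro n hn
      obtain ⟨hnC, hnN⟩ := Subgroup.mem_inf.1 hn
      have hnt := mem_centralizer_singleton_iff.1 hnC
      have hnP : n • P = P := smul_fixed_iff.2 hnN
      have hQS : Q ≠ S := Ne.symm hSQ
      have hinj := fun {a b : Sylow 3 G} (h : n • a = n • b) => MulAction.injective n h
      rcases hall _ (hQ.smul_of_commute hnt) with h | h | h
      · exact absurd (hinj (h.trans hnP.symm)) hPQ.symm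
      · refine (hK n).2 ⟨hnt, hnP, h, ?_⟩
        rcases hall _ (hS.smul_of_commute hnt) with h' | h' | h'
        · exact absurd (hinj (h'.trans hnP.symm)) hSP
        · exact absurd (hinj (h'.trans h.symm)) hQS.symm
        · exact h'
      · exfalso
        rcases hall _ (hS.smul_of_commute hnt) with h' | h' | h'
        · exact hSP (hinj (h'.trans hnP.symm))
        · exact hcon n hnt hnP h h'
        · exact hQS.symm (hinj (h'.trans h.symm))
    have := card_dvd_of_le hle
    rw [card_centralizer_inf_normalizer hG P ht, hK8'] at this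
    norm_num at this

end H36.M11
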