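import Cfsg.Agent.H90.SteinerTwelve
import Cfsg.Agent.H90.SteinerAut
import Cfsg.Agent.H91.SharpTrans

/-!
# A sharply `4`-transitive group of degree `11` preserves a Steiner system `S(4,5,11)`
-/

set_option autoImplicit false

open Cfsg MulAction Finset

namespace H36.Sharp11

variable {α : Type*} [Fintype α] [DecidableEq α] (M : Subgroup (Equiv.Perm α))

/-- `g` is an element of order `3` mapping `s` to itself. -/
def IsTriple (s : Finset α) (g : Equiv.Perm α) : Prop :=
  g ∈ M ∧ s.image g = s ∧ g ^ 3 = 1 ∧ g ≠ 1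

/-- `e` is outside `s` and fixed by every element stabilising `s`. -/
def IsFifth (s : Finset α) (e : α) : Prop :=
  e ∉ s ∧ ∀ g ∈ M, s.image g = s → g e = e

/-- The blocks. -/
def blocks : Set (Finset α) :=
  {b | ∃ s : Finset α, s.card = 4 ∧ ∃ e, IsFifth M s e ∧ b = insert e s}

/-- Four distinct points as an injective tuple. -/
theorem inj_four {β : Type*} {a b c d : β} (hab : a ≠ b) (hac : a ≠ c) (had : a ≠ d)
    (hbc : b ≠ c) (hbd : b ≠ d) (hcd : c ≠ d) : Function.Injective ![a, b, c, d] := by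
  intro i j hij
  fin_cases i <;> fin_cases j <;> first
    | rfl
    | exact absurd hij hab | exact absurd hij hac | exact absurd hij had
    | exact absurd hij hbc | exact absurd hij hbd | exact absurd hij hcd
    | exact absurd hij hab.symm | exact absurd hij hac.symm | exact absurd hij had.symm
    | exact absurd hij hbc.symm | exact absurd hij hbd.symm | exact absurd hij hcd.symm

variable (hα : Fintype.card α = 11) (h4 : IsMultiplyPretransitive M α 4)
  (hs : ∀ x : Fin 4 ↪ α, stabilizer M x = ⊥)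
include hα h4 hs

omit hα in
/-- Four points determine an element. -/
theorem eq_of_four {g h : Equiv.Perm α} (hg : g ∈ M) (hh : h ∈ M) {a b c d : α} (hab : a ≠ b)
    (hac : a ≠ c) (had : a ≠ d) (hbc : b ≠ c) (hbd : b ≠ d) (hcd : c ≠ d) (ha : g a = h a)
    (hb : g b = h b) (hc : g c = h c) (hd : g d = h d) : g = h := by
  have hinj := inj_four hab hac had hbc hbd hcd
  have h1 := H91.sharp_eq_one hs ⟨![a, b, c, d], hinj⟩
    (g := (⟨h⁻¹ * g, M.mul_mem (M.inv_mem hh) hg⟩ : M)) (fun i => by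
      show (h⁻¹ * g) (![a, b, c, d] i) = ![a, b, c, d] i
      fin_cases i <;> simp [ha, hb, hc, hd])
  exact (inv_mul_eq_one.1 (congrArg Subtype.val h1)).symm

omit hs hα in
/-- Four points can be sent to any four. -/
theorem exists_four {a b c d a' b' c' d' : α} (hab : a ≠ b) (hac : a ≠ c) (had : a ≠ d)
    (hbc : b ≠ c) (hbd : b ≠ d) (hcd : c ≠ d) (hab' : a' ≠ b') (hac' : a' ≠ c') (had' : a' ≠ d')
    (hbc' : b' ≠ c') (hbd' : b' ≠ d') (hcd' : c' ≠ d') :
    ∃ g ∈ M, g a = a' ∧ g b = b' ∧ g c = c' ∧ g d = d' := by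
  have hi := inj_four hab hac had hbc hbd hcd
  have hi' := inj_four hab' hac' had' hbc' hbd' hcd'
  obtain ⟨g, hg⟩ := isMultiplyPretransitive_iff.1 h4 ⟨![a, b, c, d], hi⟩ ⟨![a', b', c', d'], hi'⟩
  have h := fun i => congrArg (fun z : Fin 4 ↪ α => z i) hg
  exact ⟨g.1, g.2, h 0, h 1, h 2, h 3⟩

omit h4 in
/-- The number of fixed points of a non-trivial element is at most three. -/
theorem card_fixed_le {g : Equiv.Perm α} (hg : g ∈ M) (hg1 : g ≠ 1) : g.supportᶜ.card ≤ 3 := by
  by_contra h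
  obtain ⟨x⟩ : Nonempty (Fin 4 ↪ {a // a ∈ g.supportᶜ}) :=
    Function.Embedding.nonempty_of_card_le (by rw [Fintype.card_fin, Fintype.card_coe]; omega)
  refine hg1 (congrArg Subtype.val (H91.sharp_eq_one hs
    (x.trans (Function.Embedding.subtype _)) (g := (⟨g, hg⟩ : M)) fun i => ?_))
  show g (x i).1 = (x i).1
  have := (x i).2
  rw [Finset.mem_compl, Equiv.Perm.mem_support, not_not] at this
  exact this

omit hs h4 in
theorem card_fixed_three {g : Equiv.Perm α} (hg : g ^ 3 = 1) : g.supportᶜ.card % 3 = 2 := by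
  haveI : Fact (Nat.Prime 3) := ⟨Nat.prime_three⟩
  have h := Equiv.Perm.card_compl_support_modEq (p := 3) (n := 1) (σ := g) (by rw [pow_one]; exact hg)
  rw [hα] at h
  exact h

/-- The two fixed points of a triple element: one in `s`, one outside. -/
theorem triple_fixed {s : Finset α} (hsc : s.card = 4) {g : Equiv.Perm α} (hg : IsTriple M s g) :
    ∃ d e, d ∈ s ∧ e ∉ s ∧ g d = d ∧ g e = e ∧ ∀ z, g z = z → z = d ∨ z = e := by
  obtain ⟨hgM, hgs, hg3, hg1⟩ := hg
  haveI : Fact (Nat.Prime 3) := ⟨Nat.prime_three⟩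
  have hle := card_fixed_le M hα hs hgM hg1
  have hmod := card_fixed_three hα hg3
  have h2 : g.supportᶜ.card = 2 := by omega
  have hgs' : ∀ x, x ∈ s ↔ g x ∈ s := fun x => by
    constructor
    · intro hx; rw [← hgs]; exact mem_image_of_mem g hx
    · intro hx
      rw [← hgs, mem_image] at hx
      obtain ⟨y, hy, hyx⟩ := hx
      rwa [← g.injective hyx]
  -- the restriction to `s`
  let f : Equiv.Perm s := g.subtypePerm fun x => (hgs' x).symm
  have hf3 : f ^ 3 ^ 1 = 1 := by
    ext x
    rw [pow_one, Equiv.Perm.subtypePerm_pow]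
    simp [hg3]
  have hfm := Equiv.Perm.card_compl_support_modEq (p := 3) (n := 1) hf3
  rw [Fintype.card_coe, hsc] at hfm
  obtain ⟨⟨d, hd⟩, hdf⟩ : f.supportᶜ.Nonempty := by
    rw [← Finset.card_pos]
    by_contra h0
    have h00 : f.supportᶜ.card = 0 := by omega
    rw [h00] at hfm
    exact absurd hfm (by decide)
  rw [Finset.mem_compl, Equiv.Perm.mem_support, not_not] at hdf
  have hdg : g d = d := congrArg Subtype.val hdf
  obtain ⟨u, v, huv, huvs⟩ := Finset.card_eq_two.1 h2
  have hfix : ∀ z, g z = z ↔ z = u ∨ z = v := fun z => by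
    have : z ∈ g.supportᶜ ↔ z ∈ ({u, v} : Finset α) := by rw [huvs]
    simpa using this
  have houtside : ∀ z, z ≠ d → g z = z → z ∉ s := by
    intro z hzd hz hzs
    -- then `g` fixes the whole of `s`
    have hsub : ({⟨d, hd⟩, ⟨z, hzs⟩} : Finset s) ⊆ f.supportᶜ := by
      intro w hw
      simp only [Finset.mem_insert, Finset.mem_singleton] at hw
      rw [Finset.mem_compl, Equiv.Perm.mem_support, not_not]
      rcases hw with rfl | rfl <;> exact Subtype.ext (by assumption)
    have h2le := Finset.card_le_card hsub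
    rw [Finset.card_pair (fun h => hzd (congrArg Subtype.val h).symm)] at h2le
    have hle4 : f.supportᶜ.card ≤ 4 := by
      refine (Finset.card_le_univ _).trans ?_
      rw [Fintype.card_coe, hsc]
    have h4' : f.supportᶜ.card = 4 := by
      have h' : f.supportᶜ.card % 3 = 4 % 3 := hfm
      omega
    have hall : f.supportᶜ = Finset.univ :=
      Finset.eq_univ_of_card _ (by rw [h4', Fintype.card_coe, hsc])
    have hsub' : s ⊆ g.supportᶜ := fun w hw => by
      have h' : (⟨w, hw⟩ : s) ∈ f.supportᶜ := hall ▸ Finset.mem_univ _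
      rw [Finset.mem_compl, Equiv.Perm.mem_support, not_not] at h' ⊢
      exact congrArg Subtype.val h'
    have := Finset.card_le_card hsub'
    omega
  rcases (hfix d).1 hdg with rfl | rfl
  · exact ⟨d, v, hd, houtside v huv.symm ((hfix v).2 (Or.inr rfl)), hdg, (hfix v).2 (Or.inr rfl),
      fun z hz => (hfix z).1 hz⟩
  · exact ⟨d, u, hd, houtside u huv ((hfix u).2 (Or.inl rfl)), hdg, (hfix u).2 (Or.inl rfl),
      fun z hz => ((hfix z).1 hz).symm⟩

/-- The cyclic form of a triple element. -/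
theorem triple_cycle {s : Finset α} {g : Equiv.Perm α} (hg : IsTriple M s g) {a b c d : α}
    (hseq : s = {a, b, c, d}) (hab : a ≠ b) (hac : a ≠ c) (had : a ≠ d) (hbc : b ≠ c) (hbd : b ≠ d)
    (hcd : c ≠ d) (hd : g d = d) :
    (g a = b ∧ g b = c ∧ g c = a) ∨ (g a = c ∧ g c = b ∧ g b = a) := by
  have hsc : s.card = 4 := by
    rw [hseq, card_insert_of_notMem (by simp [hab, hac, had]), card_insert_of_notMem (by simp [hbc, hbd]),
      card_pair hcd]
  obtain ⟨d', e, hd', he, -, -, huniq⟩ := triple_fixed M hα h4 hs hsc hg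
  have hds : d ∈ s := by rw [hseq]; simp
  have hdd : d' = d := ((huniq d hd).resolve_right (fun h => he (h ▸ hds))).symm
  have hnf : ∀ x ∈ s, x ≠ d → g x ≠ x := fun x hx hxd hfix => by
    rcases huniq x hfix with h | h
    · exact hxd (h.trans hdd)
    · exact he (h ▸ hx)
  have hmem : ∀ x ∈ s, x ≠ d → g x = a ∨ g x = b ∨ g x = c := by
    intro x hx hxd
    have : g x ∈ s := by rw [← hg.2.1]; exact mem_image_of_mem g hx
    rw [hseq] at this
    simp only [mem_insert, mem_singleton] at this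
    rcases this with h | h | h | h
    · exact Or.inl h
    · exact Or.inr (Or.inl h)
    · exact Or.inr (Or.inr h)
    · exact absurd (g.injective (h.trans hd.symm)) hxd
  have has : a ∈ s := by rw [hseq]; simp
  have hbs : b ∈ s := by rw [hseq]; simp
  have hcs : c ∈ s := by rw [hseq]; simp
  have na := hnf a has had
  have nb := hnf b hbs hbd
  have nc := hnf c hcs hcd
  rcases hmem a has had with h1 | h1 | h1
  · exact absurd h1 na
  · rcases hmem b hbs hbd with h2 | h2 | h2
    · -- then `c` is fixed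
      exfalso
      rcases hmem c hcs hcd with h3 | h3 | h3
      · exact hbc (g.injective (h2.trans h3.symm))
      · exact hac (g.injective (h1.trans h3.symm))
      · exact nc h3
    · exact absurd h2 nb
    · rcases hmem c hcs hcd with h3 | h3 | h3
      · exact Or.inl ⟨h1, h2, h3⟩
      · exact absurd (g.injective (h1.trans h3.symm)) hac
      · exact absurd h3 nc
  · rcases hmem c hcs hcd with h3 | h3 | h3
    · exfalso
      rcases hmem b hbs hbd with h2 | h2 | h2
      · exact hbc (g.injective (h2.trans h3.symm))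
      · exact nb h2
      · exact hab (g.injective (h1.trans h2.symm))
    · rcases hmem b hbs hbd with h2 | h2 | h2
      · exact Or.inr ⟨h1, h3, h2⟩
      · exact absurd h2 nb
      · exact absurd (g.injective (h1.trans h2.symm)) hab
    · exact absurd h3 nc

omit h4 hs hα in
theorem IsTriple.inv {s : Finset α} {g : Equiv.Perm α} (hg : IsTriple M s g) : IsTriple M s g⁻¹ := by
  refine ⟨M.inv_mem hg.1, ?_, by rw [inv_pow, hg.2.2.1, inv_one], fun h => hg.2.2.2 (inv_eq_one.1 h)⟩
  conv_lhs => rw [← hg.2.1]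
  rw [image_image]
  simp

/-- The outside fixed point does not depend on the triple element. -/
theorem triple_same {s : Finset α} (hsc : s.card = 4) {g h : Equiv.Perm α} (hg : IsTriple M s g)
    (hh : IsTriple M s h) {e : α} (he : e ∉ s) (hge : g e = e) : h e = e := by
  obtain ⟨d, e₁, hd, he₁, hgd, hge₁, hgu⟩ := triple_fixed M hα h4 hs hsc hg
  obtain ⟨c, e₂, hc, he₂, hhc, hhe₂, hhu⟩ := triple_fixed M hα h4 hs hsc hh
  have hee : e = e₁ := (hgu e hge).resolve_left (fun h => he (h ▸ hd))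
  by_cases hcd : c = d
  · subst hcd
    obtain ⟨a, b, c', -, -, -, hs3⟩ := Finset.card_eq_three.1
      (show (s.erase c).card = 3 by rw [card_erase_of_mem hd, hsc])
    have hne : a ≠ b ∧ a ≠ c' ∧ b ≠ c' := by
      have h3 : ({a, b, c'} : Finset α).card = 3 := by rw [← hs3, card_erase_of_mem hd, hsc]
      refine ⟨?_, ?_, ?_⟩ <;> intro h <;> subst h
      · simp at h3
        have := Finset.card_le_two (a := a) (b := c')
        omega
      · rw [Finset.insert_eq_of_mem (by simp)] at h3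
        have := Finset.card_le_two (a := b) (b := a)
        omega
      · simp at h3
        have := Finset.card_le_two (a := a) (b := b)
        omega
    have hmem : ∀ x ∈ ({a, b, c'} : Finset α), x ≠ c ∧ x ∈ s := fun x hx => by
      rw [← hs3, mem_erase] at hx; exact hx
    have hseq : s = {a, b, c', c} := by
      rw [← Finset.insert_erase hd, hs3]
      ext x; simp; tauto
    have g1 := triple_cycle M hα h4 hs hg hseq hne.1 hne.2.1 (hmem a (by simp)).1 hne.2.2
      (hmem b (by simp)).1 (hmem c' (by simp)).1 hgd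
    have h1 := triple_cycle M hα h4 hs hh hseq hne.1 hne.2.1 (hmem a (by simp)).1 hne.2.2
      (hmem b (by simp)).1 (hmem c' (by simp)).1 hhc
    rcases g1 with ⟨p1, p2, p3⟩ | ⟨p1, p2, p3⟩ <;> rcases h1 with ⟨q1, q2, q3⟩ | ⟨q1, q2, q3⟩
    · rw [eq_of_four M h4 hs hh.1 hg.1 hne.1 hne.2.1 (hmem a (by simp)).1 hne.2.2
        (hmem b (by simp)).1 (hmem c' (by simp)).1 (q1.trans p1.symm) (q2.trans p2.symm)
        (q3.trans p3.symm) (hhc.trans hgd.symm)]
      exact hge
    · have e' : h = g⁻¹ := eq_of_four M h4 hs hh.1 (M.inv_mem hg.1) hne.1 hne.2.1 (hmem a (by simp)).1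
        hne.2.2 (hmem b (by simp)).1 (hmem c' (by simp)).1
        (by rw [q1, Equiv.Perm.eq_inv_iff_eq, p3]) (by rw [q3, Equiv.Perm.eq_inv_iff_eq, p1])
        (by rw [q2, Equiv.Perm.eq_inv_iff_eq, p2]) (by rw [hhc, Equiv.Perm.eq_inv_iff_eq, hgd])
      rw [e', Equiv.Perm.inv_eq_iff_eq, hge]
    · have e' : h = g⁻¹ := eq_of_four M h4 hs hh.1 (M.inv_mem hg.1) hne.1 hne.2.1 (hmem a (by simp)).1
        hne.2.2 (hmem b (by simp)).1 (hmem c' (by simp)).1
        (by rw [q1, Equiv.Perm.eq_inv_iff_eq, p3]) (by rw [q2, Equiv.Perm.eq_inv_iff_eq, p2])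
        (by rw [q3, Equiv.Perm.eq_inv_iff_eq, p1]) (by rw [hhc, Equiv.Perm.eq_inv_iff_eq, hgd])
      rw [e', Equiv.Perm.inv_eq_iff_eq, hge]
    · rw [eq_of_four M h4 hs hh.1 hg.1 hne.1 hne.2.1 (hmem a (by simp)).1 hne.2.2
        (hmem b (by simp)).1 (hmem c' (by simp)).1 (q1.trans p1.symm) (q3.trans p3.symm)
        (q2.trans p2.symm) (hhc.trans hgd.symm)]
      exact hge
  · -- different inside fixed points: an element exchanging the other two
    have hds' : d ∈ s.erase c := mem_erase.2 ⟨fun h => hcd h.symm, hd⟩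
    obtain ⟨a, b, hab, hs2⟩ := Finset.card_eq_two.1
      (show ((s.erase c).erase d).card = 2 by
        rw [card_erase_of_mem hds', card_erase_of_mem hc, hsc])
    have hmem : ∀ x ∈ ({a, b} : Finset α), x ≠ c ∧ x ≠ d ∧ x ∈ s := fun x hx => by
      rw [← hs2, mem_erase, mem_erase] at hx; exact ⟨hx.2.1, hx.1, hx.2.2⟩
    obtain ⟨hac, had, has⟩ := hmem a (by simp)
    obtain ⟨hbc, hbd, hbs⟩ := hmem b (by simp)
    have hseq : s = {a, b, c, d} := by
      rw [← Finset.insert_erase hc, ← Finset.insert_erase hds', hs2]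
      ext x; simp; tauto
    have hseq' : s = {a, b, d, c} := by rw [hseq]; ext x; simp; tauto
    obtain ⟨τ, hτ, ta, tb, tc, td⟩ := exists_four M h4 (a := a) (b := b) (c := c) (d := d)
      (a' := b) (b' := a) (c' := c) (d' := d) hab hac had hbc hbd hcd hab.symm hbc hbd hac had hcd
    have hτ2 : τ * τ = 1 := eq_of_four M h4 hs (M.mul_mem hτ hτ) M.one_mem hab hac had hbc hbd hcd
      (by simp [ta, tb]) (by simp [ta, tb]) (by simp [tc]) (by simp [td])
    have hτs : s.image τ = s := by
      rw [hseq]; simp [ta, tb, tc, td]; ext x; simp; tauto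
    have hτ1 : τ ≠ 1 := fun h => hab (by rw [← ta, h]; rfl)
    have hconj : ∀ (k : Equiv.Perm α), IsTriple M s k → ∀ p q : α, s = {a, b, p, q} → a ≠ p → a ≠ q →
        b ≠ p → b ≠ q → p ≠ q → τ p = p → τ q = q → k q = q → τ * k * τ = k⁻¹ := by
      intro k hk p q hpq hap haq hbp hbq hpq' tp tq hkq
      refine eq_of_four M h4 hs (M.mul_mem (M.mul_mem hτ hk.1) hτ) (M.inv_mem hk.1) hab hap haq hbp hbq hpq'
        ?_ ?_ ?_ ?_
      all_goals
        rcases triple_cycle M hα h4 hs hk hpq hab hap haq hbp hbq hpq' hkq with ⟨k1, k2, k3⟩ | ⟨k1, k2, k3⟩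
      all_goals
        rw [Equiv.Perm.eq_inv_iff_eq]
        simp [ta, tb, tp, tq, k1, k2, k3, hkq]
    have hG := hconj g hg c d hseq hac had hbc hbd hcd tc td hgd
    have hH := hconj h hh d c hseq' had hac hbd hbc (Ne.symm hcd) td tc hhc
    have hfix : ∀ k : Equiv.Perm α, τ * k * τ = k⁻¹ → ∀ z, k z = z → k (τ z) = τ z := by
      intro k hk z hz
      have h1 : (τ * k * τ) (τ z) = τ z := by
        show τ (k (τ (τ z))) = τ z
        rw [show τ (τ z) = z from Equiv.Perm.congr_fun hτ2 z, hz]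
      rw [hk, Equiv.Perm.inv_eq_iff_eq] at h1
      exact h1.symm
    have hτe : ∀ z, z ∉ s → τ z ∉ s := fun z hz h => hz (by
      have h2 : τ (τ z) ∈ s.image τ := mem_image_of_mem τ h
      rwa [hτs, show τ (τ z) = z from Equiv.Perm.congr_fun hτ2 z] at h2)
    have te1 : τ e₁ = e₁ := (hgu _ (hfix g hG e₁ hge₁)).resolve_left
      (fun h => hτe e₁ he₁ (h ▸ hd))
    have te2 : τ e₂ = e₂ := (hhu _ (hfix h hH e₂ hhe₂)).resolve_left
      (fun h => hτe e₂ he₂ (h ▸ hc))
    by_contra hne
    have hne' : e₁ ≠ e₂ := fun h' => hne (by rw [hee, h']; exact hhe₂)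
    have hsub : ({c, d, e₁, e₂} : Finset α) ⊆ τ.supportᶜ := by
      intro z hz
      simp only [mem_insert, mem_singleton] at hz
      rw [Finset.mem_compl, Equiv.Perm.mem_support, not_not]
      rcases hz with rfl | rfl | rfl | rfl <;> assumption
    have hc4 := Finset.card_le_card hsub
    rw [card_insert_of_notMem (by
        simp only [mem_insert, mem_singleton, not_or]
        exact ⟨hcd, fun h => he₁ (h ▸ hc), fun h => he₂ (h ▸ hc)⟩),
      card_insert_of_notMem (by
        simp only [mem_insert, mem_singleton, not_or]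
        exact ⟨fun h => he₁ (h ▸ hd), fun h => he₂ (h ▸ hd)⟩), card_pair hne'] at hc4
    have := card_fixed_le M hα hs hτ hτ1
    omega

omit hα in
theorem exists_triple {s : Finset α} {a b c d : α} (hseq : s = {a, b, c, d}) (hab : a ≠ b)
    (hac : a ≠ c) (had : a ≠ d) (hbc : b ≠ c) (hbd : b ≠ d) (hcd : c ≠ d) :
    ∃ g, IsTriple M s g ∧ g a = b ∧ g b = c ∧ g c = a ∧ g d = d := by
  obtain ⟨g, hg, ga, gb, gc, gd⟩ := exists_four M h4 (a := a) (b := b) (c := c) (d := d)
    (a' := b) (b' := c) (c' := a) (d' := d) hab hac had hbc hbd hcd hbc hab.symm hbd hac.symm hcd had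
  refine ⟨g, ⟨hg, ?_, ?_, fun h => hab (by rw [← ga, h]; rfl)⟩, ga, gb, gc, gd⟩
  · rw [hseq]; simp [ga, gb, gc, gd]; ext x; simp; tauto
  · refine eq_of_four M h4 hs (M.pow_mem hg 3) M.one_mem hab hac had hbc hbd hcd ?_ ?_ ?_ ?_ <;>
      simp [pow_succ, ga, gb, gc, gd]

omit hα h4 hs in
theorem exists_enum {s : Finset α} (hsc : s.card = 4) :
    ∃ a b c d : α, s = {a, b, c, d} ∧ a ≠ b ∧ a ≠ c ∧ a ≠ d ∧ b ≠ c ∧ b ≠ d ∧ c ≠ d := by
  obtain ⟨a, t, hat, rfl, ht⟩ := Finset.card_eq_succ.1 hsc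
  obtain ⟨b, c, d, hbc, hbd, hcd, rfl⟩ := Finset.card_eq_three.1 ht
  simp only [mem_insert, mem_singleton, not_or] at hat
  exact ⟨a, b, c, d, rfl, hat.1, hat.2.1, hat.2.2, hbc, hbd, hcd⟩

/-- Each four-set has exactly one fifth point. -/
theorem existsUnique_fifth {s : Finset α} (hsc : s.card = 4) : ∃! e, IsFifth M s e := by
  obtain ⟨a, b, c, d, hseq, hab, hac, had, hbc, hbd, hcd⟩ := exists_enum hsc
  obtain ⟨g, hg, -⟩ := exists_triple M h4 hs hseq hab hac had hbc hbd hcd
  obtain ⟨d', e, hd', he, -, hge, huniq⟩ := triple_fixed M hα h4 hs hsc hg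
  refine ⟨e, ⟨he, fun σ hσ hσs => ?_⟩, fun e' he' => ?_⟩
  · have hσs' : s.image ⇑σ⁻¹ = s := by
      conv_lhs => rw [← hσs]
      rw [image_image]
      simp
    have hk : IsTriple M s (σ * g * σ⁻¹) := by
      refine ⟨M.mul_mem (M.mul_mem hσ hg.1) (M.inv_mem hσ), ?_, by rw [conj_pow, hg.2.2.1]; group,
        fun h => hg.2.2.2 (conj_eq_one_iff.1 h)⟩
      rw [Equiv.Perm.coe_mul, Equiv.Perm.coe_mul, ← image_image, ← image_image, hσs', hg.2.1, hσs]
    have h1 : σ e ∉ s := fun h => he (by
      have h2 := mem_image_of_mem (⇑σ⁻¹) h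
      rwa [hσs', show σ⁻¹ (σ e) = e by simp] at h2)
    have h2 : g (σ e) = σ e :=
      triple_same M hα h4 hs hsc hk hg h1 (by simp [hge])
    exact (huniq _ h2).resolve_left (fun h => h1 (h ▸ hd'))
  · have h1 := he'.2 g hg.1 hg.2.1
    exact (huniq _ h1).resolve_left (fun h => he'.1 (h ▸ hd'))

/-- The five four-subsets of a block all give that block. -/
theorem fifth_exchange {s : Finset α} (hsc : s.card = 4) {e : α} (he : IsFifth M s e) {a : α}
    (ha : a ∈ s) : IsFifth M (insert e (s.erase a)) a := by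
  have hsc' : (insert e (s.erase a)).card = 4 := by
    rw [card_insert_of_notMem (fun h => he.1 (mem_of_mem_erase h)), card_erase_of_mem ha, hsc]
  obtain ⟨e', he', -⟩ := existsUnique_fifth M hα h4 hs hsc'
  obtain ⟨b, c, d, hbc, hbd, hcd, hbcd⟩ := Finset.card_eq_three.1
    (show (s.erase a).card = 3 by rw [card_erase_of_mem ha, hsc])
  have hmem : ∀ x ∈ ({b, c, d} : Finset α), x ≠ a ∧ x ∈ s := fun x hx => by
    rw [← hbcd, mem_erase] at hx; exact hx
  have hseq : s = {b, c, d, a} := by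
    rw [← Finset.insert_erase ha, hbcd]; ext x; simp; tauto
  obtain ⟨g, hg, gb, gc, gd, ga⟩ := exists_triple M h4 hs hseq hbc hbd (hmem b (by simp)).1 hcd
    (hmem c (by simp)).1 (hmem d (by simp)).1
  have hge : g e = e := he.2 g hg.1 hg.2.1
  obtain ⟨x, y, hx, hy, -, -, huniq⟩ := triple_fixed M hα h4 hs hsc hg
  have hxa : x = a := ((huniq a ga).resolve_right (fun h => hy (h ▸ ha))).symm
  have hye : y = e := ((huniq e hge).resolve_left (fun h => he.1 (h ▸ hx))).symm
  have hgs' : (insert e (s.erase a)).image g = insert e (s.erase a) := by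
    rw [hbcd, image_insert, image_insert, image_insert, image_singleton, hge, gb, gc, gd]
    ext z; simp; tauto
  have h1 := he'.2 g hg.1 hgs'
  rcases huniq e' h1 with h | h
  · exact (h.trans hxa) ▸ he'
  · exact absurd (mem_insert_self e (s.erase a)) ((h.trans hye) ▸ he'.1)

/-- The blocks form a Steiner system `S(4,5,11)`. -/
theorem isSteinerSystem_blocks : IsSteinerSystem 4 5 (blocks M) := by
  refine ⟨?_, fun s hsc => ?_⟩
  · rintro b ⟨s, hsc, e, he, rfl⟩
    rw [card_insert_of_notMem he.1, hsc]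
  · obtain ⟨e, he, heu⟩ := existsUnique_fifth M hα h4 hs hsc
    refine ⟨insert e s, ⟨⟨s, hsc, e, he, rfl⟩, subset_insert _ _⟩, ?_⟩
    rintro b ⟨⟨t, htc, f, hf, rfl⟩, hsb⟩
    have hc5 : (insert f t).card = 5 := by rw [card_insert_of_notMem hf.1, htc]
    obtain ⟨a, ha⟩ : ∃ a, insert f t \ s = {a} := Finset.card_eq_one.1 (by
      rw [card_sdiff_of_subset hsb, hsc, hc5])
    have hamem : a ∈ insert f t \ s := ha ▸ mem_singleton_self a
    obtain ⟨hab, has⟩ := mem_sdiff.1 hamem
    have hseq : s = (insert f t).erase a := by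
      refine eq_of_subset_of_card_le (fun x hx => mem_erase.2 ⟨fun h => has (h ▸ hx), hsb hx⟩) ?_
      rw [card_erase_of_mem hab, hsc, hc5]
    have hfa : IsFifth M s a := by
      rcases mem_insert.1 hab with rfl | hat
      · rwa [hseq, erase_insert hf.1]
      · rw [hseq, erase_insert_of_ne (fun h => hf.1 (by rw [h]; exact hat))]
        exact fifth_exchange M hα h4 hs htc hf hat
    rw [heu a hfa] at hseq hab
    rw [hseq, insert_erase hab]

theorem mem_aut_blocks {g : Equiv.Perm α} (hg : g ∈ M) : g ∈ setSystemAut (blocks M) := by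
  rw [H90.mem_setSystemAut_iff]
  have key : ∀ g ∈ M, ∀ b ∈ blocks M, b.image g ∈ blocks M := by
    rintro g hg b ⟨s, hsc, e, he, rfl⟩
    refine ⟨s.image g, by rw [card_image_of_injective _ g.injective, hsc], g e,
      ⟨fun h => he.1 ?_, fun k hk hks => ?_⟩, by rw [image_insert]⟩
    · obtain ⟨x, hx, hxe⟩ := mem_image.1 h
      rwa [← g.injective hxe]
    · have h1 : s.image ⇑(g⁻¹ * k * g) = s := by
        rw [Equiv.Perm.coe_mul, Equiv.Perm.coe_mul, ← image_image, ← image_image, hks, image_image]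
        simp
      have h2 := he.2 _ (M.mul_mem (M.mul_mem (M.inv_mem hg) hk) hg) h1
      simpa using congrArg g h2
  refine Set.Subset.antisymm ?_ fun b hb => ?_
  · rintro _ ⟨b, hb, rfl⟩
    exact key g hg b hb
  · refine ⟨b.image ⇑g⁻¹, key _ (M.inv_mem hg) b hb, ?_⟩
    show (b.image ⇑g⁻¹).image g = b
    rw [image_image]
    simp

/-- A sharply `4`-transitive group of degree `11` is the automorphism group of an `S(4,5,11)`. -/
theorem exists_steiner : ∃ B : Set (Finset α), IsSteinerSystem 4 5 B ∧ setSystemAut B = M := by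
  have hB := isSteinerSystem_blocks M hα h4 hs
  refine ⟨blocks M, hB, (Subgroup.eq_of_le_of_card_ge (fun g hg => mem_aut_blocks M hα h4 hs hg) ?_).symm⟩
  obtain ⟨h4', hs'⟩ := H90.s11_sharp hα hB
  haveI := h4'
  haveI := h4
  rw [H91.card_eq_descFactorial (k := 4) (by omega) hs',
    H91.card_eq_descFactorial (k := 4) (by omega) hs]

end H36.Sharp11
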