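import Cfsg.Agent.H36.M11Points
import Cfsg.Agent.H36.SharpSteiner
import Cfsg.Agent.H90.SteinerTwelve
import Cfsg.Agent.H90.SteinerAut

/-!
# Simple groups of order `7920` are isomorphic
-/

set_option autoImplicit false

open Cfsg MulAction

namespace H36.M11

universe u v

/-- A simple group of order `7920` is the automorphism group of a Steiner system `S(4,5,11)`. -/
theorem exists_steiner_iso {G : Type u} [Group G] [Finite G] [IsSimpleGroup G]
    (hG : Nat.card G = 7920) :
    ∃ (α : Type u) (_ : Fintype α) (_ : DecidableEq α) (B : Set (Finset α)),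
      Fintype.card α = 11 ∧ IsSteinerSystem 4 5 B ∧ Nonempty (G ≃* setSystemAut B) := by
  classical
  haveI : Fintype G := Fintype.ofFinite G
  have h11 : Fintype.card (Line G) = 11 := by
    rw [← Nat.card_eq_fintype_card]; exact card_line (hG := hG)
  have h4 := isMultiplyPretransitive_line (hG := hG)
  have hs := stabilizer_line (hG := hG)
  haveI := H91.sharp_faithful (G := G) (α := Line G) (k := 4) (by omega) hs
  let φ : G →* Equiv.Perm (Line G) := MulAction.toPermHom G (Line G)
  have hφ : Function.Injective φ := MulAction.toPerm_injective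
  have h4' : IsMultiplyPretransitive φ.range (Line G) 4 := by
    rw [isMultiplyPretransitive_iff]
    intro x y
    obtain ⟨g, hg⟩ := isMultiplyPretransitive_iff.1 h4 x y
    exact ⟨⟨φ g, g, rfl⟩, hg⟩
  have hs' : ∀ x : Fin 4 ↪ Line G, stabilizer φ.range x = ⊥ := by
    intro x
    rw [eq_bot_iff]
    rintro ⟨_, g, rfl⟩ hg
    have : g ∈ stabilizer G x := hg
    rw [hs x, Subgroup.mem_bot] at this
    subst this
    exact Subgroup.mem_bot.2 (Subtype.ext (map_one φ))
  obtain ⟨B, hB, hBM⟩ := H36.Sharp11.exists_steiner φ.range h11 h4' hs'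
  exact ⟨Line G, inferInstance, inferInstance, B, h11, hB,
    ⟨(MonoidHom.ofInjective hφ).trans (MulEquiv.subgroupCongr hBM.symm)⟩⟩

/-- Simple groups of order `7920` are isomorphic. -/
theorem iso_of_order_7920 {G : Type u} {H : Type v} [Group G] [Group H] [IsSimpleGroup G]
    [IsSimpleGroup H] (hG : Nat.card G = 7920) (hH : Nat.card H = 7920) :
    Nonempty (G ≃* H) := by
  haveI : Finite G := Nat.finite_of_card_ne_zero (by omega)
  haveI : Finite H := Nat.finite_of_card_ne_zero (by omega)
  obtain ⟨α, i1, i2, B, hα, hB, ⟨eG⟩⟩ := exists_steiner_iso hG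
  obtain ⟨β, j1, j2, B', hβ, hB', ⟨eH⟩⟩ := exists_steiner_iso hH
  obtain ⟨e, he⟩ := H90.s11_iso hα hβ hB hB'
  exact ⟨(eG.trans (H90.setSystemAutEquiv e he)).trans eH.symm⟩

end H36.M11
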