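import Cfsg.Agent.H36.MaxSchmidtHom

/-!
Every minimal non-`p`-nilpotent group of order `p ^ t * q ^ r` is a central quotient of the maximal
Schmidt group.
-/

set_option autoImplicit false

namespace H36.MaxSchmidt

open Subgroup H36.MinAct

universe u

variable {p q a₀ r : ℕ} [Fact p.Prime] [Fact q.Prime] {D : Datum.{u} p q a₀}

theorem exists_quotient (hr : 1 ≤ r) (hpq : p ≠ q) {X : Type u} [Group X] [Finite X]
    (h1 : ¬ Cfsg.HasNormalPComplement p X)
    (h2 : ∀ K : Subgroup X, K ≠ ⊤ → Cfsg.HasNormalPComplement p ↥K)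
    {t : ℕ} (hX : Nat.card X = p ^ t * q ^ r) :
    ∃ φ : Grp.{u} D hr →* X, Function.Surjective φ ∧ φ.ker ≤ center (Grp.{u} D hr) := by
  have hq : q.Prime := Fact.out
  obtain ⟨P, hPn, y₀, hy₀, hall⟩ := schmidt_structure hpq hr hX h1 h2
  haveI := hPn
  obtain ⟨k, rc, hqk, hadd, hsurj, hker, hζ⟩ := exists_coord D (hall y₀ hy₀).2
  set y := y₀ ^ k
  have hy : orderOf y = q ^ r := by
    rw [orderOf_pow, hy₀, Nat.Coprime.gcd_eq_one (Nat.Coprime.pow_left r
      (hq.coprime_iff_not_dvd.mpr hqk)), Nat.div_one]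
  obtain ⟨hc, hmin⟩ := hall y hy
  set θ : ↥P ≃* ↥P := MulAut.conjNormal y
  have hit : ∀ (n : ℕ) (x : ↥P), ((MulAut.conjNormal y₀ : ↥P ≃* ↥P) : ↥P → ↥P)^[n] x =
      MulAut.conjNormal (y₀ ^ n) x := by
    intro n
    induction n with
    | zero => intro x; rw [pow_zero, map_one]; rfl
    | succ n ih =>
      intro x
      rw [Function.iterate_succ_apply', ih, pow_succ', map_mul]
      rfl
  have hrθ : ∀ x, rc (θ x) = D.ζ * rc x := fun x => by rw [← hζ, hit]
  obtain ⟨φ, hφs, hφτ, hφk⟩ := exists_hom hmin hpq rc hadd hsurj hker hrθ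
  let fg : Multiplicative (ZMod (q ^ r)) →* X := cycHom y (hy ▸ pow_orderOf_eq_one y)
  have hconj : ∀ (n : ℕ) (a : EG.{u} D),
      (φ ((tau D ^ n) a) : X) = y ^ n * (φ a : X) * (y ^ n)⁻¹ := by
    intro n a
    induction n with
    | zero => simp
    | succ n ih =>
      rw [pow_succ', MulAut.mul_apply, hφτ, MulAut.conjNormal_apply, ih, pow_succ']
      group
  let Φ : Grp.{u} D hr →* X := SemidirectProduct.lift (P.subtype.comp φ) fg fun g =>
    MonoidHom.ext fun a => hconj (Multiplicative.toAdd g).val a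
  refine ⟨Φ, fun z => ?_, fun g hg => ?_⟩
  · obtain ⟨⟨⟨w, hw⟩, ⟨b, hb⟩⟩, rfl⟩ := hc.2 z
    obtain ⟨a, ha⟩ := hφs ⟨w, hw⟩
    haveI : IsOfFinOrder y := isOfFinOrder_of_finite y
    obtain ⟨n, rfl⟩ := (isOfFinOrder_of_finite y).mem_powers_iff_mem_zpowers.mpr hb
    refine ⟨SemidirectProduct.inl a * SemidirectProduct.inr (Multiplicative.ofAdd (n : ZMod (q ^ r))), ?_⟩
    rw [map_mul, SemidirectProduct.lift_inl, SemidirectProduct.lift_inr]
    show (φ a : X) * y ^ ((n : ZMod (q ^ r))).val = w * y ^ n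
    rw [ha, ZMod.val_natCast, ← hy, pow_mod_orderOf]
  · have he : (φ g.left : X) * y ^ (Multiplicative.toAdd g.right).val = 1 := hg
    have hmem : y ^ (Multiplicative.toAdd g.right).val ∈ P := by
      rw [eq_inv_of_mul_eq_one_right he]
      exact inv_mem (φ g.left).2
    have h1 : y ^ (Multiplicative.toAdd g.right).val = 1 :=
      Subgroup.disjoint_def.mp hc.disjoint hmem (pow_mem (mem_zpowers y) _)
    have hv : (Multiplicative.toAdd g.right).val = 0 :=
      Nat.eq_zero_of_dvd_of_lt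
      ((dvd_of_eq hy.symm).trans (orderOf_dvd_of_pow_eq_one h1)) (ZMod.val_lt _)
    have hr1 : g.right = 1 :=
      Multiplicative.toAdd.injective ((ZMod.val_eq_zero _).mp hv)
    rw [h1, mul_one] at he
    have hv0 := hφk g.left (Subtype.ext he)
    have e : g = SemidirectProduct.inl g.left := SemidirectProduct.ext rfl hr1
    rw [e]
    exact central_inl hr hv0

end H36.MaxSchmidt
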