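import Cfsg.Agent.H36.MaxSchmidtField
import Cfsg.Agent.H1.FPF
import Cfsg.Prelude.Def_Transfer
import Mathlib.GroupTheory.SemidirectProduct
import Mathlib.GroupTheory.Nilpotent

/-!
The maximal Schmidt group attached to a datum: a central extension of the field by the target of
the form, extended by a cyclic group acting through the root of unity.
-/

set_option autoImplicit false

namespace H36.MaxSchmidt

universe u w

variable {p q a₀ : ℕ} [Fact p.Prime] {D : Datum.{w} p q a₀}

/-- The universal `p`-group. -/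
structure EG (D : Datum.{w} p q a₀) : Type u where
  /-- the image in the field -/
  v : D.K
  /-- the central part -/
  s : D.S

namespace EG

theorem ext' {x y : EG.{u} D} (h1 : x.v = y.v) (h2 : x.s = y.s) : x = y := by
  cases x; cases y; cases h1; cases h2; rfl

instance instMulEG : Mul (EG.{u} D) := ⟨fun x y => ⟨x.v + y.v, x.s + y.s + D.β x.v y.v⟩⟩
instance instOneEG : One (EG.{u} D) := ⟨⟨0, 0⟩⟩
instance instInvEG : Inv (EG.{u} D) := ⟨fun x => ⟨-x.v, -x.s + D.β x.v x.v⟩⟩

theorem mul_v (x y : EG.{u} D) : (x * y).v = x.v + y.v := rfl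
theorem mul_s (x y : EG.{u} D) : (x * y).s = x.s + y.s + D.β x.v y.v := rfl
theorem one_v : (1 : EG.{u} D).v = 0 := rfl
theorem one_s : (1 : EG.{u} D).s = 0 := rfl
theorem inv_v (x : EG.{u} D) : x⁻¹.v = -x.v := rfl
theorem inv_s (x : EG.{u} D) : x⁻¹.s = -x.s + D.β x.v x.v := rfl

instance instGroupEG : Group (EG.{u} D) where
  mul_assoc x y z := ext' (add_assoc _ _ _) (by
    simp only [mul_s, mul_v, map_add, AddMonoidHom.add_apply]; abel)
  one_mul x := ext' (zero_add _) (by simp [mul_s, one_s, one_v])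
  mul_one x := ext' (add_zero _) (by simp [mul_s, one_s, one_v])
  inv_mul_cancel x := ext' (neg_add_cancel _) (by
    simp only [mul_s, inv_s, inv_v, one_s, map_neg, AddMonoidHom.neg_apply]; abel)

/-- The underlying pairs. -/
def equivProd : EG.{u} D ≃ D.K × D.S where
  toFun x := (x.v, x.s)
  invFun x := ⟨x.1, x.2⟩

instance instFiniteEG : Finite (EG.{u} D) := Finite.of_equiv _ equivProd.symm

theorem card_eg : Nat.card (EG.{u} D) = p ^ a₀ := by
  rw [Nat.card_congr equivProd, Nat.card_prod, D.card_eq]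

/-- The central part. -/
def mk0 (D : Datum.{w} p q a₀) (s : D.S) : EG.{u} D := ⟨0, s⟩

theorem mk0_comm (s : D.S) (x : EG.{u} D) : mk0 D s * x = x * mk0 D s :=
  ext' (add_comm _ _) (by simp [mul_s, mk0, add_comm])

theorem comm_of_v_eq_zero {x : EG.{u} D} (hx : x.v = 0) (y : EG.{u} D) : x * y = y * x := by
  have h : x = mk0 D x.s := ext' hx rfl
  rw [h]
  exact mk0_comm _ _

theorem commutator_eq (x y : EG.{u} D) :
    x * y * x⁻¹ * y⁻¹ = mk0 D (D.β x.v y.v - D.β y.v x.v) := by
  refine ext' ?_ ?_
  · simp only [mul_v, inv_v, mk0]; abel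
  · simp only [mul_s, inv_s, mul_v, inv_v, mk0, map_add, map_neg, AddMonoidHom.add_apply,
      AddMonoidHom.neg_apply]
    abel

end EG

theorem zeta_ne_zero [Fact q.Prime] : D.ζ ≠ 0 := D.prim.ne_zero (Fact.out : q.Prime).ne_zero

variable [Fact q.Prime]

/-- The automorphism of order `q`. -/
def tau (D : Datum.{w} p q a₀) : MulAut (EG.{u} D) where
  toFun x := ⟨D.ζ * x.v, x.s⟩
  invFun x := ⟨D.ζ⁻¹ * x.v, x.s⟩
  left_inv x := EG.ext' (inv_mul_cancel_left₀ zeta_ne_zero _) rfl
  right_inv x := EG.ext' (mul_inv_cancel_left₀ zeta_ne_zero _) rfl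
  map_mul' x y := EG.ext' (mul_add _ _ _) (by simp only [EG.mul_s, D.β_inv])

theorem tau_v (x : EG.{u} D) : (tau D x).v = D.ζ * x.v := rfl
theorem tau_s (x : EG.{u} D) : (tau D x).s = x.s := rfl

theorem tau_pow_apply (k : ℕ) (x : EG.{u} D) : (tau D ^ k) x = ⟨D.ζ ^ k * x.v, x.s⟩ := by
  induction k with
  | zero => exact EG.ext' (by simp) rfl
  | succ k ih =>
    rw [pow_succ', MulAut.mul_apply, ih]
    exact EG.ext' (by rw [tau_v, pow_succ', mul_assoc]) rfl

theorem tau_pow_q : (tau.{u} D) ^ q = 1 := MulEquiv.ext fun x => by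
  rw [tau_pow_apply, D.prim.pow_eq_one, one_mul]
  rfl

/-- The homomorphism from a cyclic group determined by an element. -/
def cycHom {n : ℕ} [NeZero n] {G : Type*} [Monoid G] (g : G) (hg : g ^ n = 1) :
    Multiplicative (ZMod n) →* G where
  toFun k := g ^ (Multiplicative.toAdd k).val
  map_one' := by simp
  map_mul' a b := by
    rw [toAdd_mul, ZMod.val_add, ← pow_eq_pow_mod _ hg, pow_add]

theorem cycHom_apply {n : ℕ} [NeZero n] {G : Type*} [Monoid G] (g : G) (hg : g ^ n = 1)
    (k : Multiplicative (ZMod n)) : cycHom g hg k = g ^ (Multiplicative.toAdd k).val := rfl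

instance neZeroPow (r : ℕ) : NeZero (q ^ r) := ⟨pow_ne_zero _ (Fact.out : q.Prime).ne_zero⟩

theorem tau_pow_qr {r : ℕ} (hr : 1 ≤ r) : (tau.{u} D) ^ q ^ r = 1 := by
  obtain ⟨i, rfl⟩ := Nat.exists_eq_add_of_le' hr
  rw [pow_succ', pow_mul, tau_pow_q, one_pow]

/-- The action of the cyclic group. -/
def act (D : Datum.{w} p q a₀) {r : ℕ} (hr : 1 ≤ r) :
    Multiplicative (ZMod (q ^ r)) →* MulAut (EG.{u} D) :=
  cycHom (tau D) (tau_pow_qr hr)

/-- The maximal Schmidt group. -/
abbrev Grp (D : Datum.{w} p q a₀) {r : ℕ} (hr : 1 ≤ r) : Type u :=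
  EG.{u} D ⋊[act D hr] Multiplicative (ZMod (q ^ r))

variable {r : ℕ} (hr : 1 ≤ r)

instance finiteGrp : Finite (Grp.{u} D hr) := Finite.of_equiv _ SemidirectProduct.equivProd.symm

theorem card_grp : Nat.card (Grp.{u} D hr) = p ^ a₀ * q ^ r := by
  rw [SemidirectProduct.card, EG.card_eg]
  congr 1
  exact Nat.card_zmod _

theorem act_apply (k : Multiplicative (ZMod (q ^ r))) (x : EG.{u} D) :
    act D hr k x = ⟨D.ζ ^ (Multiplicative.toAdd k).val * x.v, x.s⟩ :=
  tau_pow_apply _ x

/-- An element with trivial image in the field is central. -/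
theorem central_inl {x : EG.{u} D} (hx : x.v = 0) :
    (SemidirectProduct.inl x : Grp.{u} D hr) ∈ Subgroup.center _ := by
  refine Subgroup.mem_center_iff.mpr fun g => SemidirectProduct.ext ?_ ?_
  · simp only [SemidirectProduct.mul_left, SemidirectProduct.left_inl,
      SemidirectProduct.right_inl, map_one, MulAut.one_apply]
    rw [show act D hr g.right x = x by
      rw [act_apply]; exact EG.ext' (by rw [hx, mul_zero]) rfl, EG.comm_of_v_eq_zero hx]
  · simp

/-- The generator of the cyclic group. -/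
def gen' (q r : ℕ) : Multiplicative (ZMod (q ^ r)) := Multiplicative.ofAdd 1

theorem act_gen : act.{u} D hr (gen' q r) = tau D := by
  show tau D ^ (1 : ZMod (q ^ r)).val = tau D
  haveI : Fact (1 < q ^ r) := ⟨Nat.one_lt_pow (by omega) (Fact.out : q.Prime).one_lt⟩
  rw [ZMod.val_one, pow_one]

theorem not_npc (hpq : p ≠ q) : ¬ Cfsg.HasNormalPComplement p (Grp.{u} D hr) := by
  rintro ⟨P, N, hN, hc⟩
  haveI := hN
  have hp : p.Prime := Fact.out
  have hq : q.Prime := Fact.out
  have hcop : Nat.Coprime (p ^ a₀) (q ^ r) :=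
    Nat.Coprime.pow _ _ ((Nat.coprime_primes hp hq).mpr hpq)
  obtain ⟨n, hn⟩ := IsPGroup.iff_card.mp P.2
  set g : Grp.{u} D hr := SemidirectProduct.inr (gen' q r)
  have hg : g ∈ N := by
    rw [← QuotientGroup.eq_one_iff, ← orderOf_eq_one_iff]
    refine Nat.eq_one_of_dvd_coprimes (a := p ^ n) (b := q ^ r)
      (Nat.Coprime.pow _ _ ((Nat.coprime_primes hp hq).mpr hpq)) ?_ ?_
    · rw [← hn, ← hc.symm.index_eq_card, Subgroup.index_eq_card]
      exact orderOf_dvd_natCard _
    · refine (orderOf_map_dvd (QuotientGroup.mk' N) g).trans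
        ((orderOf_map_dvd (SemidirectProduct.inr : _ →* Grp.{u} D hr) (gen' q r)).trans ?_)
      have h := orderOf_dvd_natCard (gen' q r)
      rwa [show Nat.card (Multiplicative (ZMod (q ^ r))) = q ^ r from Nat.card_zmod _] at h
  have hNcard : Nat.card N ∣ q ^ r := by
    have h1 := hc.card_mul
    rw [card_grp hr, hn] at h1
    have h2 : p ^ a₀ ∣ p ^ n := by
      have hle : a₀ ≤ (Nat.card (Grp.{u} D hr)).factorization p :=
        (hp.pow_dvd_iff_le_factorization Nat.card_pos.ne').mp
          (card_grp.{u} (D := D) hr ▸ dvd_mul_right _ _)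
      rw [← hn, P.card_eq_multiplicity]
      exact pow_dvd_pow _ hle
    have h3 : Nat.card N * p ^ a₀ ∣ q ^ r * p ^ a₀ := by
      rw [mul_comm (q ^ r), ← h1]
      exact mul_dvd_mul_left _ h2
    exact (Nat.mul_dvd_mul_iff_right (pow_pos hp.pos _)).mp h3
  set x : EG.{u} D := ⟨1, 0⟩
  set c : EG.{u} D := tau D x * x⁻¹ with hc'
  have hcN : (SemidirectProduct.inl c : Grp.{u} D hr) ∈ N := by
    rw [hc', map_mul, ← act_gen hr, SemidirectProduct.inl_aut, map_inv, map_inv, mul_assoc, mul_assoc]
    refine N.mul_mem hg ?_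
    rw [← mul_assoc]
    exact hN.conj_mem _ (N.inv_mem hg) _
  have h1 : orderOf c ∣ q ^ r := by
    rw [← orderOf_injective (SemidirectProduct.inl : EG.{u} D →* Grp.{u} D hr)
        SemidirectProduct.inl_injective c,
      ← Subgroup.orderOf_mk _ hcN]
    exact (orderOf_dvd_natCard _).trans hNcard
  have h2 : orderOf c ∣ p ^ a₀ := by
    rw [← EG.card_eg (D := D)]
    exact orderOf_dvd_natCard c
  have h3 : tau D x = x := mul_inv_eq_one.mp
    (orderOf_eq_one_iff.mp (Nat.eq_one_of_dvd_coprimes hcop h2 h1))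
  have h4 : D.ζ * 1 = 1 := congrArg EG.v h3
  exact D.prim.ne_one hq.one_lt (by rwa [mul_one] at h4)

/-- A proper subgroup is nilpotent. -/
theorem proper_nilpotent {H : Subgroup (Grp.{u} D hr)} (hH : H ≠ ⊤) : Group.IsNilpotent H := by
  set f : H →* Multiplicative (ZMod (q ^ r)) := SemidirectProduct.rightHom.comp H.subtype with hf
  have hq : q.Prime := Fact.out
  by_cases hsurj : gen' q r ∈ f.range
  · -- the image in the field is invariant
    obtain ⟨⟨g, hgH⟩, hg⟩ := hsurj
    have hgr : g.right = gen' q r := hg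
    let M : Subgroup (EG.{u} D) := H.comap SemidirectProduct.inl
    have hτM : ∀ x ∈ M, ∃ y ∈ M, y.v = D.ζ * x.v := by
      intro x hx
      refine ⟨(g * SemidirectProduct.inl x * g⁻¹).left, ?_, ?_⟩
      · have h1 : SemidirectProduct.inl (g * SemidirectProduct.inl x * g⁻¹).left =
            g * SemidirectProduct.inl x * g⁻¹ := SemidirectProduct.ext rfl (by simp)
        show SemidirectProduct.inl _ ∈ H
        rw [h1]
        exact H.mul_mem (H.mul_mem hgH hx) (H.inv_mem hgH)
      · simp only [SemidirectProduct.mul_left, SemidirectProduct.mul_right,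
          SemidirectProduct.left_inl, SemidirectProduct.right_inl, mul_one,
          SemidirectProduct.inv_left, hgr, map_inv, act_gen, MulAut.apply_inv_self,
          EG.mul_v, EG.inv_v, tau_v]
        abel
    have hpoly : ∀ (P : Polynomial (ZMod p)), ∀ x ∈ M,
        ∃ y ∈ M, y.v = Polynomial.aeval D.ζ P * x.v := by
      intro P
      induction P using Polynomial.induction_on with
      | C c =>
        intro x hx
        refine ⟨x ^ c.val, pow_mem hx _, ?_⟩
        rw [Polynomial.aeval_C, natCast_of_zmod]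
        generalize c.val = k
        induction k with
        | zero => simp [EG.one_v]
        | succ k ih => rw [pow_succ, EG.mul_v, ih, Nat.cast_succ, add_one_mul]
      | add P Q hP hQ =>
        intro x hx
        obtain ⟨y, hy, hy'⟩ := hP x hx
        obtain ⟨z, hz, hz'⟩ := hQ x hx
        exact ⟨y * z, M.mul_mem hy hz, by rw [EG.mul_v, hy', hz', map_add, add_mul]⟩
      | monomial n c ih =>
        intro x hx
        obtain ⟨y, hy, hy'⟩ := hτM x hx
        obtain ⟨z, hz, hz'⟩ := ih y hy
        refine ⟨z, hz, ?_⟩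
        rw [hz', hy', pow_succ, ← mul_assoc (Polynomial.C c), map_mul (Polynomial.aeval D.ζ) _
          Polynomial.X, Polynomial.aeval_X, mul_assoc]
    by_cases h0 : ∀ x ∈ M, x.v = 0
    · -- `H` is commutative
      have hker : f.ker ≤ Subgroup.center H := fun z hz => by
        have hz' : (z : Grp.{u} D hr).right = 1 := hz
        have e : (z : Grp.{u} D hr) = SemidirectProduct.inl (z : Grp.{u} D hr).left :=
          SemidirectProduct.ext rfl hz'
        have hc := central_inl hr (h0 _ (show SemidirectProduct.inl _ ∈ H by rw [← e]; exact z.2))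
        rw [← e] at hc
        exact Subgroup.mem_center_iff.mpr fun w =>
          Subtype.ext (Subgroup.mem_center_iff.mp hc w)
      haveI : IsCyclic (Multiplicative (ZMod (q ^ r))) := inferInstance
      exact Subgroup.isNilpotent_of_ker_le_center f hker
    · exfalso
      push Not at h0
      obtain ⟨x₀, hx₀, hx₀v⟩ := h0
      have hall : ∀ v : D.K, ∃ y ∈ M, y.v = v := fun v => by
        obtain ⟨P, hP⟩ := D.gen (v / x₀.v)
        obtain ⟨y, hy, hy'⟩ := hpoly P x₀ hx₀
        exact ⟨y, hy, by rw [hy', hP, div_mul_cancel₀ _ hx₀v]⟩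
      have hmk0 : ∀ s, EG.mk0 D s ∈ M := fun s => by
        obtain ⟨v, w, rfl⟩ := D.span s
        obtain ⟨y, hy, rfl⟩ := hall v
        obtain ⟨z, hz, rfl⟩ := hall w
        rw [← EG.commutator_eq y z]
        exact M.mul_mem (M.mul_mem (M.mul_mem hy hz) (M.inv_mem hy)) (M.inv_mem hz)
      have hMtop : ∀ x, x ∈ M := fun x => by
        obtain ⟨y, hy, hy'⟩ := hall x.v
        have e : x = EG.mk0 D (x.s - y.s) * y :=
          EG.ext' (by simp [EG.mul_v, EG.mk0, hy']) (by simp [EG.mul_s, EG.mk0])
        rw [e]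
        exact M.mul_mem (hmk0 _) hy
      apply hH
      rw [Subgroup.eq_top_iff']
      intro z
      set k : ℕ := (Multiplicative.toAdd z.right).val
      have hzk : (z * (g ^ k)⁻¹).right = 1 := by
        have hgk : (g ^ k).right = gen' q r ^ k := by
          rw [← hgr]; exact map_pow SemidirectProduct.rightHom g k
        rw [SemidirectProduct.mul_right, SemidirectProduct.inv_right, hgk, mul_inv_eq_one]
        apply Multiplicative.toAdd.injective
        show Multiplicative.toAdd z.right = k • (1 : ZMod (q ^ r))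
        rw [nsmul_one, ZMod.natCast_zmod_val]
      have h1 : z * (g ^ k)⁻¹ ∈ H := by
        have e : z * (g ^ k)⁻¹ = SemidirectProduct.inl (z * (g ^ k)⁻¹).left :=
          SemidirectProduct.ext rfl hzk
        rw [e]
        exact hMtop _
      have h2 := H.mul_mem h1 (pow_mem hgH k)
      rwa [inv_mul_cancel_right] at h2
  · -- the action is trivial on `H`
    have hdvd : ∀ z ∈ H, q ∣ (Multiplicative.toAdd z.right).val := by
      intro z hz
      by_contra hd
      refine hsurj ?_
      set k : ℕ := (Multiplicative.toAdd z.right).val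
      obtain ⟨j, -, hj⟩ := Nat.exists_mul_mod_eq_one_of_coprime
        (((hq.coprime_iff_not_dvd).mpr hd).symm.pow_right r)
        (Nat.one_lt_pow (by omega) hq.one_lt)
      refine ⟨⟨z, hz⟩ ^ j, ?_⟩
      rw [map_pow]
      show z.right ^ j = gen' q r
      apply Multiplicative.toAdd.injective
      show j • Multiplicative.toAdd z.right = (1 : ZMod (q ^ r))
      rw [← ZMod.natCast_zmod_val (Multiplicative.toAdd z.right), nsmul_eq_mul, ← Nat.cast_mul,
        ← ZMod.natCast_mod, mul_comm, hj, Nat.cast_one]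
    have htriv : ∀ z ∈ H, act D hr z.right = 1 := by
      intro z hz
      obtain ⟨i, hi⟩ := hdvd z hz
      show tau D ^ (Multiplicative.toAdd z.right).val = 1
      rw [hi, pow_mul, tau_pow_q, one_pow]
    let F : H →* EG.{u} D × Multiplicative (ZMod (q ^ r)) :=
      { toFun := fun z => ((z : Grp.{u} D hr).left, (z : Grp.{u} D hr).right)
        map_one' := rfl
        map_mul' := fun z w => Prod.ext (by
          show (z : Grp.{u} D hr).left * act D hr (z : Grp.{u} D hr).right _ = _
          rw [htriv _ z.2]; rfl) rfl }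
    have hker : F.ker ≤ Subgroup.center H := fun z hz => by
      have h : z = 1 := by
        have h' : ((z : Grp.{u} D hr).left, (z : Grp.{u} D hr).right) = (1, 1) := hz
        exact Subtype.ext (SemidirectProduct.ext (congrArg Prod.fst h') (congrArg Prod.snd h'))
      rw [h]; exact one_mem _
    haveI : Group.IsNilpotent (EG.{u} D) := (IsPGroup.of_card EG.card_eg).isNilpotent
    exact Subgroup.isNilpotent_of_ker_le_center F hker

theorem proper_npc {H : Subgroup (Grp.{u} D hr)} (hH : H ≠ ⊤) :
    Cfsg.HasNormalPComplement p H :=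
  H1.hasNormalPComplement_of_nilpotent p (proper_nilpotent hr hH)

end H36.MaxSchmidt
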