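import Mathlib.FieldTheory.Finite.GaloisField
import Mathlib.RingTheory.RootsOfUnity.PrimitiveRoots
import Mathlib.RingTheory.Adjoin.Polynomial.Basic

/-!
The field generated by a primitive `q`-th root of unity over `ZMod p`, and the universal alternating
form on it invariant under multiplication by that root.
-/

set_option autoImplicit false

namespace H36.MaxSchmidt

open Polynomial

universe w

/-- The data from which the maximal Schmidt group is built. -/
structure Datum (p q a₀ : ℕ) [Fact p.Prime] where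
  /-- the field -/
  K : Type
  [fld : Field K]
  [fin : Finite K]
  [alg : Algebra (ZMod p) K]
  /-- the root of unity -/
  ζ : K
  prim : IsPrimitiveRoot ζ q
  gen : Function.Surjective (aeval (R := ZMod p) ζ)
  /-- the target of the form -/
  S : AddSubgroup K
  /-- the form -/
  β : K →+ K →+ S
  β_inv : ∀ v w, β (ζ * v) (ζ * w) = β v w
  card_eq : Nat.card K * Nat.card S = p ^ a₀
  span : ∀ s : S, ∃ v w, s = β v w - β w v
  univ : ∀ (M : Type w) [AddCommGroup M] (ω : K →+ K →+ M), (∀ v, ω v v = 0) →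
    (∀ v w, ω (ζ * v) (ζ * w) = ω v w) → ∃ ψ : S →+ M, ∀ v w, ω v w = ψ (β v w - β w v)

attribute [instance] Datum.fld Datum.fin Datum.alg

section

variable {p q : ℕ} [Fact p.Prime] {K : Type} [Field K] [Algebra (ZMod p) K]

theorem natCast_of_zmod (c : ZMod p) : algebraMap (ZMod p) K c = (c.val : K) := by
  rw [← map_natCast (algebraMap (ZMod p) K), ZMod.natCast_zmod_val]

variable {M : Type w} [AddCommGroup M]

/-- An invariant biadditive map moves polynomials in `ζ` across. -/
theorem adjoint {ζ ζ' : K} (hζ : ζ * ζ' = 1) (ω : K →+ K →+ M)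
    (hinv : ∀ v w, ω (ζ * v) (ζ * w) = ω v w) (P : (ZMod p)[X]) (v w : K) :
    ω (aeval ζ P * v) w = ω v (aeval ζ' P * w) := by
  induction P using Polynomial.induction_on generalizing v w with
  | C c =>
    rw [aeval_C, aeval_C, natCast_of_zmod, ← nsmul_eq_mul, ← nsmul_eq_mul, map_nsmul, map_nsmul]
    rfl
  | add P Q hP hQ =>
    rw [map_add, map_add, add_mul, add_mul, map_add, AddMonoidHom.add_apply, hP, hQ, map_add]
  | monomial n c ih =>
    rw [pow_succ, ← mul_assoc, map_mul (aeval ζ), map_mul (aeval ζ'), aeval_X, aeval_X, mul_assoc,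
      ih, mul_assoc]
    conv_lhs => rw [← one_mul (aeval ζ' (C c * X ^ n) * w), ← hζ, mul_assoc, hinv]
    rw [mul_left_comm]

/-- The field generated by a primitive `q`-th root of unity. -/
theorem exists_field [Fact q.Prime] (hpq : p ≠ q) (a : ℕ) (ha : a = orderOf (p : ZMod q)) :
    0 < a ∧ ∃ ζ : GaloisField p a, IsPrimitiveRoot ζ q ∧
      Function.Surjective (aeval (R := ZMod p) ζ) := by
  have hq : q.Prime := Fact.out
  have hp : p.Prime := Fact.out
  have hp0 : (p : ZMod q) ≠ 0 := fun h =>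
    hpq ((Nat.prime_dvd_prime_iff_eq hq hp).mp ((ZMod.natCast_eq_zero_iff p q).mp h)).symm
  have ha0 : 0 < a := by
    rw [ha]
    exact orderOf_pos_iff.mpr (isOfFinOrder_iff_pow_eq_one.mpr
      ⟨q - 1, Nat.sub_pos_of_lt hq.one_lt, ZMod.pow_card_sub_one_eq_one hp0⟩)
  refine ⟨ha0, ?_⟩
  set L := GaloisField p a
  haveI : Fintype L := Fintype.ofFinite L
  have hcard : Nat.card L = p ^ a := GaloisField.card p a ha0.ne'
  have hqd : q ∣ Nat.card Lˣ := by
    rw [Nat.card_units, hcard, ← ZMod.natCast_eq_zero_iff,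
      Nat.cast_sub (Nat.one_le_pow _ _ hp.pos), Nat.cast_pow, ha, pow_orderOf_eq_one, Nat.cast_one,
      sub_self]
  obtain ⟨u, hu⟩ := exists_prime_orderOf_dvd_card' q hqd
  set ζ : L := (u : L)
  have hζ : IsPrimitiveRoot ζ q := by
    have h := IsPrimitiveRoot.orderOf ζ
    rwa [orderOf_units, hu] at h
  refine ⟨ζ, hζ, ?_⟩
  set F : IntermediateField (ZMod p) L := IntermediateField.adjoin (ZMod p) {ζ}
  haveI : Fintype F := Fintype.ofFinite F
  have hF : Nat.card F = p ^ Module.finrank (ZMod p) F := by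
    rw [Module.natCard_eq_pow_finrank (K := ZMod p), Nat.card_zmod]
  have hmem : ζ ∈ F := IntermediateField.mem_adjoin_simple_self _ _
  have h1 : (⟨ζ, hmem⟩ : F) ^ (Fintype.card F - 1) = 1 :=
    FiniteField.pow_card_sub_one_eq_one _ fun h => hζ.ne_zero hq.ne_zero (congrArg Subtype.val h)
  have h2 : ζ ^ (Fintype.card F - 1) = 1 := congrArg Subtype.val h1
  have h3 : q ∣ Fintype.card F - 1 := hζ.dvd_of_pow_eq_one _ h2
  rw [← Nat.card_eq_fintype_card, hF, ← ZMod.natCast_eq_zero_iff,
      Nat.cast_sub (Nat.one_le_pow _ _ hp.pos), Nat.cast_pow, Nat.cast_one, sub_eq_zero] at h3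
  have h4 : a ∣ Module.finrank (ZMod p) F := (dvd_of_eq ha).trans (orderOf_dvd_of_pow_eq_one h3)
  have h5 : F = ⊤ := by
    refine IntermediateField.eq_of_le_of_finrank_eq le_top (le_antisymm ?_ ?_)
    · rw [IntermediateField.finrank_top']
      exact Submodule.finrank_le F.toSubalgebra.toSubmodule
    · rw [IntermediateField.finrank_top', GaloisField.finrank p ha0.ne']
      exact Nat.le_of_dvd Module.finrank_pos h4
  intro x
  have h6 : x ∈ F.toSubalgebra := by rw [h5]; trivial
  rw [IntermediateField.adjoin_simple_toSubalgebra_of_isAlgebraic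
    (Algebra.IsAlgebraic.isAlgebraic ζ), Algebra.adjoin_singleton_eq_range_aeval] at h6
  exact h6

end

section

variable {p q : ℕ} [Fact p.Prime] {K : Type} [Field K] [Finite K] [Algebra (ZMod p) K]

/-- For an odd degree every invariant alternating form vanishes. -/
theorem alt_eq_zero_of_odd (hq : q.Prime) {ζ : K} (hζ : IsPrimitiveRoot ζ q)
    (hgen : Function.Surjective (aeval (R := ZMod p) ζ)) (hodd : Odd (Module.finrank (ZMod p) K))
    {M : Type w} [AddCommGroup M] (ω : K →+ K →+ M) (halt : ∀ v, ω v v = 0)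
    (hinv : ∀ v w, ω (ζ * v) (ζ * w) = ω v w) : ω = 0 := by
  classical
  have hζ0 : ζ ≠ 0 := hζ.ne_zero hq.ne_zero
  set m := minpoly (ZMod p) ζ
  by_cases hm : aeval ζ⁻¹ m = 0
  · -- `ζ ↦ ζ⁻¹` is an automorphism of order at most two
    set f : (ZMod p)[X] →+* K := (aeval ζ).toRingHom
    set g : (ZMod p)[X] →+* K := (aeval ζ⁻¹).toRingHom
    have hker : RingHom.ker f ≤ RingHom.ker g := fun P hP => by
      obtain ⟨R, rfl⟩ := minpoly.dvd (ZMod p) ζ (show aeval ζ P = 0 from hP)
      show aeval ζ⁻¹ (m * R) = 0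
      rw [map_mul, hm, zero_mul]
    set e : K →+* K := f.liftOfSurjective hgen ⟨g, hker⟩
    have he : ∀ P, e (aeval ζ P) = aeval ζ⁻¹ P := fun P =>
      RingHom.liftOfSurjective_comp_apply f hgen ⟨g, hker⟩ P
    have heζ : e ζ = ζ⁻¹ := by have := he X; rwa [aeval_X, aeval_X] at this
    let eA : K →ₐ[ZMod p] K := { e with commutes' := fun c => by
                                          rw [natCast_of_zmod]
                                          exact map_natCast e _ }
    let eq : K ≃ₐ[ZMod p] K := AlgEquiv.ofBijective eA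
      (Finite.injective_iff_bijective.mp e.injective)
    have heq : ∀ x, eq x = e x := fun _ => rfl
    have h2 : eq ^ 2 = 1 := by
      refine AlgEquiv.ext fun x => ?_
      obtain ⟨P, rfl⟩ := hgen x
      rw [pow_two, AlgEquiv.mul_apply]
      show eA (eA (aeval ζ P)) = aeval ζ P
      rw [← Polynomial.aeval_algHom_apply, ← Polynomial.aeval_algHom_apply]
      show aeval (e (e ζ)) P = aeval ζ P
      rw [heζ, map_inv₀, heζ, inv_inv]
    have hodd' : Odd (Nat.card (K ≃ₐ[ZMod p] K)) := by
      rwa [IsGalois.card_aut_eq_finrank]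
    have h1 : eq = 1 := by
      have ha : orderOf eq ∣ Nat.gcd 2 (Nat.card (K ≃ₐ[ZMod p] K)) :=
        Nat.dvd_gcd (orderOf_dvd_of_pow_eq_one h2) (orderOf_dvd_natCard _)
      rw [Nat.Coprime.gcd_eq_one (Nat.coprime_two_left.mpr hodd')] at ha
      exact orderOf_eq_one_iff.mp (Nat.dvd_one.mp ha)
    have hsq : ζ ^ 2 = 1 := by
      have h : eq ζ = ζ := by rw [h1]; rfl
      rw [heq, heζ] at h
      rw [pow_two]
      calc ζ * ζ = ζ * ζ⁻¹ := by rw [h]
        _ = 1 := mul_inv_cancel₀ hζ0
    have hpm : ∃ n : ℕ, ζ = (n : K) := by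
      rcases mul_self_eq_one_iff.mp (show ζ * ζ = 1 by rw [← pow_two]; exact hsq) with h | h
      · exact ⟨1, by rw [h, Nat.cast_one]⟩
      · exact ⟨(-1 : ZMod p).val, by rw [h, ← natCast_of_zmod (K := K), map_neg, map_one]⟩
    obtain ⟨n, hn⟩ := hpm
    have hall : ∀ x : K, ∃ k : ℕ, x = (k : K) := fun x => by
      obtain ⟨P, rfl⟩ := hgen x
      refine ⟨(aeval (n : ZMod p) P).val, ?_⟩
      rw [← natCast_of_zmod (K := K), ← Polynomial.aeval_algebraMap_apply, map_natCast, hn]
    refine AddMonoidHom.ext fun v => AddMonoidHom.ext fun w => ?_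
    obtain ⟨i, rfl⟩ := hall v
    obtain ⟨j, rfl⟩ := hall w
    rw [show ((i : ℕ) : K) = i • (1 : K) by rw [nsmul_eq_mul, mul_one],
      show ((j : ℕ) : K) = j • (1 : K) by rw [nsmul_eq_mul, mul_one], map_nsmul, map_nsmul]
    simp [halt]
  · refine AddMonoidHom.ext fun v => AddMonoidHom.ext fun w => ?_
    have h := adjoint (mul_inv_cancel₀ hζ0) ω hinv m v ((aeval ζ⁻¹ m)⁻¹ * w)
    rw [minpoly.aeval, zero_mul, map_zero, AddMonoidHom.zero_apply, ← mul_assoc,
      mul_inv_cancel₀ hm, one_mul] at h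
    exact h.symm

/-- For an even degree the universal form takes values in the fixed field of `σ`. -/
theorem exists_even {ζ : K} (hζ0 : ζ ≠ 0) (hgen : Function.Surjective (aeval (R := ZMod p) ζ))
    (σ : K →+* K) (hσσ : ∀ x, σ (σ x) = x) (hσζ : σ ζ = ζ⁻¹) (hne : σ ζ ≠ ζ) :
    ∃ (S : AddSubgroup K) (β : K →+ K →+ S), (∀ v w, β (ζ * v) (ζ * w) = β v w) ∧
      Nat.card S * Nat.card S = Nat.card K ∧
      (∀ s : S, ∃ v w, s = β v w - β w v) ∧
      ∀ (M : Type w) [AddCommGroup M] (ω : K →+ K →+ M), (∀ v, ω v v = 0) →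
        (∀ v w, ω (ζ * v) (ζ * w) = ω v w) →
        ∃ ψ : S →+ M, ∀ v w, ω v w = ψ (β v w - β w v) := by
  let T : K →+ K := AddMonoidHom.id K + σ.toAddMonoidHom
  have hT : ∀ x, T x = x + σ x := fun _ => rfl
  have hσT : ∀ x, σ (T x) = T x := fun x => by rw [hT, map_add, hσσ, add_comm]
  set u := ζ - σ ζ with hu
  have hu0 : u ≠ 0 := sub_ne_zero.mpr (Ne.symm hne)
  have hσu : σ u = -u := by rw [hu, map_sub, hσσ, neg_sub]
  obtain ⟨z₀, hz₀⟩ : ∃ z, T z ≠ 0 := by
    by_contra hc
    push Not at hc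
    have h1 := hc 1
    rw [hT, map_one] at h1
    have h2 := hc ζ
    rw [hT] at h2
    exact hne (by linear_combination h2 - ζ * h1)
  set e := z₀ / T z₀ with he
  have hTe : T e = 1 := by
    rw [he, hT, map_div₀, hσT, ← add_div, ← hT, div_self hz₀]
  have hfix : ∀ {s}, σ s = s → T (e * s) = s := fun {s} hs => by
    rw [hT, map_mul, hs, ← add_mul, ← hT, hTe, one_mul]
  have hmem : ∀ {s}, s ∈ T.range ↔ σ s = s := fun {s} =>
    ⟨fun ⟨x, hx⟩ => hx ▸ hσT x, fun hs => ⟨e * s, hfix hs⟩⟩
  let eqv : T.ker ≃ T.range :=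
    { toFun := fun k => ⟨(k : K) / u, hmem.mpr (by
        have hk : σ (k : K) = -k := eq_neg_of_add_eq_zero_right (k.2 : T (k : K) = 0)
        rw [map_div₀, hk, hσu, neg_div_neg_eq])⟩
      invFun := fun s => ⟨(s : K) * u, by
        show T ((s : K) * u) = 0
        rw [hT, map_mul, hmem.mp s.2, hσu]
        ring⟩
      left_inv := fun k => Subtype.ext (div_mul_cancel₀ _ hu0)
      right_inv := fun s => Subtype.ext (mul_div_cancel_right₀ _ hu0) }
  have hcard : Nat.card T.range * Nat.card T.range = Nat.card K := by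
    nth_rewrite 2 [← Nat.card_congr eqv]
    rw [← AddSubgroup.index_ker]
    exact AddSubgroup.index_mul_card _
  let β : K →+ K →+ T.range := AddMonoidHom.mk' (fun v => AddMonoidHom.mk'
      (fun w => ⟨T (ζ * v * σ w), ⟨_, rfl⟩⟩)
      (fun w w' => Subtype.ext (by
        show T (ζ * v * σ (w + w')) = T (ζ * v * σ w) + T (ζ * v * σ w')
        rw [map_add σ, mul_add, map_add T])))
    (fun v v' => AddMonoidHom.ext fun w => Subtype.ext (by
      show T (ζ * (v + v') * σ w) = T (ζ * v * σ w) + T (ζ * v' * σ w)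
      rw [mul_add, add_mul, map_add T]))
  have hΔ : ∀ v w, ((β v w - β w v : T.range) : K) = T (u * (v * σ w)) := fun v w => by
    show T (ζ * v * σ w) - T (ζ * w * σ v) = _
    simp only [hT, hu, map_mul, map_sub, hσσ]
    ring
  have hinvσ : ∀ v w, ζ * v * σ (ζ * w) = v * σ w := fun v w => by
    rw [map_mul, hσζ]
    field_simp
  refine ⟨T.range, β, fun v w => Subtype.ext ?_, hcard, fun s => ?_, fun M _ ω halt hinv => ?_⟩
  · show T (ζ * (ζ * v) * σ (ζ * w)) = T (ζ * v * σ w)
    rw [mul_assoc, hinvσ, mul_assoc]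
  · refine ⟨e * s / u, 1, Subtype.ext ?_⟩
    rw [hΔ, map_one, mul_one, mul_div_cancel₀ _ hu0, hfix (hmem.mp s.2)]
  · -- the form is `φ (σ v * w)`
    have hσP : ∀ P : (ZMod p)[X], σ (aeval ζ P) = aeval ζ⁻¹ P := fun P => by
      induction P using Polynomial.induction_on with
      | C c => rw [aeval_C, aeval_C, natCast_of_zmod, map_natCast]
      | add P Q hP hQ => rw [map_add, map_add σ, hP, hQ, map_add]
      | monomial n c ih =>
        rw [pow_succ, ← mul_assoc, map_mul (aeval ζ) _ X, map_mul σ, ih, aeval_X, hσζ,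
          map_mul (aeval ζ⁻¹) _ X, aeval_X]
    have hφ : ∀ v w, ω v w = ω 1 (σ v * w) := fun v w => by
      obtain ⟨P, rfl⟩ := hgen v
      have := adjoint (mul_inv_cancel₀ hζ0) ω hinv P 1 w
      rwa [mul_one, ← hσP] at this
    have hkill : ∀ x, ω 1 (T x) = 0 := fun x => by
      have h := halt (1 + x)
      simp only [map_add, AddMonoidHom.add_apply, halt, zero_add, add_zero] at h
      rw [hT, map_add]
      rw [hφ x 1, mul_one] at h
      first
        | exact h
        | exact (add_comm _ _).trans h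
    let φ : K →+ M := (ω 1).comp σ.toAddMonoidHom
    have hfixkill : ∀ s, σ s = s → φ s = 0 := fun s hs => by
      show ω 1 (σ s) = 0
      rw [hs, ← hfix hs, hkill]
    let ψ : T.range →+ M := φ.comp
      ((AddMonoidHom.mulLeft (e / u)).comp T.range.subtype)
    refine ⟨ψ, fun v w => ?_⟩
    show ω v w = φ (e / u * ((β v w - β w v : T.range) : K))
    rw [hΔ]
    set z := v * σ w
    have h1 : σ (e / u * T (u * z) - z) = e / u * T (u * z) - z := by
      have hσe : σ e = 1 - e := by rw [← hTe, hT]; ring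
      have hz : T (u * z) = u * (z - σ z) := by rw [hT, map_mul, hσu]; ring
      have h2 : e / u * T (u * z) = e * (z - σ z) := by rw [hz]; field_simp
      rw [h2, map_sub, map_mul, map_sub, hσσ, hσe]
      ring
    have h3 := hfixkill _ h1
    rw [map_sub, sub_eq_zero] at h3
    rw [h3, hφ]
    show _ = ω 1 (σ z)
    rw [show σ z = σ v * w by rw [map_mul, hσσ]]

end

theorem nonempty_datum (p q : ℕ) [Fact p.Prime] [Fact q.Prime] (hpq : p ≠ q) (a a₀ : ℕ)
    (ha : a = orderOf (p : ZMod q)) (ha₀ : a₀ = if a % 2 = 1 then a else 3 * a / 2) :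
    Nonempty (Datum.{w} p q a₀) := by
  obtain ⟨ha0, ζ, hζ, hgen⟩ := exists_field hpq a ha
  have hq : q.Prime := Fact.out
  have hcard : Nat.card (GaloisField p a) = p ^ a := GaloisField.card p a ha0.ne'
  by_cases h2 : a % 2 = 1
  · rw [if_pos h2] at ha₀
    refine ⟨{ K := GaloisField p a, ζ := ζ, prim := hζ, gen := hgen, S := ⊥, β := 0,
              β_inv := fun _ _ => rfl, card_eq := by rw [hcard, AddSubgroup.card_bot, mul_one, ha₀],
              span := fun s => ⟨0, 0, Subsingleton.elim _ _⟩, univ := fun M _ ω halt hinv => ?_ }⟩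
    refine ⟨0, fun v w => ?_⟩
    rw [alt_eq_zero_of_odd hq hζ hgen (by rw [GaloisField.finrank p ha0.ne']; exact Nat.odd_iff.mpr h2)
      ω halt hinv]
    rfl
  · rw [if_neg h2] at ha₀
    set b := a / 2 with hb
    have hab : a = b + b := by omega
    let σ : GaloisField p a →+* GaloisField p a := iterateFrobenius (GaloisField p a) p b
    have hσσ : ∀ x, σ (σ x) = x := fun x => by
      haveI := Fintype.ofFinite (GaloisField p a)
      show (x ^ p ^ b) ^ p ^ b = x
      rw [← pow_mul, ← pow_add, ← hab, ← hcard, Nat.card_eq_fintype_card, FiniteField.pow_card]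
    have hpb : ((p : ZMod q) ^ b) = -1 := by
      have h1 : (p : ZMod q) ^ b * (p : ZMod q) ^ b = 1 := by
        rw [← pow_add, ← hab, ha, pow_orderOf_eq_one]
      rcases mul_self_eq_one_iff.mp h1 with h | h
      · have := Nat.le_of_dvd (by omega) (orderOf_dvd_of_pow_eq_one h)
        omega
      · exact h
    have hd : q ∣ p ^ b + 1 := by
      rw [← ZMod.natCast_eq_zero_iff, Nat.cast_add, Nat.cast_pow, hpb, Nat.cast_one]
      exact neg_add_cancel 1
    have hσζ : σ ζ = ζ⁻¹ := by
      show ζ ^ p ^ b = ζ⁻¹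
      refine eq_inv_of_mul_eq_one_left ?_
      rw [← pow_succ]
      exact (hζ.pow_eq_one_iff_dvd _).mpr hd
    have hne : σ ζ ≠ ζ := by
      intro h
      rw [hσζ] at h
      have h1 : ζ ^ 2 = 1 := by
        rw [pow_two]
        nth_rewrite 2 [← h]
        exact mul_inv_cancel₀ (hζ.ne_zero hq.ne_zero)
      have hq2 : q = 2 := (Nat.prime_dvd_prime_iff_eq hq Nat.prime_two).mp (hζ.dvd_of_pow_eq_one 2 h1)
      subst hq2
      have h3 : (p : ZMod 2) = 1 := by
        have hodd := (Fact.out : p.Prime).eq_two_or_odd.resolve_left hpq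
        rw [← ZMod.natCast_mod, hodd, Nat.cast_one]
      rw [h3, orderOf_one] at ha
      omega
    obtain ⟨S, β, hβ, hS, hspan, huniv⟩ := exists_even (hζ.ne_zero hq.ne_zero) hgen σ hσσ hσζ hne
    refine ⟨{ K := GaloisField p a, ζ := ζ, prim := hζ, gen := hgen, S := S, β := β,
              β_inv := hβ, card_eq := ?_, span := hspan, univ := huniv }⟩
    have hS' : Nat.card S = p ^ b := by
      apply Nat.pow_left_injective (n := 2) two_ne_zero
      show Nat.card S ^ 2 = (p ^ b) ^ 2
      rw [pow_two, hS, hcard, ← pow_mul]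
      congr 1
      omega
    rw [hcard, hS', ← pow_add, ha₀]
    congr 1
    omega

end H36.MaxSchmidt
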