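import Cfsg.Prelude.Def_Transfer
import Cfsg.Agent.S3764
import Cfsg.Agent.H31.InvariantMax
import Cfsg.Agent.H29.HallHigmanExtraspecial

/-!
An automorphism of prime order `r` of a `q`-group, minimal acting: every invariant proper subgroup
is fixed.  On a coprime module its fixed points are nontrivial, apart from the Fermat case.
-/

set_option autoImplicit false
set_option linter.unusedSectionVars false

namespace H36.MinAct

open Subgroup
open scoped commutatorElement

variable {Q : Type*} [Group Q] [Finite Q] {θ : Q ≃* Q} {q r : ℕ}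

/-- Fixed points. -/
def fixedSub (θ : Q ≃* Q) : Subgroup Q where
  carrier := {a | θ a = a}
  one_mem' := map_one θ
  mul_mem' := fun {a b} ha hb => by
    show θ (a * b) = a * b
    rw [map_mul, ha, hb]
  inv_mem' := fun {a} ha => by
    show θ a⁻¹ = a⁻¹
    rw [map_inv, ha]

/-- `θ` is nontrivial and fixes every proper invariant subgroup. -/
structure IsMin (θ : Q ≃* Q) (q r : ℕ) : Prop where
  hQ : IsPGroup q Q
  hq : q.Prime
  hr : r.Prime
  hqr : q ≠ r
  hθr : ∀ a, (θ : Q → Q)^[r] a = a
  hne : ∃ a, θ a ≠ a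
  hmin : ∀ S : Subgroup Q, S ≠ ⊤ → (∀ a ∈ S, θ a ∈ S) → S ≤ fixedSub θ

variable (h : IsMin θ q r)

include h

theorem IsMin.gen : closure (Set.range fun a => θ a * a⁻¹) = ⊤ := by
  by_contra hC
  have hle := h.hmin _ hC fun a ha => by
    have hc : closure (Set.range fun a => θ a * a⁻¹) ≤
        (closure (Set.range fun a => θ a * a⁻¹)).comap θ.toMonoidHom := by
      rw [closure_le]
      rintro _ ⟨a, rfl⟩
      refine subset_closure ⟨θ a, ?_⟩
      show θ (θ a) * (θ a)⁻¹ = θ (θ a * a⁻¹)
      rw [map_mul, map_inv]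
    exact hc ha
  obtain ⟨a, ha⟩ := h.hne
  apply ha
  set c := θ a * a⁻¹ with hc
  have hcfix : θ c = c := hle (subset_closure ⟨a, rfl⟩)
  have hk : ∀ k, (θ : Q → Q)^[k] a = c ^ k * a := by
    intro k
    induction k with
    | zero => simp
    | succ k ih =>
      rw [Function.iterate_succ_apply', ih, map_mul, map_pow, hcfix, pow_succ, mul_assoc, hc,
        inv_mul_cancel_right]
  have hcr : c ^ r = 1 := by
    have := hk r
    rwa [h.hθr, eq_comm, mul_eq_right] at this
  obtain ⟨k, hk⟩ := h.hQ c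
  have h1 : orderOf c ∣ Nat.gcd (q ^ k) r :=
    Nat.dvd_gcd (orderOf_dvd_of_pow_eq_one hk) (orderOf_dvd_of_pow_eq_one hcr)
  rw [Nat.Coprime.gcd_eq_one (((Nat.coprime_primes h.hq h.hr).mpr h.hqr).pow_left k)] at h1
  exact mul_inv_eq_one.mp (orderOf_eq_one_iff.mp (Nat.dvd_one.mp h1))

theorem IsMin.eq_top_of_gen {S : Subgroup Q} (hS : ∀ a, θ a * a⁻¹ ∈ S) : S = ⊤ := by
  rw [← top_le_iff, ← h.gen, closure_le]
  rintro _ ⟨a, rfl⟩
  exact hS a

theorem IsMin.fixed_ne_top : fixedSub θ ≠ ⊤ := fun he => by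
  obtain ⟨a, ha⟩ := h.hne
  exact ha (show a ∈ fixedSub θ by rw [he]; exact mem_top a)

theorem IsMin.fixed_normal : (fixedSub θ).Normal := by
  haveI : Fact q.Prime := ⟨h.hq⟩
  haveI := h.hQ.isNilpotent
  by_contra hn
  have hN : normalizer (fixedSub θ : Set Q) ≠ ⊤ := fun he => hn (normalizer_eq_top_iff.mp he)
  have hle := h.hmin _ hN fun a ha => by
    refine mem_normalizer_iff.mpr fun d => ⟨fun hd => ?_, fun hd => ?_⟩
    · have h1 : θ (a * d * a⁻¹) = a * d * a⁻¹ := (mem_normalizer_iff.mp ha d).mp hd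
      have e : θ a * d * (θ a)⁻¹ = a * d * a⁻¹ := by
        rw [← h1, map_mul, map_mul, map_inv, show θ d = d from hd]
      show θ (θ a * d * (θ a)⁻¹) = θ a * d * (θ a)⁻¹
      rw [e, h1]
    · obtain ⟨e, rfl⟩ := θ.surjective d
      have h2 : θ (a * e * a⁻¹) = θ a * θ e * (θ a)⁻¹ := by rw [map_mul, map_mul, map_inv]
      rw [← h2] at hd
      have h3 : a * e * a⁻¹ ∈ fixedSub θ := θ.injective hd
      have h4 : θ e = e := (mem_normalizer_iff.mp ha e).mpr h3
      show θ (θ e) = θ e
      rw [h4, h4]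
  exact absurd hle (not_le_of_gt (Group.normalizerCondition_of_isNilpotent _ h.fixed_ne_top.lt_top))

theorem IsMin.fixed_central {f : Q} (hf : θ f = f) : f ∈ center Q := by
  have hC : centralizer ({f} : Set Q) = ⊤ := h.eq_top_of_gen fun a => by
    have hb : θ (a⁻¹ * f * a) = a⁻¹ * f * a := by
      have := h.fixed_normal.conj_mem f hf a⁻¹
      rwa [inv_inv] at this
    rw [map_mul, map_mul, map_inv, hf] at hb
    rw [mem_centralizer_singleton_iff]
    calc θ a * a⁻¹ * f = θ a * (a⁻¹ * f * a) * a⁻¹ := by group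
      _ = f * (θ a * a⁻¹) := by rw [← hb]; group
  exact mem_center_iff.mpr fun g =>
    mem_centralizer_singleton_iff.mp (show g ∈ centralizer ({f} : Set Q) by rw [hC]; exact mem_top g)

theorem IsMin.nontriv : Nontrivial Q := by
  obtain ⟨a, ha⟩ := h.hne
  exact ⟨θ a, a, ha⟩

theorem IsMin.frattini_le : frattini Q ≤ fixedSub θ := by
  refine h.hmin _ ?_ fun a ha => ?_
  · haveI := h.nontriv
    obtain he | ⟨M, hM, -⟩ := eq_top_or_exists_le_coatom (⊥ : Subgroup Q)
    · exact absurd he bot_ne_top
    · exact ne_top_of_le_ne_top hM.1 (frattini_le_coatom hM)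
  · have := characteristic_iff_map_eq.mp (inferInstance : (frattini Q).Characteristic) θ
    rw [← this]
    exact ⟨a, ha, rfl⟩

theorem IsMin.commutator_le_fixed : commutator Q ≤ fixedSub θ := by
  haveI : Fact q.Prime := ⟨h.hq⟩
  exact (H31.commutator_le_frattini h.hQ).trans h.frattini_le

theorem IsMin.pow_fixed (a : Q) : θ (a ^ q) = a ^ q := by
  haveI : Fact q.Prime := ⟨h.hq⟩
  exact h.frattini_le (H31.pow_mem_frattini h.hQ a)

theorem IsMin.pow_mem_commutator (a : Q) : a ^ q ∈ commutator Q := by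
  let ψ : Q →* Abelianization Q := (powMonoidHom q).comp Abelianization.of
  have hker : ψ.ker = ⊤ := h.eq_top_of_gen fun a => by
    show (Abelianization.of (θ a * a⁻¹)) ^ q = 1
    rw [map_mul, map_inv, mul_pow, inv_pow, ← map_pow, ← map_pow, ← map_pow, h.pow_fixed,
      mul_inv_cancel]
  have ha : Abelianization.of (a ^ q) = 1 := by
    rw [map_pow]
    exact MonoidHom.mem_ker.mp (show a ∈ ψ.ker by rw [hker]; exact mem_top a)
  rw [← Abelianization.ker_of]
  exact ha

theorem IsMin.commutator_pow {z : Q} (hz : z ∈ commutator Q) : z ^ q = 1 := by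
  let E : Subgroup Q :=
    { carrier := {x | x ∈ center Q ∧ x ^ q = 1}
      one_mem' := ⟨one_mem _, one_pow q⟩
      mul_mem' := fun {x y} hx hy => ⟨mul_mem hx.1 hy.1, by
        rw [(show Commute x y from mem_center_iff.mp hy.1 x).mul_pow, hx.2, hy.2, one_mul]⟩
      inv_mem' := fun {x} hx => ⟨inv_mem hx.1, by rw [inv_pow, hx.2, inv_one]⟩ }
  have hle : commutator Q ≤ E := by
    rw [commutator_eq_closure, closure_le]
    rintro _ ⟨a, b, rfl⟩
    have hcom : ⁅a, b⁆ ∈ commutator Q := by
      rw [commutator_eq_closure]; exact subset_closure ⟨a, b, rfl⟩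
    have hc := h.fixed_central (h.commutator_le_fixed hcom)
    refine ⟨hc, ?_⟩
    set c := ⁅a, b⁆ with hcdef
    have hk : ∀ k : ℕ, a ^ k * b * (a ^ k)⁻¹ = c ^ k * b := by
      intro k
      induction k with
      | zero => simp
      | succ k ih =>
        have hcm := mem_center_iff.mp (pow_mem hc k) a
        calc a ^ (k + 1) * b * (a ^ (k + 1))⁻¹ = a * (a ^ k * b * (a ^ k)⁻¹) * a⁻¹ := by
              rw [pow_succ']; group
          _ = a * c ^ k * b * a⁻¹ := by rw [ih]; group
          _ = c ^ k * (a * b * a⁻¹) := by rw [hcm]; group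
          _ = c ^ (k + 1) * b := by rw [pow_succ, hcdef, commutatorElement_def]; group
    have h1 := hk q
    rw [← mem_center_iff.mp (h.fixed_central (h.pow_fixed a)) b, mul_inv_cancel_right,
      eq_comm, mul_eq_right] at h1
    exact h1
  exact (hle hz).2

theorem IsMin.fixed_le_commutator : fixedSub θ ≤ commutator Q := by
  let φ : Q →* Abelianization Q :=
    { toFun := fun a => Abelianization.of (θ a * a⁻¹)
      map_one' := by simp
      map_mul' := fun a b => by
        simp only [map_mul, map_inv, mul_inv_rev]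
        rw [mul_comm (Abelianization.of b)⁻¹, mul_mul_mul_comm] }
  intro d hd
  have hsurj : (φ.range).comap Abelianization.of = ⊤ :=
    h.eq_top_of_gen fun a => ⟨a, rfl⟩
  let φ' : Abelianization Q →* Abelianization Q := Abelianization.lift φ
  have hs : Function.Surjective φ' := by
    intro x
    obtain ⟨b, rfl⟩ := QuotientGroup.mk_surjective x
    obtain ⟨a, ha⟩ := (show b ∈ (φ.range).comap Abelianization.of by rw [hsurj]; exact mem_top b)
    exact ⟨Abelianization.of a, (Abelianization.lift_apply_of φ a).trans ha⟩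
  have hinj := Finite.injective_iff_surjective.mpr hs
  rw [← Abelianization.ker_of]
  refine hinj ?_
  rw [map_one, Abelianization.lift_apply_of]
  show Abelianization.of (θ d * d⁻¹) = 1
  rw [show θ d = d from hd, mul_inv_cancel, map_one]

omit h

variable {A : Type*} [AddCommGroup A] [Finite A]

theorem pow_fix {act : Q →* AddMonoid.End A} {a : Q} {v : A} (hv : act a v = v) (k : ℕ) :
    act (a ^ k) v = v := by
  induction k with
  | zero => rw [pow_zero, map_one]; rfl
  | succ k ih =>
    rw [pow_succ, map_mul]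
    show act (a ^ k) (act a v) = v
    rw [hv, ih]

/-- The sum over the powers of a fixed-point-free element vanishes. -/
theorem sum_pow_eq_zero {f : AddMonoid.End A} {n : ℕ} (hf : f ^ n = 1)
    (hfix : ∀ v, f v = v → v = 0) (v : A) : ∑ i ∈ Finset.range n, (f ^ i) v = 0 := by
  apply hfix
  rw [map_sum]
  have h1 := Finset.sum_range_succ (fun i => (f ^ i) v) n
  rw [Finset.sum_range_succ', hf] at h1
  simp only [pow_succ', pow_zero] at h1
  exact add_right_cancel h1

theorem eq_zero_of_nsmul {p : ℕ} (hp : p.Prime) (hexp : ∀ v : A, p • v = 0) {n : ℕ}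
    (hn : ¬ p ∣ n) {v : A} (hv : n • v = 0) : v = 0 := by
  have h1 : addOrderOf v ∣ Nat.gcd p n :=
    Nat.dvd_gcd (addOrderOf_dvd_of_nsmul_eq_zero (hexp v)) (addOrderOf_dvd_of_nsmul_eq_zero hv)
  rw [Nat.Coprime.gcd_eq_one ((Nat.Prime.coprime_iff_not_dvd hp).mpr hn)] at h1
  exact AddMonoid.addOrderOf_eq_one_iff.mp (Nat.dvd_one.mp h1)

include h in
theorem IsMin.not_dvd_card {p : ℕ} (hp : p.Prime) (hpq : p ≠ q) : ¬ p ∣ Nat.card Q := by
  haveI : Fact q.Prime := ⟨h.hq⟩
  obtain ⟨k, hk⟩ := IsPGroup.iff_card.mp h.hQ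
  rw [hk]
  exact fun hd => hpq ((Nat.prime_dvd_prime_iff_eq hp h.hq).mp (hp.dvd_of_dvd_pow hd))

include h in
/-- The abelian case. -/
theorem IsMin.abelian_case {p : ℕ} (hp : p.Prime) (hpq : p ≠ q) (hexp : ∀ v : A, p • v = 0)
    (hcomm : commutator Q = ⊥) (act : Q →* AddMonoid.End A) (u : AddMonoid.End A) (hu : u ^ r = 1)
    (hfix : ∀ v, u v = v → v = 0) (hua : ∀ a, u * act a = act (θ a) * u)
    (hQfix : ∀ v, (∀ a, act a v = v) → v = 0) (v : A) : v = 0 := by
  classical
  haveI := Fintype.ofFinite Q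
  refine eq_zero_of_nsmul hp hexp (h.not_dvd_card hp hpq) ?_
  have hD : ∀ x, θ x = x → x = 1 := fun x hx => by
    have := h.fixed_le_commutator hx
    rwa [hcomm, mem_bot] at this
  have hab : ∀ a b : Q, a * b = b * a := fun a b => by
    have hc : ⁅a, b⁆ ∈ commutator Q :=
      commutator_mem_commutator (mem_top a) (mem_top b)
    rwa [hcomm, mem_bot, commutatorElement_eq_one_iff_mul_comm] at hc
  have hui : ∀ (i : ℕ) (a : Q), u ^ i * act a = act ((θ : Q → Q)^[i] a) * u ^ i := by
    intro i
    induction i with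
    | zero => intro a; simp
    | succ i ih =>
      intro a
      rw [pow_succ', mul_assoc, ih, ← mul_assoc, hua, mul_assoc, Function.iterate_succ_apply']
  have hrow : ∀ a : Q, ∑ i ∈ Finset.range r, act (a * (θ : Q → Q)^[i] a⁻¹) ((u ^ i) v) = 0 := by
    intro a
    have e : ∀ i, act (a * (θ : Q → Q)^[i] a⁻¹) ((u ^ i) v) = act a ((u ^ i) (act a⁻¹ v)) := by
      intro i
      rw [map_mul]
      show act a (act ((θ : Q → Q)^[i] a⁻¹) ((u ^ i) v)) = _
      congr 1
      exact (DFunLike.congr_fun (hui i a⁻¹) v).symm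
    simp only [e]
    rw [← map_sum, sum_pow_eq_zero hu hfix, map_zero]
  have hcol : ∀ i ∈ Finset.range r, i ≠ 0 →
      ∑ a : Q, act (a * (θ : Q → Q)^[i] a⁻¹) ((u ^ i) v) = 0 := by
    intro i hi hi0
    rw [Finset.mem_range] at hi
    have hinj : Function.Injective fun a : Q => a * (θ : Q → Q)^[i] a⁻¹ := by
      intro a b hab'
      have hfixd : (θ : Q → Q)^[i] (b⁻¹ * a) = b⁻¹ * a := by
        have hhom : ∀ x y : Q, (θ : Q → Q)^[i] (x * y) =
            (θ : Q → Q)^[i] x * (θ : Q → Q)^[i] y := iterate_map_mul θ i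
        have hinv : ∀ x : Q, (θ : Q → Q)^[i] x⁻¹ = ((θ : Q → Q)^[i] x)⁻¹ := iterate_map_inv θ i
        simp only [hinv] at hab'
        rw [hhom, hinv]
        have h1 := congrArg (fun z => b⁻¹ * z * (θ : Q → Q)^[i] a) hab'
        rw [show b⁻¹ * (a * ((θ : Q → Q)^[i] a)⁻¹) * (θ : Q → Q)^[i] a = b⁻¹ * a by group,
          show b⁻¹ * (b * ((θ : Q → Q)^[i] b)⁻¹) * (θ : Q → Q)^[i] a =
            ((θ : Q → Q)^[i] b)⁻¹ * (θ : Q → Q)^[i] a by group] at h1
        exact h1.symm
      have h1 : Function.IsPeriodicPt (θ : Q → Q) (Nat.gcd i r) (b⁻¹ * a) :=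
        Function.IsPeriodicPt.gcd hfixd (h.hθr _)
      rw [Nat.Coprime.gcd_eq_one (Nat.Coprime.symm ((Nat.Prime.coprime_iff_not_dvd h.hr).mpr
        fun hd => absurd (Nat.le_of_dvd (Nat.pos_of_ne_zero hi0) hd) (by omega)))] at h1
      exact (inv_mul_eq_one.mp (hD _ h1)).symm
    let e : Q ≃ Q := Equiv.ofBijective _ (Finite.injective_iff_bijective.mp hinj)
    refine (Equiv.sum_comp e (fun b => act b ((u ^ i) v))).trans ?_
    apply hQfix
    intro b
    rw [map_sum]
    refine Fintype.sum_equiv (Equiv.mulLeft b) _ _ fun a => ?_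
    rw [Equiv.coe_mulLeft, map_mul]; rfl
  have htot := Finset.sum_eq_zero (s := (Finset.univ : Finset Q)) fun a _ => hrow a
  rw [Finset.sum_comm, Finset.sum_eq_single 0 hcol
    (fun h0 => absurd (Finset.mem_range.mpr h.hr.pos) h0)] at htot
  rw [Nat.card_eq_fintype_card, ← Finset.card_univ, ← Finset.sum_const]
  rw [← htot]
  refine Finset.sum_congr rfl fun a _ => ?_
  simp

/-- Restriction of a commuting endomorphism. -/
def restrictEnd (M : AddSubgroup A) (f : AddMonoid.End A) (hf : ∀ v ∈ M, f v ∈ M) :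
    AddMonoid.End ↥M where
  toFun v := ⟨f v, hf v v.2⟩
  map_zero' := Subtype.ext (map_zero f)
  map_add' v w := Subtype.ext (map_add f (v : A) (w : A))

/-- Restriction of an action to an invariant subgroup. -/
def restrictHom (M : AddSubgroup A) (act : Q →* AddMonoid.End A)
    (hM : ∀ a, ∀ v ∈ M, act a v ∈ M) : Q →* AddMonoid.End ↥M where
  toFun a := restrictEnd M (act a) (hM a)
  map_one' := AddMonoidHom.ext fun v => Subtype.ext (by
    show act 1 (v : A) = _; rw [map_one]; rfl)
  map_mul' a b := AddMonoidHom.ext fun v => Subtype.ext (by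
    show act (a * b) (v : A) = _; rw [map_mul]; rfl)

theorem restrictEnd_pow (M : AddSubgroup A) (f : AddMonoid.End A) (hf : ∀ v ∈ M, f v ∈ M)
    (k : ℕ) (v : ↥M) : (((restrictEnd M f hf) ^ k) v : A) = (f ^ k) v := by
  induction k with
  | zero => rfl
  | succ k ih =>
    rw [pow_succ', pow_succ']
    show f ((((restrictEnd M f hf) ^ k) v : ↥M) : A) = f ((f ^ k) v)
    rw [ih]

theorem restrictEnd_pow_eq_one (M : AddSubgroup A) (f : AddMonoid.End A)
    (hf : ∀ v ∈ M, f v ∈ M) {k : ℕ} (hk : f ^ k = 1) : (restrictEnd M f hf) ^ k = 1 :=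
  AddMonoidHom.ext fun v => Subtype.ext
    ((restrictEnd_pow M f hf k v).trans (DFunLike.congr_fun hk (v : A)))

include h in
/-- The irreducible case. -/
theorem IsMin.irreducible_case [Nontrivial A] {p : ℕ} (hp : p.Prime) (hpq : p ≠ q) (hpr : p ≠ r)
    (hexp : ∀ v : A, p • v = 0) (act : Q →* AddMonoid.End A) (u : AddMonoid.End A) (hu : u ^ r = 1)
    (hfix : ∀ v, u v = v → v = 0) (hua : ∀ a, u * act a = act (θ a) * u)
    {z : Q} (hz : z ∈ commutator Q) (hzN : z ∉ act.ker)
    (hfpf : ∀ y ∈ commutator Q, y ∉ act.ker → ∀ w : A, act y w = w → w = 0) :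
    q = 2 ∧ ∃ n : ℕ, r = 2 ^ n + 1 := by
  classical
  haveI : Fact q.Prime := ⟨h.hq⟩
  haveI : Fact p.Prime := ⟨hp⟩
  set N := act.ker with hN
  have hNθ : ∀ a ∈ N, θ a ∈ N := by
    intro a ha
    rw [MonoidHom.mem_ker] at ha ⊢
    refine AddMonoidHom.ext fun w => ?_
    have hsur : u ((u ^ (r - 1)) w) = w := by
      show (u * u ^ (r - 1)) w = w
      rw [← pow_succ', Nat.sub_add_cancel h.hr.one_le, hu]; rfl
    show act (θ a) w = w
    conv_lhs => rw [← hsur]
    show (act (θ a) * u) ((u ^ (r - 1)) w) = w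
    rw [← hua, ha, mul_one]
    exact hsur
  have hDc : ∀ {x}, x ∈ commutator Q → x ∈ center Q :=
    fun {x} hx => h.fixed_central (h.commutator_le_fixed hx)
  have hzq : z ^ q = 1 := h.commutator_pow hz
  -- the commutator subgroup is cyclic modulo `N`
  have hcyc : ∀ y ∈ commutator Q, ∃ k : ℕ, y * z ^ k ∈ N := by
    intro y hy
    by_contra hno
    push Not at hno
    obtain ⟨w, hw0ne⟩ := exists_ne (0 : A)
    apply hw0ne
    refine eq_zero_of_nsmul hp hexp (n := q) (fun hd => hpq ((Nat.prime_dvd_prime_iff_eq hp h.hq).mp hd)) ?_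
    have hrow : ∀ i ∈ Finset.range q, ∑ j ∈ Finset.range q, act ((y * z ^ i) ^ j) w = 0 := by
      intro i _
      simp only [map_pow act]
      refine sum_pow_eq_zero ?_ (hfpf _ (mul_mem hy (pow_mem hz i)) (hno i)) w
      rw [← map_pow, h.commutator_pow (mul_mem hy (pow_mem hz i)), map_one]
    have hcol : ∀ j ∈ Finset.range q, j ≠ 0 →
        ∑ i ∈ Finset.range q, act ((y * z ^ i) ^ j) w = 0 := by
      intro j hj hj0
      rw [Finset.mem_range] at hj
      have e : ∀ i, act ((y * z ^ i) ^ j) w = ((act (z ^ j)) ^ i) (act (y ^ j) w) := by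
        intro i
        rw [← map_pow]
        show _ = (act ((z ^ j) ^ i) * act (y ^ j)) w
        rw [← map_mul, (show Commute y (z ^ i) from mem_center_iff.mp (pow_mem (hDc hz) i) y).mul_pow,
          ← pow_mul, ← pow_mul, mul_comm j i,
          mem_center_iff.mp (pow_mem (hDc hz) (i * j)) (y ^ j)]
      simp only [e]
      refine sum_pow_eq_zero ?_ (hfpf _ (pow_mem hz j) fun hzj => hzN ?_) _
      · rw [← map_pow, h.commutator_pow (pow_mem hz j), map_one]
      · obtain ⟨m, -, hm⟩ := Nat.exists_mul_mod_eq_one_of_coprime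
          (show Nat.Coprime j q from Nat.Coprime.symm ((Nat.Prime.coprime_iff_not_dvd h.hq).mpr
            fun hd => absurd (Nat.le_of_dvd (Nat.pos_of_ne_zero hj0) hd) (by omega))) h.hq.one_lt
        have : z = (z ^ j) ^ m := by
          conv_rhs => rw [← pow_mul, ← Nat.div_add_mod (j * m) q, hm, pow_add, pow_mul, hzq,
            one_pow, one_mul, pow_one]
        rw [this]
        exact pow_mem hzj m
    have htot := Finset.sum_eq_zero hrow
    rw [Finset.sum_comm, Finset.sum_eq_single 0 hcol
      (fun h0 => absurd (Finset.mem_range.mpr h.hq.pos) h0)] at htot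
    simp at htot
    exact htot
  -- the extraspecial section
  haveI hNn : N.Normal := MonoidHom.normal_ker _
  have hNmap : N.map (θ : Q →* Q) = N := by
    refine eq_of_le_of_card_ge ?_ (card_map_of_injective θ.injective).ge
    rintro _ ⟨a, ha, rfl⟩
    exact hNθ a ha
  let θb : Q ⧸ N ≃* Q ⧸ N := QuotientGroup.congr N N θ hNmap
  have hθb : ∀ a, θb (QuotientGroup.mk' N a) = QuotientGroup.mk' N (θ a) := fun a => rfl
  set π := QuotientGroup.mk' N with hπ
  have hπs : Function.Surjective π := QuotientGroup.mk'_surjective N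
  -- invariant proper preimages are fixed
  have hpre : ∀ S : Subgroup (Q ⧸ N), (∀ x ∈ S, θb x ∈ S) → S.comap π ≠ ⊤ →
      S ≤ (commutator Q).map π := by
    intro S hS hne x hx
    obtain ⟨a, rfl⟩ := hπs x
    exact ⟨a, h.fixed_le_commutator (h.hmin _ hne (fun b hb => hS _ hb) hx), rfl⟩
  have hZeq : center (Q ⧸ N) = (commutator Q).map π := by
    refine le_antisymm (hpre _ ?_ ?_) ?_
    · intro x hx
      refine mem_center_iff.mpr fun g => ?_
      obtain ⟨g', rfl⟩ := θb.surjective g
      rw [← map_mul, ← map_mul, mem_center_iff.mp hx g']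
    · intro htop
      apply hzN
      have hle : commutator Q ≤ N := by
        rw [commutator_eq_closure, closure_le]
        rintro _ ⟨a, b, rfl⟩
        show ⁅a, b⁆ ∈ N
        have ha : π a ∈ center (Q ⧸ N) := by
          show a ∈ (center (Q ⧸ N)).comap π
          rw [htop]; exact mem_top a
        rw [← QuotientGroup.eq_one_iff (N := N)]
        show π ⁅a, b⁆ = 1
        rw [map_commutatorElement, commutatorElement_eq_one_iff_mul_comm]
        exact (mem_center_iff.mp ha (π b)).symm
      exact hle hz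
    · rintro _ ⟨x, hx, rfl⟩
      refine mem_center_iff.mpr fun g => ?_
      obtain ⟨g', rfl⟩ := hπs g
      rw [← map_mul, ← map_mul, mem_center_iff.mp (hDc hx) g']
  have hcard : Nat.card ((commutator Q).map π) = q := by
    have heq : (commutator Q).map π = zpowers (π z) := by
      refine le_antisymm ?_ (zpowers_le.mpr ⟨z, hz, rfl⟩)
      rintro _ ⟨y, hy, rfl⟩
      obtain ⟨k, hk⟩ := hcyc y hy
      have h1 : π y * π z ^ k = 1 := by
        rw [← map_pow, ← map_mul]; exact (QuotientGroup.eq_one_iff _).mpr hk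
      rw [eq_inv_of_mul_eq_one_left h1]
      exact inv_mem (pow_mem (mem_zpowers _) k)
    rw [heq, Nat.card_zpowers]
    refine orderOf_eq_prime (by rw [← map_pow, hzq, map_one]) fun h1 => hzN ?_
    exact (QuotientGroup.eq_one_iff _).mp h1
  have hQb : IsPGroup q (Q ⧸ N) := h.hQ.to_quotient N
  have hcommeq : commutator (Q ⧸ N) = (commutator Q).map π := by
    rw [_root_.commutator_def, _root_.commutator_def, Subgroup.map_commutator,
      Subgroup.map_top_of_surjective π hπs]
  have hfrat : frattini (Q ⧸ N) = center (Q ⧸ N) := by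
    refine le_antisymm ?_ ?_
    · rw [hZeq]
      refine hpre _ (fun x hx => ?_) ?_
      · have := characteristic_iff_map_eq.mp (inferInstance : (frattini (Q ⧸ N)).Characteristic) θb
        rw [← this]
        exact ⟨x, hx, rfl⟩
      · intro htop
        haveI : Nontrivial (Q ⧸ N) := by
          refine ⟨π z, 1, fun h1 => hzN ((QuotientGroup.eq_one_iff _).mp h1)⟩
        obtain he | ⟨Mx, hMx, -⟩ := eq_top_or_exists_le_coatom (⊥ : Subgroup (Q ⧸ N))
        · exact absurd he bot_ne_top
        · apply hMx.1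
          rw [← top_le_iff]
          intro x _
          obtain ⟨a, rfl⟩ := hπs x
          exact frattini_le_coatom hMx (show a ∈ (frattini (Q ⧸ N)).comap π by
            rw [htop]; exact mem_top a)
    · rw [hZeq, ← hcommeq]
      exact H31.commutator_le_frattini hQb
  have hes : Cfsg.IsExtraspecial q (Q ⧸ N) :=
    ⟨⟨hQb, hfrat, hcommeq.trans hZeq.symm⟩, by rw [hZeq, hcard]⟩
  have hθbr : ∀ x, (θb : Q ⧸ N → Q ⧸ N)^[r] x = x := by
    intro x
    obtain ⟨a, rfl⟩ := hπs x
    have : ∀ k, (θb : Q ⧸ N → Q ⧸ N)^[k] (π a) = π ((θ : Q → Q)^[k] a) := by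
      intro k
      induction k with
      | zero => rfl
      | succ k ih => rw [Function.iterate_succ_apply', ih, Function.iterate_succ_apply']; rfl
    rw [this, h.hθr]
  have hθbfix : ∀ x, θb x = x ↔ x ∈ center (Q ⧸ N) := by
    intro x
    constructor
    · intro hx
      rw [hZeq]
      refine hpre (fixedSub θb) (fun y hy => ?_) ?_ hx
      · show θb (θb y) = θb y
        exact congrArg θb hy
      · intro htop
        apply hzN
        have : N = ⊤ := h.eq_top_of_gen fun a => by
          have ha : a ∈ (fixedSub θb).comap π := by rw [htop]; exact mem_top a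
          rw [← QuotientGroup.eq_one_iff (N := N)]
          show π (θ a * a⁻¹) = 1
          rw [map_mul, map_inv, ← hθb, show θb (π a) = π a from ha, mul_inv_cancel]
        rw [this]; exact mem_top z
    · intro hx
      rw [hZeq] at hx
      obtain ⟨a, ha, rfl⟩ := hx
      rw [hθb, show θ a = a from h.commutator_le_fixed ha]
  -- pass to an algebraically closed field
  let U := (AddMonoid.End A)ˣ
  let uU : U := Units.ofPowEqOne u r hu h.hr.ne_zero
  obtain ⟨m, ρ, hker, hρfix⟩ := Cfsg.Agent.S3764.exists_rep_aux (N := U) (A := A) (p := p)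
    (fun v => hexp v) (Units.coeHom _)
  let gQ : Q →* U := act.toHomUnits
  have hNg : N = gQ.ker := by
    ext a
    exact ⟨fun ha => Units.ext (MonoidHom.mem_ker.mp ha),
      fun ha => MonoidHom.mem_ker.mpr (congrArg Units.val (MonoidHom.mem_ker.mp ha))⟩
  let g : Q ⧸ N →* U := QuotientGroup.lift N gQ hNg.le
  have hgπ : ∀ a, g (π a) = gQ a := fun a => QuotientGroup.lift_mk N hNg.le a
  have hginj : Function.Injective g := by
    intro x y hxy
    obtain ⟨a, rfl⟩ := hπs x
    obtain ⟨b, rfl⟩ := hπs y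
    rw [hgπ, hgπ] at hxy
    refine QuotientGroup.eq.mpr ?_
    rw [hNg, MonoidHom.mem_ker, map_mul, map_inv, hxy, inv_mul_cancel]
  have hρg : Function.Injective (ρ.comp g) := by
    intro a b hab
    apply hginj
    have h1 : ρ ((g a)⁻¹ * g b) = 1 := by
      rw [map_mul, show ρ (g b) = ρ (g a) from hab.symm, ← map_mul, inv_mul_cancel, map_one]
    exact inv_mul_eq_one.mp (Units.ext (hker _ h1))
  obtain ⟨hq2, n, hn, -⟩ := Cfsg.Agent.H29.hallHigman_extraspecial h.hq h.hr h.hqr hes θb hθbr hθbfix
    (K := AlgebraicClosure (ZMod p))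
    (fun h0 => hpq ((Nat.prime_dvd_prime_iff_eq hp h.hq).mp
      ((CharP.cast_eq_zero_iff _ p q).mp h0)))
    (fun h0 => hpr ((Nat.prime_dvd_prime_iff_eq hp h.hr).mp
      ((CharP.cast_eq_zero_iff _ p r).mp h0)))
    (ρ.comp g) hρg (ρ uU)
    (by rw [← map_pow, show uU ^ r = 1 from Units.ext hu, map_one])
    (hρfix uU hfix)
    (fun x => by
      obtain ⟨a, rfl⟩ := hπs x
      show ρ uU * ρ (g (π a)) = ρ (g (θb (π a))) * ρ uU
      rw [hθb, hgπ, hgπ, ← map_mul, ← map_mul]
      congr 1
      exact Units.ext (hua a))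
  exact ⟨hq2, n, hn⟩

include h in
/-- The theorem: an automorphism without fixed points forces the Fermat exception. -/
theorem IsMin.fermat {p : ℕ} (hp : p.Prime) (hpq : p ≠ q) (hpr : p ≠ r)
    (hexp : ∀ v : A, p • v = 0) (act : Q →* AddMonoid.End A) (hinj : Function.Injective act)
    (u : AddMonoid.End A) (hu : u ^ r = 1) (hfix : ∀ v, u v = v → v = 0)
    (hua : ∀ a, u * act a = act (θ a) * u) :
    q = 2 ∧ (∃ n : ℕ, r = 2 ^ n + 1) ∧ commutator Q ≠ ⊥ := by
  classical
  haveI := Fintype.ofFinite Q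
  haveI : Fact q.Prime := ⟨h.hq⟩
  haveI : Fact p.Prime := ⟨hp⟩
  by_cases hcomm : commutator Q = ⊥
  · exfalso
    let M : AddSubgroup A :=
      { carrier := {v | ∑ a : Q, act a v = 0}
        zero_mem' := Finset.sum_eq_zero fun a _ => map_zero (act a)
        add_mem' := fun {v w} hv hw => by
          simp only [Set.mem_setOf_eq, map_add, Finset.sum_add_distrib] at *
          rw [hv, hw, add_zero]
        neg_mem' := fun {v} hv => by
          simp only [Set.mem_setOf_eq, map_neg, Finset.sum_neg_distrib] at *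
          rw [hv, neg_zero] }
    have hM : ∀ b, ∀ v ∈ M, act b v ∈ M := by
      intro b v hv
      show ∑ a : Q, act a (act b v) = 0
      rw [← hv]
      refine Fintype.sum_equiv (Equiv.mulRight b) _ _ fun a => ?_
      rw [Equiv.coe_mulRight, map_mul]; rfl
    have huM : ∀ v ∈ M, u v ∈ M := by
      intro v hv
      show ∑ a : Q, act a (u v) = 0
      have : ∑ a : Q, act a (u v) = u (∑ a : Q, act a v) := by
        rw [map_sum]
        refine (Fintype.sum_equiv θ.toEquiv _ _ fun a => ?_).symm
        exact DFunLike.congr_fun (hua a) v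
      rw [this, hv, map_zero]
    have hzero := h.abelian_case hp hpq (A := ↥M) (fun v => Subtype.ext (hexp v)) hcomm
      (restrictHom M act hM) (restrictEnd M u huM)
      (restrictEnd_pow_eq_one M u huM hu)
      (fun v hv => Subtype.ext (hfix v (congrArg Subtype.val hv)))
      (fun a => AddMonoidHom.ext fun v => Subtype.ext (DFunLike.congr_fun (hua a) (v : A)))
      (fun v hv => Subtype.ext (eq_zero_of_nsmul hp hexp (h.not_dvd_card hp hpq) (by
        rw [Nat.card_eq_fintype_card, ← Finset.card_univ, ← Finset.sum_const]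
        refine Eq.trans (Finset.sum_congr rfl fun a _ => ?_) v.2
        exact (congrArg Subtype.val (hv a)).symm)))
    obtain ⟨a, ha⟩ := h.hne
    apply ha
    apply hinj
    have hall : ∀ b : Q, act b = 1 := by
      intro b
      refine AddMonoidHom.ext fun v => ?_
      have hmem : act b v - v ∈ M := by
        show ∑ a : Q, act a (act b v - v) = 0
        simp only [map_sub, Finset.sum_sub_distrib]
        rw [sub_eq_zero]
        refine Fintype.sum_equiv (Equiv.mulRight b) _ _ fun a => ?_
        rw [Equiv.coe_mulRight, map_mul]; rfl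
      exact sub_eq_zero.mp (congrArg Subtype.val (hzero ⟨_, hmem⟩))
    rw [hall, hall]
  -- the nonabelian case
  obtain ⟨z, hz, hz1⟩ : ∃ z ∈ commutator Q, z ≠ 1 := by
    by_contra hall
    push Not at hall
    exact hcomm ((eq_bot_iff_forall _).mpr hall)
  have hDc : ∀ {x}, x ∈ commutator Q → x ∈ center Q :=
    fun {x} hx => h.fixed_central (h.commutator_le_fixed hx)
  have hθz : θ z = z := h.commutator_le_fixed hz
  have hzq : z ^ q = 1 := h.commutator_pow hz
  let M : AddSubgroup A :=
    { carrier := {v | ∑ i ∈ Finset.range q, act (z ^ i) v = 0}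
      zero_mem' := Finset.sum_eq_zero fun i _ => map_zero (act (z ^ i))
      add_mem' := fun {v w} hv hw => by
        simp only [Set.mem_setOf_eq, map_add, Finset.sum_add_distrib] at *
        rw [hv, hw, add_zero]
      neg_mem' := fun {v} hv => by
        simp only [Set.mem_setOf_eq, map_neg, Finset.sum_neg_distrib] at *
        rw [hv, neg_zero] }
  have hM : ∀ b, ∀ v ∈ M, act b v ∈ M := by
    intro b v hv
    show ∑ i ∈ Finset.range q, act (z ^ i) (act b v) = 0
    have : ∀ i, act (z ^ i) (act b v) = act b (act (z ^ i) v) := fun i => by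
      show (act (z ^ i) * act b) v = (act b * act (z ^ i)) v
      rw [← map_mul, ← map_mul, mem_center_iff.mp (pow_mem (hDc hz) i) b]
    simp only [this]
    rw [← map_sum, hv, map_zero]
  have huM : ∀ v ∈ M, u v ∈ M := by
    intro v hv
    show ∑ i ∈ Finset.range q, act (z ^ i) (u v) = 0
    have : ∀ i, act (z ^ i) (u v) = u (act (z ^ i) v) := fun i => by
      show (act (z ^ i) * u) v = (u * act (z ^ i)) v
      rw [hua, map_pow θ, hθz]
    simp only [this]
    rw [← map_sum, hv, map_zero]
  have hMne : M ≠ ⊥ := by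
    intro hbot
    apply hz1
    apply hinj
    rw [map_one]
    refine AddMonoidHom.ext fun v => ?_
    have hmem : act z v - v ∈ M := by
      show ∑ i ∈ Finset.range q, act (z ^ i) (act z v - v) = 0
      simp only [map_sub]
      have e : ∀ i, act (z ^ i) (act z v) = act (z ^ (i + 1)) v := fun i => by
        rw [pow_succ, map_mul]; rfl
      simp only [e]
      rw [Finset.sum_range_sub (fun i => act (z ^ i) v) q, hzq, pow_zero, sub_self]
    rw [hbot, AddSubgroup.mem_bot, sub_eq_zero] at hmem
    exact hmem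
  haveI : Fintype (AddSubgroup A) := by
    haveI : Finite (AddSubgroup A) := Finite.of_injective _ SetLike.coe_injective
    exact Fintype.ofFinite _
  obtain ⟨W, hW, hWmin⟩ := Finset.exists_min_image
    (Finset.univ.filter fun W : AddSubgroup A => W ≤ M ∧ W ≠ ⊥ ∧
      (∀ b, ∀ v ∈ W, act b v ∈ W) ∧ ∀ v ∈ W, u v ∈ W) (fun W => Nat.card W)
    ⟨M, Finset.mem_filter.mpr ⟨Finset.mem_univ _, le_rfl, hMne, hM, huM⟩⟩
  obtain ⟨-, hWM, hWne, hWact, hWu⟩ := Finset.mem_filter.mp hW
  set actW := restrictHom W act hWact with hactW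
  set uW := restrictEnd W u hWu with huW
  have huWr : uW ^ r = 1 := restrictEnd_pow_eq_one W u hWu hu
  have huWa : ∀ a, uW * actW a = actW (θ a) * uW := fun a =>
    AddMonoidHom.ext fun v => Subtype.ext (DFunLike.congr_fun (hua a) (v : A))
  have huWfix : ∀ v, uW v = v → v = 0 :=
    fun v hv => Subtype.ext (hfix v (congrArg Subtype.val hv))
  set N := actW.ker with hN
  -- elements of the commutator subgroup act trivially or without fixed points
  have hfpf : ∀ y ∈ commutator Q, y ∉ N → ∀ w : ↥W, actW y w = w → w = 0 := by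
    intro y hy hyN w hw
    by_contra hw0
    let F : AddSubgroup A :=
      { carrier := {v | v ∈ W ∧ act y v = v}
        zero_mem' := ⟨W.zero_mem, map_zero _⟩
        add_mem' := fun {v v'} hv hv' => ⟨W.add_mem hv.1 hv'.1, by rw [map_add, hv.2, hv'.2]⟩
        neg_mem' := fun {v} hv => ⟨W.neg_mem hv.1, by rw [map_neg, hv.2]⟩ }
    have hFW : F ≤ W := fun v hv => hv.1
    have hF0 : F ≠ ⊥ := fun hF => hw0 (Subtype.ext (by
      have : (w : A) ∈ F := ⟨w.2, congrArg Subtype.val hw⟩
      rwa [hF, AddSubgroup.mem_bot] at this))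
    have hle : Nat.card W ≤ Nat.card F := hWmin F (Finset.mem_filter.mpr ⟨Finset.mem_univ _,
      hFW.trans hWM, hF0, fun b v hv => ⟨hWact b v hv.1, by
        show (act y * act b) v = act b v
        rw [← map_mul, ← mem_center_iff.mp (hDc hy) b, map_mul]
        show act b (act y v) = act b v
        rw [hv.2]⟩,
      fun v hv => ⟨hWu v hv.1, by
        show (act y * u) v = u v
        rw [← show θ y = y from h.commutator_le_fixed hy, ← hua]
        show u (act y v) = u v
        rw [hv.2]⟩⟩)
    apply hyN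
    rw [MonoidHom.mem_ker]
    refine AddMonoidHom.ext fun v => Subtype.ext ?_
    have hFeq : F = W := AddSubgroup.eq_of_le_of_card_ge hFW hle
    exact (show (v : A) ∈ F by rw [hFeq]; exact v.2).2
  have hzN : z ∉ N := by
    intro hzN
    apply hWne
    rw [AddSubgroup.eq_bot_iff_forall]
    intro v hv
    refine eq_zero_of_nsmul hp hexp (n := q) (fun hd => hpq ((Nat.prime_dvd_prime_iff_eq hp h.hq).mp hd)) ?_
    have h1 : ∑ i ∈ Finset.range q, act (z ^ i) v = 0 := hWM hv
    rw [Finset.sum_eq_card_nsmul (b := v), Finset.card_range] at h1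
    · exact h1
    intro i _
    have h2 : actW z = 1 := MonoidHom.mem_ker.mp hzN
    exact pow_fix (congrArg Subtype.val (DFunLike.congr_fun h2 (⟨v, hv⟩ : ↥W))) i
  haveI : Nontrivial ↥W := (AddSubgroup.nontrivial_iff_ne_bot _).mpr hWne
  obtain ⟨hq2, hn⟩ := h.irreducible_case hp hpq hpr (A := ↥W) (fun v => Subtype.ext (hexp v)) actW
    uW huWr huWfix huWa hz hzN hfpf
  exact ⟨hq2, hn, hcomm⟩

end H36.MinAct
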