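import Cfsg.Agent.H36.MaxSchmidtField
import Cfsg.Agent.H36.MinimalActing
import Cfsg.Agent.H4.MinimalNonNilpotent
import Cfsg.Agent.S0132
import Mathlib.GroupTheory.Abelianization.Defs

/-!
The structure of a minimal non-`p`-nilpotent group of order `p ^ t * q ^ r`, and the identification
of the Frattini quotient of its Sylow `p`-subgroup with the field of `q`-th roots of unity.
-/

set_option autoImplicit false

namespace H36.MaxSchmidt

open Subgroup Polynomial H36.MinAct

universe w

/-- The structure of a minimal non-`p`-nilpotent group of order `p ^ t * q ^ r`. -/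
theorem schmidt_structure {X : Type*} [Group X] [Finite X] {p q r t : ℕ} [Fact p.Prime]
    [Fact q.Prime] (hpq : p ≠ q) (hr : 1 ≤ r) (hX : Nat.card X = p ^ t * q ^ r)
    (h1 : ¬ Cfsg.HasNormalPComplement p X)
    (h2 : ∀ K : Subgroup X, K ≠ ⊤ → Cfsg.HasNormalPComplement p ↥K) :
    ∃ (P : Subgroup X) (_ : P.Normal) (y : X), orderOf y = q ^ r ∧
      ∀ z : X, orderOf z = q ^ r → P.IsComplement' (zpowers z) ∧
        IsMin (MulAut.conjNormal z : ↥P ≃* ↥P) p q := by
  obtain ⟨hnil, hnn, hPn⟩ := Cfsg.Agent.S0132.result h1 h2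
  have hp : p.Prime := Fact.out
  have hq : q.Prime := Fact.out
  obtain ⟨P⟩ : Nonempty (Sylow p X) := inferInstance
  haveI : (P : Subgroup X).Normal := hPn P
  have hcop : Nat.Coprime (p ^ t) (q ^ r) :=
    Nat.Coprime.pow _ _ ((Nat.coprime_primes hp hq).mpr hpq)
  have hfac : ∀ {l k m j : ℕ}, l.Prime → m.Prime → l ≠ m →
      (l ^ k * m ^ j).factorization l = k := by
    intro l k m j hl hm hlm
    rw [Nat.factorization_mul (pow_ne_zero _ hl.ne_zero) (pow_ne_zero _ hm.ne_zero),
      hl.factorization_pow, hm.factorization_pow, Finsupp.add_apply, Finsupp.single_eq_same,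
      Finsupp.single_eq_of_ne hlm, add_zero]
  have hP : Nat.card (P : Subgroup X) = p ^ t := by
    rw [P.card_eq_multiplicity, hX, hfac hp hq hpq]
  obtain ⟨Q⟩ : Nonempty (Sylow q X) := inferInstance
  have hQ : Nat.card (Q : Subgroup X) = q ^ r := by
    rw [Q.card_eq_multiplicity, hX, mul_comm, hfac hq hp (Ne.symm hpq)]
  have hPQ : (P : Subgroup X).IsComplement' Q :=
    isComplement'_of_coprime (by rw [hP, hQ, hX]) (by rw [hP, hQ]; exact hcop)
  -- an element of `Q` outside the centralizer of `P`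
  have hQC : ¬ (Q : Subgroup X) ≤ centralizer ((P : Subgroup X) : Set X) := fun h =>
    hnn (H4.isNilpotent_of_commute_complement P.2.isNilpotent Q.2.isNilpotent hPQ
      fun a ha b hb => mem_centralizer_iff.mp (h hb) a ha)
  obtain ⟨g, hgQ, hgC⟩ := SetLike.not_le_iff_exists.mp hQC
  have hgq : orderOf g ∣ q ^ r := hQ ▸ Subgroup.orderOf_mk g hgQ ▸ orderOf_dvd_natCard _
  have hnotdvd : ∀ {z : X}, orderOf z ∣ q ^ r → ¬ p ∣ orderOf z := fun hz hd =>
    hp.not_dvd_one (Nat.eq_one_of_dvd_coprimes hcop.symm (hd.trans hz)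
      (dvd_pow_self p (fun h0 => by
        refine hnn ?_
        have : (P : Subgroup X) = ⊥ := Subgroup.eq_bot_of_card_eq _ (by rw [hP, h0, pow_zero])
        refine H4.isNilpotent_of_commute_complement P.2.isNilpotent Q.2.isNilpotent hPQ
          fun a ha b _ => ?_
        rw [this, mem_bot] at ha
        rw [ha, one_mul, mul_one])) ▸ dvd_refl p)
  have hcomm : ∀ {J : Subgroup X}, J ≠ ⊤ → ∀ {a z : X}, a ∈ J → z ∈ J → a ∈ (P : Subgroup X) →
      orderOf z ∣ q ^ r → Commute a z := by
    intro J hJ a z haJ hzJ ha hz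
    haveI := hnil _ hJ
    have h := H33.commute_of_nilpotent (p := p) (y := (⟨a, haJ⟩ : ↥J)) (z := (⟨z, hzJ⟩ : ↥J))
      (by
        obtain ⟨k, hk⟩ := IsPGroup.iff_orderOf.mp P.2 ⟨a, ha⟩
        exact ⟨k, by rw [Subgroup.orderOf_mk, ← hk, Subgroup.orderOf_mk]⟩)
      (by rw [Subgroup.orderOf_mk]; exact hnotdvd hz)
    exact congrArg Subtype.val h.eq
  have hquot : ∀ z : X, (P : Subgroup X) ⊔ zpowers z = ⊤ → q ^ r ∣ orderOf z := fun z hz => by
    have hgen : zpowers (QuotientGroup.mk' (P : Subgroup X) z) = ⊤ := by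
      rw [← MonoidHom.map_zpowers]
      have hm := congrArg (Subgroup.map (QuotientGroup.mk' (P : Subgroup X))) hz
      rwa [Subgroup.map_sup, Subgroup.map_top_of_surjective _ (QuotientGroup.mk'_surjective _),
        QuotientGroup.map_mk'_self, bot_sup_eq] at hm
    have hc : Nat.card (X ⧸ (P : Subgroup X)) = q ^ r := by
      rw [← Subgroup.index_eq_card, hPQ.symm.index_eq_card, hQ]
    rw [← hc, ← Subgroup.card_top (G := X ⧸ (P : Subgroup X)), ← hgen, Nat.card_zpowers]
    exact orderOf_map_dvd _ z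
  have hg : orderOf g = q ^ r := by
    refine Nat.dvd_antisymm hgq (hquot g ?_)
    by_contra hne
    exact hgC (mem_centralizer_iff.mpr fun a ha =>
      (hcomm hne (mem_sup_left ha) (mem_sup_right (mem_zpowers g)) ha hgq).eq)
  refine ⟨P, inferInstance, g, hg, fun z hz => ?_⟩
  have hc : (P : Subgroup X).IsComplement' (zpowers z) :=
    isComplement'_of_coprime (by rw [hP, Nat.card_zpowers, hz, hX])
      (by rw [hP, Nat.card_zpowers, hz]; exact hcop)
  refine ⟨hc, P.2, hp, hq, hpq, fun a => ?_, ?_, fun S hS hinv => ?_⟩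
  · have hd : ¬ q ^ r ∣ orderOf (z ^ q) := by
      rw [orderOf_pow, hz, Nat.gcd_eq_right (dvd_pow_self q (by omega))]
      exact fun h => absurd (Nat.le_of_dvd (Nat.div_pos (Nat.le_of_dvd (pow_pos hq.pos _)
        (dvd_pow_self q (by omega))) hq.pos) h)
        (not_le.mpr (Nat.div_lt_self (pow_pos hq.pos _) hq.one_lt))
    have hcom := hcomm (fun hT => hd (hquot _ hT)) (mem_sup_left a.2)
      (mem_sup_right (mem_zpowers (z ^ q))) a.2
      (by rw [← hz]; exact orderOf_pow_dvd q)
    have e : ∀ k : ℕ, (((MulAut.conjNormal z : ↥(P : Subgroup X) ≃* _) :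
        ↥(P : Subgroup X) → ↥(P : Subgroup X))^[k] a : X) = z ^ k * (a : X) * (z ^ k)⁻¹ := by
      intro k
      induction k with
      | zero => simp
      | succ k ih =>
        rw [Function.iterate_succ_apply', MulAut.conjNormal_apply, ih, pow_succ']
        group
    exact Subtype.ext (by rw [e, ← hcom.eq, mul_inv_cancel_right])
  · by_contra hall
    push Not at hall
    refine hnn (H4.isNilpotent_of_commute_complement P.2.isNilpotent
      (IsPGroup.of_card (n := r) (by rw [Nat.card_zpowers, hz] : Nat.card (zpowers z) = q ^ r)).isNilpotent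
      hc fun a ha b hb => ?_)
    obtain ⟨i, rfl⟩ := mem_zpowers_iff.mp hb
    have h := congrArg Subtype.val (hall ⟨a, ha⟩)
    rw [MulAut.conjNormal_apply] at h
    exact ((show Commute a z from (mul_inv_eq_iff_eq_mul.mp h).symm).zpow_right i).eq
  · set S' : Subgroup X := S.map (P : Subgroup X).subtype
    have hS'P : S' ≤ (P : Subgroup X) := map_subtype_le _
    have hnorm : zpowers z ≤ normalizer (S' : Set X) := by
      rw [zpowers_le]
      refine Subgroup.mem_normalizer_fintype fun n hn => ?_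
      obtain ⟨s, hs, rfl⟩ := hn
      exact ⟨_, hinv s hs, MulAut.conjNormal_apply _ _⟩
    have hne : S' ⊔ zpowers z ≠ ⊤ := by
      intro hT
      refine hS (eq_top_iff.mpr fun a _ => ?_)
      have ha : (a : X) ∈ ((S' ⊔ zpowers z : Subgroup X) : Set X) := by rw [hT]; trivial
      rw [sup_comm, coe_mul_of_left_le_normalizer_right _ _ hnorm] at ha
      obtain ⟨w, hw, s, hs, e⟩ := Set.mem_mul.mp ha
      have hwP : w ∈ (P : Subgroup X) := by
        rw [show w = (a : X) * s⁻¹ by rw [← e, mul_inv_cancel_right]]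
        exact mul_mem a.2 (inv_mem (hS'P hs))
      have hw1 : w = 1 := Subgroup.disjoint_def.mp hc.disjoint hwP hw
      rw [hw1, one_mul] at e
      obtain ⟨s₀, hs₀, rfl⟩ := hs
      exact Subtype.ext e ▸ hs₀
    intro s hs
    have hcs := hcomm hne (mem_sup_left ⟨s, hs, rfl⟩) (mem_sup_right (mem_zpowers z)) s.2 (hz ▸ dvd_rfl)
    refine Subtype.ext ?_
    rw [MulAut.conjNormal_apply]
    show z * (s : X) * z⁻¹ = s
    rw [← (show (s : X) * z = z * s from hcs.eq), mul_inv_cancel_right]

/-- The Frattini quotient is the field, the automorphism acting as the root of unity. -/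
theorem exists_coord {p q a₀ : ℕ} [Fact p.Prime] [Fact q.Prime] (D : Datum.{w} p q a₀)
    {P : Type*} [Group P] [Finite P] {θ : P ≃* P} (h : IsMin θ p q) :
    ∃ (k : ℕ) (r : P → D.K), ¬ q ∣ k ∧ (∀ x y, r (x * y) = r x + r y) ∧ Function.Surjective r ∧
      (∀ x, r x = 0 ↔ x ∈ commutator P) ∧ ∀ x, r ((θ : P → P)^[k] x) = D.ζ * r x := by
  classical
  have hq : q.Prime := Fact.out
  let A := Additive (Abelianization P)
  let of' : P → A := fun x => Additive.ofMul (Abelianization.of x)
  have hof : ∀ x y, of' (x * y) = of' x + of' y := fun x y => map_mul Abelianization.of x y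
  have hsurj : Function.Surjective of' := fun v => by
    obtain ⟨x, hx⟩ := QuotientGroup.mk_surjective (Additive.toMul v)
    exact ⟨x, congrArg Additive.ofMul hx⟩
  have hker : ∀ x, of' x = 0 ↔ x ∈ commutator P := fun x => by
    rw [← Abelianization.ker_of]
    exact Iff.rfl
  have hofpow : ∀ (x : P) (n : ℕ), of' (x ^ n) = n • of' x := fun x n =>
    map_pow Abelianization.of x n
  haveI : Module (ZMod p) A := AddCommGroup.zmodModule fun v => by
    obtain ⟨x, rfl⟩ := hsurj v
    rw [← hofpow, hker]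
    exact h.pow_mem_commutator x
  let f0 : A →+ A := MonoidHom.toAdditive (Abelianization.map θ.toMonoidHom)
  have hf0 : ∀ x, f0 (of' x) = of' (θ x) := fun x => rfl
  let f : Module.End (ZMod p) A := f0.toZModLinearMap p
  have hfit : ∀ (n : ℕ) x, (f ^ n) (of' x) = of' ((θ : P → P)^[n] x) := by
    intro n
    induction n with
    | zero => intro x; rfl
    | succ n ih =>
      intro x
      rw [pow_succ', Module.End.mul_apply, ih, Function.iterate_succ_apply']
      exact hf0 _
  have hfq : f ^ q = 1 := LinearMap.ext fun v => by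
    obtain ⟨x, rfl⟩ := hsurj v
    rw [hfit, h.hθr]
    rfl
  -- a nonzero invariant subgroup is everything
  have hirr : ∀ U : AddSubgroup A, (∀ v ∈ U, f v ∈ U) → (∃ v ∈ U, v ≠ 0) → U = ⊤ := by
    rintro U hU ⟨v, hv, hv0⟩
    by_contra hne
    let S : Subgroup P :=
      { carrier := {x | of' x ∈ U}
        one_mem' := by show of' 1 ∈ U; rw [(hker 1).mpr (one_mem _)]; exact U.zero_mem
        mul_mem' := fun {x y} hx hy => by show of' _ ∈ U; rw [hof]; exact U.add_mem hx hy
        inv_mem' := fun {x} hx => by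
          show of' x⁻¹ ∈ U
          rw [show of' x⁻¹ = -of' x from map_inv Abelianization.of x]
          exact U.neg_mem hx }
    have hS : S ≠ ⊤ := fun he => hne (eq_top_iff.mpr fun w _ => by
      obtain ⟨x, rfl⟩ := hsurj w
      exact (show x ∈ S by rw [he]; trivial))
    obtain ⟨x, rfl⟩ := hsurj v
    exact hv0 ((hker x).mpr (h.fixed_le_commutator (h.hmin S hS (fun a ha => hU _ ha) hv)))
  -- no fixed point but zero
  have hfix : ∀ v, f v = v → v = 0 := by
    intro v hv
    by_contra hv0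
    let U : AddSubgroup A :=
      { carrier := {w | f w = w}
        zero_mem' := map_zero f
        add_mem' := fun {a b} ha hb => by show f (a + b) = a + b; rw [map_add, ha, hb]
        neg_mem' := fun {a} ha => by show f (-a) = -a; rw [map_neg, ha] }
    have hU : U = ⊤ := hirr U (fun w hw => show f (f w) = f w by rw [hw]; exact hw) ⟨v, hv, hv0⟩
    have hgen : commutator P = ⊤ := h.eq_top_of_gen fun a => by
      rw [← hker, hof, show of' a⁻¹ = -of' a from map_inv Abelianization.of a, ← hf0]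
      show f (of' a) + -of' a = 0
      rw [show f (of' a) = of' a from (show of' a ∈ U by rw [hU]; trivial), add_neg_cancel]
    exact h.fixed_ne_top (top_le_iff.mp (hgen ▸ h.commutator_le_fixed))
  have hA : ∃ v : A, v ≠ 0 := by
    by_contra hc
    push Not at hc
    exact h.fixed_ne_top (eq_top_iff.mpr fun x _ =>
      h.commutator_le_fixed ((hker x).mp (hc _)))
  obtain ⟨v₀, hv₀⟩ := hA
  haveI : Nontrivial A := ⟨v₀, 0, hv₀⟩
  -- an irreducible polynomial killing `f`
  have hXq : aeval f (X ^ q - 1 : (ZMod p)[X]) = 0 := by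
    rw [map_sub, map_pow, aeval_X, map_one, hfq, sub_self]
  have hint : IsIntegral (ZMod p) f := ⟨X ^ q - C 1, monic_X_pow_sub_C 1 hq.ne_zero, by
    rw [← aeval_def, map_one C]; exact hXq⟩
  have hdeg : 0 < (minpoly (ZMod p) f).degree := minpoly.degree_pos hint
  obtain ⟨h₀, hirr₀, hdvd⟩ := Polynomial.exists_irreducible_of_degree_pos hdeg
  have hz : aeval f h₀ = 0 := by
    obtain ⟨g, hg⟩ := hdvd
    have hg0 : aeval f g ≠ 0 := fun hg0 => by
      have hle := minpoly.degree_le_of_ne_zero (ZMod p) f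
        (fun e => minpoly.ne_zero hint (by rw [hg, e, mul_zero])) hg0
      rw [hg, degree_mul] at hle
      have hgne : g ≠ 0 := fun e => minpoly.ne_zero hint (by rw [hg, e, mul_zero])
      rw [degree_eq_natDegree hirr₀.ne_zero, degree_eq_natDegree hgne, ← Nat.cast_add,
        Nat.cast_le] at hle
      have := hirr₀.natDegree_pos
      omega
    obtain ⟨w, hw⟩ : ∃ w, aeval f g w ≠ 0 := by
      by_contra hc
      push Not at hc
      exact hg0 (LinearMap.ext hc)
    have hU := hirr (LinearMap.ker (aeval f h₀)).toAddSubgroup (fun v hv => by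
      show aeval f h₀ (f v) = 0
      have e : aeval f h₀ * f = f * aeval f h₀ := by
        have := congrArg (aeval f) (mul_comm h₀ X)
        rwa [map_mul, map_mul, aeval_X] at this
      rw [← Module.End.mul_apply, e, Module.End.mul_apply,
        show aeval f h₀ v = 0 from hv, map_zero]) ⟨aeval f g w, by
      show aeval f h₀ (aeval f g w) = 0
      rw [← Module.End.mul_apply, ← map_mul, ← hg, minpoly.aeval]
      rfl, hw⟩
    exact LinearMap.ext fun v => (show v ∈ (LinearMap.ker (aeval f h₀)).toAddSubgroup by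
      rw [hU]; trivial)
  have hdq : h₀ ∣ X ^ q - 1 := hdvd.trans (minpoly.dvd _ f hXq)
  -- a root of it in the field
  obtain ⟨x, hx⟩ : ∃ x : D.K, aeval x h₀ = 0 := by
    haveI : NeZero q := ⟨hq.ne_zero⟩
    have hsp : (Polynomial.map (algebraMap (ZMod p) D.K) h₀).Splits := by
      refine (X_pow_sub_one_splits D.prim).of_dvd (X_pow_sub_C_ne_zero hq.pos 1) ?_
      have hm := Polynomial.map_dvd (algebraMap (ZMod p) D.K) hdq
      rwa [Polynomial.map_sub, Polynomial.map_pow, map_X, Polynomial.map_one, ← map_one C] at hm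
    obtain ⟨x, hx⟩ := hsp.exists_eval_eq_zero (by
      rw [degree_map]; exact (degree_pos_of_irreducible hirr₀).ne')
    exact ⟨x, by rwa [aeval_def, eval₂_eq_eval_map]⟩
  have hxq : x ^ q = 1 := by
    obtain ⟨g, hg⟩ := hdq
    have e := congrArg (aeval x) hg
    rwa [map_mul, hx, zero_mul, map_sub, map_pow, aeval_X, map_one, sub_eq_zero] at e
  obtain ⟨i, hi, rfl⟩ := D.prim.eq_pow_of_pow_eq_one hxq
  have hi0 : i ≠ 0 := by
    rintro rfl
    rw [pow_zero] at hx
    have h1 : (1 : D.K) = algebraMap (ZMod p) D.K 1 := (map_one _).symm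
    rw [h1, Polynomial.aeval_algebraMap_apply, map_eq_zero] at hx
    have hd : X - C (1 : ZMod p) ∣ h₀ := dvd_iff_isRoot.mpr (by rwa [coe_aeval_eq_eval] at hx)
    obtain ⟨c, hc⟩ := (hirr₀.dvd_iff.mp hd).resolve_left (Polynomial.not_isUnit_X_sub_C 1)
    have e : aeval f (X - C (1 : ZMod p)) = 0 := by rw [← hc, map_mul, hz, zero_mul]
    rw [map_sub, aeval_X, map_one C, map_one, sub_eq_zero] at e
    exact hv₀ (hfix v₀ (by rw [e]; rfl))
  have hqi : ¬ q ∣ i := fun hd => absurd (Nat.le_of_dvd (Nat.pos_of_ne_zero hi0) hd) (by omega)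
  obtain ⟨k, -, hk⟩ := Nat.exists_mul_mod_eq_one_of_coprime
    ((hq.coprime_iff_not_dvd.mpr hqi).symm) hq.one_lt
  have hqk : ¬ q ∣ k := fun hd => by
    rw [Nat.mul_mod, Nat.mod_eq_zero_of_dvd hd, mul_zero, Nat.zero_mod] at hk
    exact zero_ne_one hk
  have hpowi : (D.ζ ^ i) ^ k = D.ζ := by
    rw [← pow_mul, ← Nat.mod_add_div (i * k) q, hk, pow_add, pow_one, pow_mul, D.prim.pow_eq_one,
      one_pow, mul_one]
  -- the minimal polynomial of `ζ` kills `f ^ k`
  set m := minpoly (ZMod p) D.ζ
  have hm : aeval (f ^ k) m = 0 := by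
    have h1 : aeval (D.ζ ^ i) (m.comp (X ^ k)) = 0 := by
      rw [aeval_comp, map_pow, aeval_X, hpowi]
      exact minpoly.aeval _ _
    have h2 : h₀ ∣ m.comp (X ^ k) := by
      refine (Associated.dvd ?_).trans (minpoly.dvd (ZMod p) _ h1)
      have e := minpoly.eq_of_irreducible (A := ZMod p) hirr₀ hx
      rw [← e]
      exact (associated_mul_unit_right _ _ (isUnit_C.mpr (isUnit_iff_ne_zero.mpr
        (inv_ne_zero (leadingCoeff_ne_zero.mpr hirr₀.ne_zero)))))
    obtain ⟨g, hg⟩ := h2
    have e := congrArg (aeval f) hg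
    rwa [aeval_comp, map_pow, aeval_X, map_mul, hz, zero_mul] at e
  -- the field acts
  let ev : (ZMod p)[X] →+* D.K := (aeval D.ζ).toRingHom
  let evf : (ZMod p)[X] →+* Module.End (ZMod p) A := (aeval (f ^ k)).toRingHom
  have hkr : RingHom.ker ev ≤ RingHom.ker evf := fun R hR => by
    obtain ⟨S, rfl⟩ := minpoly.dvd (ZMod p) D.ζ (show aeval D.ζ R = 0 from hR)
    show aeval (f ^ k) (m * S) = 0
    rw [map_mul, hm, zero_mul]
  let Λ : D.K →+* Module.End (ZMod p) A := ev.liftOfSurjective D.gen ⟨evf, hkr⟩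
  have hΛ : Λ D.ζ = f ^ k := by
    have := RingHom.liftOfSurjective_comp_apply ev D.gen ⟨evf, hkr⟩ X
    show Λ D.ζ = f ^ k
    rwa [show ev X = D.ζ from aeval_X _, show evf X = f ^ k from aeval_X _] at this
  let ι : D.K →+ A := AddMonoidHom.mk' (fun x => Λ x v₀) fun x y => by
    rw [map_add]; rfl
  have hιζ : ∀ s, ι (D.ζ * s) = (f ^ k) (ι s) := fun s => by
    show Λ (D.ζ * s) v₀ = (f ^ k) (Λ s v₀)
    rw [map_mul, hΛ]; rfl
  have hιinj : Function.Injective ι := by
    rw [injective_iff_map_eq_zero]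
    intro s hs
    by_contra hs0
    apply hv₀
    have e : Λ s⁻¹ (Λ s v₀) = v₀ := by
      rw [← Module.End.mul_apply, ← map_mul, inv_mul_cancel₀ hs0, map_one]
      rfl
    rw [← e, show Λ s v₀ = 0 from hs, map_zero]
  have hιsurj : Function.Surjective ι := by
    have hinv : ∀ v ∈ ι.range, f v ∈ ι.range := by
      rintro _ ⟨s, rfl⟩
      refine ⟨D.ζ ^ i * s, ?_⟩
      have hn : ∀ n : ℕ, ι (D.ζ ^ n * s) = ((f ^ k) ^ n) (ι s) := fun n => by
        induction n with
        | zero => rw [pow_zero, one_mul]; rfl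
        | succ n ih => rw [pow_succ', mul_assoc, hιζ, ih, pow_succ' (f ^ k)]; rfl
      rw [hn, ← pow_mul, mul_comm k i, ← Nat.mod_add_div (i * k) q, hk, pow_add, pow_one, pow_mul,
        hfq, one_pow, mul_one]
    have := hirr ι.range hinv ⟨ι 1, ⟨1, rfl⟩, fun e => one_ne_zero (hιinj (e.trans (map_zero ι).symm))⟩
    intro v
    exact (show v ∈ ι.range by rw [this]; trivial)
  let e : D.K ≃+ A := AddEquiv.ofBijective ι ⟨hιinj, hιsurj⟩
  refine ⟨k, fun x => e.symm (of' x), hqk,
    fun x y => (congrArg e.symm (hof x y)).trans (map_add e.symm _ _), ?_, fun x => ?_,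
    fun x => ?_⟩
  · intro s
    obtain ⟨x, hx⟩ := hsurj (e s)
    exact ⟨x, show e.symm (of' x) = s by rw [hx, e.symm_apply_apply]⟩
  · rw [AddEquiv.map_eq_zero_iff, hker]
  · show e.symm (of' _) = D.ζ * e.symm (of' x)
    rw [e.symm_apply_eq, ← hfit]
    conv_lhs => rw [← e.apply_symm_apply (of' x)]
    exact (hιζ _).symm

end H36.MaxSchmidt
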