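import Cfsg.Agent.H36.MaxSchmidtExt
import Cfsg.Agent.H36.MaxSchmidtStruct

/-!
Every minimal acting `p`-group of the right type is an equivariant image of the universal one.
-/

set_option autoImplicit false

namespace H36.MaxSchmidt

open Subgroup H36.MinAct
open scoped commutatorElement

universe u

variable {p q a₀ : ℕ} [Fact p.Prime] [Fact q.Prime] {D : Datum.{u} p q a₀}

variable {P : Type u} [Group P]

theorem comm_mul_left {a b c : P} (h : ⁅b, c⁆ ∈ center P) : ⁅a * b, c⁆ = ⁅a, c⁆ * ⁅b, c⁆ := by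
  have e : ⁅a * b, c⁆ = a * ⁅b, c⁆ * a⁻¹ * ⁅a, c⁆ := by
    simp only [commutatorElement_def]; group
  rw [e, mem_center_iff.mp h a, mul_inv_cancel_right]
  exact (mem_center_iff.mp h _).symm

theorem comm_mul_right {a b c : P} (h : ⁅a, c⁆ ∈ center P) : ⁅a, b * c⁆ = ⁅a, b⁆ * ⁅a, c⁆ := by
  have e : ⁅a, b * c⁆ = ⁅a, b⁆ * (b * ⁅a, c⁆ * b⁻¹) := by
    simp only [commutatorElement_def]; group
  rw [e, mem_center_iff.mp h b, mul_inv_cancel_right]

variable [Finite P] {θ : P ≃* P} (h : IsMin θ p q)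

include h

/-- The commutator form comes from the universal one. -/
theorem exists_psi (r : P → D.K) (hradd : ∀ x y, r (x * y) = r x + r y)
    (hrs : Function.Surjective r) (hrk : ∀ x, r x = 0 ↔ x ∈ commutator P)
    (hrθ : ∀ x, r (θ x) = D.ζ * r x) :
    ∃ ψ : D.S → P, (∀ s t, ψ (s + t) = ψ s * ψ t) ∧ (∀ s, ψ s ∈ commutator P) ∧
      ∀ x y, ⁅x, y⁆ = ψ (D.β (r x) (r y) - D.β (r y) (r x)) := by
  have hDc : ∀ {d}, d ∈ commutator P → d ∈ center P :=
    fun {d} hd => h.fixed_central (h.commutator_le_fixed hd)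
  have hcm : ∀ x y : P, ⁅x, y⁆ ∈ commutator P := fun x y =>
    commutator_mem_commutator (mem_top x) (mem_top y)
  letI : CommGroup ↥(commutator P) :=
    { (inferInstance : Group ↥(commutator P)) with
      mul_comm := fun a b => Subtype.ext (mem_center_iff.mp (hDc b.2) a) }
  choose sec hsec using hrs
  have hfac : ∀ {x x'}, r x = r x' → ∃ d ∈ commutator P, x' = x * d := by
    intro x x' he
    refine ⟨x⁻¹ * x', (hrk _).mp ?_, (mul_inv_cancel_left x x').symm⟩
    have h1 := hradd x (x⁻¹ * x')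
    rw [mul_inv_cancel_left, he] at h1
    exact left_eq_add.mp h1
  have hcongr : ∀ {x x' y y'}, r x = r x' → r y = r y' → ⁅x, y⁆ = ⁅x', y'⁆ := by
    intro x x' y y' hx hy
    obtain ⟨d, hd, rfl⟩ := hfac hx
    obtain ⟨d', hd', rfl⟩ := hfac hy
    rw [comm_mul_left (hDc (hcm _ _)), comm_mul_right (hDc (hcm _ _))]
    have h1 : ∀ (e w : P), e ∈ commutator P → ⁅e, w⁆ = 1 := fun e w he =>
      commutatorElement_eq_one_iff_mul_comm.mpr (mem_center_iff.mp (hDc he) w).symm
    have h2 : ∀ (e w : P), e ∈ commutator P → ⁅w, e⁆ = 1 := fun e w he =>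
      commutatorElement_eq_one_iff_mul_comm.mpr (mem_center_iff.mp (hDc he) w)
    rw [h1 d _ hd, h2 d' _ hd', mul_one, mul_one]
  let ω : D.K →+ D.K →+ Additive ↥(commutator P) := AddMonoidHom.mk'
    (fun v => AddMonoidHom.mk' (fun w => Additive.ofMul ⟨⁅sec v, sec w⁆, hcm _ _⟩)
      (fun w w' => Additive.toMul.injective (Subtype.ext (by
        show ⁅sec v, sec (w + w')⁆ = ⁅sec v, sec w⁆ * ⁅sec v, sec w'⁆
        rw [← comm_mul_right (hDc (hcm _ _))]
        exact hcongr rfl (by rw [hradd, hsec, hsec, hsec])))))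
    (fun v v' => AddMonoidHom.ext fun w => Additive.toMul.injective (Subtype.ext (by
      show ⁅sec (v + v'), sec w⁆ = ⁅sec v, sec w⁆ * ⁅sec v', sec w⁆
      rw [← comm_mul_left (hDc (hcm _ _))]
      exact hcongr (by rw [hradd, hsec, hsec, hsec]) rfl)))
  obtain ⟨ψ, hψ⟩ := D.univ (Additive ↥(commutator P)) ω
    (fun v => Additive.toMul.injective (Subtype.ext (commutatorElement_self _)))
    (fun v w => Additive.toMul.injective (Subtype.ext (by
      show ⁅sec (D.ζ * v), sec (D.ζ * w)⁆ = ⁅sec v, sec w⁆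
      rw [hcongr (x' := θ (sec v)) (y' := θ (sec w)) (by rw [hsec, hrθ, hsec])
        (by rw [hsec, hrθ, hsec]), ← map_commutatorElement]
      exact h.commutator_le_fixed (hcm _ _))))
  refine ⟨fun s => ((Additive.toMul (ψ s) : ↥(commutator P)) : P), fun s t => ?_, fun s => ?_,
    fun x y => ?_⟩
  · show ((Additive.toMul (ψ (s + t)) : ↥(commutator P)) : P) = _
    rw [map_add]; rfl
  · exact (Additive.toMul (ψ s) : ↥(commutator P)).2
  · show _ = ((Additive.toMul (ψ _) : ↥(commutator P)) : P)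
    rw [← hψ]
    exact hcongr (hsec _).symm (hsec _).symm

/-- An equivariant surjection from the universal `p`-group, with central fixed kernel. -/
theorem exists_hom (hpq : p ≠ q) (r : P → D.K) (hradd : ∀ x y, r (x * y) = r x + r y)
    (hrs : Function.Surjective r) (hrk : ∀ x, r x = 0 ↔ x ∈ commutator P)
    (hrθ : ∀ x, r (θ x) = D.ζ * r x) :
    ∃ φ : EG.{u} D →* P, Function.Surjective φ ∧ (∀ a, φ (tau D a) = θ (φ a)) ∧
      ∀ a, φ a = 1 → a.v = 0 := by
  classical
  have hq : q.Prime := Fact.out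
  obtain ⟨ψ, hψadd, hψmem, hψ⟩ := exists_psi h r hradd hrs hrk hrθ
  have hDc : ∀ {d}, d ∈ commutator P → d ∈ center P :=
    fun {d} hd => h.fixed_central (h.commutator_le_fixed hd)
  have hψ0 : ψ 0 = 1 := by
    have h0 := hψadd 0 0
    rw [add_zero] at h0
    exact left_eq_mul.mp h0
  have hψneg : ∀ s, ψ (-s) = (ψ s)⁻¹ := fun s =>
    eq_inv_of_mul_eq_one_left (by rw [← hψadd, neg_add_cancel, hψ0])
  have hr1 : r 1 = 0 := (hrk 1).mpr (one_mem _)
  have hrinv : ∀ x, r x⁻¹ = -r x := fun x =>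
    eq_neg_of_add_eq_zero_left (by rw [← hradd, inv_mul_cancel, hr1])
  -- the fibre product and its central subgroup
  let W : Subgroup (EG.{u} D × P) :=
    { carrier := {w | w.1.v = r w.2}
      one_mem' := hr1.symm
      mul_mem' := fun {w w'} hw hw' => by
        show w.1.v + w'.1.v = r (w.2 * w'.2)
        rw [hradd, show w.1.v = r w.2 from hw, show w'.1.v = r w'.2 from hw']
      inv_mem' := fun {w} hw => by
        show -w.1.v = r w.2⁻¹
        rw [hrinv, show w.1.v = r w.2 from hw] }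
  have hW : ∀ w : W, (w : EG.{u} D × P).1.v = r (w : EG.{u} D × P).2 := fun w => w.2
  let Dk : Subgroup W :=
    { carrier := {w | (w : EG.{u} D × P).1.v = 0 ∧
        (w : EG.{u} D × P).2 = ψ (w : EG.{u} D × P).1.s}
      one_mem' := ⟨rfl, hψ0.symm⟩
      mul_mem' := fun {w w'} hw hw' => by
        refine ⟨show (w : EG.{u} D × P).1.v + (w' : EG.{u} D × P).1.v = 0 by
          rw [hw.1, hw'.1, add_zero], ?_⟩
        show (w : EG.{u} D × P).2 * (w' : EG.{u} D × P).2 = ψ _
        rw [hw.2, hw'.2, ← hψadd]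
        congr 1
        rw [show ((w * w' : W) : EG.{u} D × P).1 = (w : EG.{u} D × P).1 * (w' : EG.{u} D × P).1 from rfl,
          EG.mul_s, hw.1, map_zero, AddMonoidHom.zero_apply, add_zero]
      inv_mem' := fun {w} hw => by
        refine ⟨show -(w : EG.{u} D × P).1.v = 0 by rw [hw.1, neg_zero], ?_⟩
        show (w : EG.{u} D × P).2⁻¹ = ψ _
        rw [hw.2, ← hψneg]
        congr 1
        rw [show ((w⁻¹ : W) : EG.{u} D × P).1 = (w : EG.{u} D × P).1⁻¹ from rfl,
          EG.inv_s, hw.1, map_zero, add_zero] }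
  haveI hDkn : Dk.Normal := ⟨fun n hn g => by
    have e : g * n = n * g := Subtype.ext (Prod.ext (EG.comm_of_v_eq_zero hn.1 _).symm (by
      show (g : EG.{u} D × P).2 * (n : EG.{u} D × P).2 = (n : EG.{u} D × P).2 * (g : EG.{u} D × P).2
      rw [hn.2]
      exact mem_center_iff.mp (hDc (hψmem _)) _))
    rw [e, mul_inv_cancel_right]
    exact hn⟩
  set E := W ⧸ Dk
  let π : W →* E := QuotientGroup.mk' Dk
  letI : CommGroup E :=
    { (inferInstance : Group E) with
      mul_comm := fun a b => by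
        obtain ⟨w, rfl⟩ := QuotientGroup.mk'_surjective Dk a
        obtain ⟨w', rfl⟩ := QuotientGroup.mk'_surjective Dk b
        rw [← commutatorElement_eq_one_iff_mul_comm, ← map_commutatorElement]
        refine (QuotientGroup.eq_one_iff _).mpr ⟨?_, ?_⟩
        · show (_ * _ * _⁻¹ * _⁻¹ : EG.{u} D).v = 0
          rw [EG.commutator_eq]
          rfl
        · show ⁅(w : EG.{u} D × P).2, (w' : EG.{u} D × P).2⁆ = ψ (_ * _ * _⁻¹ * _⁻¹ : EG.{u} D).s
          rw [hψ, EG.commutator_eq, hW w, hW w']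
          rfl }
  let τW : W →* W :=
    { toFun := fun w => ⟨(tau D (w : EG.{u} D × P).1, θ (w : EG.{u} D × P).2), by
        show D.ζ * (w : EG.{u} D × P).1.v = r (θ (w : EG.{u} D × P).2)
        rw [hrθ, hW w]⟩
      map_one' := Subtype.ext (Prod.ext (map_one _) (map_one _))
      map_mul' := fun w w' => Subtype.ext (Prod.ext (map_mul _ _ _) (map_mul _ _ _)) }
  have hit : ∀ (i : ℕ) (w : W), ((τW : W → W)^[i] w : EG.{u} D × P) =
      ((tau D ^ i) (w : EG.{u} D × P).1, (θ : P → P)^[i] (w : EG.{u} D × P).2) := by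
    intro i
    induction i with
    | zero => intro w; rfl
    | succ i ih =>
      intro w
      rw [Function.iterate_succ_apply', Function.iterate_succ_apply', pow_succ']
      show (tau D _, θ _) = _
      rw [ih]
      rfl
  have hqit : ∀ w : W, (τW : W → W)^[q] w = w := fun w => Subtype.ext (by
    rw [hit, tau_pow_q, h.hθr]; rfl)
  let Nm : W →* E :=
    { toFun := fun w => ∏ i ∈ Finset.range q, π ((τW : W → W)^[i] w)
      map_one' := by simp [iterate_map_one]
      map_mul' := fun w w' => by simp only [iterate_map_mul, map_mul, Finset.prod_mul_distrib] }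
  have hNmτ : ∀ w, Nm (τW w) = Nm w := fun w => by
    show ∏ i ∈ Finset.range q, π ((τW : W → W)^[i] (τW w)) = ∏ i ∈ Finset.range q, π _
    simp only [← Function.iterate_succ_apply]
    have h1 := Finset.prod_range_succ (fun i => π ((τW : W → W)^[i] w)) q
    rw [Finset.prod_range_succ', hqit] at h1
    exact mul_right_cancel h1
  -- the kernel of `E → K`
  let j : ↥(commutator P) →* E :=
    { toFun := fun d => π ⟨(1, (d : P)), ((hrk _).mpr d.2).symm⟩
      map_one' := map_one π
      map_mul' := fun d d' => by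
        rw [← map_mul π]
        exact congrArg π (Subtype.ext (Prod.ext (mul_one 1).symm rfl)) }
  have hj : Function.Injective j := fun d d' he => by
    have h1 := QuotientGroup.eq.mp he
    refine Subtype.ext (inv_mul_eq_one.mp ?_)
    refine h1.2.trans ?_
    show ψ ((1 : EG.{u} D)⁻¹ * 1).s = 1
    rw [inv_one, one_mul]
    exact hψ0
  -- elements over zero
  have hzero : ∀ w : W, (w : EG.{u} D × P).1.v = 0 → ∃ d : ↥(commutator P),
      (d : P) = (w : EG.{u} D × P).2 * (ψ (w : EG.{u} D × P).1.s)⁻¹ ∧ j d = π w := by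
    intro w hw
    have hx : (w : EG.{u} D × P).2 ∈ commutator P := (hrk _).mp (by rw [← hW w, hw])
    refine ⟨⟨_, mul_mem hx (inv_mem (hψmem _))⟩, rfl, ?_⟩
    refine QuotientGroup.eq.mpr ⟨?_, ?_⟩
    · show -(0 : D.K) + (w : EG.{u} D × P).1.v = 0
      rw [hw, neg_zero, add_zero]
    · show ((w : EG.{u} D × P).2 * (ψ (w : EG.{u} D × P).1.s)⁻¹)⁻¹ * (w : EG.{u} D × P).2 =
        ψ ((1 : EG.{u} D)⁻¹ * (w : EG.{u} D × P).1).s
      rw [inv_one, one_mul, mul_inv_rev, inv_inv, inv_mul_cancel_right]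
  have hNmrange : ∀ w, ∃ d, j d = Nm w := by
    intro w
    -- the product of the elements as an element of `W`
    let L : ℕ → W := fun n => ((List.range n).map fun i => (τW : W → W)^[i] w).prod
    have hLπ : ∀ n, π (L n) = ∏ i ∈ Finset.range n, π ((τW : W → W)^[i] w) := fun n => by
      induction n with
      | zero => exact map_one π
      | succ n ih =>
        rw [Finset.prod_range_succ, ← ih, ← map_mul]
        congr 1
        simp only [L, List.range_succ, List.map_append, List.map_cons, List.map_nil, List.prod_append, List.prod_cons, List.prod_nil, mul_one]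
    have hLv : ∀ n, (L n : EG.{u} D × P).1.v =
        (∑ i ∈ Finset.range n, D.ζ ^ i) * (w : EG.{u} D × P).1.v := fun n => by
      induction n with
      | zero => simp [L, EG.one_v]
      | succ n ih =>
        rw [Finset.sum_range_succ, add_mul, ← ih]
        have e : L (n + 1) = L n * (τW : W → W)^[n] w := by
          simp only [L, List.range_succ, List.map_append, List.map_cons, List.map_nil, List.prod_append, List.prod_cons, List.prod_nil, mul_one]
        rw [e]
        show (L n : EG.{u} D × P).1.v + _ = _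
        rw [hit, tau_pow_apply]
    obtain ⟨d, -, hd⟩ := hzero (L q) (by
      rw [hLv, D.prim.geom_sum_eq_zero hq.one_lt, zero_mul])
    exact ⟨d, hd.trans (hLπ q)⟩
  choose κ₀ hκ₀ using hNmrange
  obtain ⟨m, -, hm⟩ := Nat.exists_mul_mod_eq_one_of_coprime
    ((Nat.coprime_primes hq Fact.out).mpr hpq.symm) (Fact.out : p.Prime).one_lt
  let κ : W → P := fun w => ((κ₀ w : P)) ^ m
  have hκmul : ∀ w w', κ (w * w') = κ w * κ w' := fun w w' => by
    have e : κ₀ (w * w') = κ₀ w * κ₀ w' := hj (by rw [map_mul, hκ₀, hκ₀, hκ₀, map_mul])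
    show (κ₀ (w * w') : P) ^ m = _
    rw [e, Subgroup.coe_mul]
    exact (show Commute (κ₀ w : P) (κ₀ w' : P) from
      mem_center_iff.mp (hDc (κ₀ w').2) _).mul_pow m
  have hκmem : ∀ w, κ w ∈ commutator P := fun w => pow_mem (κ₀ w).2 m
  have hκτ : ∀ w, κ (τW w) = κ w := fun w => by
    have e : κ₀ (τW w) = κ₀ w := hj (by rw [hκ₀, hκ₀, hNmτ])
    show (κ₀ (τW w) : P) ^ m = _
    rw [e]
  have hκzero : ∀ w : W, (w : EG.{u} D × P).1.v = 0 →
      κ w = (w : EG.{u} D × P).2 * (ψ (w : EG.{u} D × P).1.s)⁻¹ := by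
    intro w hw
    obtain ⟨d, hd, hjd⟩ := hzero w hw
    have hfix : ∀ i, (τW : W → W)^[i] w = w := fun i => by
      induction i with
      | zero => rfl
      | succ i ih =>
        rw [Function.iterate_succ_apply', ih]
        exact Subtype.ext (Prod.ext (EG.ext' (show D.ζ * (w : EG.{u} D × P).1.v = _ by rw [hw, mul_zero]) rfl)
          (h.commutator_le_fixed ((hrk _).mp (by rw [← hW w, hw]))))
    have e : κ₀ w = d ^ q := hj (by
      rw [hκ₀, map_pow, hjd]
      show ∏ i ∈ Finset.range q, π _ = _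
      simp only [hfix, Finset.prod_const, Finset.card_range])
    show (κ₀ w : P) ^ m = _
    rw [e, ← hd, Subgroup.coe_pow, ← pow_mul, ← Nat.mod_add_div (q * m) p, hm, pow_add, pow_one,
      pow_mul, h.commutator_pow d.2, one_pow, mul_one]
  -- the homomorphism
  choose sec hsec using hrs
  let sW : EG.{u} D → W := fun a => ⟨(a, sec a.v), (hsec _).symm⟩
  let φ : EG.{u} D → P := fun a => sec a.v * (κ (sW a))⁻¹
  have hκ1 : ∀ w, κ w⁻¹ = (κ w)⁻¹ := fun w => by
    refine eq_inv_of_mul_eq_one_left ?_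
    rw [← hκmul, inv_mul_cancel]
    have := hκmul 1 1
    rw [mul_one] at this
    exact left_eq_mul.mp this
  have hφ : ∀ w : W, φ (w : EG.{u} D × P).1 = (w : EG.{u} D × P).2 * (κ w)⁻¹ := by
    intro w
    set a := (w : EG.{u} D × P).1
    set x := (w : EG.{u} D × P).2
    have e1 := hκzero (w⁻¹ * sW a) (show -a.v + a.v = 0 from neg_add_cancel _)
    rw [hκmul, hκ1] at e1
    have e2 : ((w⁻¹ * sW a : W) : EG.{u} D × P).2 = x⁻¹ * sec a.v := rfl
    have e3 : ((w⁻¹ * sW a : W) : EG.{u} D × P).1.s = 0 := by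
      show (a⁻¹ * a).s = 0
      rw [inv_mul_cancel]; rfl
    rw [e2, e3, hψ0, inv_one, mul_one] at e1
    have e4 : sec a.v = x * (κ (sW a) * (κ w)⁻¹) := by
      rw [mem_center_iff.mp (hDc (inv_mem (hκmem w))) (κ (sW a)), e1, mul_inv_cancel_left]
    show sec a.v * (κ (sW a))⁻¹ = x * (κ w)⁻¹
    rw [e4, mem_center_iff.mp (hDc (inv_mem (hκmem w))) (κ (sW a))]
    group
  let Φ : EG.{u} D →* P := MonoidHom.mk' φ fun a b => by
    rw [show φ (a * b) = φ ((sW a * sW b : W) : EG.{u} D × P).1 from rfl, hφ, hκmul, mul_inv_rev]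
    show sec a.v * sec b.v * ((κ (sW b))⁻¹ * (κ (sW a))⁻¹) =
      sec a.v * (κ (sW a))⁻¹ * (sec b.v * (κ (sW b))⁻¹)
    have hc := mem_center_iff.mp (hDc (inv_mem (hκmem (sW a))))
    rw [mul_assoc (sec a.v) (κ (sW a))⁻¹, ← mul_assoc (κ (sW a))⁻¹, ← hc (sec b.v)]
    rw [mul_assoc (sec b.v) (κ (sW a))⁻¹, ← hc (κ (sW b))⁻¹]
    group
  have hΦr : ∀ a, r (Φ a) = a.v := fun a => by
    show r (sec a.v * (κ (sW a))⁻¹) = a.v
    rw [hradd, hsec, (hrk _).mpr (inv_mem (hκmem _)), add_zero]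
  have hΦτ : ∀ a, Φ (tau D a) = θ (Φ a) := fun a => by
    show φ ((τW (sW a) : W) : EG.{u} D × P).1 = θ (sec a.v * (κ (sW a))⁻¹)
    rw [hφ, hκτ, map_mul, map_inv, show θ (κ (sW a)) = κ (sW a) from h.commutator_le_fixed (hκmem _)]
    rfl
  refine ⟨Φ, ?_, hΦτ, fun a ha => by rw [← hΦr a, ha, hr1]⟩
  rw [← MonoidHom.range_eq_top]
  by_contra hne
  have hle := (h.hmin _ hne (by
    rintro _ ⟨a, rfl⟩
    exact ⟨tau D a, hΦτ a⟩)).trans h.fixed_le_commutator
  have h1 := (hrk _).mpr (hle ⟨⟨1, 0⟩, rfl⟩)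
  rw [hΦr] at h1
  exact one_ne_zero h1

end H36.MaxSchmidt
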