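import Cfsg.Agent.H36.RedundantSylow
import Cfsg.Agent.H37.Sylow
import Mathlib.LinearAlgebra.Vandermonde
import Mathlib.NumberTheory.Multiplicity
import Mathlib.RingTheory.RootsOfUnity.PrimitiveRoots

/-!
For `p ∥ q - 1`, `p` odd, the monomial group `μ_p ≀ C_p` is a redundant Sylow `p`-subgroup of
`GL_p(q)`.
-/

set_option autoImplicit false
set_option linter.unusedSectionVars false

namespace H36.MS

open Subgroup
open Matrix hiding diag mul_smul

variable {F : Type*} [Field F] {p : ℕ} [hp : Fact p.Prime]

/-- A monomial matrix on a cyclic shift. -/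
def mono (d : Fin p → F) (k : Fin p) : Matrix (Fin p) (Fin p) F :=
  Matrix.of fun i j => if j = i - k then d i else 0

theorem mono_apply (d : Fin p → F) (k i j : Fin p) :
    mono d k i j = if j = i - k then d i else 0 := rfl

theorem mono_mul (d e : Fin p → F) (k l : Fin p) :
    mono d k * mono e l = mono (fun i => d i * e (i - k)) (k + l) := by
  ext i j
  rw [Matrix.mul_apply, Finset.sum_eq_single (i - k)]
  · rw [mono_apply, if_pos rfl, mono_apply, mono_apply, sub_sub]
    split_ifs <;> simp
  · intro b _ hb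
    rw [mono_apply, if_neg hb, zero_mul]
  · simp

theorem mono_one : mono (1 : Fin p → F) 0 = 1 := by
  ext i j
  rw [mono_apply, sub_zero, Matrix.one_apply]
  simp only [Pi.one_apply, eq_comm]

/-- The monomial matrix as an element of `GL`. -/
def monoGL (d : Fin p → rootsOfUnity p F) (k : Fin p) : GL (Fin p) F where
  val := mono (fun i => ((d i : Fˣ) : F)) k
  inv := mono (fun i => (((d (i + k))⁻¹ : rootsOfUnity p F) : Fˣ)) (-k)
  val_inv := by
    rw [mono_mul, add_neg_cancel, ← mono_one]
    congr 1
    funext i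
    rw [sub_add_cancel, ← Units.val_mul, ← Subgroup.coe_mul, mul_inv_cancel]
    rfl
  inv_val := by
    rw [mono_mul, neg_add_cancel, ← mono_one]
    congr 1
    funext i
    rw [sub_neg_eq_add, ← Units.val_mul, ← Subgroup.coe_mul, inv_mul_cancel]
    rfl

theorem monoGL_val (d : Fin p → rootsOfUnity p F) (k : Fin p) :
    ((monoGL d k : GL (Fin p) F) : Matrix (Fin p) (Fin p) F) =
      mono (fun i => ((d i : Fˣ) : F)) k := rfl

theorem monoGL_mul (d e : Fin p → rootsOfUnity p F) (k l : Fin p) :
    monoGL d k * monoGL e l = monoGL (fun i => d i * e (i - k)) (k + l) := by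
  apply Units.ext
  rw [Units.val_mul, monoGL_val, monoGL_val, monoGL_val, mono_mul]
  rfl

theorem monoGL_one : monoGL (1 : Fin p → rootsOfUnity p F) 0 = 1 := by
  apply Units.ext
  rw [monoGL_val]
  exact mono_one

theorem monoGL_inj {d e : Fin p → rootsOfUnity p F} {k l : Fin p}
    (h : monoGL d k = monoGL e l) : d = e ∧ k = l := by
  have hm := congrArg (fun g : GL (Fin p) F => (g : Matrix (Fin p) (Fin p) F)) h
  simp only [monoGL_val] at hm
  have hk : k = l := by
    have h1 := congrFun (congrFun hm 0) (0 - k)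
    rw [mono_apply, mono_apply, if_pos rfl] at h1
    split_ifs at h1 with h2
    · exact sub_right_injective h2
    · exact absurd h1 (Units.ne_zero _)
  subst hk
  refine ⟨funext fun i => ?_, rfl⟩
  have h1 := congrFun (congrFun hm i) (i - k)
  rw [mono_apply, mono_apply, if_pos rfl, if_pos rfl] at h1
  exact Subtype.ext (Units.ext h1)

variable [Fintype F]

/-- The monomial group. -/
noncomputable def monoGroup : Subgroup (GL (Fin p) F) where
  carrier := {g | ∃ (d : Fin p → rootsOfUnity p F) (k : Fin p), monoGL d k = g}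
  mul_mem' := by
    rintro a b ⟨d, k, rfl⟩ ⟨e, l, rfl⟩
    exact ⟨_, _, (monoGL_mul d e k l).symm⟩
  one_mem' := ⟨1, 0, monoGL_one⟩
  inv_mem' := by
    rintro a ⟨d, k, rfl⟩
    refine ⟨fun i => (d (i + k))⁻¹, -k, ?_⟩
    exact eq_inv_of_mul_eq_one_left (by
      rw [monoGL_mul, neg_add_cancel, ← monoGL_one]
      congr 1
      funext i
      rw [sub_neg_eq_add, inv_mul_cancel]
      rfl)

theorem exists_zeta (h1 : p ∣ Fintype.card F - 1) : ∃ ζ : F, IsPrimitiveRoot ζ p := by
  classical
  have hc : p ∣ Nat.card Fˣ := by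
    rwa [Nat.card_units, Nat.card_eq_fintype_card]
  obtain ⟨u, hu⟩ := exists_prime_orderOf_dvd_card' (G := Fˣ) p hc
  exact ⟨(u : F), IsPrimitiveRoot.iff_orderOf.mpr (by rw [orderOf_units, hu])⟩

theorem card_roots (h1 : p ∣ Fintype.card F - 1) : Nat.card (rootsOfUnity p F) = p := by
  obtain ⟨ζ, hζ⟩ := exists_zeta h1
  exact hζ.card_rootsOfUnity

theorem card_monoGroup (h1 : p ∣ Fintype.card F - 1) :
    Nat.card (monoGroup : Subgroup (GL (Fin p) F)) = p ^ (p + 1) := by
  have e : ((Fin p → rootsOfUnity p F) × Fin p) ≃ (monoGroup : Subgroup (GL (Fin p) F)) :=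
    Equiv.ofBijective (fun x => ⟨monoGL x.1 x.2, x.1, x.2, rfl⟩)
      ⟨fun a b h => by
        obtain ⟨e1, e2⟩ := monoGL_inj (congrArg Subtype.val h)
        exact Prod.ext e1 e2,
       fun ⟨g, d, k, hg⟩ => ⟨(d, k), Subtype.ext hg⟩⟩
  rw [← Nat.card_congr e, Nat.card_prod, Nat.card_pi, Finset.prod_const, card_roots h1,
    Finset.card_univ, Fintype.card_fin, Nat.card_eq_fintype_card, Fintype.card_fin, pow_succ]

theorem factorization_card_GL (hp2 : p ≠ 2) (h1 : p ∣ Fintype.card F - 1)
    (h2 : ¬ p ^ 2 ∣ Fintype.card F - 1) :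
    (Nat.card (GL (Fin p) F)).factorization p = p + 1 := by
  have hq : 2 ≤ Fintype.card F := Fintype.one_lt_card
  have hodd : Odd p := hp.out.odd_of_ne_two hp2
  have hpq : ¬ p ∣ Fintype.card F := fun h => by
    have h3 := Nat.dvd_sub h h1
    rw [show Fintype.card F - (Fintype.card F - 1) = 1 by omega, Nat.dvd_one] at h3
    exact hp.out.ne_one h3
  have hne : ∀ i ∈ Finset.range p, Nat.card F ^ (p - i) - 1 ≠ 0 := by
    intro i hi
    rw [Finset.mem_range] at hi
    rw [Nat.card_eq_fintype_card]
    have : 1 < Fintype.card F ^ (p - i) := Nat.one_lt_pow (by omega) (by omega)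
    omega
  rw [H37.card_GL_eq_pow_mul, Nat.factorization_mul
      (pow_ne_zero _ Nat.card_pos.ne') (Finset.prod_ne_zero_iff.mpr hne),
    Finsupp.add_apply, Nat.factorization_eq_zero_of_not_dvd (fun h => hpq (by
      have := hp.out.dvd_of_dvd_pow h
      rwa [Nat.card_eq_fintype_card] at this)), zero_add,
    Nat.factorization_prod hne, Finset.sum_apply']
  have hv : ∀ i ∈ Finset.range p,
      (Nat.card F ^ (p - i) - 1).factorization p = 1 + padicValNat p (p - i) := by
    intro i hi
    rw [Finset.mem_range] at hi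
    rw [Nat.factorization_def _ hp.out, Nat.card_eq_fintype_card]
    have h3 := padicValNat.pow_sub_pow hodd (x := Fintype.card F) (y := 1) (by omega) h1 hpq
      (n := p - i) (by omega)
    rw [one_pow] at h3
    rw [h3]
    congr 1
    rw [← Nat.factorization_def _ hp.out]
    have h4 : 1 ≤ (Fintype.card F - 1).factorization p :=
      (hp.out.pow_dvd_iff_le_factorization (by omega)).mp (by simpa using h1)
    have h5 : ¬ 2 ≤ (Fintype.card F - 1).factorization p :=
      fun h => h2 ((hp.out.pow_dvd_iff_le_factorization (by omega)).mpr h)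
    omega
  rw [Finset.sum_congr rfl hv, Finset.sum_add_distrib, Finset.sum_const, Finset.card_range,
    smul_eq_mul, mul_one]
  congr 1
  rw [Finset.sum_eq_single 0]
  · simp [padicValNat_self]
  · intro b hb hb0
    rw [Finset.mem_range] at hb
    exact padicValNat.eq_zero_of_not_dvd fun h => by
      have := Nat.le_of_dvd (by omega) h
      omega
  · simp [hp.out.pos]

/-- The Sylow subgroup `μ_p ≀ C_p`. -/
noncomputable def monoSylow (hp2 : p ≠ 2) (h1 : p ∣ Fintype.card F - 1)
    (h2 : ¬ p ^ 2 ∣ Fintype.card F - 1) : Sylow p (GL (Fin p) F) :=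
  Sylow.ofCard monoGroup (by rw [card_monoGroup h1, factorization_card_GL hp2 h1 h2])

theorem coe_monoSylow (hp2 : p ≠ 2) (h1 : p ∣ Fintype.card F - 1)
    (h2 : ¬ p ^ 2 ∣ Fintype.card F - 1) :
    ((monoSylow hp2 h1 h2 : Sylow p (GL (Fin p) F)) : Subgroup (GL (Fin p) F)) = monoGroup :=
  Sylow.coe_ofCard _ _

/-- Commuting with an element outside the diagonal leaves only `p²` possibilities. -/
theorem shift_zero_of_comm (hp2 : p ≠ 2) (h1 : p ∣ Fintype.card F - 1)
    (S : Subgroup (GL (Fin p) F)) (hS : S ≤ monoGroup)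
    (hc : ∀ a ∈ S, ∀ b ∈ S, a * b = b * a) (hcard : Nat.card S = p ^ p)
    {d : Fin p → rootsOfUnity p F} {k : Fin p} (hd : monoGL d k ∈ S) : k = 0 := by
  by_contra hk
  have hex : ∀ z : S, ∃ (a : Fin p → rootsOfUnity p F) (l : Fin p), monoGL a l = (z : GL (Fin p) F) :=
    fun z => hS z.2
  choose a l hal using hex
  have hrec : ∀ z : S, ∀ i, a z (i - k) = a z i * d (i - l z) * (d i)⁻¹ := by
    intro z i
    have h := hc _ z.2 _ hd
    rw [← hal z, monoGL_mul, monoGL_mul] at h
    have h3 := congrFun (monoGL_inj h).1 i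
    rw [h3, mul_right_comm, mul_inv_cancel, one_mul]
  let f : S → Fin p × rootsOfUnity p F := fun z => (l z, a z 0)
  have hinj : Function.Injective f := by
    intro z w h
    obtain ⟨hl, ha⟩ := Prod.ext_iff.mp h
    have heq : ∀ m : ℕ, a z (m • (-k)) = a w (m • (-k)) := by
      intro m
      induction m with
      | zero => rw [zero_nsmul]; exact ha
      | succ m ih =>
        rw [succ_nsmul, ← sub_eq_add_neg, hrec z, hrec w, ih, show l z = l w from hl]
    have hall : ∀ i, a z i = a w i := by
      intro i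
      have hmem : i ∈ AddSubgroup.zmultiples (-k) := by
        rw [zmultiples_eq_top_of_prime_card (G := Fin p) (p := p) (by simp)
          (neg_ne_zero.mpr hk)]
        trivial
      rw [← mem_multiples_iff_mem_zmultiples] at hmem
      obtain ⟨m, rfl⟩ := hmem
      exact heq m
    apply Subtype.ext
    rw [← hal z, ← hal w, funext hall, show l z = l w from hl]
  have := Nat.card_le_card_of_injective f hinj
  rw [hcard, Nat.card_prod, card_roots h1, Nat.card_eq_fintype_card, Fintype.card_fin,
    ← pow_two] at this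
  have h3 := (Nat.pow_le_pow_iff_right hp.out.one_lt).mp this
  have := hp.out.two_le
  omega

/-- Conjugation preserving the monomial group preserves the diagonal subgroup. -/
theorem diag_of_normalises (hp2 : p ≠ 2) (h1 : p ∣ Fintype.card F - 1) {g : GL (Fin p) F}
    (hg : ∀ y ∈ (monoGroup : Subgroup (GL (Fin p) F)), g * y * g⁻¹ ∈ (monoGroup : Subgroup (GL (Fin p) F)))
    (e : Fin p → rootsOfUnity p F) :
    ∃ e' : Fin p → rootsOfUnity p F, g * monoGL e 0 = monoGL e' 0 * g := by
  let D : Subgroup (GL (Fin p) F) :=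
    MonoidHom.range
      (MonoidHom.mk' (fun e : Fin p → rootsOfUnity p F => g * monoGL e 0 * g⁻¹) fun a b => by
        have h : monoGL a 0 * monoGL b 0 = monoGL (a * b) 0 := by
          rw [monoGL_mul, add_zero]
          simp only [sub_zero]
          rfl
        rw [← h]
        group)
  have hcard : Nat.card D = p ^ p := by
    rw [show Nat.card D = Nat.card (Fin p → rootsOfUnity p F) from
      (Nat.card_congr (Equiv.ofInjective _ fun a b hab =>
        (monoGL_inj (mul_left_cancel (mul_right_cancel (show g * monoGL a 0 * g⁻¹ =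
          g * monoGL b 0 * g⁻¹ from hab)))).1)).symm]
    rw [Nat.card_pi, Finset.prod_const, card_roots h1, Finset.card_univ, Fintype.card_fin]
  have hS : D ≤ monoGroup := by
    rintro _ ⟨a, rfl⟩
    exact hg _ ⟨a, 0, rfl⟩
  have hc : ∀ a ∈ D, ∀ b ∈ D, a * b = b * a := by
    rintro _ ⟨a, rfl⟩ _ ⟨b, rfl⟩
    rw [← map_mul, ← map_mul, mul_comm]
  obtain ⟨e', k, he'⟩ := hS ⟨e, rfl⟩
  have hk : k = 0 := shift_zero_of_comm hp2 h1 D hS hc hcard (d := e') (he' ▸ ⟨e, rfl⟩)
  subst hk
  refine ⟨e', ?_⟩
  rw [he']
  show g * monoGL e 0 = g * monoGL e 0 * g⁻¹ * g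
  group

/-- An element normalising the monomial group is monomial. -/
theorem row_unique_of_normalises (hp2 : p ≠ 2) (h1 : p ∣ Fintype.card F - 1) {g : GL (Fin p) F}
    (hg : ∀ y ∈ (monoGroup : Subgroup (GL (Fin p) F)), g * y * g⁻¹ ∈ (monoGroup : Subgroup (GL (Fin p) F)))
    {i j l : Fin p} (hj : (g : Matrix (Fin p) (Fin p) F) i j ≠ 0)
    (hl : (g : Matrix (Fin p) (Fin p) F) i l ≠ 0) : j = l := by
  classical
  obtain ⟨ζ, hζ⟩ := exists_zeta h1
  have hζu : hζ.toRootsOfUnity.1 ≠ 1 := fun h =>
    hζ.ne_one hp.out.one_lt (by simpa using congrArg (fun u : Fˣ => (u : F)) h)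
  obtain ⟨e', he'⟩ := diag_of_normalises hp2 h1 hg
    (fun m => if m = j then hζ.toRootsOfUnity else 1)
  by_contra hjl
  have key : ∀ m, (g : Matrix (Fin p) (Fin p) F) i m ≠ 0 →
      (((if m = j then hζ.toRootsOfUnity else 1 : rootsOfUnity p F) : Fˣ) : F) =
        (((e' i : rootsOfUnity p F) : Fˣ) : F) := by
    intro m hm
    have h := congrFun (congrFun (congrArg (fun x : GL (Fin p) F =>
      (x : Matrix (Fin p) (Fin p) F)) he') i) m
    simp only [Units.val_mul, monoGL_val, Matrix.mul_apply, mono_apply, sub_zero] at h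
    rw [Finset.sum_eq_single m, Finset.sum_eq_single i] at h
    · rw [if_pos rfl, if_pos rfl] at h
      exact mul_left_cancel₀ hm (h.trans (mul_comm _ _))
    · intro b _ hb; rw [if_neg hb, zero_mul]
    · simp
    · intro b _ hb; rw [if_neg (Ne.symm hb), mul_zero]
    · simp
  have e1 := key j hj
  have e2 := key l hl
  rw [if_pos rfl] at e1
  rw [if_neg (Ne.symm hjl), ← e1] at e2
  exact hζu (Units.ext e2.symm)

theorem smul_ne_of_not_normalises (hp2 : p ≠ 2) (h1 : p ∣ Fintype.card F - 1)
    (h2 : ¬ p ^ 2 ∣ Fintype.card F - 1) {g : GL (Fin p) F} {i j l : Fin p}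
    (hj : (g : Matrix (Fin p) (Fin p) F) i j ≠ 0)
    (hl : (g : Matrix (Fin p) (Fin p) F) i l ≠ 0) (hjl : j ≠ l) :
    g • monoSylow hp2 h1 h2 ≠ monoSylow hp2 h1 h2 := by
  intro heq
  refine hjl (row_unique_of_normalises hp2 h1 (fun y hy => ?_) hj hl)
  have h := congrArg (fun S : Sylow p (GL (Fin p) F) => (S : Subgroup (GL (Fin p) F))) heq
  simp only [Sylow.coe_subgroup_smul, coe_monoSylow] at h
  rw [← h]
  exact Subgroup.mem_map_of_mem (MulAut.conj g).toMonoidHom hy

theorem root_pow (u : rootsOfUnity p F) : ((u : Fˣ) : F) ^ p = 1 := by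
  have h := (mem_rootsOfUnity p (u : Fˣ)).mp u.2
  rw [← Units.val_pow_eq_pow_val, h, Units.val_one]

theorem natCast_ne_zero (h1 : p ∣ Fintype.card F - 1) : (p : F) ≠ 0 := by
  obtain ⟨ζ, hζ⟩ := exists_zeta h1
  exact (hζ.neZero').out

/-- Every element of the monomial group lies in a second conjugate of it. -/
theorem exists_conj_mem_ne (hp2 : p ≠ 2) (h1 : p ∣ Fintype.card F - 1)
    (h2 : ¬ p ^ 2 ∣ Fintype.card F - 1) (y : GL (Fin p) F)
    (hy : y ∈ (monoGroup : Subgroup (GL (Fin p) F))) :
    ∃ g : GL (Fin p) F, g • monoSylow hp2 h1 h2 ≠ monoSylow hp2 h1 h2 ∧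
      g⁻¹ * y * g ∈ (monoGroup : Subgroup (GL (Fin p) F)) := by
  classical
  obtain ⟨d, k, rfl⟩ := hy
  have hp3 : 3 ≤ p := by
    have := hp.out.two_le
    omega
  have hcomm : ∀ g : GL (Fin p) F, g * monoGL d k = monoGL d k * g →
      g⁻¹ * monoGL d k * g ∈ (monoGroup : Subgroup (GL (Fin p) F)) := fun g hg => by
    rw [mul_assoc, ← hg, inv_mul_cancel_left]
    exact ⟨d, k, rfl⟩
  by_cases hk : k = 0
  · subst hk
    by_cases hinj : Function.Injective d
    · -- all diagonal entries distinct: conjugate to the shift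
      set v : Fin p → F := fun i => ((d i : Fˣ) : F) with hv
      have hvinj : Function.Injective v := fun a b h => hinj (Subtype.ext (Units.ext h))
      let h : GL (Fin p) F :=
        GeneralLinearGroup.mkOfDetNeZero (vandermonde v) (det_vandermonde_ne_zero_iff.mpr hvinj)
      have hh : monoGL d 0 * h = h * monoGL 1 1 := by
        apply Units.ext
        ext i j
        rw [Units.val_mul, Units.val_mul, monoGL_val, monoGL_val, Matrix.mul_apply,
          Matrix.mul_apply, Finset.sum_eq_single i, Finset.sum_eq_single (j + 1)]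
        · rw [mono_apply, if_pos (sub_zero i).symm, mono_apply, if_pos (add_sub_cancel_right j 1).symm]
          show v i * vandermonde v i j = vandermonde v i (j + 1) * _
          simp only [Pi.one_apply, OneMemClass.coe_one, Units.val_one, mul_one, vandermonde_apply]
          rw [← pow_succ', Fin.val_add, Fin.val_one', Nat.add_mod_mod]
          exact (pow_eq_pow_mod _ (root_pow (d i))).symm ▸ rfl
        · intro b _ hb
          rw [mono_apply, if_neg, mul_zero]
          intro hjb
          exact hb (by rw [hjb, sub_add_cancel])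
        · simp
        · intro b _ hb
          rw [mono_apply, sub_zero, if_neg hb, zero_mul]
        · simp
      refine ⟨h, fun heq => ?_, ?_⟩
      · have heq' : h⁻¹ • monoSylow hp2 h1 h2 = monoSylow hp2 h1 h2 := inv_smul_eq_iff.mpr heq.symm
        have hnorm : ∀ y ∈ (monoGroup : Subgroup (GL (Fin p) F)),
            h⁻¹ * y * h⁻¹⁻¹ ∈ (monoGroup : Subgroup (GL (Fin p) F)) := fun y hy => by
          have h' := congrArg (fun S : Sylow p (GL (Fin p) F) => (S : Subgroup (GL (Fin p) F))) heq'
          simp only [Sylow.coe_subgroup_smul, coe_monoSylow] at h'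
          rw [← h']
          exact Subgroup.mem_map_of_mem (MulAut.conj h⁻¹).toMonoidHom hy
        obtain ⟨e', he'⟩ := diag_of_normalises hp2 h1 hnorm d
        have h3 : monoGL (1 : Fin p → rootsOfUnity p F) 1 = monoGL e' 0 :=
          calc monoGL (1 : Fin p → rootsOfUnity p F) 1 = h⁻¹ * (h * monoGL 1 1) :=
                (inv_mul_cancel_left _ _).symm
            _ = h⁻¹ * monoGL d 0 * h := by rw [← hh, mul_assoc]
            _ = monoGL e' 0 := by rw [he', inv_mul_cancel_right]
        have h4 := congrArg Fin.val (monoGL_inj h3).2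
        rw [Fin.val_one', Fin.val_zero, Nat.mod_eq_of_lt (by omega)] at h4
        exact one_ne_zero h4
      · rw [mul_assoc, hh, inv_mul_cancel_left]
        exact ⟨1, 1, rfl⟩
    · -- two equal diagonal entries
      obtain ⟨i, j, hij, hne⟩ := Function.not_injective_iff.mp hinj
      let g : GL (Fin p) F := GeneralLinearGroup.mkOfDetNeZero (transvection i j (1 : F))
        (by rw [det_transvection_of_ne i j hne]; exact one_ne_zero)
      refine ⟨g, smul_ne_of_not_normalises hp2 h1 h2 (g := g) (i := i) (j := i) (l := j) ?_ ?_ hne,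
        hcomm g ?_⟩
      · show transvection i j (1 : F) i i ≠ 0
        simp [transvection, Matrix.single, hne.symm]
      · show transvection i j (1 : F) i j ≠ 0
        simp [transvection, Matrix.single, hne]
      · apply Units.ext
        show transvection i j (1 : F) * mono _ 0 = mono _ 0 * transvection i j (1 : F)
        ext a b
        rw [Matrix.mul_apply, Matrix.mul_apply, Finset.sum_eq_single b, Finset.sum_eq_single a]
        · rw [mono_apply, mono_apply, if_pos (sub_zero b).symm, if_pos (sub_zero a).symm]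
          by_cases hab : a = b
          · subst hab; ring
          · by_cases hij' : i = a ∧ j = b
            · obtain ⟨rfl, rfl⟩ := hij'
              rw [hij]; ring
            · simp [transvection, Matrix.one_apply_ne hab, Matrix.single, hij']
        · intro c _ hc; rw [mono_apply, sub_zero, if_neg hc, zero_mul]
        · simp
        · intro c _ hc; rw [mono_apply, sub_zero, if_neg (Ne.symm hc), mul_zero]
        · simp
  · -- off the diagonal
    set x := monoGL d k with hx
    have hpow : ∀ m : ℕ, ∃ e : Fin p → rootsOfUnity p F, x ^ m = monoGL e (m • k) := by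
      intro m
      induction m with
      | zero => exact ⟨1, by rw [pow_zero, zero_nsmul, monoGL_one]⟩
      | succ m ih =>
        obtain ⟨e, he⟩ := ih
        exact ⟨_, by rw [pow_succ, he, hx, monoGL_mul, succ_nsmul]⟩
    obtain ⟨c, hc⟩ := hpow p
    have hpk : p • k = (0 : Fin p) := by
      have h := card_nsmul_eq_zero' (G := Fin p) (x := k)
      rwa [Nat.card_eq_fintype_card, Fintype.card_fin] at h
    rw [hpk] at hc
    have hcc : ∀ i, c (i - k) = c i := by
      intro i
      have h : monoGL c 0 * monoGL d k = monoGL d k * monoGL c 0 := by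
        rw [← hc, ← hx, ← pow_succ, ← pow_succ']
      rw [monoGL_mul, monoGL_mul] at h
      have h3 := congrFun (monoGL_inj h).1 i
      simp only [sub_zero] at h3
      rw [mul_comm (c i)] at h3
      exact (mul_left_cancel h3).symm
    have hconst : ∀ i, c i = c 0 := by
      intro i
      have hmem : i ∈ AddSubgroup.zmultiples (-k) := by
        rw [zmultiples_eq_top_of_prime_card (G := Fin p) (p := p) (by simp)
          (neg_ne_zero.mpr hk)]
        trivial
      rw [← mem_multiples_iff_mem_zmultiples] at hmem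
      obtain ⟨m, rfl⟩ := hmem
      show c (m • (-k)) = c 0
      induction m with
      | zero => rw [zero_nsmul]
      | succ m ih => rw [succ_nsmul, ← sub_eq_add_neg, hcc, ih]
    set γ : F := ((c 0 : Fˣ) : F) with hγ
    have hxp : (x : Matrix (Fin p) (Fin p) F) ^ p = γ • 1 := by
      rw [← Units.val_pow_eq_pow_val, hc, monoGL_val]
      ext a b
      rw [mono_apply, sub_zero, Matrix.smul_apply, Matrix.one_apply, hconst a, ← hγ]
      by_cases hab : a = b
      · simp [hab]
      · simp [hab, Ne.symm hab]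
    have hxcomm : ∀ (M : Matrix (Fin p) (Fin p) F) (g : GL (Fin p) F),
        (g : Matrix (Fin p) (Fin p) F) = M → Commute M (x : Matrix (Fin p) (Fin p) F) →
        g * x = x * g := fun M g hg hM => Units.ext (by rw [Units.val_mul, Units.val_mul, hg]; exact hM.eq)
    by_cases hγ1 : γ = 1
    · -- `x ^ p = 1`: use the idempotent
      obtain ⟨ζ, hζ⟩ := exists_zeta h1
      have hp0 := natCast_ne_zero (F := F) h1
      rw [hγ1, one_smul] at hxp
      set X := (x : Matrix (Fin p) (Fin p) F) with hX
      set S := ∑ m ∈ Finset.range p, X ^ m with hS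
      have hXS : X * S = S := by
        rw [hS, Finset.mul_sum]
        simp only [← pow_succ']
        have e1 := Finset.sum_range_succ' (fun m => X ^ m) p
        have e2 := Finset.sum_range_succ (fun m => X ^ m) p
        rw [e1, hxp, pow_zero] at e2
        exact add_right_cancel e2
      have hSX : ∀ m : ℕ, X ^ m * S = S := by
        intro m
        induction m with
        | zero => rw [pow_zero, one_mul]
        | succ m ih => rw [pow_succ, mul_assoc, hXS, ih]
      have hSS : S * S = (p : F) • S := by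
        conv_lhs => arg 1; rw [hS]
        rw [Finset.sum_mul, Finset.sum_congr rfl fun m _ => hSX m, Finset.sum_const,
          Finset.card_range, Nat.cast_smul_eq_nsmul]
      set α : F := (ζ - 1) / p
      set β : F := (ζ⁻¹ - 1) / p
      have hζ0 : ζ ≠ 0 := hζ.ne_zero hp.out.ne_zero
      have hαβ : α + β + α * β * p = 0 := by
        simp only [α, β]
        field_simp
        ring
      have hαβ' : β + α + β * α * p = 0 := by rw [← hαβ]; ring
      have hmul : ∀ a b : F, a + b + a * b * p = 0 →
          (1 + a • S) * (1 + b • S) = (1 : Matrix (Fin p) (Fin p) F) := by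
        intro a b hab
        have : (1 + a • S) * (1 + b • S) = 1 + (a + b + a * b * p) • S := by
          rw [add_mul, one_mul, mul_add, mul_one, smul_mul_smul_comm, hSS, smul_smul, add_smul,
            add_smul]
          abel
        rw [this, hab, zero_smul, add_zero]
      let g : GL (Fin p) F := ⟨1 + α • S, 1 + β • S, hmul α β hαβ, hmul β α hαβ'⟩
      have hα : α ≠ 0 := div_ne_zero (sub_ne_zero.mpr (hζ.ne_one hp.out.one_lt)) hp0
      have hentry : ∀ m : ℕ, 1 ≤ m → m < p → S 0 (0 - m • k) ≠ 0 := by
        intro m hm1 hm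
        rw [hS, Matrix.sum_apply, Finset.sum_eq_single m]
        · obtain ⟨e, he⟩ := hpow m
          rw [hX, ← Units.val_pow_eq_pow_val, he, monoGL_val, mono_apply, if_pos rfl]
          exact Units.ne_zero _
        · intro b hb hbm
          obtain ⟨e, he⟩ := hpow b
          rw [hX, ← Units.val_pow_eq_pow_val, he, monoGL_val, mono_apply, if_neg]
          intro hmb
          have h5 : addOrderOf k = p := addOrderOf_eq_prime hpk hk
          have h6 := nsmul_eq_nsmul_iff_modEq.mp (sub_right_injective hmb)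
          rw [h5] at h6
          exact hbm (Nat.ModEq.eq_of_lt_of_lt h6 hm (Finset.mem_range.mp hb)).symm
        · intro hmp; exact absurd (Finset.mem_range.mpr hm) hmp
      have hk2 : 0 - (1 : ℕ) • k ≠ 0 - (2 : ℕ) • k := by
        intro h
        rw [sub_right_injective.eq_iff, two_nsmul, one_nsmul, left_eq_add] at h
        exact hk h
      have hne0 : ∀ m : ℕ, 1 ≤ m → m < p → (0 : Fin p) ≠ 0 - m • k := by
        intro m hm1 hm h
        rw [zero_sub, eq_comm, neg_eq_zero, ← addOrderOf_dvd_iff_nsmul_eq_zero,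
          addOrderOf_eq_prime hpk hk] at h
        have := Nat.le_of_dvd hm1 h
        omega
      refine ⟨g, smul_ne_of_not_normalises hp2 h1 h2 (g := g) (i := 0) (j := 0 - (1 : ℕ) • k)
        (l := 0 - (2 : ℕ) • k) ?_ ?_ hk2, hcomm g (hxcomm (1 + α • S) g rfl ?_)⟩
      · show (1 + α • S) 0 (0 - (1 : ℕ) • k) ≠ 0
        rw [Matrix.add_apply, Matrix.one_apply_ne (hne0 1 le_rfl (by omega)), zero_add,
          Matrix.smul_apply, smul_eq_mul]
        exact mul_ne_zero hα (hentry 1 le_rfl (by omega))
      · show (1 + α • S) 0 (0 - (2 : ℕ) • k) ≠ 0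
        rw [Matrix.add_apply, Matrix.one_apply_ne (hne0 2 (by omega) (by omega)), zero_add,
          Matrix.smul_apply, smul_eq_mul]
        exact mul_ne_zero hα (hentry 2 (by omega) (by omega))
      · refine (Commute.one_left _).add_left (Commute.smul_left ?_ _)
        exact (Commute.sum_right _ _ _ fun m _ => (Commute.refl X).pow_right m).symm
    · -- `x ^ p` is a nontrivial scalar: use `1 + x`
      set X := (x : Matrix (Fin p) (Fin p) F) with hX
      have hone : 1 + γ ≠ 0 := by
        intro h0
        have h3 : γ ^ p = 1 := root_pow (c 0)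
        rw [← neg_eq_of_add_eq_zero_right h0, (hp.out.odd_of_ne_two hp2).neg_one_pow] at h3
        exact hγ1 (by rw [← neg_eq_of_add_eq_zero_right h0, h3])
      set T := ∑ m ∈ Finset.range p, (-X) ^ m with hT
      have hTX : (1 + X) * T = (1 + γ) • 1 := by
        have h3 := mul_neg_geom_sum (-X) p
        rw [sub_neg_eq_add, (hp.out.odd_of_ne_two hp2).neg_pow, hxp, sub_neg_eq_add] at h3
        rw [hT, h3, add_smul, one_smul]
      have hXT : T * (1 + X) = (1 + γ) • 1 := by
        rw [← hTX]
        exact (((Commute.one_left T).add_left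
          (Commute.sum_right _ _ _ fun m _ => ((Commute.refl X).neg_right).pow_right m))).symm.eq
      let g : GL (Fin p) F := ⟨1 + X, (1 + γ)⁻¹ • T,
        by rw [mul_smul_comm, hTX, smul_smul, inv_mul_cancel₀ hone, one_smul],
        by rw [smul_mul_assoc, hXT, smul_smul, inv_mul_cancel₀ hone, one_smul]⟩
      have hk0 : (0 : Fin p) ≠ 0 - k := by
        intro h
        rw [zero_sub, eq_comm, neg_eq_zero] at h
        exact hk h
      refine ⟨g, smul_ne_of_not_normalises hp2 h1 h2 (g := g) (i := 0) (j := 0)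
        (l := 0 - k) ?_ ?_ hk0, hcomm g (hxcomm (1 + X) g rfl ?_)⟩
      · show (1 + X) 0 0 ≠ 0
        rw [Matrix.add_apply, Matrix.one_apply_eq, hX, hx, monoGL_val, mono_apply, if_neg hk0,
          add_zero]
        exact one_ne_zero
      · show (1 + X) 0 (0 - k) ≠ 0
        rw [Matrix.add_apply, Matrix.one_apply_ne hk0, zero_add, hX, hx, monoGL_val, mono_apply,
          if_pos rfl]
        exact Units.ne_zero _
      · exact (Commute.one_left _).add_left (Commute.refl X)

end H36.MS

namespace H36

open Subgroup in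
theorem gl_redundant_sylow {F : Type*} [Field F] [Fintype F] (p : ℕ) [hp : Fact p.Prime]
    (hp2 : p ≠ 2) (h1 : p ∣ Fintype.card F - 1) (h2 : ¬ p ^ 2 ∣ Fintype.card F - 1) :
    ∃ Q : Sylow p (GL (Fin p) F), RS.Redundant p Q := by
  set Q := MS.monoSylow hp2 h1 h2 with hQdef
  refine ⟨Q, fun x hx => ?_⟩
  obtain ⟨k, hk⟩ := hx
  obtain ⟨R, hR⟩ := (IsPGroup.of_card (n := k) (G := zpowers x)
    (by rw [Nat.card_zpowers, hk])).exists_le_sylow
  obtain ⟨a, rfl⟩ := MulAction.exists_smul_eq (GL (Fin p) F) Q R
  have hxa := hR (mem_zpowers x)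
  have hxa' : a⁻¹ * x * a ∈ (MS.monoGroup : Subgroup (GL (Fin p) F)) := by
    rw [Sylow.coe_subgroup_smul, MS.coe_monoSylow] at hxa
    obtain ⟨b, hb, hb'⟩ := hxa
    rw [← hb']
    show a⁻¹ * (a * b * a⁻¹) * a ∈ _
    rw [show a⁻¹ * (a * b * a⁻¹) * a = b by group]
    exact hb
  obtain ⟨g, hg, hgm⟩ := MS.exists_conj_mem_ne hp2 h1 h2 _ hxa'
  have hx2 : x ∈ (a * g) • Q := by
    show x ∈ (((a * g) • Q : Sylow p (GL (Fin p) F)) : Subgroup (GL (Fin p) F))
    rw [Sylow.coe_subgroup_smul, MS.coe_monoSylow]
    refine ⟨_, hgm, ?_⟩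
    show a * g * (g⁻¹ * (a⁻¹ * x * a) * g) * (a * g)⁻¹ = x
    group
  by_cases ha : a • Q = Q
  · refine ⟨(a * g) • Q, fun h => hg ?_, hx2⟩
    rw [mul_smul] at h
    exact (MulAction.injective a) (h.trans ha.symm)
  · exact ⟨a • Q, ha, hxa⟩

end H36
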