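import Cfsg.Agent.H36.PElements
import Mathlib.Data.Finset.Max

/-!
At least `p + 1` proper subgroups are needed to cover the `p`-elements of a group generated by them.
-/

set_option autoImplicit false

namespace H36

variable {G : Type*} [Group G]

theorem exists_le_of_pgroup_cover [Finite G] {p : ℕ} [hp : Fact p.Prime] {P : Subgroup G}
    (hP : IsPGroup p P) (s : Finset (Subgroup G)) (hs : s.card ≤ p)
    (hcov : ∀ g ∈ P, ∃ K ∈ s, g ∈ K) : ∃ K ∈ s, P ≤ K := by
  classical
  have := Fintype.ofFinite G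
  by_contra hno
  push Not at hno
  obtain ⟨m, hm⟩ := IsPGroup.iff_card.mp hP
  let A : Subgroup G → Finset G := fun K => Finset.univ.filter fun g => g ∈ P ⊓ K ∧ g ≠ 1
  have hA : ∀ K, (A K).card + 1 = Nat.card ↥(P ⊓ K) := by
    intro K
    rw [Nat.card_eq_fintype_card, Fintype.card_subtype]
    have h1 : (1 : G) ∈ Finset.univ.filter (fun g : G => g ∈ P ⊓ K) := by simp
    rw [← Finset.card_erase_add_one h1]
    congr 2
    ext g
    simp [A, and_comm]
  have hb : ∀ K ∈ s, p * ((A K).card + 1) ≤ p ^ m := by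
    intro K hK
    rw [hA]
    obtain ⟨j, hj⟩ := IsPGroup.iff_card.mp (hP.to_inf_left (K := K))
    have hjm : j < m := by
      by_contra hge
      refine hno K hK (inf_eq_left.mp (Subgroup.eq_of_le_of_card_ge inf_le_left ?_))
      rw [hm, hj]
      exact Nat.pow_le_pow_right hp.out.pos (not_lt.mp hge)
    rw [hj, ← pow_succ']
    exact Nat.pow_le_pow_right hp.out.pos hjm
  have hsub : Finset.univ.filter (fun g : G => g ∈ P ∧ g ≠ 1) ⊆ s.biUnion A := by
    intro g hg
    simp only [Finset.mem_filter, Finset.mem_univ, true_and] at hg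
    obtain ⟨K, hK, hgK⟩ := hcov g hg.1
    refine Finset.mem_biUnion.mpr ⟨K, hK, ?_⟩
    simp [A, hg.1, hg.2, hgK]
  have hPc : (Finset.univ.filter (fun g : G => g ∈ P ∧ g ≠ 1)).card + 1 = p ^ m := by
    rw [← hm, Nat.card_eq_fintype_card, Fintype.card_subtype]
    have h1 : (1 : G) ∈ Finset.univ.filter (fun g : G => g ∈ P) := by simp
    rw [← Finset.card_erase_add_one h1]
    congr 2
    ext g
    simp [and_comm]
  have h1 := (Finset.card_le_card hsub).trans Finset.card_biUnion_le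
  have hne : s.Nonempty := by
    obtain ⟨K, hK, -⟩ := hcov 1 P.one_mem
    exact ⟨K, hK⟩
  have h2 : p * (∑ K ∈ s, ((A K).card + 1)) ≤ s.card * p ^ m := by
    rw [Finset.mul_sum, ← smul_eq_mul]
    exact Finset.sum_le_card_nsmul _ _ _ hb
  rw [Finset.sum_add_distrib, Finset.sum_const, smul_eq_mul, mul_one] at h2
  have h3 : p * ((Finset.univ.filter (fun g : G => g ∈ P ∧ g ≠ 1)).card + s.card) ≤ p * p ^ m :=
    le_trans (Nat.mul_le_mul_left _ (Nat.add_le_add_right h1 _))
      (h2.trans (Nat.mul_le_mul_right _ hs))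
  have h4 := Nat.le_of_mul_le_mul_left h3 hp.out.pos
  have h5 : 1 ≤ s.card := hne.card_pos
  -- equality forces a single subgroup
  have hs1 : s.card = 1 := by omega
  obtain ⟨K, rfl⟩ := Finset.card_eq_one.mp hs1
  refine hno K (Finset.mem_singleton_self K) fun g hg => ?_
  obtain ⟨K', hK', hgK⟩ := hcov g hg
  rwa [Finset.mem_singleton.mp hK'] at hgK

/-- A family of subgroups covering the `p`-elements of `H` without any of them containing `H`. -/
def IsPCover (p : ℕ) (H : Subgroup G) (s : Finset (Subgroup G)) : Prop :=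
  (∀ K ∈ s, ¬ H ≤ K) ∧ ∀ g ∈ H, IsPEl p g → ∃ K ∈ s, g ∈ K

theorem exists_only_of_minimal {p : ℕ} {H : Subgroup G} {s : Finset (Subgroup G)}
    (hs : IsPCover p H s) (hmin : ∀ t, IsPCover p H t → s.card ≤ t.card) {K : Subgroup G}
    (hK : K ∈ s) : ∃ g ∈ H, IsPEl p g ∧ g ∈ K ∧ ∀ K' ∈ s, g ∈ K' → K' = K := by
  classical
  by_contra hno
  push Not at hno
  have hcov : IsPCover p H (s.erase K) := by
    refine ⟨fun K' hK' => hs.1 K' (Finset.mem_of_mem_erase hK'), fun g hgH hg => ?_⟩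
    obtain ⟨K', hK', hgK'⟩ := hs.2 g hgH hg
    rcases eq_or_ne K' K with rfl | hne
    · obtain ⟨K'', hK'', hg'', hne⟩ := hno g hgH hg hgK'
      exact ⟨K'', Finset.mem_erase.mpr ⟨hne, hK''⟩, hg''⟩
    · exact ⟨K', Finset.mem_erase.mpr ⟨hne, hK'⟩, hgK'⟩
  have := hmin _ hcov
  have := Finset.card_erase_lt_of_mem hK
  omega

theorem succ_le_card_of_isPCover [Finite G] {p : ℕ} [hp : Fact p.Prime] (H : Subgroup G) :
    ∀ s : Finset (Subgroup G), H ≤ Subgroup.closure {g : G | g ∈ H ∧ IsPEl p g} →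
      IsPCover p H s → p + 1 ≤ s.card := by
  classical
  have := Fintype.ofFinite (Subgroup G)
  induction H using (wellFounded_lt (α := Subgroup G)).induction with
  | _ H ih =>
  intro s₁ hgen hs₁
  by_contra hlt
  obtain ⟨s, hsmem, hmin'⟩ := Finset.exists_min_image
    (Finset.univ.filter fun t : Finset (Subgroup G) => IsPCover p H t) (fun t => t.card)
    ⟨s₁, by simp [hs₁]⟩
  simp only [Finset.mem_filter, Finset.mem_univ, true_and] at hsmem hmin'
  have hs := hsmem
  have hmin : ∀ t, IsPCover p H t → s.card ≤ t.card := hmin'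
  have hsp : s.card ≤ p := by
    have := hmin _ hs₁
    omega
  -- an element covered once and a `p`-element outside its subgroup generate `H`
  have genH : ∀ K ∈ s, ∀ x ∈ H, IsPEl p x → (∀ K' ∈ s, x ∈ K' → K' = K) →
      ∀ y ∈ H, IsPEl p y → y ∉ K → ∀ L : Subgroup G, x ∈ L → y ∈ L → H ≤ L := by
    intro K hK x hxH hx hxo y hyH hy hyK L hxL hyL
    set J := Subgroup.closure ({x, y} : Set G) with hJ
    have hJH : J ≤ H := (Subgroup.closure_le _).mpr (by rintro _ (rfl | rfl) <;> assumption)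
    have hJL : J ≤ L := (Subgroup.closure_le _).mpr (by rintro _ (rfl | rfl) <;> assumption)
    rcases hJH.lt_or_eq with hJlt | hJeq
    · exfalso
      have hxJ : x ∈ J := Subgroup.subset_closure (Or.inl rfl)
      have hyJ : y ∈ J := Subgroup.subset_closure (Or.inr rfl)
      have h := ih J hJlt s
        ((Subgroup.closure_le _).mpr (by
          rintro _ (rfl | rfl)
          · exact Subgroup.subset_closure ⟨hxJ, hx⟩
          · exact Subgroup.subset_closure ⟨hyJ, hy⟩))
        ⟨fun K' hK' hle => hyK (hxo K' hK' (hle hxJ) ▸ hle hyJ), fun g hg => hs.2 g (hJH hg)⟩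
      omega
    · exact hJeq ▸ hJL
  let E : Subgroup G → Set G := fun K => {g | g ∈ H ∧ IsPEl p g ∧ g ∈ K}
  have hconjE : ∀ h ∈ H, ∀ (K : Subgroup G) (g : G),
      g ∈ E (K.map (MulAut.conj h).toMonoidHom) ↔ h⁻¹ * g * h ∈ E K := by
    intro h hh K g
    have hmap : g ∈ K.map (MulAut.conj h).toMonoidHom ↔ h⁻¹ * g * h ∈ K := by
      rw [Subgroup.mem_map_equiv]
      simp
    constructor
    · rintro ⟨hgH, hg, hgK⟩
      exact ⟨H.mul_mem (H.mul_mem (H.inv_mem hh) hgH) hh,
        by simpa using isPEl_conj hg h⁻¹, hmap.mp hgK⟩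
    · rintro ⟨hgH, hg, hgK⟩
      refine ⟨?_, ?_, hmap.mpr hgK⟩
      · simpa [mul_assoc] using H.mul_mem (H.mul_mem hh hgH) (H.inv_mem hh)
      · simpa [mul_assoc] using isPEl_conj hg h
  have hconjH : ∀ h ∈ H, ∀ K : Subgroup G, H ≤ K.map (MulAut.conj h).toMonoidHom → H ≤ K := by
    intro h hh K hle g hg
    obtain ⟨k, hk, hkg⟩ := hle (H.mul_mem (H.mul_mem hh hg) (H.inv_mem hh))
    simp only [MulEquiv.coe_toMonoidHom, MulAut.conj_apply, mul_left_inj, mul_right_inj] at hkg
    exact hkg ▸ hk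
  -- conjugation by `H` permutes the sets of covered `p`-elements
  have perm : ∀ K ∈ s, ∀ h ∈ H, ∃ L ∈ s, E L = E (K.map (MulAut.conj h).toMonoidHom) := by
    intro K hK h hh
    obtain ⟨y, hyH, hy, hyK, hyo⟩ := exists_only_of_minimal hs hmin hK
    set K' := K.map (MulAut.conj h).toMonoidHom with hK'
    have hy'E : h * y * h⁻¹ ∈ E K' := by
      rw [hconjE h hh]
      simp only [mul_assoc, inv_mul_cancel_left, inv_mul_cancel, mul_one]
      exact ⟨hyH, hy, hyK⟩
    obtain ⟨hy'H, hy', -⟩ := hy'E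
    set T := s.filter fun L => h * y * h⁻¹ ∈ L with hT
    obtain ⟨L, hL, hy'L⟩ := hs.2 _ hy'H hy'
    have hsub : ∀ L ∈ T, E L ⊆ E K' := by
      rintro L hLT g hg
      simp only [hT, Finset.mem_filter] at hLT
      rw [hconjE h hh]
      refine ⟨H.mul_mem (H.mul_mem (H.inv_mem hh) hg.1) hh,
        by simpa using isPEl_conj hg.2.1 h⁻¹, ?_⟩
      by_contra hgK
      apply hs.1 L hLT.1
      refine hconjH h⁻¹ (H.inv_mem hh) L ?_
      have hmem : ∀ u : G, u ∈ L → h⁻¹ * u * h ∈ L.map (MulAut.conj h⁻¹).toMonoidHom :=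
        fun u hu => ⟨u, hu, by simp⟩
      refine genH K hK y hyH hy hyo (h⁻¹ * g * h)
        (H.mul_mem (H.mul_mem (H.inv_mem hh) hg.1) hh) (by simpa using isPEl_conj hg.2.1 h⁻¹)
        hgK _ ?_ (hmem g hg.2.2)
      simpa [mul_assoc] using hmem _ hLT.2
    have hcov : IsPCover p H (insert K' (s \ T)) := by
      refine ⟨fun M hM => ?_, fun g hgH hg => ?_⟩
      · rcases Finset.mem_insert.mp hM with rfl | hM
        · exact fun hle => hs.1 K hK (hconjH h hh K hle)
        · exact hs.1 M (Finset.mem_sdiff.mp hM).1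
      · obtain ⟨M, hM, hgM⟩ := hs.2 g hgH hg
        by_cases hMT : M ∈ T
        · exact ⟨K', Finset.mem_insert_self _ _, (hsub M hMT ⟨hgH, hg, hgM⟩).2.2⟩
        · exact ⟨M, Finset.mem_insert_of_mem (Finset.mem_sdiff.mpr ⟨hM, hMT⟩), hgM⟩
    have hLT : L ∈ T := Finset.mem_filter.mpr ⟨hL, hy'L⟩
    have hT1 : ∀ M ∈ T, M = L := by
      intro M hM
      by_contra hne
      have h1 := hmin _ hcov
      have h2 := Finset.card_insert_le K' (s \ T)
      have hTs : T ⊆ s := fun M hM => (Finset.mem_filter.mp hM).1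
      have h3 := Finset.card_sdiff_of_subset hTs
      have h4 : 1 < T.card := Finset.one_lt_card.mpr ⟨M, hM, L, hLT, hne⟩
      have h5 := Finset.card_le_card hTs
      omega
    refine ⟨L, hL, Set.Subset.antisymm (hsub L hLT) fun g hg => ?_⟩
    refine ⟨hg.1, hg.2.1, ?_⟩
    by_contra hgL
    apply hs.1 K hK
    refine hconjH h hh K (genH L hL _ hy'H hy' ?_ g hg.1 hg.2.1 hgL K' ?_ hg.2.2)
    · exact fun M hM hyM => hT1 M (Finset.mem_filter.mpr ⟨hM, hyM⟩)
    · exact ⟨y, hyK, by simp⟩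
  -- the fixing subgroup
  let N : Subgroup G :=
  { carrier := {h | h ∈ H ∧ ∀ K ∈ s, ∀ g, h⁻¹ * g * h ∈ E K ↔ g ∈ E K}
    one_mem' := ⟨H.one_mem, fun K _ g => by simp⟩
    mul_mem' := fun {a b} ha hb => ⟨H.mul_mem ha.1 hb.1, fun K hK g => by
      rw [show (a * b)⁻¹ * g * (a * b) = b⁻¹ * (a⁻¹ * g * a) * b by simp [mul_assoc],
        hb.2 K hK, ha.2 K hK]⟩
    inv_mem' := fun {a} ha => ⟨H.inv_mem ha.1, fun K hK g => by
      rw [← ha.2 K hK (a⁻¹⁻¹ * g * a⁻¹)]
      simp [mul_assoc]⟩ }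
  have hEinj : ∀ K ∈ s, ∀ L ∈ s, E K = E L → K = L := by
    intro K hK L hL hKL
    obtain ⟨g, hgH, hg, hgK, hgo⟩ := exists_only_of_minimal hs hmin hK
    exact (hgo L hL ((Set.ext_iff.mp hKL g).mp ⟨hgH, hg, hgK⟩).2.2).symm
  have honly : ∀ K ∈ s, ∀ x ∈ H, IsPEl p x → x ∈ K → (∀ K' ∈ s, x ∈ K' → K' = K) → x ∈ N := by
    intro K hK x hxH hx hxK hxo
    refine ⟨hxH, fun L hL g => ?_⟩
    rw [← hconjE x hxH]
    suffices he : E (L.map (MulAut.conj x).toMonoidHom) = E L by rw [he]
    -- the map on `s` induced by `x` fixes `K` and has orbits of `p`-power size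
    choose! σ hσ hσE using fun L (hL : L ∈ s) => perm L hL x hxH
    have hσpow : ∀ n : ℕ, ∀ L ∈ s, σ^[n] L ∈ s ∧
        E (σ^[n] L) = E (L.map (MulAut.conj (x ^ n)).toMonoidHom) := by
      intro n
      induction n with
      | zero =>
        intro L hL
        refine ⟨hL, ?_⟩
        ext u
        rw [hconjE _ (by simp [H.one_mem])]
        simp
      | succ n ihn =>
        intro L hL
        obtain ⟨h1, h2⟩ := ihn L hL
        rw [Function.iterate_succ_apply']
        refine ⟨hσ _ h1, ?_⟩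
        rw [hσE _ h1]
        ext u
        rw [hconjE x hxH, h2, hconjE _ (H.pow_mem hxH n), hconjE _ (H.pow_mem hxH _)]
        simp [pow_succ', mul_assoc]
    obtain ⟨k, hk⟩ := hx
    have hper : ∀ L ∈ s, Function.IsPeriodicPt σ (p ^ k) L := by
      intro L hL
      obtain ⟨h1, h2⟩ := hσpow (p ^ k) L hL
      refine hEinj _ h1 L hL (h2.trans ?_)
      ext u
      rw [← hk, hconjE _ (H.pow_mem hxH _), pow_orderOf_eq_one]
      simp
    have hKfix : σ K = K := by
      refine hEinj _ (hσ K hK) K hK ((hσE K hK).trans ?_)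
      ext u
      rw [hconjE x hxH]
      constructor <;> rintro ⟨h1, h2, h3⟩
      · exact ⟨by simpa [mul_assoc] using H.mul_mem (H.mul_mem hxH h1) (H.inv_mem hxH),
          by simpa [mul_assoc] using isPEl_conj h2 x,
          by simpa [mul_assoc] using K.mul_mem (K.mul_mem hxK h3) (K.inv_mem hxK)⟩
      · exact ⟨H.mul_mem (H.mul_mem (H.inv_mem hxH) h1) hxH,
          by simpa [mul_assoc] using isPEl_conj h2 x⁻¹,
          K.mul_mem (K.mul_mem (K.inv_mem hxK) h3) hxK⟩
    have hfix : σ L = L := by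
      obtain ⟨j, -, hj⟩ := (Nat.dvd_prime_pow hp.out).mp (hper L hL).minimalPeriod_dvd
      by_contra hne
      have hj0 : j ≠ 0 := by
        rintro rfl
        exact hne (Function.minimalPeriod_eq_one_iff_isFixedPt.mp (by simpa using hj))
      have hinj : Set.InjOn (fun n => σ^[n] L) (Set.Iio (Function.minimalPeriod σ L)) :=
        Function.iterate_injOn_Iio_minimalPeriod
      have hsub : (Finset.range p).image (fun n => σ^[n] L) ⊆ s.erase K := by
        intro M hM
        obtain ⟨n, -, rfl⟩ := Finset.mem_image.mp hM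
        refine Finset.mem_erase.mpr ⟨fun hc => ?_, (hσpow n L hL).1⟩
        have hfix' : ∀ m : ℕ, σ^[m] K = K := fun m => Function.iterate_fixed hKfix m
        have hLK : L = K := by
          have h1 := (hper L hL).mul_const (n + 1)
          have hle : n ≤ p ^ k * (n + 1) := by
            have := Nat.one_le_pow k p hp.out.pos
            calc n ≤ 1 * (n + 1) := by omega
              _ ≤ _ := Nat.mul_le_mul_right _ this
          rw [← h1.eq, show p ^ k * (n + 1) = (p ^ k * (n + 1) - n) + n by omega,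
            Function.iterate_add_apply, hc, hfix']
        exact hne (hLK ▸ hKfix)
      have h1 := Finset.card_le_card hsub
      have hcardim : ((Finset.range p).image (fun n => σ^[n] L)).card = p := by
        rw [Finset.card_image_of_injOn, Finset.card_range]
        intro a ha b hb hab
        have hlt : p ≤ Function.minimalPeriod σ L := by
          rw [hj]; exact Nat.le_self_pow hj0 p
        exact hinj (lt_of_lt_of_le (Finset.mem_range.mp ha) hlt)
          (lt_of_lt_of_le (Finset.mem_range.mp hb) hlt) hab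
      rw [hcardim, Finset.card_erase_of_mem hK] at h1
      have := hp.out.two_le
      omega
    rw [← hσE L hL, hfix]
  -- `H` fixes all the sets
  obtain ⟨K₁, hK₁, -⟩ := hs.2 1 H.one_mem isPEl_one
  obtain ⟨x, hxH, hx, hxK, hxo⟩ := exists_only_of_minimal hs hmin hK₁
  obtain ⟨g, hgH, hgp, hgK⟩ : ∃ g, g ∈ H ∧ IsPEl p g ∧ g ∉ K₁ := by
    by_contra hno
    push Not at hno
    exact hs.1 K₁ hK₁ (hgen.trans ((Subgroup.closure_le _).mpr fun g hg => hno g hg.1 hg.2))
  obtain ⟨K₂, hK₂, hgK₂⟩ := hs.2 g hgH hgp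
  obtain ⟨y, hyH, hy, hyK, hyo⟩ := exists_only_of_minimal hs hmin hK₂
  have hne : K₂ ≠ K₁ := fun h => hgK (h ▸ hgK₂)
  have hHN : H ≤ N := genH K₁ hK₁ x hxH hx hxo y hyH hy (fun h => hne (hyo K₁ hK₁ h).symm) N
    (honly K₁ hK₁ x hxH hx hxK hxo) (honly K₂ hK₂ y hyH hy hyK hyo)
  -- a Sylow subgroup lies in one of the subgroups
  obtain ⟨P⟩ := (inferInstance : Nonempty (Sylow p H))
  have hPp : IsPGroup p ((P : Subgroup H).map H.subtype) := P.isPGroup'.map _
  obtain ⟨K, hK, hPK⟩ := exists_le_of_pgroup_cover hPp s hsp (by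
    rintro _ ⟨u, hu, rfl⟩
    obtain ⟨k, hk⟩ := IsPGroup.iff_orderOf.mp P.isPGroup' ⟨u, hu⟩
    exact hs.2 u u.2 ⟨k, by simpa [Subgroup.orderOf_coe, Subgroup.orderOf_mk] using hk⟩)
  apply hs.1 K hK
  refine hgen.trans ((Subgroup.closure_le _).mpr ?_)
  rintro u ⟨huH, k, hk⟩
  obtain ⟨Q, hQ⟩ := (IsPGroup.of_card (n := k) (by
    rw [Nat.card_zpowers, Subgroup.orderOf_mk, hk]) :
    IsPGroup p (Subgroup.zpowers (⟨u, huH⟩ : H))).exists_le_sylow
  obtain ⟨h, rfl⟩ := MulAction.exists_smul_eq H P Q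
  have hmem := hQ (Subgroup.mem_zpowers _)
  rw [Sylow.coe_subgroup_smul, Subgroup.mem_pointwise_smul_iff_inv_smul_mem] at hmem
  have h2 : (h : G)⁻¹ * u * h ∈ K := hPK ⟨_, hmem, by simp⟩
  have h3 : (h : G)⁻¹ * u * h ∈ E K :=
    ⟨H.mul_mem (H.mul_mem (H.inv_mem h.2) huH) h.2,
      by simpa using isPEl_conj (show IsPEl p u from ⟨k, hk⟩) (h : G)⁻¹, h2⟩
  exact (((hHN h.2).2 K hK u).mp h3).2.2

end H36
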