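import Cfsg.Agent.H36.PElements
import Mathlib.GroupTheory.QuotientGroup.Basic

/-!
Elements of prime power order in the cosets of a normal subgroup.
-/

set_option autoImplicit false

namespace H36

universe u

variable {G : Type u} [Group G] [Finite G] (N : Subgroup G) [N.Normal] (p : ℕ) [hp : Fact p.Prime]

/-- The number of `p`-elements in the coset `d`. -/
noncomputable def pFibre (d : G ⧸ N) : ℕ := Nat.card {g : G // (g : G ⧸ N) = d ∧ IsPEl p g}

theorem exists_pEl_lift {d : G ⧸ N} (hd : IsPEl p d) :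
    ∃ g : G, (g : G ⧸ N) = d ∧ IsPEl p g := by
  obtain ⟨g, rfl⟩ := QuotientGroup.mk_surjective d
  obtain ⟨a, b, hab, ha, hb⟩ := exists_pow_decomp (p := p) g
  refine ⟨g ^ b, ?_, hb⟩
  have h1 : ((g ^ a : G) : G ⧸ N) = 1 := by
    rw [← orderOf_eq_one_iff]
    obtain ⟨k, hk⟩ := hd
    refine Nat.eq_one_of_dvd_coprimes (a := orderOf (g ^ a)) (b := p ^ k) (ha.pow_right k)
      (orderOf_map_dvd (QuotientGroup.mk' N) (g ^ a)) ?_
    rw [← hk, QuotientGroup.mk_pow]
    exact orderOf_pow_dvd _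
  calc ((g ^ b : G) : G ⧸ N) = ((g ^ a : G) : G ⧸ N) * ((g ^ b : G) : G ⧸ N) := by rw [h1, one_mul]
    _ = _ := by rw [← QuotientGroup.mk_mul, hab]

theorem pFibre_pos {d : G ⧸ N} (hd : IsPEl p d) : 0 < pFibre N p d := by
  obtain ⟨g, hg⟩ := exists_pEl_lift N p hd
  have : Nonempty {g : G // (g : G ⧸ N) = d ∧ IsPEl p g} := ⟨⟨g, hg⟩⟩
  exact Nat.card_pos

theorem card_pEl_preimage (s : Finset (G ⧸ N)) :
    Nat.card {g : G // (g : G ⧸ N) ∈ s ∧ IsPEl p g} = ∑ d ∈ s, pFibre N p d := by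
  unfold pFibre
  rw [← Finset.sum_coe_sort, ← Nat.card_sigma]
  exact Nat.card_congr
    { toFun := fun g => ⟨⟨_, g.2.1⟩, g.1, rfl, g.2.2⟩
      invFun := fun x => ⟨x.2.1, x.2.2.1.symm ▸ x.1.2, x.2.2.2⟩
      left_inv := fun _ => rfl
      right_inv := fun ⟨⟨d, hd⟩, g, hg, hg'⟩ => by
        simp only at hg
        subst hg
        rfl }

theorem pFibre_pow {d : G ⧸ N} (hd : IsPEl p d) {k : ℕ} (hk : ¬ p ∣ k) :
    pFibre N p (d ^ k) = pFibre N p d := by
  set M := (Nat.card G).factorization p with hM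
  have hdM : d ^ p ^ M = 1 := by
    obtain ⟨g, rfl, hg⟩ := exists_pEl_lift N p hd
    rw [← QuotientGroup.mk_pow, isPEl_iff.mp hg, QuotientGroup.mk_one]
  have hco : k.Coprime (p ^ M) := ((hp.out.coprime_iff_not_dvd.mpr hk).symm).pow_right _
  obtain ⟨c, hc1, hc2⟩ := Nat.chineseRemainder hco 0 1
  obtain ⟨k', rfl⟩ := Nat.modEq_zero_iff_dvd.mp hc1
  have key : ∀ {H : Type u} [Group H] (x : H), x ^ p ^ M = 1 → x ^ (k * k') = x := by
    intro H _ x hx
    conv_rhs => rw [← pow_one x]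
    rw [pow_eq_pow_iff_modEq]
    exact hc2.of_dvd (orderOf_dvd_of_pow_eq_one hx)
  symm
  refine Nat.card_congr
    { toFun := fun g => ⟨g.1 ^ k, by rw [QuotientGroup.mk_pow, g.2.1], isPEl_pow g.2.2 k⟩
      invFun := fun g => ⟨g.1 ^ k', by
        rw [QuotientGroup.mk_pow, g.2.1, ← pow_mul, key d hdM], isPEl_pow g.2.2 k'⟩
      left_inv := fun g => Subtype.ext (by
        show (g.1 ^ k) ^ k' = g.1
        rw [← pow_mul, key g.1 (isPEl_iff.mp g.2.2)])
      right_inv := fun g => Subtype.ext (by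
        show (g.1 ^ k') ^ k = g.1
        rw [← pow_mul, mul_comm, key g.1 (isPEl_iff.mp g.2.2)]) }

theorem pow_dvd_sum_pFibre_zpowers (x : G ⧸ N) {n j : ℕ} (hn : p ^ n ∣ Nat.card N)
    (hj : p ^ j ∣ orderOf x) [Fintype (G ⧸ N)] [DecidablePred (· ∈ Subgroup.zpowers x)] :
    p ^ (n + j) ∣ ∑ d ∈ Finset.univ.filter (· ∈ Subgroup.zpowers x), pFibre N p d := by
  rw [← card_pEl_preimage]
  let C := (Subgroup.zpowers x).comap (QuotientGroup.mk' N)
  have hC : p ^ (n + j) ∣ Nat.card C := by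
    have h1 : Nat.card C = orderOf x * Nat.card N := by
      have hle : N ≤ C := by
        conv_lhs => rw [← QuotientGroup.ker_mk' N]
        exact Subgroup.ker_le_comap _ _
      have h2 := Subgroup.relIndex_mul_relIndex ⊥ N C bot_le hle
      rw [Subgroup.relIndex_bot_left, Subgroup.relIndex_bot_left] at h2
      have h3 : Nat.card (C.map (QuotientGroup.mk' N)) = N.relIndex C := by
        rw [← Subgroup.relIndex_ker (K := C), QuotientGroup.ker_mk']
      rw [Subgroup.map_comap_eq_self_of_surjective (QuotientGroup.mk'_surjective N),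
        Nat.card_zpowers] at h3
      rw [← h2, ← h3, mul_comm]
    rw [h1, pow_add, mul_comm]
    exact mul_dvd_mul hj hn
  refine (pow_dvd_card_pEl C p hC).trans (dvd_of_eq (Nat.card_congr ?_))
  refine
    { toFun := fun g => ⟨g.1.1, Finset.mem_filter.mpr ⟨Finset.mem_univ _, g.1.2⟩, by
        obtain ⟨i, hi⟩ := g.2
        exact ⟨i, by rw [Subgroup.orderOf_coe]; exact hi⟩⟩
      invFun := fun g => ⟨⟨g.1, (Finset.mem_filter.mp g.2.1).2⟩, by
        obtain ⟨i, hi⟩ := g.2.2
        exact ⟨i, (Subgroup.orderOf_mk g.1 _).trans hi⟩⟩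
      left_inv := fun _ => rfl
      right_inv := fun _ => rfl }

theorem pow_dvd_pFibre {x : G ⧸ N} (hx : IsPEl p x) {n : ℕ} (hn : p ^ n ∣ Nat.card N) :
    p ^ n ∣ pFibre N p x := by
  classical
  have := Fintype.ofFinite (G ⧸ N)
  obtain ⟨a, ha⟩ := hx
  cases a with
  | zero =>
    have hx1 : x = 1 := by rwa [pow_zero, orderOf_eq_one_iff] at ha
    subst hx1
    have h := pow_dvd_sum_pFibre_zpowers N p (1 : G ⧸ N) hn (j := 0) (by simp)
    simpa [Finset.filter_eq'] using h
  | succ a =>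
    set T := Finset.univ.filter (· ∈ Subgroup.zpowers x) with hT
    set T' := Finset.univ.filter (· ∈ Subgroup.zpowers (x ^ p)) with hT'
    have hsub : T' ⊆ T := by
      intro d hd
      simp only [hT, hT', Finset.mem_filter, Finset.mem_univ, true_and] at hd ⊢
      exact Subgroup.zpowers_le.mpr (Subgroup.npow_mem_zpowers x p) hd
    have hox : orderOf (x ^ p) = p ^ a := by
      rw [orderOf_pow' x hp.out.ne_zero, ha, Nat.gcd_eq_right (dvd_pow_self p a.succ_ne_zero),
        pow_succ, Nat.mul_div_cancel _ hp.out.pos]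
    have h1 := pow_dvd_sum_pFibre_zpowers N p x hn (j := a + 1) (by rw [ha])
    have h2 := pow_dvd_sum_pFibre_zpowers N p (x ^ p) hn (j := a) (by rw [hox])
    rw [← Finset.sum_sdiff hsub] at h1
    have hconst : ∀ d ∈ T \ T', pFibre N p d = pFibre N p x := by
      intro d hd
      simp only [hT, hT', Finset.mem_sdiff, Finset.mem_filter, Finset.mem_univ, true_and] at hd
      obtain ⟨hd, hd'⟩ := hd
      obtain ⟨k, rfl⟩ := (mem_powers_iff_mem_zpowers).mpr hd
      refine pFibre_pow N p ⟨a + 1, ha⟩ fun hdvd => hd' ?_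
      obtain ⟨c, rfl⟩ := hdvd
      simp only [pow_mul]
      exact Subgroup.npow_mem_zpowers _ c
    have hcard : (T \ T').card = p ^ a * (p - 1) := by
      have e1 : T.card = p ^ (a + 1) := by
        rw [← ha, ← Nat.card_zpowers, ← Nat.card_eq_finsetCard]
        exact Nat.card_congr (Equiv.subtypeEquivRight (by simp [hT]))
      have e2 : T'.card = p ^ a := by
        rw [← hox, ← Nat.card_zpowers, ← Nat.card_eq_finsetCard]
        exact Nat.card_congr (Equiv.subtypeEquivRight (by simp [hT']))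
      rw [Finset.card_sdiff_of_subset hsub, e1, e2, pow_succ, Nat.mul_sub, mul_one]
    have h3 : p ^ (n + a) ∣ ∑ d ∈ T \ T', pFibre N p d :=
      (Nat.dvd_add_iff_left h2).mpr ((pow_dvd_pow p (by omega)).trans h1)
    rw [Finset.sum_congr rfl hconst, Finset.sum_const, smul_eq_mul, hcard, mul_assoc,
      Nat.add_comm n a, pow_add] at h3
    have h4 := Nat.dvd_of_mul_dvd_mul_left (pow_pos hp.out.pos a) h3
    refine (Nat.Coprime.pow_left _ ?_).dvd_of_dvd_mul_left h4
    rw [hp.out.coprime_iff_not_dvd]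
    intro hd
    have := hp.out.two_le
    have := Nat.le_of_dvd (by omega) hd
    omega

theorem card_pEl_eq_sum [Fintype (G ⧸ N)] [DecidablePred (IsPEl p : G ⧸ N → Prop)] :
    Nat.card {g : G // IsPEl p g} =
      ∑ d ∈ Finset.univ.filter (fun d : G ⧸ N => IsPEl p d), pFibre N p d := by
  rw [← card_pEl_preimage]
  refine Nat.card_congr (Equiv.subtypeEquivRight fun g => ?_)
  simp only [Finset.mem_filter, Finset.mem_univ, true_and, iff_and_self]
  exact fun h => isPEl_map (QuotientGroup.mk' N) h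

theorem pFibre_of_center (hN : N ≤ Subgroup.center G) {d : G ⧸ N} (hd : IsPEl p d) :
    pFibre N p d = Nat.card {u : N // IsPEl p u} := by
  obtain ⟨g₀, rfl, hg₀⟩ := exists_pEl_lift N p hd
  have hmul : ∀ u : G, u ∈ N → IsPEl p u → IsPEl p (g₀ * u) := by
    intro u hu hu'
    rw [isPEl_iff, (show Commute g₀ u from Subgroup.mem_center_iff.mp (hN hu) g₀).mul_pow,
      isPEl_iff.mp hg₀, isPEl_iff.mp hu', one_mul]
  have hdiv : ∀ g : G, (g : G ⧸ N) = g₀ → IsPEl p g → g₀⁻¹ * g ∈ N ∧ IsPEl p (g₀⁻¹ * g) := by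
    intro g hg hg'
    have hmem : g₀⁻¹ * g ∈ N := QuotientGroup.eq.mp hg.symm
    refine ⟨hmem, ?_⟩
    have hc : Commute g₀ (g₀⁻¹ * g) := Subgroup.mem_center_iff.mp (hN hmem) g₀
    have := isPEl_iff.mp hg'
    rw [show g = g₀ * (g₀⁻¹ * g) by rw [mul_inv_cancel_left], hc.mul_pow, isPEl_iff.mp hg₀,
      one_mul] at this
    exact isPEl_iff.mpr this
  have hsub : ∀ u : N, IsPEl p u ↔ IsPEl p (u : G) := fun u => by
    unfold IsPEl; rw [Subgroup.orderOf_coe]
  refine Nat.card_congr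
    { toFun := fun g => ⟨⟨_, (hdiv g.1 g.2.1 g.2.2).1⟩, (hsub _).mpr (hdiv g.1 g.2.1 g.2.2).2⟩
      invFun := fun u => ⟨g₀ * u.1, by
        rw [QuotientGroup.mk_mul, (QuotientGroup.eq_one_iff (u.1 : G)).mpr u.1.2, mul_one],
        hmul _ u.1.2 ((hsub _).mp u.2)⟩
      left_inv := fun g => Subtype.ext (mul_inv_cancel_left g₀ g.1)
      right_inv := fun u => Subtype.ext (Subtype.ext (inv_mul_cancel_left g₀ (u.1 : G))) }

theorem card_pEl_of_comm (A : Type u) [Group A] [Finite A] (h : ∀ a b : A, Commute a b) :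
    Nat.card {u : A // IsPEl p u} = p ^ (Nat.card A).factorization p := by
  obtain ⟨P⟩ := (inferInstance : Nonempty (Sylow p A))
  have hn : (P : Subgroup A).Normal := ⟨fun x hx g => by
    rwa [show g * x = x * g from h g x, mul_inv_cancel_right]⟩
  rw [← P.card_eq_multiplicity]
  refine Nat.card_congr (Equiv.subtypeEquivRight fun u => ⟨fun hu => ?_, fun hu => ?_⟩)
  · have hp' : IsPGroup p (Subgroup.zpowers u) := by
      obtain ⟨k, hk⟩ := hu
      exact IsPGroup.of_card (n := k) (by rw [Nat.card_zpowers, hk])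
    obtain ⟨Q, hQ⟩ := hp'.exists_le_sylow
    have := P.unique_of_normal hn
    rw [Subsingleton.elim P Q]
    exact hQ (Subgroup.mem_zpowers u)
  · obtain ⟨k, hk⟩ := IsPGroup.iff_orderOf.mp P.isPGroup' ⟨u, hu⟩
    exact ⟨k, by rwa [Subgroup.orderOf_mk] at hk⟩

end H36
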