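import Cfsg.Agent.H64.TwoPrimes

/-!
Two primes at distance at least three in an interval `(n, 2n]`.
-/

set_option autoImplicit false

namespace H36

theorem centralBinom_le_of_two_bertrand_primes (n : ℕ) (n_large : 2 < n) (p0 p1 : ℕ)
    (two_primes : ∀ p : ℕ, p.Prime → n < p → p ≤ 2 * n → p = p0 ∨ p = p1) :
    Nat.centralBinom n ≤ (2 * n) ^ (Nat.sqrt (2 * n) + 1) * 4 ^ (2 * n / 3) := by
  have n2_pos : 1 ≤ 2 * n := by omega
  let f x := x ^ n.centralBinom.factorization x
  have hf : ∀ p, f p ≤ 2 * n := fun p => Nat.pow_factorization_choose_le (by omega)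
  let S := {p ∈ Finset.range (2 * n + 1) | Nat.Prime p}
  have hS : n.centralBinom = ∏ p ∈ S, f p := by
    refine (Eq.trans ?_ n.prod_pow_factorization_centralBinom).symm
    refine Finset.prod_filter_of_ne fun p _ h => ?_
    contrapose h; dsimp only [f]
    rw [Nat.factorization_eq_zero_of_not_prime n.centralBinom h, _root_.pow_zero]
  have h1 : ∏ p ∈ S.filter (· ≤ Nat.sqrt (2 * n)), f p ≤ (2 * n) ^ (Nat.sqrt (2 * n) - 1) := by
    refine (Finset.prod_le_prod' fun p _ => hf p).trans ?_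
    rw [Finset.prod_const]
    refine pow_right_mono₀ n2_pos ?_
    have : (Finset.Icc 2 (Nat.sqrt (2 * n))).card = Nat.sqrt (2 * n) - 1 := by rw [Nat.card_Icc]; omega
    refine (Finset.card_le_card fun x hx => ?_).trans this.le
    obtain ⟨h1, h2⟩ := Finset.mem_filter.1 hx
    exact Finset.mem_Icc.mpr ⟨(Finset.mem_filter.1 h1).2.two_le, h2⟩
  let T := S.filter (fun p => ¬ p ≤ Nat.sqrt (2 * n))
  have h2 : ∏ p ∈ T.filter (· ≤ n), f p ≤ 4 ^ (2 * n / 3) := by
    refine le_trans ?_ (primorial_le_four_pow (2 * n / 3))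
    rw [← Finset.prod_filter_of_ne (p := fun p => p ≤ 2 * n / 3) (s := T.filter (· ≤ n)) (fun p hp hne => ?_)]
    · refine (Finset.prod_le_prod' fun p hp => (?_ : f p ≤ p)).trans ?_
      · simp only [T, S, Finset.mem_filter] at hp
        refine (pow_right_mono₀ hp.1.1.1.2.one_lt.le ?_).trans (pow_one p).le
        exact Nat.factorization_choose_le_one (Nat.sqrt_lt'.mp <| not_le.1 hp.1.1.2)
      · refine Finset.prod_le_prod_of_subset_of_one_le' (fun p hp => ?_) ?_
        · simp only [T, S, Finset.mem_filter] at hp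
          rw [Finset.mem_filter, Finset.mem_range]
          exact ⟨by omega, hp.1.1.1.2⟩
        · exact fun p hp _ => (Finset.mem_filter.1 hp).2.one_lt.le
    · by_contra hcon
      apply hne
      simp only [T, S, Finset.mem_filter] at hp
      show p ^ _ = 1
      rw [Nat.factorization_centralBinom_of_two_mul_self_lt_three_mul n_large hp.2 (by omega), Nat.pow_zero]
  have h3 : ∏ p ∈ T.filter (fun p => ¬ p ≤ n), f p ≤ (2 * n) ^ 2 := by
    have hc : (T.filter (fun p => ¬ p ≤ n)).card ≤ 2 := by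
      refine (Finset.card_le_card (t := ({p0, p1} : Finset ℕ)) fun a ha => ?_).trans Finset.card_le_two
      simp only [T, S, Finset.mem_filter, Finset.mem_range] at ha
      rcases two_primes a ha.1.1.2 (by omega) (by omega) with rfl | rfl <;> simp
    refine (Finset.prod_le_prod' fun p _ => hf p).trans ?_
    rw [Finset.prod_const]
    exact pow_right_mono₀ n2_pos hc
  rw [hS, ← Finset.prod_filter_mul_prod_filter_not S (· ≤ Nat.sqrt (2 * n)),
    ← Finset.prod_filter_mul_prod_filter_not T (· ≤ n)]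
  have hs : 1 ≤ Nat.sqrt (2 * n) := Nat.sqrt_pos.2 (by omega)
  calc _ ≤ (2 * n) ^ (Nat.sqrt (2 * n) - 1) * (4 ^ (2 * n / 3) * (2 * n) ^ 2) :=
        Nat.mul_le_mul h1 (Nat.mul_le_mul h2 h3)
    _ = (2 * n) ^ (Nat.sqrt (2 * n) - 1 + 2) * 4 ^ (2 * n / 3) := by rw [pow_add]; ring
    _ = _ := by rw [show Nat.sqrt (2 * n) - 1 + 2 = Nat.sqrt (2 * n) + 1 by omega]

theorem sq_succ_le_two_pow (r : ℕ) (hr : 45 ≤ r) : (r + 1) ^ 2 ≤ 2 ^ (r / 3 - 2) := by
  induction r using Nat.strong_induction_on with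
  | _ r ih =>
    by_cases h : r < 48
    · interval_cases r <;> norm_num
    · have h1 := ih (r - 3) (by omega) (by omega)
      rw [show r / 3 - 2 = (r - 3) / 3 - 2 + 1 by omega, pow_succ 2 ((r - 3) / 3 - 2)]
      obtain ⟨s, rfl⟩ : ∃ s, r = s + 48 := ⟨r - 48, by omega⟩
      rw [show s + 48 - 3 = s + 45 by omega] at h1 ⊢
      nlinarith [Nat.zero_le (s * s)]

/-- Two primes in `(n, 2n]` which are not twins, for `n ≥ 9`. -/
theorem exists_primes_gap_double (n : ℕ) (hn : 9 ≤ n) :
    ∃ p q : ℕ, p.Prime ∧ q.Prime ∧ p + 3 ≤ q ∧ n < p ∧ q ≤ 2 * n := by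
  by_cases h : 1058 ≤ n
  · by_contra hcon
    push Not at hcon
    have hex : ∃ p, p.Prime ∧ n < p := by
      obtain ⟨p, hp, h1, -⟩ := Nat.exists_prime_lt_and_le_two_mul n (by omega)
      exact ⟨p, hp, h1⟩
    obtain ⟨hp0, hnp0⟩ := Nat.find_spec hex
    set p0 := Nat.find hex with hp0def
    have htwo : ∀ p : ℕ, p.Prime → n < p → p ≤ 2 * n → p = p0 ∨ p = p0 + 2 := by
      intro p hp h1 h2
      have h3 : p0 ≤ p := Nat.find_min' hex ⟨hp, h1⟩
      rcases h3.eq_or_lt with h4 | h4
      · exact Or.inl h4.symm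
      · right
        have h5 : ¬ p0 + 3 ≤ p := fun h5 => by
          have := hcon p0 p hp0 hp h5 hnp0
          omega
        have ho : Odd p := hp.odd_of_ne_two (by omega)
        have ho0 : Odd p0 := hp0.odd_of_ne_two (by omega)
        obtain ⟨a, rfl⟩ := ho
        obtain ⟨b, hb⟩ := ho0
        omega
    have h1 := centralBinom_le_of_two_bertrand_primes n (by omega) _ _ htwo
    have h2 := Nat.four_pow_lt_mul_centralBinom n (by omega)
    have hr1 := Nat.sqrt_le' (2 * n)
    have hr2 := Nat.lt_succ_sqrt' (2 * n)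
    have hr : 45 ≤ Nat.sqrt (2 * n) := by
      rw [Nat.le_sqrt]; omega
    set r := Nat.sqrt (2 * n) with hrdef
    have h3 : 2 * n ≤ 2 ^ (r / 3 - 2) := le_trans (le_of_lt hr2) (sq_succ_le_two_pow r hr)
    have h4 : n * ((2 * n) ^ (r + 1)) ≤ 4 ^ (n - 2 * n / 3) := by
      calc n * ((2 * n) ^ (r + 1)) ≤ (2 * n) * (2 * n) ^ (r + 1) := Nat.mul_le_mul_right _ (by omega)
        _ = (2 * n) ^ (r + 2) := by rw [← pow_succ']
        _ ≤ (2 ^ (r / 3 - 2)) ^ (r + 2) := Nat.pow_le_pow_left h3 _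
        _ = 2 ^ ((r / 3 - 2) * (r + 2)) := by rw [← pow_mul]
        _ ≤ 2 ^ (2 * (n - 2 * n / 3)) := by
          refine Nat.pow_le_pow_right (by norm_num) ?_
          have h5 : 3 * (r / 3 - 2) + 6 ≤ r := by omega
          have h6 : 2 * n ≤ 3 * (2 * (n - 2 * n / 3)) := by omega
          nlinarith
        _ = 4 ^ (n - 2 * n / 3) := by rw [pow_mul]; norm_num
    have h5 : n * n.centralBinom ≤ 4 ^ n := by
      calc n * n.centralBinom ≤ n * ((2 * n) ^ (r + 1) * 4 ^ (2 * n / 3)) := Nat.mul_le_mul_left n h1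
        _ = n * (2 * n) ^ (r + 1) * 4 ^ (2 * n / 3) := by rw [mul_assoc]
        _ ≤ 4 ^ (n - 2 * n / 3) * 4 ^ (2 * n / 3) := Nat.mul_le_mul_right _ h4
        _ = 4 ^ n := by rw [← pow_add, Nat.sub_add_cancel (by omega)]
    omega
  · have step : ∀ p q, p.Prime → q.Prime → p + 3 ≤ q → n < p → q ≤ 2 * n →
        ∃ p q : ℕ, p.Prime ∧ q.Prime ∧ p + 3 ≤ q ∧ n < p ∧ q ≤ 2 * n :=
      fun p q hp hq hpq h1 h2 => ⟨p, q, hp, hq, hpq, h1, h2⟩
    by_cases h11 : n < 11
    · exact step 11 17 (by norm_num) (by norm_num) (by norm_num) h11 (by omega)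
    by_cases h13 : n < 13
    · exact step 13 19 (by norm_num) (by norm_num) (by norm_num) h13 (by omega)
    by_cases h19 : n < 19
    · exact step 19 23 (by norm_num) (by norm_num) (by norm_num) h19 (by omega)
    by_cases h31 : n < 31
    · exact step 31 37 (by norm_num) (by norm_num) (by norm_num) h31 (by omega)
    by_cases h53 : n < 53
    · exact step 53 61 (by norm_num) (by norm_num) (by norm_num) h53 (by omega)
    by_cases h97 : n < 97
    · exact step 97 103 (by norm_num) (by norm_num) (by norm_num) h97 (by omega)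
    by_cases h181 : n < 181
    · exact step 181 191 (by norm_num) (by norm_num) (by norm_num) h181 (by omega)
    by_cases h353 : n < 353
    · exact step 353 359 (by norm_num) (by norm_num) (by norm_num) h353 (by omega)
    by_cases h691 : n < 691
    · exact step 691 701 (by norm_num) (by norm_num) (by norm_num) h691 (by omega)
    exact step 1361 1367 (by norm_num) (by norm_num) (by norm_num) (by omega) (by omega)

end H36
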