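import Mathlib.GroupTheory.Transfer
import Mathlib.GroupTheory.Abelianization.Defs
import Mathlib.LinearAlgebra.FreeModule.Finite.CardQuotient
import Mathlib.LinearAlgebra.FreeModule.Int
import Mathlib.LinearAlgebra.Matrix.Adjugate
import Mathlib.Algebra.MonoidAlgebra.Basic
import Mathlib.Tactic.Group
import Mathlib.Tactic.Abel

/-!
The principal ideal theorem (Furtwängler): the transfer from a finite group to the
abelianisation of its derived subgroup is trivial.

The proof works in the module `A × ℤ[Γ]₀` where `Γ = G/G'` and `A = G'/G''`, twisted by the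
cocycle of a section, and uses the determinant of a relation matrix of `Γ` over `ℤ[Γ]`.
-/

set_option autoImplicit false
set_option linter.unusedSectionVars false

namespace H36.PIT

open scoped BigOperators

variable (G : Type*) [Group G] [Finite G]

abbrev Gam := Abelianization G

abbrev AA := Additive (Abelianization ↥(commutator G))

variable {G}

noncomputable def sec (γ : Gam G) : G :=
  letI := Classical.propDecidable (γ = 1)
  if γ = 1 then 1 else Function.surjInv QuotientGroup.mk_surjective γ

theorem of_sec (γ : Gam G) : Abelianization.of (sec γ) = γ := by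
  unfold sec
  split_ifs with h
  · rw [h, map_one]
  · exact Function.surjInv_eq QuotientGroup.mk_surjective γ

theorem sec_one : sec (1 : Gam G) = 1 := by
  unfold sec; rw [if_pos rfl]

theorem mem_comm_iff {x : G} : x ∈ commutator G ↔ Abelianization.of x = 1 := by
  rw [← MonoidHom.mem_ker, Abelianization.ker_of]

/-- Class in `A` of an element of the derived subgroup. -/
noncomputable def cl (x : G) : AA G :=
  letI := Classical.propDecidable (x ∈ commutator G)
  if h : x ∈ commutator G then Additive.ofMul (Abelianization.of ⟨x, h⟩) else 0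

theorem cl_of_mem {x : G} (h : x ∈ commutator G) :
    cl x = Additive.ofMul (Abelianization.of ⟨x, h⟩) := by
  unfold cl; rw [dif_pos h]

theorem cl_one : cl (1 : G) = 0 := by
  rw [cl_of_mem (one_mem _)]
  exact congrArg Additive.ofMul (map_one (Abelianization.of : ↥(commutator G) →* _))

theorem cl_mul {x y : G} (hx : x ∈ commutator G) (hy : y ∈ commutator G) :
    cl (x * y) = cl x + cl y := by
  rw [cl_of_mem hx, cl_of_mem hy, cl_of_mem (mul_mem hx hy)]
  exact congrArg Additive.ofMul
    (map_mul (Abelianization.of : ↥(commutator G) →* _) ⟨x, hx⟩ ⟨y, hy⟩)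

/-- Conjugation on `A`. -/
noncomputable def cj (g : G) : AA G →+ AA G :=
  MonoidHom.toAdditive
    (Abelianization.map (MulAut.conjNormal g : MulAut ↥(commutator G)).toMonoidHom)

theorem cj_cl (g : G) {x : G} (hx : x ∈ commutator G) : cj g (cl x) = cl (g * x * g⁻¹) := by
  rw [cl_of_mem hx, cl_of_mem ((commutator G).normal_of_characteristic.conj_mem x hx g)]
  show Additive.ofMul (Abelianization.map _ (Abelianization.of (⟨x, hx⟩ : ↥(commutator G)))) = _
  rw [Abelianization.map_of]
  exact congrArg (fun z => Additive.ofMul (Abelianization.of z)) (Subtype.ext rfl)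

theorem exists_cl (a : AA G) : ∃ x ∈ commutator G, cl x = a := by
  obtain ⟨⟨x, hx⟩, hax⟩ := QuotientGroup.mk_surjective (Additive.toMul a)
  refine ⟨x, hx, ?_⟩
  rw [cl_of_mem hx]
  exact congrArg Additive.ofMul hax

theorem cj_mul (g k : G) (a : AA G) : cj (g * k) a = cj g (cj k a) := by
  obtain ⟨x, hx, rfl⟩ := exists_cl a
  rw [cj_cl _ hx, cj_cl _ hx, cj_cl _ ((commutator G).normal_of_characteristic.conj_mem x hx k)]
  congr 1
  group

theorem cj_one (a : AA G) : cj 1 a = a := by
  obtain ⟨x, hx, rfl⟩ := exists_cl a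
  rw [cj_cl _ hx]
  congr 1
  group

theorem cj_of_mem {g : G} (hg : g ∈ commutator G) (a : AA G) : cj g a = a := by
  obtain ⟨x, hx, rfl⟩ := exists_cl a
  rw [cj_cl _ hx, cl_mul (mul_mem hg hx) (inv_mem hg), cl_mul hg hx, add_comm (cl g),
    add_assoc, ← cl_mul hg (inv_mem hg), mul_inv_cancel, cl_one, add_zero]

/-- The cocycle of the section. -/
noncomputable def coc (g : G) (γ : Gam G) : AA G :=
  cl (g * sec γ * (sec (Abelianization.of g * γ))⁻¹)

theorem coc_mem (g : G) (γ : Gam G) :
    g * sec γ * (sec (Abelianization.of g * γ))⁻¹ ∈ commutator G := by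
  rw [mem_comm_iff, map_mul, map_mul, map_inv, of_sec, of_sec, mul_inv_cancel]

theorem coc_mul (g k : G) (γ : Gam G) :
    coc (g * k) γ = cj g (coc k γ) + coc g (Abelianization.of k * γ) := by
  unfold coc
  rw [cj_cl _ (coc_mem k γ),
    ← cl_mul ((commutator G).normal_of_characteristic.conj_mem _ (coc_mem k γ) g) (coc_mem g _),
    map_mul, mul_assoc (Abelianization.of g)]
  congr 1
  group

theorem coc_of_mem {g : G} (hg : g ∈ commutator G) (γ : Gam G) : coc g γ = cl g := by
  unfold coc
  rw [mem_comm_iff.mp hg, one_mul, mul_inv_cancel_right]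

variable [Fintype (Gam G)] [DecidableEq (Gam G)]

/-- The twisted action of `G` on `A × (Γ → ℤ)`. -/
noncomputable def act (g : G) : (AA G × (Gam G → ℤ)) →+ (AA G × (Gam G → ℤ)) where
  toFun m := (cj g m.1 + ∑ γ, m.2 γ • coc g γ, fun x => m.2 ((Abelianization.of g)⁻¹ * x))
  map_zero' := by simp; rfl
  map_add' a b := by
    ext1
    · simp only [Prod.fst_add, Prod.snd_add, Pi.add_apply, map_add, add_smul,
        Finset.sum_add_distrib]
      abel
    · rfl

theorem act_fst (g : G) (m : AA G × (Gam G → ℤ)) :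
    (act g m).1 = cj g m.1 + ∑ γ, m.2 γ • coc g γ := rfl

theorem act_snd (g : G) (m : AA G × (Gam G → ℤ)) (x : Gam G) :
    (act g m).2 x = m.2 ((Abelianization.of g)⁻¹ * x) := rfl

theorem act_mul (g k : G) (m : AA G × (Gam G → ℤ)) : act (g * k) m = act g (act k m) := by
  refine Prod.ext ?_ (funext fun x => ?_)
  · rw [act_fst, act_fst, act_fst, map_add, map_sum, cj_mul, add_assoc]
    congr 1
    have h1 : ∑ γ, (act k m).2 γ • coc g γ = ∑ γ, m.2 γ • coc g (Abelianization.of k * γ) := by
      refine Fintype.sum_equiv (Equiv.mulLeft (Abelianization.of k)⁻¹) _ _ fun γ => ?_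
      rw [act_snd, Equiv.coe_mulLeft, mul_inv_cancel_left]
    rw [h1, ← Finset.sum_add_distrib]
    refine Finset.sum_congr rfl fun γ _ => ?_
    rw [map_zsmul, coc_mul, smul_add]
  · rw [act_snd, act_snd, act_snd, map_mul, mul_inv_rev, mul_assoc]

variable (G) in
/-- The augmentation submodule. -/
noncomputable def M0 : AddSubgroup (AA G × (Gam G → ℤ)) where
  carrier := {m | ∑ γ, m.2 γ = 0}
  zero_mem' := by simp
  add_mem' {a b} ha hb := by
    simp only [Set.mem_ofPred_eq, Prod.snd_add, Pi.add_apply, Finset.sum_add_distrib] at *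
    rw [ha, hb, add_zero]
  neg_mem' {a} ha := by
    simp only [Set.mem_ofPred_eq, Prod.snd_neg, Pi.neg_apply, Finset.sum_neg_distrib] at *
    rw [ha, neg_zero]

theorem act_mem (g : G) {m : AA G × (Gam G → ℤ)} (hm : m ∈ M0 G) : act g m ∈ M0 G := by
  show ∑ γ, (act g m).2 γ = 0
  refine Eq.trans ?_ (show ∑ γ, m.2 γ = 0 from hm)
  exact Fintype.sum_equiv (Equiv.mulLeft (Abelianization.of g)⁻¹) _ _ fun γ => rfl

theorem act_of_mem {g : G} (hg : g ∈ commutator G) {m : AA G × (Gam G → ℤ)} (hm : m ∈ M0 G) :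
    act g m = m := by
  refine Prod.ext ?_ (funext fun x => ?_)
  · rw [act_fst, cj_of_mem hg]
    simp only [coc_of_mem hg]
    rw [← Finset.sum_smul, show ∑ γ, m.2 γ = 0 from hm, zero_smul, add_zero]
  · rw [act_snd, mem_comm_iff.mp hg, inv_one, one_mul]

theorem act_eq_sec (g : G) {m : AA G × (Gam G → ℤ)} (hm : m ∈ M0 G) :
    act g m = act (sec (Abelianization.of g)) m := by
  have h : g * (sec (Abelianization.of g))⁻¹ ∈ commutator G := by
    rw [mem_comm_iff, map_mul, map_inv, of_sec, mul_inv_cancel]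
  conv_lhs => rw [← inv_mul_cancel_right g (sec (Abelianization.of g)), act_mul]
  exact act_of_mem h (act_mem _ hm)

/-- The action of `Γ` on `M0`. -/
noncomputable def gamHom : Gam G →* AddMonoid.End (M0 G) where
  toFun γ :=
    { toFun := fun m => ⟨act (sec γ) m.1, act_mem _ m.2⟩
      map_zero' := Subtype.ext (map_zero _)
      map_add' := fun a b => Subtype.ext (map_add _ _ _) }
  map_one' := by
    ext1 m
    apply Subtype.ext
    show act (sec (1 : Gam G)) m.1 = m.1
    rw [sec_one]
    exact act_of_mem (one_mem _) m.2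
  map_mul' γ δ := by
    ext1 m
    apply Subtype.ext
    show act (sec (γ * δ)) m.1 = act (sec γ) (act (sec δ) m.1)
    rw [← act_mul, act_eq_sec (sec γ * sec δ) m.2, map_mul, of_sec, of_sec]

/-- The group ring acting on `M0`. -/
noncomputable def ringHom : MonoidAlgebra ℤ (Gam G) →+* AddMonoid.End (M0 G) :=
  (MonoidAlgebra.lift ℤ (AddMonoid.End (M0 G)) (Gam G) gamHom).toRingHom

theorem ringHom_single (γ : Gam G) (m : M0 G) :
    ((ringHom (MonoidAlgebra.single γ (1 : ℤ)) m : M0 G) : AA G × (Gam G → ℤ)) =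
      act (sec γ) m.1 := by
  have h : ringHom (MonoidAlgebra.single γ (1 : ℤ)) = gamHom γ := by
    show MonoidAlgebra.lift ℤ (AddMonoid.End (M0 G)) (Gam G) gamHom (MonoidAlgebra.single γ 1) = _
    rw [MonoidAlgebra.lift_single, one_smul]
  rw [h]
  rfl

theorem ringHom_add_apply (a b : MonoidAlgebra ℤ (Gam G)) (m : M0 G) :
    ringHom (a + b) m = ringHom a m + ringHom b m := by rw [map_add]; rfl

theorem ringHom_sub_apply (a b : MonoidAlgebra ℤ (Gam G)) (m : M0 G) :
    ringHom (a - b) m = ringHom a m - ringHom b m := by rw [map_sub]; rfl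

theorem ringHom_neg_apply (a : MonoidAlgebra ℤ (Gam G)) (m : M0 G) :
    ringHom (-a) m = -ringHom a m := by rw [map_neg]; rfl

theorem ringHom_mul_apply (a b : MonoidAlgebra ℤ (Gam G)) (m : M0 G) :
    ringHom (a * b) m = ringHom a (ringHom b m) := by rw [map_mul]; rfl

theorem ringHom_zsmul_apply (r : ℤ) (a : MonoidAlgebra ℤ (Gam G)) (m : M0 G) :
    ringHom (r • a) m = r • ringHom a m := by rw [map_zsmul]; rfl

theorem ringHom_one_apply (m : M0 G) : ringHom (1 : MonoidAlgebra ℤ (Gam G)) m = m := by
  rw [map_one]; rfl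

theorem ringHom_sum_apply {ι : Type*} (t : Finset ι) (a : ι → MonoidAlgebra ℤ (Gam G))
    (m : M0 G) : ringHom (∑ i ∈ t, a i) m = ∑ i ∈ t, ringHom (a i) m := by
  classical
  induction t using Finset.induction with
  | empty => rw [Finset.sum_empty, Finset.sum_empty, map_zero]; rfl
  | insert i t hi ih => rw [Finset.sum_insert hi, Finset.sum_insert hi, ringHom_add_apply, ih]

/-- The crossed homomorphism `g ↦ g - 1`. -/
noncomputable def dd (g : G) : M0 G :=
  ⟨act g (0, Pi.single 1 1) - (0, Pi.single 1 1), by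
    show ∑ γ, ((act g (0, Pi.single 1 1)).2 γ - (Pi.single 1 1 : Gam G → ℤ) γ) = 0
    rw [Finset.sum_sub_distrib, sub_eq_zero]
    exact Fintype.sum_equiv (Equiv.mulLeft (Abelianization.of g)⁻¹) _ _ fun γ => rfl⟩

theorem dd_mul (g k : G) :
    dd (g * k) = dd g + ringHom (MonoidAlgebra.single (Abelianization.of g) (1 : ℤ)) (dd k) := by
  apply Subtype.ext
  rw [AddSubgroup.coe_add, ringHom_single, ← act_eq_sec g (dd k).2]
  show act (g * k) _ - _ = act g _ - _ + act g (act k _ - _)
  rw [map_sub, act_mul]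
  abel

theorem dd_fst (g : G) : (dd g : AA G × (Gam G → ℤ)).1 = coc g 1 := by
  show (act g (0, Pi.single 1 1)).1 - 0 = _
  rw [sub_zero, act_fst, map_zero, zero_add]
  show ∑ γ, (Pi.single 1 1 : Gam G → ℤ) γ • coc g γ = _
  rw [Finset.sum_eq_single 1 (fun b _ hb => by rw [Pi.single_eq_of_ne hb, zero_smul])
    (by simp), Pi.single_eq_same, one_smul]

theorem dd_snd (g : G) (x : Gam G) : (dd g : AA G × (Gam G → ℤ)).2 x =
    (Pi.single 1 1 : Gam G → ℤ) ((Abelianization.of g)⁻¹ * x) - (Pi.single 1 1 : Gam G → ℤ) x :=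
  rfl

/-- The group ring part of `x · (g - 1)`. -/
theorem ringHom_dd_snd (x : MonoidAlgebra ℤ (Gam G)) (g : G) (γ : Gam G) :
    ((ringHom x (dd g) : M0 G) : AA G × (Gam G → ℤ)).2 γ =
      x.coeff (γ * (Abelianization.of g)⁻¹) - x.coeff γ := by
  induction x using MonoidAlgebra.induction_linear with
  | zero => rw [map_zero, MonoidAlgebra.coeff_zero]; simp
  | add a b ha hb =>
    rw [ringHom_add_apply, AddSubgroup.coe_add, Prod.snd_add, Pi.add_apply, ha, hb,
      MonoidAlgebra.coeff_add, Finsupp.add_apply, Finsupp.add_apply]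
    abel
  | single δ r =>
    have h : MonoidAlgebra.single δ r = r • MonoidAlgebra.single δ (1 : ℤ) := by simp
    rw [h, ringHom_zsmul_apply, AddSubgroup.coe_zsmul, Prod.smul_snd,
      Pi.smul_apply, ringHom_single, act_snd, of_sec, dd_snd, ← h]
    simp only [MonoidAlgebra.coeff_single, Finsupp.single_apply, Pi.single_apply, smul_eq_mul,
      mul_sub, mul_ite, mul_one, mul_zero]
    congr 1
    · refine if_congr ?_ rfl rfl
      rw [inv_mul_eq_one, eq_comm, inv_mul_eq_iff_eq_mul, eq_mul_inv_iff_mul_eq]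
      exact eq_comm
    · refine if_congr ?_ rfl rfl
      rw [inv_mul_eq_one]

/-- The relations of `Γ` lift to relations of the `g - 1`. -/
theorem exists_lift [Fintype G] (f : G → ℤ)
    (hf : Fintype.linearCombination ℤ
      (fun g : G => Additive.ofMul (Abelianization.of g)) f = 0) :
    ∃ v : G → MonoidAlgebra ℤ (Gam G),
      (∀ g, MonoidAlgebra.lift ℤ ℤ (Gam G) 1 (v g) = f g) ∧ ∑ g, ringHom (v g) (dd g) = 0 := by
  classical
  set aug := MonoidAlgebra.lift ℤ ℤ (Gam G) 1 with haug
  let T : AddSubgroup (G → ℤ) :=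
    { carrier := {f | ∃ v : G → MonoidAlgebra ℤ (Gam G),
        (∀ g, aug (v g) = f g) ∧ ∑ g, ringHom (v g) (dd g) = 0}
      zero_mem' := ⟨0, fun g => by simp, by simp⟩
      add_mem' := by
        rintro a b ⟨v, hv, hv'⟩ ⟨w, hw, hw'⟩
        refine ⟨v + w, fun g => by simp [hv, hw], ?_⟩
        simp only [Pi.add_apply, ringHom_add_apply, Finset.sum_add_distrib, hv', hw', add_zero]
      neg_mem' := by
        rintro a ⟨v, hv, hv'⟩
        refine ⟨-v, fun g => by simp [hv], ?_⟩
        simp only [Pi.neg_apply, ringHom_neg_apply, Finset.sum_neg_distrib, hv', neg_zero] }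
  let q : (G → ℤ) →+ (G → ℤ) ⧸ T := QuotientAddGroup.mk' T
  let φ : G →* Multiplicative ((G → ℤ) ⧸ T) :=
    MonoidHom.mk' (fun g => Multiplicative.ofAdd (q (Pi.single g 1))) fun g k => by
      rw [← ofAdd_add, ← map_add]
      refine congrArg Multiplicative.ofAdd ((QuotientAddGroup.eq).mpr ?_)
      refine ⟨Pi.single g 1 + Pi.single k (MonoidAlgebra.single (Abelianization.of g) (1 : ℤ))
        - Pi.single (g * k) 1, fun x => ?_, ?_⟩
      · have hp : ∀ (i : G) (y : MonoidAlgebra ℤ (Gam G)),
            aug ((Pi.single i y : G → MonoidAlgebra ℤ (Gam G)) x) =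
              (Pi.single i (aug y) : G → ℤ) x := fun i y =>
          Pi.apply_single (fun _ => aug) (fun _ => map_zero aug) i y x
        simp only [Pi.add_apply, Pi.sub_apply, Pi.neg_apply, map_add, map_sub, hp, map_one]
        rw [show aug (MonoidAlgebra.single (Abelianization.of g) (1 : ℤ)) = 1 by
          rw [haug, MonoidAlgebra.lift_single, MonoidHom.one_apply, one_smul]]
        abel
      · have hp : ∀ (i : G) (y : MonoidAlgebra ℤ (Gam G)),
            ∑ x, ringHom ((Pi.single i y : G → MonoidAlgebra ℤ (Gam G)) x) (dd x) =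
              ringHom y (dd i) := fun i y => by
          rw [Finset.sum_eq_single i (fun b _ hb => by
            rw [Pi.single_eq_of_ne hb, map_zero]; rfl) (by simp), Pi.single_eq_same]
        simp only [Pi.add_apply, Pi.sub_apply, ringHom_add_apply, ringHom_sub_apply,
          Finset.sum_add_distrib, Finset.sum_sub_distrib, hp, ringHom_one_apply]
        rw [dd_mul]
        abel
  let κ : Additive (Gam G) →+ (G → ℤ) ⧸ T := MonoidHom.toAdditiveLeft (Abelianization.lift φ)
  have hκ : ∀ f : G → ℤ,
      q f = κ (Fintype.linearCombination ℤ (fun g : G => Additive.ofMul (Abelianization.of g)) f) := by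
    intro f
    conv_lhs => rw [show f = ∑ g, f g • (Pi.single g 1 : G → ℤ) by
      ext x; simp [Finset.sum_apply, Pi.single_apply]]
    rw [Fintype.linearCombination_apply, map_sum, map_sum]
    refine Finset.sum_congr rfl fun g _ => ?_
    rw [map_zsmul, map_zsmul]
    congr 1
  have h0 : q f = 0 := by rw [hκ, hf, map_zero]
  exact (QuotientAddGroup.eq_zero_iff f).mp h0

/-- A relation matrix gives an element of augmentation `± #Γ` killing all `g - 1`. -/
theorem exists_killer [Fintype G] :
    ∃ D : MonoidAlgebra ℤ (Gam G),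
      (MonoidAlgebra.lift ℤ ℤ (Gam G) 1 D).natAbs = Nat.card (Gam G) ∧
        ∀ g, ringHom D (dd g) = 0 := by
  classical
  set ψ := Fintype.linearCombination ℤ (fun g : G => Additive.ofMul (Abelianization.of g)) with hψ
  have hsurj : Function.Surjective ψ := fun a => by
    obtain ⟨g, hg⟩ := QuotientGroup.mk_surjective (Additive.toMul a)
    refine ⟨Pi.single g 1, ?_⟩
    rw [hψ, Fintype.linearCombination_apply,
      Finset.sum_eq_single g (fun b _ hb => by rw [Pi.single_eq_of_ne hb, zero_smul]) (by simp),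
      Pi.single_eq_same, one_smul]
    exact congrArg Additive.ofMul hg
  have hcard : Nat.card ((G → ℤ) ⧸ LinearMap.ker ψ) = Nat.card (Gam G) :=
    (Nat.card_congr (ψ.quotKerEquivOfSurjective hsurj).toEquiv).trans
      (Nat.card_congr Additive.toMul)
  obtain ⟨e⟩ := Int.submodule_toAddSubgroup_index_ne_zero_iff.mp
    (show Nat.card ((G → ℤ) ⧸ LinearMap.ker ψ) ≠ 0 by rw [hcard]; exact Nat.card_pos.ne')
  let bL : Module.Basis G ℤ (LinearMap.ker ψ) := Module.Basis.ofEquivFun e
  have hdet := Submodule.natAbs_det_basis_change (Pi.basisFun ℤ G) (LinearMap.ker ψ) bL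
  rw [hcard] at hdet
  have hrel := fun i => exists_lift (bL i : G → ℤ) (LinearMap.mem_ker.mp (bL i).2)
  choose v hv hv' using hrel
  set μ : Matrix G G (MonoidAlgebra ℤ (Gam G)) := Matrix.of fun i j => v i j with hμ
  refine ⟨μ.det, ?_, fun k => ?_⟩
  · rw [← hdet]
    congr 1
    rw [AlgHom.map_det, Module.Basis.det_apply, ← Matrix.det_transpose]
    congr 1
    ext i j
    simp [hμ, Matrix.transpose_apply, Module.Basis.toMatrix_apply, hv]
  · calc ringHom μ.det (dd k)
        = ∑ j, ringHom ((μ.adjugate * μ) k j) (dd j) := by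
          rw [Matrix.adjugate_mul, Finset.sum_eq_single k]
          · simp
          · intro b _ hb; simp [Matrix.one_apply, Ne.symm hb]
          · simp
      _ = ∑ i, ringHom (μ.adjugate k i) (∑ j, ringHom (μ i j) (dd j)) := by
          simp only [Matrix.mul_apply, ringHom_sum_apply, ringHom_mul_apply]
          rw [Finset.sum_comm]
          simp only [map_sum]
      _ = 0 := by
          refine Finset.sum_eq_zero fun i _ => ?_
          rw [show ∑ j, ringHom (μ i j) (dd j) = 0 from hv' i, map_zero]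

theorem sum_cl_eq_zero [Fintype G] (g : G) : ∑ γ : Gam G, coc (sec γ * g) 1 = 0 := by
  classical
  obtain ⟨D, hD, hD'⟩ := exists_killer (G := G)
  set c := D.coeff 1 with hc
  have hconst : ∀ γ, D.coeff γ = c := fun γ => by
    obtain ⟨k, rfl⟩ := QuotientGroup.mk_surjective γ
    have h := congrArg (fun m : M0 G => (m : AA G × (Gam G → ℤ)).2 (Abelianization.of k)) (hD' k)
    simp only [ringHom_dd_snd, mul_inv_cancel, AddSubgroup.coe_zero, Prod.snd_zero,
      Pi.zero_apply, sub_eq_zero] at h
    exact h.symm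
  have hsum : D = ∑ γ, c • MonoidAlgebra.single γ (1 : ℤ) := by
    refine MonoidAlgebra.ext ?_
    ext γ
    simp [MonoidAlgebra.coeff_sum, hconst, Finsupp.single_apply]
  have haug : MonoidAlgebra.lift ℤ ℤ (Gam G) 1 D = c * (Fintype.card (Gam G) : ℤ) := by
    rw [hsum, map_sum]
    simp only [map_zsmul, MonoidAlgebra.lift_single, MonoidHom.one_apply, one_smul, smul_eq_mul,
      mul_one, Finset.sum_const, Finset.card_univ, nsmul_eq_mul]
    rw [mul_comm]
  rw [haug, Int.natAbs_mul, Int.natAbs_natCast, Nat.card_eq_fintype_card,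
    Nat.mul_eq_right Fintype.card_ne_zero] at hD
  have hN : ∑ γ, ringHom (MonoidAlgebra.single γ (1 : ℤ)) (dd g) = 0 := by
    have h := hD' g
    rw [hsum, ringHom_sum_apply] at h
    simp only [ringHom_zsmul_apply, ← Finset.smul_sum] at h
    rcases Int.natAbs_eq c with h1 | h1 <;> rw [hD] at h1 <;>
      simpa [h1] using h
  have h := congrArg (fun m : M0 G => (m : AA G × (Gam G → ℤ)).1) hN
  simp only [AddSubgroup.val_finsetSum, Prod.fst_sum, AddSubgroup.coe_zero, Prod.fst_zero] at h
  rw [← h]
  refine Finset.sum_congr rfl fun γ _ => ?_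
  rw [ringHom_single]
  show _ = (act (sec γ) (act g (0, Pi.single 1 1) - (0, Pi.single 1 1))).1
  rw [map_sub, ← act_mul, Prod.fst_sub, act_fst, act_fst]
  simp only [map_zero, zero_add, Pi.single_apply, ite_smul, one_smul, zero_smul,
    Finset.sum_ite_eq', Finset.mem_univ, if_true]
  have h0 : coc (sec γ) 1 = 0 := by
    unfold coc
    rw [of_sec, sec_one, mul_one, mul_one, mul_inv_cancel, cl_one]
  rw [h0, sub_zero]

end H36.PIT

namespace H36

open MonoidHom Subgroup H36.PIT in
/-- The principal ideal theorem. -/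
theorem transfer_commutator_eq_one {G : Type*} [Group G] [Finite G] :
    MonoidHom.transfer (Abelianization.of : ↥(commutator G) →* Abelianization ↥(commutator G)) =
      (1 : G →* Abelianization ↥(commutator G)) := by
  classical
  have := Fintype.ofFinite G
  have : Finite (Abelianization G) := Quotient.finite _
  have := Fintype.ofFinite (Abelianization G)
  ext g
  set ϕ := (Abelianization.of : ↥(commutator G) →* Abelianization ↥(commutator G))
  let f : G ⧸ commutator G → G := fun q => (sec ((q : Gam G))⁻¹)⁻¹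
  have hf : ∀ q, ((f q : G) : G ⧸ commutator G) = q := fun q => by
    show Abelianization.of (sec ((q : Gam G))⁻¹)⁻¹ = (q : Gam G)
    rw [map_inv, of_sec]
    exact inv_inv (q : Gam G)
  let T : (commutator G).LeftTransversal := ⟨Set.range f, isComplement_range_left hf⟩
  rw [MonoidHom.transfer_def ϕ T g, MonoidHom.one_apply]
  apply Additive.ofMul.injective
  rw [ofMul_one, ← sum_cl_eq_zero g]
  unfold leftTransversals.diff
  rw [ofMul_prod]
  refine @Fintype.sum_equiv _ _ _ (_) (_) _ (Equiv.inv (Gam G)) _ _ fun q => ?_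
  show _ = coc (sec (q : Gam G)⁻¹ * g) 1
  rw [coc, sec_one, mul_one, mul_one, map_mul, of_sec, cl_of_mem]
  swap
  · rw [mem_comm_iff, map_mul, map_mul, map_inv, of_sec, of_sec, mul_inv_cancel]
  refine congrArg (fun z => Additive.ofMul (ϕ z)) (Subtype.ext ?_)
  show ((T.2.leftQuotientEquiv (q : G ⧸ commutator G) : G))⁻¹ *
    ((g • T).2.leftQuotientEquiv (q : G ⧸ commutator G) : G) = _
  erw [smul_apply_eq_smul_apply_inv_smul, IsComplement.leftQuotientEquiv_apply hf,
    IsComplement.leftQuotientEquiv_apply hf, smul_eq_mul]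
  obtain ⟨x, rfl⟩ := QuotientGroup.mk_surjective (q : G ⧸ commutator G)
  show (sec ((Abelianization.of x))⁻¹)⁻¹⁻¹ * (g * (sec ((Abelianization.of (g⁻¹ * x)))⁻¹)⁻¹) =
    sec (Abelianization.of x)⁻¹ * g * (sec ((Abelianization.of x)⁻¹ * Abelianization.of g))⁻¹
  rw [inv_inv, map_mul, map_inv, mul_inv_rev, inv_inv]
  group

end H36
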