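import Cfsg.Prelude.Def_HallClasses
import Cfsg.Agent.H73.Conj
import Cfsg.Agent.H36.Subnormal

/-!
Pronormality of the overgroups of Sylow subgroups.
-/

set_option autoImplicit false

namespace H36

open Subgroup
open H73 (cj cj_cj cj_mono cj_one mem_cj cj_sup cj_of_mem)

variable {G : Type*} [Group G]

theorem isPronormal_subgroupOf_iff {K N : Subgroup G} (hKN : K ≤ N) :
    Cfsg.IsPronormal (K.subgroupOf N) ↔
      ∀ g ∈ N, ∃ x ∈ K ⊔ cj g K, cj g K = cj x K := by
  have hmap : ∀ n : N, ((K.subgroupOf N).map (MulAut.conj n).toMonoidHom).map N.subtype = cj (n : G) K := by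
    intro n
    conv_rhs => rw [← Subgroup.map_subgroupOf_eq_of_le hKN]
    rw [cj, Subgroup.map_map, Subgroup.map_map]
    rfl
  constructor
  · intro h g hg
    obtain ⟨x, hx, he⟩ := h ⟨g, hg⟩
    refine ⟨x, ?_, ?_⟩
    · have := mem_map_of_mem N.subtype hx
      rwa [Subgroup.map_sup, hmap, Subgroup.map_subgroupOf_eq_of_le hKN] at this
    · rw [← hmap ⟨g, hg⟩, he, hmap]
  · intro h n
    obtain ⟨x, hx, he⟩ := h n n.2
    have hxN : x ∈ N := sup_le hKN (H73.cj_le_of_mem n.2 hKN) hx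
    refine ⟨⟨x, hxN⟩, ?_, ?_⟩
    · rw [← mem_map_iff_mem N.subtype_injective, Subgroup.map_sup, hmap,
        Subgroup.map_subgroupOf_eq_of_le hKN]
      exact hx
    · apply Subgroup.map_injective N.subtype_injective
      rw [hmap, hmap, he]

theorem map_cj {H : Type*} [Group H] (f : G →* H) (g : G) (K : Subgroup G) :
    (cj g K).map f = cj (f g) (K.map f) := by
  rw [cj, cj, Subgroup.map_map, Subgroup.map_map]
  congr 1
  ext x
  simp

theorem isPronormal_map_iff {H : Type*} [Group H] {f : G →* H} (hf : Function.Surjective f)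
    {K : Subgroup G} (hK : f.ker ≤ K) : Cfsg.IsPronormal (K.map f) ↔ Cfsg.IsPronormal K := by
  constructor
  · intro h g
    obtain ⟨x, hx, he⟩ := h (f g)
    change x ∈ K.map f ⊔ cj (f g) (K.map f) at hx
    rw [← map_cj, ← Subgroup.map_sup] at hx
    obtain ⟨y, hy, rfl⟩ := hx
    refine ⟨y, hy, ?_⟩
    change cj (f g) (K.map f) = cj (f y) (K.map f) at he
    rw [← map_cj, ← map_cj] at he
    have hker : ∀ z : G, f.ker ≤ cj z K := fun z x hx => mem_cj.mpr (hK (by
      simp [MonoidHom.mem_ker, MonoidHom.mem_ker.mp hx]))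
    have := congrArg (Subgroup.comap f) he
    rwa [comap_map_eq_self (hker g), comap_map_eq_self (hker y)] at this
  · intro h g
    obtain ⟨g, rfl⟩ := hf g
    obtain ⟨x, hx, he⟩ := h g
    refine ⟨f x, ?_, ?_⟩
    · show f x ∈ K.map f ⊔ cj (f g) (K.map f)
      rw [← map_cj, ← Subgroup.map_sup]
      exact mem_map_of_mem f hx
    · show cj (f g) (K.map f) = cj (f x) (K.map f)
      rw [← map_cj, ← map_cj]
      exact congrArg (Subgroup.map f) he

theorem pronormal_cj {K : Subgroup G} (c : G) (h : Cfsg.IsPronormal K) :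
    Cfsg.IsPronormal (cj c K) := by
  have := (isPronormal_map_iff (f := (MulAut.conj c).toMonoidHom) (K := K) (MulAut.conj c).surjective
    (by rw [(MonoidHom.ker_eq_bot_iff _).mpr (MulAut.conj c).injective]; exact bot_le)).mpr h
  exact this

theorem index_cj [Finite G] (c : G) (K : Subgroup G) : (cj c K).index = K.index := by
  have h1 := (cj c K).card_mul_index
  rw [H73.card_cj, ← K.card_mul_index] at h1
  exact Nat.eq_of_mul_eq_mul_left Nat.card_pos h1

theorem exists_sylow_le_iff [Finite G] {p : ℕ} [Fact p.Prime] (K : Subgroup G) :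
    (∃ P : Sylow p G, (P : Subgroup G) ≤ K) ↔ ¬ p ∣ K.index := by
  constructor
  · rintro ⟨P, hP⟩ h
    exact P.not_dvd_index (h.trans (index_dvd_of_le hP))
  · intro h
    obtain ⟨Q⟩ := (inferInstance : Nonempty (Sylow p K))
    refine ⟨(Q.isPGroup'.map K.subtype).toSylow ?_, map_subtype_le _⟩
    intro hd
    rw [index_map_subtype] at hd
    rcases (Fact.out : p.Prime).dvd_mul.mp hd with h1 | h1
    · exact Q.not_dvd_index h1
    · exact h h1

/-- Overgroups of a self-normalizing Sylow subgroup are pronormal and self-normalizing. -/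
theorem overgroup_of_selfNormalizing [Finite G] {p : ℕ} [Fact p.Prime] {K : Subgroup G}
    (P : Sylow p G) (hP : normalizer ((P : Subgroup G) : Set G) = P) (hPK : (P : Subgroup G) ≤ K) :
    Cfsg.IsPronormal K ∧ normalizer (K : Set G) = K := by
  have key : ∀ g : G, ∃ x ∈ K ⊔ cj g K, x⁻¹ * g ∈ K := by
    intro g
    have hsyl : H73.SylIn p (P : Subgroup G) (K ⊔ cj g K) :=
      ⟨hPK.trans le_sup_left, P.isPGroup', fun h =>
        P.not_dvd_index (h.trans (relIndex_dvd_index_of_le (hPK.trans le_sup_left)))⟩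
    obtain ⟨y, hy, hyP⟩ := hsyl.exists_conj_le (P := cj g (P : Subgroup G)) (P.isPGroup'.map _)
      ((cj_mono hPK).trans le_sup_right)
    refine ⟨y⁻¹, Subgroup.inv_mem _ hy, hPK ?_⟩
    rw [inv_inv, ← hP]
    refine H73.mem_normalizer_iff_cj.mpr (eq_of_le_of_card_ge ?_ (H73.card_cj _ _).ge)
    rwa [cj_cj] at hyP
  refine ⟨fun g => ?_, le_antisymm ?_ le_normalizer⟩
  · obtain ⟨x, hx, hxK⟩ := key g
    refine ⟨x, hx, ?_⟩
    show cj g K = cj x K
    rw [show g = x * (x⁻¹ * g) by rw [mul_inv_cancel_left], ← cj_cj, cj_of_mem hxK]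
  · intro g hg
    obtain ⟨x, hx, hxK⟩ := key g
    rw [H73.mem_normalizer_iff_cj.mp hg, sup_idem] at hx
    simpa using K.mul_mem hx hxK

theorem pronormal_of_criterion [Finite G] {p : ℕ} [Fact p.Prime] (A : Subgroup G) [A.Normal]
    (hA : ∀ B : Subgroup G, B ≤ A → ¬ p ∣ B.relIndex A → ∀ g ∈ A, ∃ x ∈ B ⊔ cj g B, cj g B = cj x B)
    (hQ : ∀ K : Subgroup G, ¬ p ∣ K.index → Cfsg.IsPronormal (K.map (QuotientGroup.mk' A)))
    (T : Subgroup G) (hT : H73.SylIn p T A)
    (hN : ∀ L : Subgroup G, T ≤ L → L ≤ normalizer (T : Set G) → ¬ p ∣ L.relIndex (normalizer (T : Set G)) →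
      ∀ g ∈ normalizer (T : Set G), ∃ x ∈ L ⊔ cj g L, cj g L = cj x L)
    (hii : ∀ K : Subgroup G, ¬ p ∣ K.index →
      normalizer ((K.map (QuotientGroup.mk' A) : Subgroup (G ⧸ A)) : Set (G ⧸ A)) ≤
        (normalizer (K : Set G)).map (QuotientGroup.mk' A))
    {K : Subgroup G} (hK : ¬ p ∣ K.index) : Cfsg.IsPronormal K := by
  have hrel : ∀ K : Subgroup G, ¬ p ∣ K.index → ¬ p ∣ (K ⊓ A).relIndex A := fun K hK h => hK (by
    rw [inf_relIndex_right, ← relIndex_sup_of_normal] at h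
    exact h.trans (relIndex_dvd_index_of_le le_sup_left))
  -- the case `T ≤ K`
  have main : ∀ K : Subgroup G, ¬ p ∣ K.index → T ≤ K → Cfsg.IsPronormal K := by
    intro K hK hTK g
    obtain ⟨x₁, hx₁, he₁⟩ := hQ K hK (QuotientGroup.mk' A g)
    change x₁ ∈ K.map _ ⊔ cj _ (K.map _) at hx₁
    change cj _ (K.map _) = cj x₁ (K.map _) at he₁
    rw [← map_cj, ← Subgroup.map_sup] at hx₁
    obtain ⟨x, hx, rfl⟩ := hx₁
    have hnorm : QuotientGroup.mk' A (x⁻¹ * g) ∈
        normalizer ((K.map (QuotientGroup.mk' A) : Subgroup (G ⧸ A)) : Set (G ⧸ A)) := by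
      rw [H73.mem_normalizer_iff_cj, map_mul, ← cj_cj, he₁, cj_cj, ← map_mul, inv_mul_cancel, map_one,
        cj_one]
    obtain ⟨n, hn, hng⟩ := hii K hK hnorm
    set a := x⁻¹ * g * n⁻¹ with ha
    have haA : a ∈ A := by
      rw [← QuotientGroup.eq_one_iff]
      show QuotientGroup.mk' A a = 1
      rw [ha, map_mul, map_inv, hng, mul_inv_cancel]
    have hga : cj g K = cj (x * a) K := by
      conv_lhs => rw [show g = x * a * n by simp [ha, mul_assoc]]
      rw [← cj_cj, H73.mem_normalizer_iff_cj.mp hn]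
    set J := K ⊔ cj g K with hJ
    have hKJ : ∀ z ∈ J, ∀ w : G, cj g K = cj (z * w) K → cj w K ≤ J := by
      intro z hz w hw
      have h1 : cj (z * w) K ≤ J := hw ▸ le_sup_right
      have := H73.cj_le_of_mem (Subgroup.inv_mem _ hz) h1
      rwa [cj_cj, inv_mul_cancel_left] at this
    have haK : cj a K ≤ J := hKJ x hx a hga
    -- inside `A`
    set B := K ⊓ A with hB
    obtain ⟨y, hy, hye⟩ := hA B inf_le_right (hrel K hK) a haA
    have hcjA : ∀ u : G, cj u B = cj u K ⊓ A := by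
      intro u
      rw [hB, H73.cj_inf]
      congr 1
      exact Subgroup.Normal.map_conj_eq A u
    have hyA : y ∈ A := (sup_le inf_le_right (by rw [hcjA]; exact inf_le_right) : B ⊔ cj a B ≤ A) hy
    have hyJ : y ∈ J := (sup_le (inf_le_left.trans le_sup_left)
      (by rw [hcjA]; exact inf_le_left.trans haK) : B ⊔ cj a B ≤ J) hy
    set a₁ := y⁻¹ * a with ha₁
    have ha₁B : cj a₁ B = B := by rw [ha₁, ← cj_cj, hye, H73.cj_inv_cj]
    have hTB : T ≤ B := le_inf hTK hT.le
    obtain ⟨b, hbB, hb⟩ := (hT.of_le hTB inf_le_right).exists_conj_le (P := cj a₁ T)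
      (hT.isPGroup.map _) ((cj_mono hTB).trans ha₁B.le)
    set a₂ := b * a₁ with ha₂
    have ha₂T : a₂ ∈ normalizer (T : Set G) := H73.mem_normalizer_iff_cj.mpr
      (eq_of_le_of_card_ge (by rwa [cj_cj] at hb) (H73.card_cj _ _).ge)
    have ha₂B : cj a₂ B = B := by rw [ha₂, ← cj_cj, ha₁B, cj_of_mem hbB]
    have hzJ : x * y * b⁻¹ ∈ J :=
      J.mul_mem (J.mul_mem hx hyJ) (J.inv_mem ((le_sup_left : K ≤ J) hbB.1))
    have hga₂ : cj g K = cj (x * y * b⁻¹ * a₂) K := by
      rw [hga]; congr 1; simp [ha₂, ha₁, mul_assoc]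
    have ha₂K : cj a₂ K ≤ J := hKJ _ hzJ a₂ hga₂
    -- inside the normalizer of `T`
    set L := K ⊓ normalizer (T : Set G) with hL
    have hKBL : K = B ⊔ L := by
      refine le_antisymm (fun k hk => ?_) (sup_le inf_le_left inf_le_left)
      obtain ⟨c, hcB, hc⟩ := (hT.of_le hTB inf_le_right).exists_conj_le (P := cj k T)
        (hT.isPGroup.map _) (by
          refine (cj_mono hTB).trans ?_
          rw [hcjA, cj_of_mem hk])
      have h1 : c * k ∈ L := ⟨K.mul_mem hcB.1 hk, H73.mem_normalizer_iff_cj.mpr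
        (eq_of_le_of_card_ge (by rwa [cj_cj] at hc) (H73.card_cj _ _).ge)⟩
      rw [show k = c⁻¹ * (c * k) by rw [inv_mul_cancel_left]]
      exact mul_mem (mem_sup_left (B.inv_mem hcB)) (mem_sup_right h1)
    have hLidx : ¬ p ∣ L.relIndex (normalizer (T : Set G)) := by
      intro h
      rw [hL, inf_relIndex_right] at h
      obtain ⟨P, hP⟩ := (exists_sylow_le_iff K).mpr hK
      obtain ⟨c, hcK, hc⟩ := (show H73.SylIn p (P : Subgroup G) K from ⟨hP, P.isPGroup', fun hd =>
        P.not_dvd_index (hd.trans (relIndex_dvd_index_of_le hP))⟩).exists_conj_le hT.isPGroup hTK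
      -- a Sylow subgroup of `G` inside `K` normalizes `T`
      have hP' : cj c⁻¹ (P : Subgroup G) ≤ K ⊓ normalizer (T : Set G) := by
        refine le_inf (H73.cj_le_of_mem (K.inv_mem hcK) hP) fun u hu => ?_
        refine H73.mem_normalizer_iff_cj.mpr (eq_of_le_of_card_ge ?_ (H73.card_cj _ _).ge)
        have hTP : T ≤ cj c⁻¹ (P : Subgroup G) := H73.cj_le_iff.mp hc
        have h1 : cj c⁻¹ (P : Subgroup G) ⊓ A = T :=
          hT.eq_of_le ((P.isPGroup'.map _).to_inf_left) inf_le_right (le_inf hTP hT.le)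
        rw [← h1, H73.cj_inf, cj_of_mem hu]
        exact inf_le_inf_left _ (Subgroup.Normal.map_conj_eq A u).le
      have hd : p ∣ (cj c⁻¹ (P : Subgroup G)).index := by
        rw [← inf_relIndex_right] at h
        exact (h.trans (relIndex_dvd_of_le_left _ hP')).trans
          (relIndex_dvd_index_of_le (hP'.trans inf_le_right))
      rw [index_cj] at hd
      exact P.not_dvd_index hd
    obtain ⟨z, hz, hze⟩ := hN L (le_inf hTK le_normalizer) inf_le_right hLidx a₂ ha₂T
    have hzB : cj z B = B := by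
      suffices hle : L ⊔ cj a₂ L ≤ normalizer (B : Set G) from H73.mem_normalizer_iff_cj.mp (hle hz)
      refine sup_le ?_ ?_
      · intro u hu
        refine H73.mem_normalizer_iff_cj.mpr ?_
        rw [hcjA, cj_of_mem hu.1]
      · rintro _ ⟨u, hu, rfl⟩
        refine H73.mem_normalizer_iff_cj.mpr ?_
        show cj (a₂ * u * a₂⁻¹) B = B
        have h1 : cj u B = B := by rw [hcjA, cj_of_mem hu.1]
        have h2 : cj a₂⁻¹ B = B := by conv_lhs => rw [← ha₂B]; rw [H73.cj_inv_cj]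
        rw [← cj_cj, ← cj_cj, h2, h1, ha₂B]
    refine ⟨x * y * b⁻¹ * z, J.mul_mem hzJ
      ((sup_le (inf_le_left.trans le_sup_left) ((cj_mono inf_le_left).trans ha₂K) : L ⊔ cj a₂ L ≤ J) hz), ?_⟩
    show cj g K = cj _ K
    rw [hga₂, ← cj_cj _ a₂ K, ← cj_cj _ z K]
    congr 1
    conv_lhs => rw [hKBL]
    conv_rhs => rw [hKBL]
    rw [cj_sup, cj_sup, ha₂B, hzB, hze]
  -- conjugate `T` into `K`
  obtain ⟨P, hP⟩ := (exists_sylow_le_iff K).mpr hK
  have hPA : ¬ p ∣ ((P : Subgroup G) ⊓ A).relIndex A :=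
    hrel _ P.not_dvd_index
  have hsyl : H73.SylIn p ((P : Subgroup G) ⊓ A) A := ⟨inf_le_right, P.isPGroup'.to_inf_left, hPA⟩
  obtain ⟨c, -, hc⟩ := hsyl.exists_conj_le hT.isPGroup hT.le
  have h1 := pronormal_cj c (main (cj c⁻¹ K) (by
    rwa [index_cj])
    ((H73.cj_le_iff.mp hc).trans (cj_mono (inf_le_left.trans hP))))
  rwa [cj_cj, mul_inv_cancel, cj_one] at h1

end H36
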