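import Cfsg.Agent.H36.Pronormal

/-!
The criterion for pronormality of all overgroups of Sylow subgroups.
-/

set_option autoImplicit false

namespace H36

open Subgroup
open H73 (cj cj_cj cj_mono cj_one mem_cj cj_sup cj_of_mem)

variable {G : Type*} [Group G] [Finite G] {p : ℕ} [Fact p.Prime]

theorem index_normalizer_coprime (A : Subgroup G) [A.Normal] {T : Subgroup G}
    (hT : H73.SylIn p T A) : ¬ p ∣ (normalizer (T : Set G)).index := by
  obtain ⟨P⟩ := (inferInstance : Nonempty (Sylow p G))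
  have hsyl : H73.SylIn p ((P : Subgroup G) ⊓ A) A := ⟨inf_le_right, P.isPGroup'.to_inf_left, by
    rw [inf_relIndex_right, ← relIndex_sup_of_normal]
    exact fun h => P.not_dvd_index (h.trans (relIndex_dvd_index_of_le le_sup_left))⟩
  obtain ⟨c, -, hc⟩ := hsyl.exists_conj_le hT.isPGroup hT.le
  have hTP : T ≤ cj c⁻¹ (P : Subgroup G) := (H73.cj_le_iff.mp hc).trans (cj_mono inf_le_left)
  have h1 : cj c⁻¹ (P : Subgroup G) ⊓ A = T :=
    hT.eq_of_le ((P.isPGroup'.map _).to_inf_left) inf_le_right (le_inf hTP hT.le)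
  have hle : cj c⁻¹ (P : Subgroup G) ≤ normalizer (T : Set G) := fun u hu => by
    refine H73.mem_normalizer_iff_cj.mpr (eq_of_le_of_card_ge ?_ (H73.card_cj _ _).ge)
    rw [← h1, H73.cj_inf, cj_of_mem hu]
    exact inf_le_inf_left _ (Subgroup.Normal.map_conj_eq A u).le
  intro h
  have h2 := h.trans (index_dvd_of_le hle)
  rw [index_cj] at h2
  exact P.not_dvd_index h2

/-- The local condition at `T`, in `G` and in `N(T)/T`. -/
theorem local_iff (T : Subgroup G) [(T.subgroupOf (normalizer (T : Set G))).Normal] :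
    (∀ K : Subgroup (↥(normalizer (T : Set G)) ⧸ T.subgroupOf (normalizer (T : Set G))),
      (∃ P : Sylow p (↥(normalizer (T : Set G)) ⧸ T.subgroupOf (normalizer (T : Set G))),
        (P : Subgroup (↥(normalizer (T : Set G)) ⧸ T.subgroupOf (normalizer (T : Set G)))) ≤ K) →
      Cfsg.IsPronormal K) ↔
    ∀ L : Subgroup G, T ≤ L → L ≤ normalizer (T : Set G) →
      ¬ p ∣ L.relIndex (normalizer (T : Set G)) →
      ∀ g ∈ normalizer (T : Set G), ∃ x ∈ L ⊔ cj g L, cj g L = cj x L := by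
  set N := normalizer (T : Set G)
  have hsurj := QuotientGroup.mk'_surjective (T.subgroupOf N)
  constructor
  · intro h L hTL hLN hidx
    rw [← isPronormal_subgroupOf_iff hLN]
    have hker : (QuotientGroup.mk' (T.subgroupOf N)).ker ≤ L.subgroupOf N := by
      rw [QuotientGroup.ker_mk']
      exact fun x hx => hTL hx
    rw [← isPronormal_map_iff hsurj hker]
    refine h _ ((exists_sylow_le_iff _).mpr ?_)
    rw [index_map_eq _ hsurj hker]
    exact hidx
  · intro h K hK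
    rw [exists_sylow_le_iff] at hK
    rw [← map_comap_eq_self_of_surjective hsurj K,
      isPronormal_map_iff hsurj (ker_le_comap _ _)]
    set M := K.comap (QuotientGroup.mk' (T.subgroupOf N)) with hM
    rw [← comap_map_eq_self_of_injective N.subtype_injective M]
    refine (isPronormal_subgroupOf_iff (map_subtype_le M)).mpr (h _ ?_ (map_subtype_le M) ?_)
    · intro x hx
      refine ⟨⟨x, le_normalizer hx⟩, ?_, rfl⟩
      refine ker_le_comap _ _ ?_
      rw [QuotientGroup.ker_mk']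
      exact hx
    · rw [relIndex, subgroupOf, comap_map_eq_self_of_injective N.subtype_injective, hM,
        index_comap_of_surjective _ hsurj]
      exact hK

theorem local_of_pronormal (A : Subgroup G) [A.Normal] {T : Subgroup G} (hT : H73.SylIn p T A)
    (h : ∀ K : Subgroup G, (∃ P : Sylow p G, (P : Subgroup G) ≤ K) → Cfsg.IsPronormal K) :
    ∀ L : Subgroup G, T ≤ L → L ≤ normalizer (T : Set G) →
      ¬ p ∣ L.relIndex (normalizer (T : Set G)) →
      ∀ g ∈ normalizer (T : Set G), ∃ x ∈ L ⊔ cj g L, cj g L = cj x L := by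
  intro L _ hLN hidx g _
  refine h L ((exists_sylow_le_iff L).mpr ?_) g
  intro hd
  rw [← relIndex_mul_index hLN] at hd
  rcases (Fact.out : p.Prime).dvd_mul.mp hd with h1 | h1
  · exact hidx h1
  · exact index_normalizer_coprime A hT h1

theorem sylIn_of_exists (A : Subgroup G) {T : Subgroup G}
    (hT : ∃ P : Sylow p ↥A, (P : Subgroup ↥A).map A.subtype = T) : H73.SylIn p T A := by
  obtain ⟨P, rfl⟩ := hT
  exact H73.SylIn.of_sylow P

theorem inner_of_hA (A : Subgroup G)
    (hA : ∀ K : Subgroup ↥A, (∃ P : Sylow p ↥A, (P : Subgroup ↥A) ≤ K) → Cfsg.IsPronormal K) :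
    ∀ B : Subgroup G, B ≤ A → ¬ p ∣ B.relIndex A → ∀ g ∈ A, ∃ x ∈ B ⊔ cj g B, cj g B = cj x B :=
  fun B hB hidx => (isPronormal_subgroupOf_iff hB).mp (hA _ ((exists_sylow_le_iff _).mpr hidx))

theorem index_map_mk_coprime (A : Subgroup G) [A.Normal] {K : Subgroup G} (hK : ¬ p ∣ K.index) :
    ¬ p ∣ (K.map (QuotientGroup.mk' A)).index :=
  fun h => hK (h.trans (index_map_dvd _ (QuotientGroup.mk'_surjective A)))

theorem criterion (A : Subgroup G) [A.Normal]
    (hA : ∀ K : Subgroup ↥A, (∃ P : Sylow p ↥A, (P : Subgroup ↥A) ≤ K) → Cfsg.IsPronormal K)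
    (hQ : ∀ K : Subgroup (G ⧸ A), (∃ P : Sylow p (G ⧸ A), (P : Subgroup (G ⧸ A)) ≤ K) → Cfsg.IsPronormal K)
    (T : Subgroup G) (hT : ∃ P : Sylow p ↥A, (P : Subgroup ↥A).map A.subtype = T)
    [(T.subgroupOf (normalizer (T : Set G))).Normal] :
    (∀ K : Subgroup G, (∃ P : Sylow p G, (P : Subgroup G) ≤ K) → Cfsg.IsPronormal K) ↔
      ((∀ K : Subgroup (↥(normalizer (T : Set G)) ⧸ T.subgroupOf (normalizer (T : Set G))),
        (∃ P : Sylow p (↥(normalizer (T : Set G)) ⧸ T.subgroupOf (normalizer (T : Set G))),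
          (P : Subgroup (↥(normalizer (T : Set G)) ⧸ T.subgroupOf (normalizer (T : Set G)))) ≤ K) →
          Cfsg.IsPronormal K) ∧
      ∀ K : Subgroup G, (∃ P : Sylow p G, (P : Subgroup G) ≤ K) →
        (normalizer (K : Set G)).map (QuotientGroup.mk' A) =
          normalizer ((K.map (QuotientGroup.mk' A) : Subgroup (G ⧸ A)) : Set (G ⧸ A))) := by
  have hT' := sylIn_of_exists A hT
  constructor
  · intro h
    refine ⟨(local_iff T).mpr (local_of_pronormal A hT' h), fun K hK => le_antisymm ?_ ?_⟩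
    · rintro _ ⟨n, hn, rfl⟩
      rw [H73.mem_normalizer_iff_cj, ← map_cj, H73.mem_normalizer_iff_cj.mp hn]
    · intro u hu
      obtain ⟨g, rfl⟩ := QuotientGroup.mk'_surjective A u
      obtain ⟨x, hx, hxe⟩ := h K hK g
      change x ∈ K ⊔ cj g K at hx
      change cj g K = cj x K at hxe
      have hxK : QuotientGroup.mk' A x ∈ K.map (QuotientGroup.mk' A) := by
        have := mem_map_of_mem (QuotientGroup.mk' A) hx
        rwa [Subgroup.map_sup, map_cj, H73.mem_normalizer_iff_cj.mp hu, sup_idem] at this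
      obtain ⟨k, hk, hkx⟩ := hxK
      refine ⟨k * (x⁻¹ * g), ?_, ?_⟩
      · refine mul_mem (le_normalizer hk) ?_
        rw [H73.mem_normalizer_iff_cj, ← cj_cj, hxe, H73.cj_inv_cj]
      · rw [map_mul, hkx, map_mul, map_inv, mul_inv_cancel_left]
  · rintro ⟨h1, h2⟩ K hK
    rw [exists_sylow_le_iff] at hK
    exact pronormal_of_criterion A (inner_of_hA A hA)
      (fun L hL => hQ _ ((exists_sylow_le_iff _).mpr (index_map_mk_coprime A hL)))
      T hT' ((local_iff T).mp h1)
      (fun L hL => (h2 L ((exists_sylow_le_iff L).mpr hL)).ge) hK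

theorem criterion_selfNormalizing (A : Subgroup G) [A.Normal]
    (hA : ∀ K : Subgroup ↥A, (∃ P : Sylow p ↥A, (P : Subgroup ↥A) ≤ K) → Cfsg.IsPronormal K)
    (hQ : ∀ P : Sylow p (G ⧸ A), normalizer ((P : Subgroup (G ⧸ A)) : Set (G ⧸ A)) = P)
    (T : Subgroup G) (hT : ∃ P : Sylow p ↥A, (P : Subgroup ↥A).map A.subtype = T)
    [(T.subgroupOf (normalizer (T : Set G))).Normal] :
    (∀ K : Subgroup G, (∃ P : Sylow p G, (P : Subgroup G) ≤ K) → Cfsg.IsPronormal K) ↔
      (∀ K : Subgroup (↥(normalizer (T : Set G)) ⧸ T.subgroupOf (normalizer (T : Set G))),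
        (∃ P : Sylow p (↥(normalizer (T : Set G)) ⧸ T.subgroupOf (normalizer (T : Set G))),
          (P : Subgroup (↥(normalizer (T : Set G)) ⧸ T.subgroupOf (normalizer (T : Set G)))) ≤ K) →
          Cfsg.IsPronormal K) := by
  have hQ' : ∀ K : Subgroup (G ⧸ A), (∃ P : Sylow p (G ⧸ A), (P : Subgroup (G ⧸ A)) ≤ K) →
      Cfsg.IsPronormal K ∧ normalizer (K : Set (G ⧸ A)) = K :=
    fun K ⟨P, hP⟩ => overgroup_of_selfNormalizing P (hQ P) hP
  rw [criterion A hA (fun K hK => (hQ' K hK).1) T hT]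
  refine ⟨And.left, fun h => ⟨h, fun K hK => ?_⟩⟩
  have hKq := (hQ' _ ((exists_sylow_le_iff _).mpr
    (index_map_mk_coprime A ((exists_sylow_le_iff K).mp hK)))).2
  refine le_antisymm ?_ (hKq.le.trans (map_mono le_normalizer))
  rintro _ ⟨n, hn, rfl⟩
  rw [H73.mem_normalizer_iff_cj, ← map_cj, H73.mem_normalizer_iff_cj.mp hn]

/-- Pronormality in a product with an abelian normal subgroup. -/
theorem pronormal_iff_of_abelian (V : Subgroup G) [V.Normal] (hV : IsMulCommutative ↥V)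
    (H : Subgroup G) (hHV : H ⊔ V = ⊤) :
    Cfsg.IsPronormal H ↔
      ∀ U : Subgroup G, U ≤ V → (∀ h ∈ H, U.map (MulAut.conj h).toMonoidHom = U) →
        U = (U ⊓ normalizer (H : Set G)) ⊔ ⁅H, U⁆ := by
  have hVc : ∀ a ∈ V, ∀ b ∈ V, a * b = b * a := fun a ha b hb =>
    congrArg Subtype.val (hV.is_comm.comm ⟨a, ha⟩ ⟨b, hb⟩)
  constructor
  · intro hpro U hUV hinv
    have hHU : H ≤ normalizer (U : Set G) := fun h hh => H73.mem_normalizer_iff_cj.mpr (hinv h hh)
    have hW : ⁅H, U⁆ ≤ U := by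
      rw [commutator_le]
      intro h hh u hu
      exact U.mul_mem ((mem_normalizer_iff.mp (hHU hh) u).mp hu) (U.inv_mem hu)
    refine le_antisymm (fun u hu => ?_) (sup_le inf_le_left hW)
    have hWn : H ≤ normalizer ((⁅H, U⁆ : Subgroup G) : Set G) := fun h hh =>
      H73.mem_normalizer_iff_cj.mpr (by rw [H73.cj_commutator, cj_of_mem hh, show cj h U = U from hinv h hh])
    obtain ⟨x, hx, hxe⟩ := hpro u
    change x ∈ H ⊔ cj u H at hx
    change cj u H = cj x H at hxe
    have hle : H ⊔ cj u H ≤ H ⊔ ⁅H, U⁆ := by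
      refine sup_le le_sup_left ?_
      rintro _ ⟨h, hh, rfl⟩
      have hm : h * u * h⁻¹ * u⁻¹ ∈ ⁅H, U⁆ := commutator_mem_commutator hh hu
      show u * h * u⁻¹ ∈ _
      rw [show u * h * u⁻¹ = (h * u * h⁻¹ * u⁻¹)⁻¹ * h by simp [mul_assoc]]
      exact mul_mem (mem_sup_right (inv_mem hm)) (mem_sup_left hh)
    have hx2 := hle hx
    rw [sup_comm, ← SetLike.mem_coe, coe_mul_of_right_le_normalizer_left _ _ hWn] at hx2
    obtain ⟨w, hw, h, hh, rfl⟩ := hx2
    have hn : w⁻¹ * u ∈ U ⊓ normalizer (H : Set G) := by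
      refine ⟨U.mul_mem (U.inv_mem (hW hw)) hu, H73.mem_normalizer_iff_cj.mpr ?_⟩
      rw [← cj_cj, hxe, ← cj_cj w h, cj_of_mem hh, H73.cj_inv_cj]
    rw [show u = w * (w⁻¹ * u) by rw [mul_inv_cancel_left]]
    exact mul_mem (mem_sup_right hw) (mem_sup_left hn)
  · intro hcond g
    obtain ⟨v, hv, h₀, hh₀, rfl⟩ : ∃ v ∈ V, ∃ h ∈ H, v * h = g := by
      have hmem : g ∈ V ⊔ H := by rw [sup_comm, hHV]; exact mem_top g
      rw [← SetLike.mem_coe, normal_mul] at hmem
      exact hmem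
    have hgv : cj (v * h₀) H = cj v H := by rw [← cj_cj, cj_of_mem hh₀]
    set J := H ⊔ cj v H with hJ
    set K := J ⊓ V with hK
    have hKinv : ∀ h ∈ H, ∀ k ∈ K, h * k * h⁻¹ ∈ K := fun h hh k hk =>
      ⟨J.mul_mem (J.mul_mem (mem_sup_left hh) hk.1) (J.inv_mem (mem_sup_left hh)),
        Subgroup.Normal.conj_mem inferInstance k hk.2 h⟩
    let U : Subgroup G :=
    { carrier := {u | u ∈ V ∧ ∀ h ∈ H, h * u * h⁻¹ * u⁻¹ ∈ K}
      one_mem' := ⟨one_mem V, fun h _ => by simp⟩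
      mul_mem' := fun {a b} ha hb => ⟨mul_mem ha.1 hb.1, fun h hh => by
        have e : h * (a * b) * h⁻¹ * (a * b)⁻¹ =
            (h * a * h⁻¹ * a⁻¹) * (a * (h * b * h⁻¹ * b⁻¹) * a⁻¹) := by simp [mul_assoc]
        rw [e, hVc a ha.1 _ (hb.2 h hh).2, mul_inv_cancel_right]
        exact mul_mem (ha.2 h hh) (hb.2 h hh)⟩
      inv_mem' := fun {a} ha => ⟨inv_mem ha.1, fun h hh => by
        have e : h * a⁻¹ * h⁻¹ * a⁻¹⁻¹ = a⁻¹ * (a * (h * a⁻¹ * h⁻¹)) * a⁻¹⁻¹ := by
          simp [mul_assoc]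
        rw [e, hVc a⁻¹ (inv_mem ha.1) _ (mul_mem ha.1 (Subgroup.Normal.conj_mem inferInstance _
          (inv_mem ha.1) h)), mul_inv_cancel_right]
        have := inv_mem (ha.2 h hh)
        simpa [mul_assoc] using this⟩ }
    have hUinv : ∀ h ∈ H, U.map (MulAut.conj h).toMonoidHom = U := by
      intro h hh
      refine eq_of_le_of_card_ge ?_ (H73.card_cj h U).ge
      rintro _ ⟨u, hu, rfl⟩
      refine ⟨Subgroup.Normal.conj_mem inferInstance u hu.1 h, fun k hk => ?_⟩
      show k * (h * u * h⁻¹) * k⁻¹ * (h * u * h⁻¹)⁻¹ ∈ K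
      have := hKinv h hh _ (hu.2 (h⁻¹ * k * h) (H.mul_mem (H.mul_mem (H.inv_mem hh) hk) hh))
      simpa [mul_assoc] using this
    have hvU : v ∈ U := by
      refine ⟨hv, fun h hh => ⟨?_, ?_⟩⟩
      · rw [show h * v * h⁻¹ * v⁻¹ = h * (v * h⁻¹ * v⁻¹) by simp [mul_assoc]]
        exact mul_mem (mem_sup_left hh) (mem_sup_right ⟨h⁻¹, H.inv_mem hh, rfl⟩)
      · exact V.mul_mem (Subgroup.Normal.conj_mem inferInstance v hv h) (V.inv_mem hv)
    have hUK : ⁅H, U⁆ ≤ K := by
      rw [commutator_le]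
      exact fun h hh u hu => hu.2 h hh
    have hUV : U ≤ V := fun u hu => hu.1
    have hmem : v ∈ (U ⊓ normalizer (H : Set G)) ⊔ K := by
      have := (hcond U hUV hUinv).le hvU
      exact sup_le_sup_left hUK _ this
    have hle : U ⊓ normalizer (H : Set G) ≤ normalizer (K : Set G) := fun u hu =>
      mem_normalizer_iff.mpr fun k => by
        constructor
        · intro hk
          rw [hVc u hu.1.1 k hk.2, mul_inv_cancel_right]; exact hk
        · intro hk
          have hkV : k ∈ V := by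
            simpa [mul_assoc] using Subgroup.Normal.conj_mem inferInstance _ hk.2 u⁻¹
          rwa [hVc u hu.1.1 k hkV, mul_inv_cancel_right] at hk
    rw [sup_comm, ← SetLike.mem_coe, coe_mul_of_right_le_normalizer_left _ _ hle] at hmem
    obtain ⟨w, hw, n, hn, rfl⟩ := hmem
    refine ⟨w, ?_, ?_⟩
    · show w ∈ H ⊔ cj (w * n * h₀) H
      rw [hgv]
      exact hw.1
    · show cj (w * n * h₀) H = cj w H
      rw [hgv, ← cj_cj, H73.mem_normalizer_iff_cj.mp hn.2]

end H36
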