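import Cfsg.Agent.H40.SL2Sylow
import Cfsg.Agent.H37.Torus
import Cfsg.Agent.H37.Two

/-!
Redundant Sylow subgroups of `SL₂(q)`.
-/

set_option autoImplicit false
set_option linter.unusedSectionVars false

namespace H36.RS

open Subgroup

variable {G : Type*} [Group G] [Finite G]

/-- Sylow subgroup `Q` is redundant. -/
def Redundant (p : ℕ) (Q : Sylow p G) : Prop :=
  ∀ x : G, (∃ k : ℕ, orderOf x = p ^ k) → ∃ P : Sylow p G, P ≠ Q ∧ x ∈ P

/-- An element in a unique Sylow subgroup obstructs redundancy of all of them. -/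
theorem not_redundant_of_unique {p : ℕ} [hp : Fact p.Prime] (P : Sylow p G) (x : G) (hx : x ∈ P)
    (huniq : ∀ R : Sylow p G, x ∈ R → R = P) (Q : Sylow p G) : ¬ Redundant p Q := by
  intro hQ
  obtain ⟨g, rfl⟩ := MulAction.exists_smul_eq G P Q
  have hgx : g * x * g⁻¹ ∈ ((g • P : Sylow p G) : Subgroup G) := by
    rw [Sylow.coe_subgroup_smul]
    exact mem_map_of_mem (MulAut.conj g).toMonoidHom hx
  obtain ⟨k, hk⟩ := IsPGroup.iff_orderOf.mp (g • P : Sylow p G).isPGroup' ⟨_, hgx⟩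
  rw [Subgroup.orderOf_mk] at hk
  obtain ⟨R, hR, hxR⟩ := hQ (g * x * g⁻¹) ⟨k, hk⟩
  apply hR
  have h1 : x ∈ g⁻¹ • R := by
    show x ∈ ((g⁻¹ • R : Sylow p G) : Subgroup G)
    rw [Sylow.coe_subgroup_smul]
    refine ⟨_, hxR, ?_⟩
    show g⁻¹ * (g * x * g⁻¹) * g⁻¹⁻¹ = x
    group
  rw [← huniq _ h1, smul_inv_smul]

/-- Cyclic Sylow subgroups are not redundant. -/
theorem not_redundant_of_cyclic {p : ℕ} [hp : Fact p.Prime] (P : Sylow p G)
    (hc : IsCyclic (P : Subgroup G)) (Q : Sylow p G) : ¬ Redundant p Q := by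
  obtain ⟨⟨x, hx⟩, hgen⟩ := hc.exists_generator
  refine not_redundant_of_unique P x hx (fun R hR => ?_) Q
  have hle : (P : Subgroup G) ≤ R := fun y hy => by
    obtain ⟨i, hi⟩ := hgen ⟨y, hy⟩
    have h1 : x ^ i = y := congrArg Subtype.val hi
    rw [← h1]
    exact zpow_mem hR i
  exact Sylow.ext (P.is_maximal' R.isPGroup' hle)

/-- An element of an abelian subgroup `T` lies in two Sylow subgroups of its dihedral-like
overgroup when `T` contains an element of odd order. -/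
theorem two_sylows (T N : Subgroup G) (hTN : T ≤ N)
    (hcomm : ∀ a ∈ T, ∀ b ∈ T, a * b = b * a)
    (hconj : ∀ x ∈ N, ∀ a ∈ T, x * a * x⁻¹ ∈ T)
    (hinv : ∀ x ∈ N, x ∉ T → ∀ a ∈ T, x * a * x⁻¹ = a⁻¹)
    (hcard : Nat.card N = 2 * Nat.card T)
    (hfull : (Nat.card N).factorization 2 = (Nat.card G).factorization 2)
    (hodd : ∃ t ∈ T, t ≠ 1 ∧ Odd (orderOf t)) {a : G} (ha : a ∈ T) (ha2 : ∃ k : ℕ, orderOf a = 2 ^ k) :
    ∃ R R' : Sylow 2 G, R ≠ R' ∧ a ∈ R ∧ a ∈ R' := by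
  have := Fact.mk Nat.prime_two
  obtain ⟨k, hk⟩ := ha2
  have haN : IsPGroup 2 (zpowers (⟨a, hTN ha⟩ : N)) :=
    IsPGroup.of_card (n := k) (by rw [Nat.card_zpowers, Subgroup.orderOf_mk, hk])
  obtain ⟨S, hS⟩ := haN.exists_le_sylow
  have hcardS : Nat.card ((S : Subgroup N).map N.subtype) =
      2 ^ (Nat.card G).factorization 2 := by
    rw [card_map_of_injective N.subtype_injective, S.card_eq_multiplicity, hfull]
  obtain ⟨R, hR⟩ : ∃ R : Sylow 2 G, (R : Subgroup G) = (S : Subgroup N).map N.subtype :=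
    ⟨Sylow.ofCard _ hcardS, Sylow.coe_ofCard _ _⟩
  have haR : a ∈ R := by
    show a ∈ (R : Subgroup G)
    rw [hR]
    exact ⟨⟨a, hTN ha⟩, hS (mem_zpowers _), rfl⟩
  have hRN : (R : Subgroup G) ≤ N := hR ▸ map_subtype_le _
  obtain ⟨t, htT, ht1, htodd⟩ := hodd
  refine ⟨R, t • R, fun heq => ?_, haR, ?_⟩
  swap
  · show a ∈ ((t • R : Sylow 2 G) : Subgroup G)
    rw [Sylow.coe_subgroup_smul]
    refine ⟨a, haR, ?_⟩
    show t * a * t⁻¹ = a
    rw [hcomm t htT a ha, mul_inv_cancel_right]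
  obtain ⟨y, hyR, hyT⟩ : ∃ y ∈ (R : Subgroup G), y ∉ T := by
    by_contra hall
    push Not at hall
    have h1 : Nat.card (R : Subgroup G) ∣ Nat.card T := card_dvd_of_le hall
    rw [R.card_eq_multiplicity, ← hfull, hcard, Nat.factorization_mul two_ne_zero Nat.card_pos.ne',
      Finsupp.add_apply, Nat.prime_two.factorization_self, pow_add, pow_one] at h1
    have h3 := (Nat.prime_two.pow_dvd_iff_le_factorization Nat.card_pos.ne').mp
      (show 2 ^ ((Nat.card T).factorization 2 + 1) ∣ Nat.card T by rwa [pow_succ, mul_comm])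
    omega
  have h1 : t * y * t⁻¹ ∈ (R : Subgroup G) := by
    have h2 : t * y * t⁻¹ ∈ ((t • R : Sylow 2 G) : Subgroup G) := by
      rw [Sylow.coe_subgroup_smul]
      exact mem_map_of_mem (MulAut.conj t).toMonoidHom hyR
    rwa [← heq] at h2
  have h2 : t * y * t⁻¹ * y⁻¹ = t * t := by
    rw [show t * y * t⁻¹ * y⁻¹ = t * (y * t⁻¹ * y⁻¹) by group,
      hinv y (hRN hyR) hyT t⁻¹ (T.inv_mem htT), inv_inv]
  have h3 : t * t ∈ (R : Subgroup G) := h2 ▸ mul_mem h1 (inv_mem hyR)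
  obtain ⟨j, hj⟩ := IsPGroup.iff_orderOf.mp R.isPGroup' ⟨_, h3⟩
  rw [Subgroup.orderOf_mk, ← pow_two, orderOf_pow' t two_ne_zero,
    (Nat.coprime_two_right.mpr htodd).gcd_eq_one, Nat.div_one] at hj
  apply ht1
  rw [← orderOf_eq_one_iff, hj]
  rcases Nat.eq_zero_or_pos j with rfl | hj0
  · rfl
  · rw [hj, Nat.odd_iff] at htodd
    obtain ⟨i, rfl⟩ : ∃ i, j = i + 1 := ⟨j - 1, by omega⟩
    rw [pow_succ] at htodd
    omega

section SL2

variable {F : Type*} [Field F] [Fintype F]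

local notation "S2" => Matrix.SpecialLinearGroup (Fin 2) F

theorem char_dvd_card (ℓ : ℕ) [CharP F ℓ] : ℓ ∣ Fintype.card F :=
  (CharP.cast_eq_zero_iff F ℓ _).mp (FiniteField.cast_card_eq_zero F)

/-- Nontrivial unipotent elements lie in a unique Sylow subgroup. -/
theorem not_redundant_char (p : ℕ) [Fact p.Prime] [CharP F p] (Q : Sylow p S2) :
    ¬ Redundant p Q := by
  obtain ⟨g, hg⟩ := H37.exists_conj_sylow_SL p Q
  set x := g * H37.upper2 1 * g⁻¹ with hx
  have hxQ : x ∈ Q := by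
    rw [hg, hx, show g⁻¹ * (g * H37.upper2 1 * g⁻¹) * g = H37.upper2 1 by group]
    exact H37.upper2_mem 1
  refine not_redundant_of_unique Q x hxQ (fun R hR => ?_) Q
  obtain ⟨h, hh⟩ := H37.exists_conj_sylow_SL p R
  have h1 := (hh x).mp hR
  set k := h⁻¹ * g with hk
  have h2 : h⁻¹ * x * h = k * H37.upper2 1 * k⁻¹ := by rw [hx, hk]; group
  rw [h2] at h1
  have hkb : Matrix.SpecialLinearGroup.toGL k ∈ H37.borel2 F := by
    refine H37.mem_borel2_of_conj_mem (H37.toGL_upper2_mem 1) H37.toGL_upper2_one_ne_one ?_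
    rw [← map_inv, ← map_mul, ← map_mul]
    exact h1
  have hle : (Q : Subgroup S2) ≤ R := fun y hy => by
    refine (hh y).mpr ?_
    have h3 := H37.conj_mem_unitriangular_two hkb (show Matrix.SpecialLinearGroup.toGL (g⁻¹ * y * g) ∈
      H37.unitriangular 2 F from (hg y).mp hy)
    rw [← map_inv, ← map_mul, ← map_mul, show k * (g⁻¹ * y * g) * k⁻¹ = h⁻¹ * y * h by
      rw [hk]; group] at h3
    exact h3
  exact Sylow.ext (Q.is_maximal' R.isPGroup' hle)

theorem not_redundant_odd (p : ℕ) [hp : Fact p.Prime] (hp2 : p ≠ 2) (Q : Sylow p S2) :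
    ¬ Redundant p Q := by
  obtain ⟨ℓ, hℓ⟩ := CharP.exists F
  haveI : Fact ℓ.Prime := ⟨CharP.char_is_prime F ℓ⟩
  rcases eq_or_ne p ℓ with rfl | hpl
  · exact not_redundant_char p Q
  · exact not_redundant_of_cyclic Q
      (H37.isCyclic_of_isPGroup ℓ p hp2 hpl (Q : Subgroup S2) Q.isPGroup') Q

theorem exists_torus (hodd : Odd (Fintype.card F)) :
    ∃ g : S2, H40.Reg2 g ∧ 4 ∣ Nat.card (H40.tor g) ∧
      ((Fintype.card F % 4 = 1 ∧ Nat.card (H40.tor g) = Fintype.card F - 1) ∨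
        (Fintype.card F % 4 = 3 ∧ Nat.card (H40.tor g) = Fintype.card F + 1)) := by
  have h2 : Fintype.card F % 2 = 1 := Nat.odd_iff.mp hodd
  have hq : 2 ≤ Fintype.card F := Fintype.one_lt_card
  by_cases h4 : Fintype.card F % 4 = 1
  · obtain ⟨g, hg, c, hc⟩ := H40.exists_split (F := F) (by omega)
    have hcard := H40.card_tor_of_eig hg hc
    exact ⟨g, hg, by rw [hcard]; omega, Or.inl ⟨h4, hcard⟩⟩
  · obtain ⟨g, hg, hne⟩ := H40.exists_nonsplit (F := F)
    have hcard := H40.card_tor_of_noEig hg hne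
    exact ⟨g, hg, by rw [hcard]; omega, Or.inr ⟨by omega, hcard⟩⟩

theorem two_ne_zero_of_odd (hodd : Odd (Fintype.card F)) : (2 : F) ≠ 0 :=
  Ring.two_ne_zero fun h => by
    have := Nat.odd_iff.mp hodd
    have := FiniteField.even_card_iff_char_two.mp h
    omega

theorem tor_normalizer_full (hodd : Odd (Fintype.card F)) {g : S2} (hg : H40.Reg2 g)
    (hcase : (Fintype.card F % 4 = 1 ∧ Nat.card (H40.tor g) = Fintype.card F - 1) ∨
      (Fintype.card F % 4 = 3 ∧ Nat.card (H40.tor g) = Fintype.card F + 1)) :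
    (Nat.card (normalizer (H40.tor g : Set S2))).factorization 2 =
      (Nat.card S2).factorization 2 := by
  have hq : 2 ≤ Fintype.card F := Fintype.one_lt_card
  have h2 : Fintype.card F % 2 = 1 := Nat.odd_iff.mp hodd
  rw [H40.card_normalizer_tor (two_ne_zero_of_odd hodd) hg, H40.card_SL2_pm,
    Nat.factorization_mul two_ne_zero Nat.card_pos.ne',
    Nat.factorization_mul (by omega) (Nat.mul_ne_zero (by omega) (by omega)),
    Nat.factorization_mul (by omega) (by omega)]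
  simp only [Finsupp.add_apply, Nat.prime_two.factorization_self,
    Nat.factorization_eq_zero_of_not_dvd (show ¬ 2 ∣ Fintype.card F by omega), zero_add]
  have hone : ∀ m : ℕ, m % 4 = 2 → m.factorization 2 = 1 := by
    intro m hm
    obtain ⟨j, rfl⟩ : 2 ∣ m := by omega
    rw [Nat.factorization_mul two_ne_zero (by omega), Finsupp.add_apply,
      Nat.prime_two.factorization_self,
      Nat.factorization_eq_zero_of_not_dvd (show ¬ 2 ∣ j by omega)]
  rcases hcase with ⟨hm, hc⟩ | ⟨hm, hc⟩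
  · rw [hc, hone (Fintype.card F + 1) (by omega)]; omega
  · rw [hc, hone (Fintype.card F - 1) (by omega)]

theorem tor_data (hodd : Odd (Fintype.card F)) {g : S2} (hg : H40.Reg2 g) :
    H40.tor g ≤ normalizer (H40.tor g : Set S2) ∧
      (∀ x ∈ normalizer (H40.tor g : Set S2), ∀ a ∈ H40.tor g, x * a * x⁻¹ ∈ H40.tor g) ∧
      (∀ x ∈ normalizer (H40.tor g : Set S2), x ∉ H40.tor g →
        ∀ a ∈ H40.tor g, x * a * x⁻¹ = a⁻¹) := by
  have h2 := two_ne_zero_of_odd hodd
  exact ⟨H40.tor_le_normalizer h2 hg, fun x hx a ha => (mem_normalizer_iff.mp hx a).mp ha,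
    fun x hx hxt a ha => H40.conj_torus hg (H40.conj_of_mem_normalizer h2 hg hx hxt) ha⟩

theorem reg2_of_sq_eq_neg_one (hodd : Odd (Fintype.card F)) {x : S2} (hx : x * x = -1) :
    H40.Reg2 x ∧ (x : Matrix (Fin 2) (Fin 2) F).trace = 0 := by
  have h2 := two_ne_zero_of_odd hodd
  have hM : (x : Matrix (Fin 2) (Fin 2) F) * x = -1 := by
    have := congrArg (fun y : S2 => (y : Matrix (Fin 2) (Fin 2) F)) hx
    simpa using this
  have hd := x.2
  rw [Matrix.det_fin_two] at hd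
  have e00 := congrFun (congrFun hM 0) 0
  have e01 := congrFun (congrFun hM 0) 1
  have e11 := congrFun (congrFun hM 1) 1
  simp only [Matrix.mul_apply, Fin.sum_univ_two, Matrix.neg_apply, Matrix.one_apply_eq,
    Matrix.one_apply_ne (show (0 : Fin 2) ≠ 1 by decide), neg_zero] at e00 e01 e11
  have htr : (x : Matrix (Fin 2) (Fin 2) F).trace = 0 := by
    rw [Matrix.trace_fin_two]
    refine sq_eq_zero_iff.mp ?_
    linear_combination e00 + e11 + 2 * hd
  refine ⟨⟨fun hs => ?_, ?_⟩, htr⟩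
  · rcases H40.eq_pm_of_scalar hs with rfl | rfl
    · rw [one_mul] at hx
      have := congrArg (fun y : S2 => (y : Matrix (Fin 2) (Fin 2) F) 0 0) hx
      simp at this
      exact h2 (by linear_combination this)
    · rw [neg_mul_neg, one_mul] at hx
      have := congrArg (fun y : S2 => (y : Matrix (Fin 2) (Fin 2) F) 0 0) hx
      simp at this
      exact h2 (by linear_combination this)
  · rw [htr, zero_pow two_ne_zero]
    intro h4
    exact mul_ne_zero h2 h2 (by linear_combination (-1 : F) * h4)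

theorem redundant_two (hodd : Odd (Fintype.card F))
    (h1 : ¬ ∃ k : ℕ, Fintype.card F + 1 = 2 ^ k) (h3 : ¬ ∃ k : ℕ, Fintype.card F = 2 ^ k + 1)
    (Q : Sylow 2 S2) : Redundant 2 Q := by
  classical
  have := Fact.mk Nat.prime_two
  have h2 := two_ne_zero_of_odd hodd
  have hq : 2 ≤ Fintype.card F := Fintype.one_lt_card
  have htwo : ∀ g : S2, H40.Reg2 g →
      ((Fintype.card F % 4 = 1 ∧ Nat.card (H40.tor g) = Fintype.card F - 1) ∨
        (Fintype.card F % 4 = 3 ∧ Nat.card (H40.tor g) = Fintype.card F + 1)) →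
      ∀ a ∈ H40.tor g, (∃ k : ℕ, orderOf a = 2 ^ k) →
        ∃ P : Sylow 2 S2, P ≠ Q ∧ a ∈ P := by
    intro g hg hcase a ha hak
    have hnp : ∀ k, Nat.card (H40.tor g) ≠ 2 ^ k := by
      intro k hk
      rcases hcase with ⟨-, hc⟩ | ⟨-, hc⟩
      · exact h3 ⟨k, by omega⟩
      · exact h1 ⟨k, by omega⟩
    obtain ⟨r, hr, hrd, hr2⟩ : ∃ r : ℕ, r.Prime ∧ r ∣ Nat.card (H40.tor g) ∧ r ≠ 2 := by
      by_contra hall
      push Not at hall
      exact hnp _ (Nat.eq_prime_pow_of_unique_prime_dvd Nat.card_pos.ne'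
        (fun {d} hd hdd => hall d hd hdd))
    haveI := Fact.mk hr
    obtain ⟨⟨t, ht⟩, hto⟩ := exists_prime_orderOf_dvd_card' (G := H40.tor g) r hrd
    rw [Subgroup.orderOf_mk] at hto
    obtain ⟨hle, hconj, hinv⟩ := tor_data hodd hg
    obtain ⟨R, R', hne, hR, hR'⟩ := two_sylows (H40.tor g) _ hle
      (fun a ha b hb => H40.tor_comm hg ha hb) hconj hinv (H40.card_normalizer_tor h2 hg)
      (tor_normalizer_full hodd hg hcase)
      ⟨t, ht, fun h => hr.one_lt.ne (by rw [← hto, h, orderOf_one]),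
        hto ▸ hr.odd_of_ne_two hr2⟩ ha hak
    by_cases hRQ : R = Q
    · exact ⟨R', fun h => hne (hRQ.trans h.symm), hR'⟩
    · exact ⟨R, hRQ, hR⟩
  intro x hxk
  obtain ⟨g, hg, -, hcase⟩ := exists_torus (F := F) hodd
  obtain ⟨k, hk⟩ := hxk
  obtain ⟨P, hP⟩ := (IsPGroup.of_card (n := k) (G := zpowers x)
    (by rw [Nat.card_zpowers, hk])).exists_le_sylow
  have hfull := tor_normalizer_full hodd hg hcase
  obtain ⟨c, hc⟩ := H40.exists_conj_mem 2 (normalizer (H40.tor g : Set S2)) hfull P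
  have hxN := hc x (hP (mem_zpowers x))
  have hg' := H40.reg_conj hg c
  have hcard' := H40.tor_conj_card g c
  by_cases hxT : c⁻¹ * x * c ∈ H40.tor g
  · refine htwo (c * g * c⁻¹) hg' (by rwa [hcard']) x ?_ ⟨k, hk⟩
    rw [H40.mem_tor] at hxT ⊢
    calc x * (c * g * c⁻¹) = c * ((c⁻¹ * x * c) * g) * c⁻¹ := by group
      _ = c * (g * (c⁻¹ * x * c)) * c⁻¹ := by rw [hxT]
      _ = c * g * c⁻¹ * x := by group
  · have hsq := H40.normalizer_sq_eq_neg_one h2 hg hxN hxT
    have hsq' : x * x = -1 := by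
      have h4 : c * ((c⁻¹ * x * c) * (c⁻¹ * x * c)) * c⁻¹ = x * x := by group
      rw [← h4, hsq, ← H40.comm_of_scalar H40.scalar_neg_one c, mul_inv_cancel_right]
    obtain ⟨hreg, htr⟩ := reg2_of_sq_eq_neg_one hodd hsq'
    refine htwo x hreg ?_ x (H40.mem_tor.mpr rfl) ⟨k, hk⟩
    have hsqiff : IsSquare (-1 : F) ↔ Fintype.card F % 4 ≠ 3 := FiniteField.isSquare_neg_one_iff
    have h2' : Fintype.card F % 2 = 1 := Nat.odd_iff.mp hodd
    by_cases hs : IsSquare (-1 : F)
    · obtain ⟨i, hi⟩ := hs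
      left
      have := hsqiff.mp ⟨i, hi⟩
      refine ⟨by omega, H40.card_tor_of_eig hreg (c := i) ?_⟩
      rw [htr]
      linear_combination -hi
    · right
      refine ⟨?_, H40.card_tor_of_noEig hreg fun i hi => hs ⟨i, ?_⟩⟩
      · by_contra hne; exact hs (hsqiff.mpr hne)
      · rw [htr] at hi
        linear_combination -hi

theorem not_redundant_two (hodd : Odd (Fintype.card F))
    (h : (∃ k : ℕ, Fintype.card F + 1 = 2 ^ k) ∨ ∃ k : ℕ, Fintype.card F = 2 ^ k + 1)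
    (Q : Sylow 2 S2) : ¬ Redundant 2 Q := by
  classical
  have := Fact.mk Nat.prime_two
  have h2 := two_ne_zero_of_odd hodd
  have hq : 2 ≤ Fintype.card F := Fintype.one_lt_card
  obtain ⟨g, hg, h4, hcase⟩ := exists_torus (F := F) hodd
  obtain ⟨j, hj⟩ : ∃ j : ℕ, Nat.card (H40.tor g) = 2 ^ j := by
    have hpow : ∀ k : ℕ, 2 ^ k = 1 ∨ 2 ^ k = 2 ∨ 4 ∣ 2 ^ k := fun k => by
      match k with
      | 0 => simp
      | 1 => simp
      | k + 2 => exact Or.inr (Or.inr ⟨2 ^ k, by rw [pow_add]; ring⟩)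
    rcases hcase with ⟨hm, hc⟩ | ⟨hm, hc⟩ <;> rcases h with ⟨k, hk⟩ | ⟨k, hk⟩
    · exfalso
      rcases hpow k with h5 | h5 | h5 <;> omega
    · exact ⟨k, by omega⟩
    · exact ⟨k, by omega⟩
    · rcases hpow k with h5 | h5 | h5
      · omega
      · refine ⟨2, ?_⟩
        rw [hc, show (2 : ℕ) ^ 2 = 4 by norm_num]
        omega
      · omega
  obtain ⟨hle, hconj, -⟩ := tor_data hodd hg
  set N := normalizer (H40.tor g : Set S2)
  have hN : IsPGroup 2 N := IsPGroup.of_card (n := j + 1) (by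
    rw [H40.card_normalizer_tor h2 hg, hj, pow_succ']; )
  obtain ⟨P, hP⟩ := hN.exists_le_sylow
  obtain ⟨⟨t, ht⟩, hgen⟩ := (H40.isCyclic_tor hg).exists_generator
  refine not_redundant_of_unique P t (hP (hle ht)) (fun R hR => ?_) Q
  have hTR : H40.tor g ≤ R := fun y hy => by
    obtain ⟨i, hi⟩ := hgen ⟨y, hy⟩
    rw [← show t ^ i = y from congrArg Subtype.val hi]
    exact zpow_mem hR i
  have hPN : (P : Subgroup S2) = N := (eq_of_le_of_card_ge hP (le_of_eq (by
    rw [P.card_eq_multiplicity, ← tor_normalizer_full hodd hg hcase]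
    change _ = Nat.card N
    rw [H40.card_normalizer_tor h2 hg, hj, ← pow_succ', Nat.prime_two.factorization_pow,
      Finsupp.single_eq_same]))).symm
  have hindex : ((H40.tor g).subgroupOf (R : Subgroup S2)).index = 2 := by
    have h5 := ((H40.tor g).subgroupOf (R : Subgroup S2)).card_mul_index
    rw [Nat.card_congr (subgroupOfEquivOfLe hTR).toEquiv] at h5
    have h6 : Nat.card (R : Subgroup S2) = 2 * Nat.card (H40.tor g) := by
      rw [R.card_eq_multiplicity, ← P.card_eq_multiplicity, hPN, H40.card_normalizer_tor h2 hg]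
    rw [h6, mul_comm 2] at h5
    exact Nat.eq_of_mul_eq_mul_left Nat.card_pos h5
  have hRN : (R : Subgroup S2) ≤ N :=
    (normal_subgroupOf_iff_le_normalizer hTR).mp (normal_of_index_eq_two hindex)
  exact Sylow.ext ((R.is_maximal' hN hRN).symm.trans hPN.symm)

end SL2

end H36.RS

namespace H36

open H36.RS in
theorem sl2_redundant_iff {F : Type*} [Field F] [Fintype F] (p : ℕ) [hp : Fact p.Prime] :
    (∃ Q : Sylow p (Matrix.SpecialLinearGroup (Fin 2) F), Redundant p Q) ↔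
      (p = 2 ∧ (¬ ∃ k : ℕ, Fintype.card F + 1 = 2 ^ k) ∧ (¬ ∃ k : ℕ, Fintype.card F = 2 ^ k) ∧
        ¬ ∃ k : ℕ, Fintype.card F = 2 ^ k + 1) := by
  constructor
  · rintro ⟨Q, hQ⟩
    rcases eq_or_ne p 2 with rfl | hp2
    swap
    · exact absurd hQ (not_redundant_odd p hp2 Q)
    rcases Nat.even_or_odd (Fintype.card F) with he | ho
    · exfalso
      haveI : CharP F 2 := ringChar.of_eq (FiniteField.even_card_iff_char_two.mpr
        (Nat.even_iff.mp he))
      exact not_redundant_char 2 Q hQ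
    · refine ⟨rfl, fun h => not_redundant_two ho (Or.inl h) Q hQ, ?_,
        fun h => not_redundant_two ho (Or.inr h) Q hQ⟩
      rintro ⟨k, hk⟩
      have hq : 2 ≤ Fintype.card F := Fintype.one_lt_card
      have := Nat.odd_iff.mp ho
      rcases Nat.eq_zero_or_pos k with rfl | hk0
      · rw [pow_zero] at hk; omega
      · obtain ⟨i, rfl⟩ : ∃ i, k = i + 1 := ⟨k - 1, by omega⟩
        rw [pow_succ] at hk
        omega
  · rintro ⟨rfl, h1, h2, h3⟩
    rcases Nat.even_or_odd (Fintype.card F) with he | ho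
    · exfalso
      obtain ⟨ℓ, hℓ⟩ := CharP.exists F
      obtain ⟨f, hℓp, hf⟩ := FiniteField.card F ℓ
      have h4 : 2 ∣ ℓ ^ (f : ℕ) := hf ▸ he.two_dvd
      rw [← (Nat.prime_dvd_prime_iff_eq Nat.prime_two hℓp).mp (Nat.prime_two.dvd_of_dvd_pow h4)] at hf
      exact h2 ⟨f, hf⟩
    · obtain ⟨Q⟩ : Nonempty (Sylow 2 (Matrix.SpecialLinearGroup (Fin 2) F)) := inferInstance
      exact ⟨Q, redundant_two ho h1 h3 Q⟩

end H36
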