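import Cfsg.Agent.H1.Cores
import Cfsg.Agent.H32.Subnormal
import Cfsg.Agent.H36.Subnormal
import Mathlib.Combinatorics.Enumerative.IncidenceAlgebra
import Mathlib.GroupTheory.Sylow
import Mathlib.Tactic

/-!
The subnormalizer of a `p`-subgroup and Casolo's formula for its number of elements.
-/

set_option autoImplicit false

namespace H36

open Subgroup

variable {G : Type*} [Group G]

/-- `g` normalizes some `p`-subgroup containing `H`. -/
def InSN (p : ℕ) (H : Subgroup G) (g : G) : Prop :=
  ∃ R : Subgroup G, IsPGroup p R ∧ H ≤ R ∧ g ∈ normalizer (R : Set G)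

theorem lt_inf_normalizer_of_pgroup [Finite G] {p : ℕ} [Fact p.Prime] {R D : Subgroup G}
    (hD : IsPGroup p D) (h : R < D) : R < D ⊓ normalizer (R : Set G) := by
  refine lt_of_le_of_ne (le_inf h.le le_normalizer) fun heq => ?_
  have := hD.isNilpotent
  have hne : R.subgroupOf D ≠ ⊤ := fun e => absurd (subgroupOf_eq_top.mp e) h.not_ge
  have hnc := Group.normalizerCondition_of_isNilpotent (G := D) (R.subgroupOf D) hne.lt_top
  obtain ⟨d, hd, hd'⟩ := SetLike.exists_of_lt hnc
  apply hd'
  rw [mem_subgroupOf, heq]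
  refine ⟨d.2, ?_⟩
  show (d : G) ∈ normalizer (R : Set G)
  rw [mem_normalizer_iff] at hd ⊢
  intro x
  constructor
  · intro hx
    exact (hd ⟨x, h.le hx⟩).mp hx
  · intro hx
    have hxD : x ∈ D := by
      have := D.mul_mem (D.mul_mem (D.inv_mem d.2) (h.le hx)) d.2
      simpa [mul_assoc] using this
    exact (hd ⟨x, hxD⟩).mpr hx

theorem inSN_iff_isSubnormal [Finite G] {p : ℕ} [hp : Fact p.Prime] {H : Subgroup G}
    (hH : IsPGroup p H) (g : G) :
    InSN p H g ↔ (H.subgroupOf (H ⊔ zpowers g)).IsSubnormal := by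
  constructor
  · rintro ⟨R, hR, hHR, hg⟩
    set J := H ⊔ zpowers g with hJ
    have hJN : J ≤ normalizer (R : Set G) :=
      sup_le (hHR.trans le_normalizer) (zpowers_le.mpr hg)
    have hn : (R.subgroupOf J).Normal := normal_subgroupOf_of_le_normalizer hJN
    have hRJ : IsPGroup p (R.subgroupOf J) := hR.comap_subtype
    have := hRJ.isNilpotent
    refine IsSubnormal.trans (K := R.subgroupOf J) (fun x hx => hHR hx) ?_ hn.isSubnormal
    exact isSubnormal_of_isNilpotent _
  · intro h
    set J := H ⊔ zpowers g with hJ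
    have hle : H.subgroupOf J ≤ Cfsg.pCore p J :=
      H32.isPGroup_le_pCore_of_subnormal h hH.comap_subtype
    refine ⟨(Cfsg.pCore p J).map J.subtype, (H1.isPGroup_pCore p J).map _, ?_, ?_⟩
    · intro x hx
      have hxJ : x ∈ J := (le_sup_left : H ≤ J) hx
      exact ⟨⟨x, hxJ⟩, hle hx, rfl⟩
    · have := H1.pCore_normal' p J
      have hn : ((Cfsg.pCore p J).map J.subtype).subgroupOf J = Cfsg.pCore p J :=
        comap_map_eq_self_of_injective J.subtype_injective _
      exact (normal_subgroupOf_iff_le_normalizer (map_subtype_le _)).mp (by rw [hn]; exact this)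
        ((le_sup_right : zpowers g ≤ J) (mem_zpowers g))

theorem exists_radical [Finite G] {p : ℕ} [Fact p.Prime] {H : Subgroup G} {g : G}
    (h : InSN p H g) : ∃ R : Subgroup G, H ≤ R ∧
      (Cfsg.pCore p (normalizer (R : Set G))).map (normalizer (R : Set G)).subtype = R ∧
      g ∈ normalizer (R : Set G) := by
  obtain ⟨R₀, hR₀⟩ := h
  obtain ⟨R, -, ⟨hR, hHR, hg⟩, hmax⟩ := Finite.exists_le_maximal
    (p := fun R : Subgroup G => IsPGroup p R ∧ H ≤ R ∧ g ∈ normalizer (R : Set G)) hR₀
  refine ⟨R, hHR, ?_, hg⟩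
  set N := normalizer (R : Set G) with hN
  have hle : R ≤ (Cfsg.pCore p N).map N.subtype := by
    intro x hx
    have hn : (R.subgroupOf N).Normal := normal_in_normalizer
    exact ⟨⟨x, le_normalizer hx⟩, H1.le_pCore (show IsPGroup p (R.subgroupOf N) from hR.comap_subtype) hx, rfl⟩
  refine le_antisymm (hmax ⟨(H1.isPGroup_pCore p N).map _, hHR.trans hle, ?_⟩ hle) hle
  have := H1.pCore_normal' p N
  have hn : ((Cfsg.pCore p N).map N.subtype).subgroupOf N = Cfsg.pCore p N :=
    comap_map_eq_self_of_injective N.subtype_injective _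
  exact (normal_subgroupOf_iff_le_normalizer (map_subtype_le _)).mp (by rw [hn]; exact this) hg

/-- A radical `p`-subgroup is the intersection of the Sylow subgroups containing it. -/
theorem sylow_inter_le_radical [Finite G] {p : ℕ} [Fact p.Prime] {R I : Subgroup G}
    (hR : (Cfsg.pCore p (normalizer (R : Set G))).map (normalizer (R : Set G)).subtype = R)
    (hI : ∀ T : Sylow p G, R ≤ (T : Subgroup G) → I ≤ (T : Subgroup G)) : I ≤ R := by
  set N := normalizer (R : Set G) with hN
  have hRp : IsPGroup p R := hR ▸ (H1.isPGroup_pCore p N).map _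
  set D := sInf {K : Subgroup G | ∃ T : Sylow p G, R ≤ (T : Subgroup G) ∧ K = T} with hD
  have hID : I ≤ D := le_sInf (by rintro _ ⟨T, hT, rfl⟩; exact hI T hT)
  have hRD : R ≤ D := le_sInf (by rintro _ ⟨T, hT, rfl⟩; exact hT)
  have hDp : IsPGroup p D := by
    obtain ⟨T, hT⟩ := hRp.exists_le_sylow
    exact T.isPGroup'.to_le (sInf_le ⟨T, hT, rfl⟩)
  have hDN : D ⊓ N ≤ R := by
    intro x hx
    rw [← hR]
    refine ⟨⟨x, hx.2⟩, ?_, rfl⟩
    show (⟨x, hx.2⟩ : N) ∈ Cfsg.pCore p N
    rw [H1.pCore_eq_iInf_sylow p, mem_iInf]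
    intro S
    obtain ⟨T, hT⟩ := S.exists_comap_subtype_eq
    have hRT : R ≤ (T : Subgroup G) := by
      intro y hy
      have hn : (R.subgroupOf N).Normal := normal_in_normalizer
      have h1 : (⟨y, le_normalizer hy⟩ : N) ∈ (S : Subgroup N) :=
        (show IsPGroup p (R.subgroupOf N) from hRp.comap_subtype).le_sylow_of_normal S hy
      rw [← hT] at h1
      exact h1
    rw [← hT]
    exact (sInf_le ⟨T, hRT, rfl⟩ : D ≤ T) hx.1
  rcases hRD.lt_or_eq with hlt | heq
  · exact absurd hDN (lt_inf_normalizer_of_pgroup hDp hlt).not_ge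
  · exact hID.trans heq.ge

/-- `Q` is a Sylow `p`-subgroup of the subgroup `M`. -/
def IsSylIn (p : ℕ) (M Q : Subgroup G) : Prop :=
  Q ≤ M ∧ IsPGroup p Q ∧ ∀ R : Subgroup G, R ≤ M → IsPGroup p R → Q ≤ R → R = Q

theorem isSylIn_map {p : ℕ} {M : Subgroup G} (P : Sylow p M) :
    IsSylIn p M ((P : Subgroup M).map M.subtype) := by
  refine ⟨map_subtype_le _, P.isPGroup'.map _, fun R hRM hR hle => ?_⟩
  have h1 : (P : Subgroup M) ≤ R.subgroupOf M := map_le_iff_le_comap.mp hle
  have h2 := P.3 (hR.comap_subtype (K := M)) h1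
  rw [← h2]
  show R = (R.subgroupOf M).map M.subtype
  rw [subgroupOf_map_subtype, inf_eq_left.mpr hRM]

theorem exists_sylow_of_isSylIn {p : ℕ} {M Q : Subgroup G} (h : IsSylIn p M Q) :
    ∃ P : Sylow p M, (P : Subgroup M).map M.subtype = Q := by
  refine ⟨⟨Q.subgroupOf M, h.2.1.comap_subtype, fun {R} hR hle => ?_⟩, ?_⟩
  · have h1 := h.2.2 (R.map M.subtype) (map_subtype_le _) (hR.map _) (by
      calc Q = (Q.subgroupOf M).map M.subtype := by rw [subgroupOf_map_subtype, inf_eq_left.mpr h.1]
        _ ≤ _ := map_mono hle)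
    rw [← h1]
    exact (comap_map_eq_self_of_injective M.subtype_injective R).symm
  · show (Q.subgroupOf M).map M.subtype = Q
    rw [subgroupOf_map_subtype, inf_eq_left.mpr h.1]

section Counting

variable [Finite G] (p : ℕ)

open Classical in
/-- The number of elements of `M` in the subnormalizer of `H`. -/
noncomputable def snCount (M H : Subgroup G) : ℤ :=
  letI := Fintype.ofFinite G
  ∑ g ∈ Finset.univ.filter (· ∈ M), if InSN p H g then 1 else 0

open Classical in
/-- The sum of the orders of the normalizers in `M` of its Sylow subgroups containing `H`. -/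
noncomputable def sylSum (M H : Subgroup G) : ℤ :=
  letI := Fintype.ofFinite (Subgroup G)
  ∑ Q ∈ Finset.univ.filter (fun Q => IsSylIn p M Q ∧ H ≤ Q),
    (Nat.card ↥(M ⊓ normalizer (Q : Set G)) : ℤ)

theorem sylSum_bot [Fact p.Prime] (M : Subgroup G) : sylSum p M ⊥ = Nat.card M := by
  classical
  let _ := Fintype.ofFinite (Subgroup G)
  let _ := Fintype.ofFinite (Sylow p M)
  unfold sylSum
  have hbij : ∑ Q ∈ Finset.univ.filter (fun Q => IsSylIn p M Q ∧ (⊥ : Subgroup G) ≤ Q),
      (Nat.card ↥(M ⊓ normalizer (Q : Set G)) : ℤ) =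
      ∑ P : Sylow p M, (Nat.card ↥(normalizer ((P : Subgroup M) : Set M)) : ℤ) := by
    symm
    refine Finset.sum_bij (fun P _ => (P : Subgroup M).map M.subtype) ?_ ?_ ?_ ?_
    · intro P _
      simp [isSylIn_map P]
    · intro P _ P' _ h
      exact Sylow.ext (map_injective M.subtype_injective h)
    · intro Q hQ
      obtain ⟨P, hP⟩ := exists_sylow_of_isSylIn (Finset.mem_filter.mp hQ).2.1
      exact ⟨P, Finset.mem_univ _, hP⟩
    · intro P _
      have : normalizer ((P : Subgroup M) : Set M) =
          (M ⊓ normalizer (((P : Subgroup M).map M.subtype : Subgroup G) : Set G)).subgroupOf M := by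
        ext m
        simp only [mem_subgroupOf, mem_inf, SetLike.coe_mem, true_and, mem_normalizer_iff]
        constructor
        · intro h x
          constructor
          · rintro ⟨y, hy, rfl⟩
            exact ⟨_, (h y).mp hy, by simp⟩
          · rintro ⟨y, hy, hxy⟩
            refine ⟨m⁻¹ * y * m, (h _).mpr (by simpa [mul_assoc] using (show y ∈ (P : Subgroup M) from hy)), ?_⟩
            simp only [coe_subtype, Subgroup.coe_mul, Subgroup.coe_inv] at hxy ⊢
            rw [hxy]
            group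
        · intro h y
          constructor
          · intro hy
            obtain ⟨z, hz, hzy⟩ := (h y).mp ⟨y, hy, rfl⟩
            have : z = m * y * m⁻¹ := Subtype.ext hzy
            exact this ▸ hz
          · intro hy
            obtain ⟨z, hz, hzy⟩ := (h y).mpr ⟨_, hy, by simp⟩
            have : z = y := Subtype.ext hzy
            exact this ▸ hz
      rw [this, Nat.card_congr (subgroupOfEquivOfLe inf_le_left).toEquiv]
  rw [hbij]
  obtain ⟨P₀⟩ := (inferInstance : Nonempty (Sylow p M))
  have hconst : ∀ P : Sylow p M, Nat.card ↥(normalizer ((P : Subgroup M) : Set M)) *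
      Fintype.card (Sylow p M) = Nat.card M := by
    intro P
    rw [← Nat.card_eq_fintype_card, P.card_eq_index_normalizer]
    exact card_mul_index _
  have hpos : 0 < Fintype.card (Sylow p M) := Fintype.card_pos
  rw [Finset.sum_congr rfl (g := fun _ =>
    (Nat.card ↥(normalizer ((P₀ : Subgroup M) : Set M)) : ℤ)) fun P _ => by
      exact_mod_cast Nat.eq_of_mul_eq_mul_right hpos ((hconst P).trans (hconst P₀).symm)]
  rw [Finset.sum_const, nsmul_eq_mul, ← hconst P₀, Finset.card_univ]
  push_cast
  ring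

theorem snCount_eq_sylSum [hp : Fact p.Prime] :
    ∀ H M : Subgroup G, H ≤ M → snCount p M H = sylSum p M H := by
  classical
  let _ := Fintype.ofFinite G
  let _ := Fintype.ofFinite (Subgroup G)
  let _ : LocallyFiniteOrder (Subgroup G) := Fintype.toLocallyFiniteOrder
  intro H
  induction H using (wellFounded_gt (α := Subgroup G)).induction with
  | _ H ih =>
  intro M hHM
  by_cases hH : IsPGroup p H
  swap
  · unfold snCount sylSum
    rw [Finset.sum_eq_zero, Finset.sum_eq_zero]
    · intro Q hQ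
      obtain ⟨-, h1, h2⟩ := Finset.mem_filter.mp hQ
      exact absurd (h1.2.1.to_le h2) hH
    · intro g _
      rw [if_neg]
      rintro ⟨R, hR, hle, -⟩
      exact hH (hR.to_le hle)
  have hcount : ∀ L : Subgroup G, (∀ g ∈ L, InSN p H g ↔ g ∈ normalizer (H : Set G)) →
      snCount p L H = Nat.card ↥(L ⊓ normalizer (H : Set G)) := by
    intro L hL
    unfold snCount
    rw [Finset.sum_boole, Nat.card_eq_fintype_card, Fintype.card_subtype]
    congr 2
    ext g
    simp only [Finset.mem_filter, Finset.mem_univ, true_and, mem_inf]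
    exact ⟨fun h => ⟨h.1, (hL g h.1).mp h.2⟩, fun h => ⟨h.1, (hL g h.1).mpr h.2⟩⟩
  by_cases hsyl : IsSylIn p M H
  · rw [hcount M fun g hgM => ⟨?_, fun hg => ⟨H, hH, le_rfl, hg⟩⟩]
    · unfold sylSum
      rw [Finset.sum_eq_single_of_mem H (by simp [hsyl])]
      intro Q hQ hne
      obtain ⟨-, h1, h2⟩ := Finset.mem_filter.mp hQ
      exact absurd (hsyl.2.2 Q h1.1 h1.2.1 h2) hne
    · rintro ⟨R, hR, hle, hg⟩
      have h1 := hsyl.2.2 (R ⊓ M) inf_le_right hR.to_inf_left (le_inf hle hHM)
      rw [← h1]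
      rw [mem_normalizer_iff] at hg ⊢
      intro x
      simp only [mem_inf]
      constructor
      · exact fun hx => ⟨(hg x).mp hx.1, M.mul_mem (M.mul_mem hgM hx.2) (M.inv_mem hgM)⟩
      · exact fun hx => ⟨(hg x).mpr hx.1, by
          simpa [mul_assoc] using M.mul_mem (M.mul_mem (M.inv_mem hgM) hx.2) hgM⟩
  set N := M ⊓ normalizer (H : Set G) with hN
  have hHN : H ≤ N := le_inf hHM le_normalizer
  have hsylN : ¬ IsSylIn p N H := by
    intro h
    apply hsyl
    refine ⟨hHM, hH, fun R hRM hR hle => ?_⟩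
    by_contra hne
    have hlt := lt_inf_normalizer_of_pgroup hR (lt_of_le_of_ne hle (Ne.symm hne))
    exact hlt.ne' (h.2.2 _ (inf_le_inf_right _ hRM) hR.to_inf_left hlt.le)
  let μ : Subgroup G → ℤ := fun R => IncidenceAlgebra.mu ℤ H R
  have hμ : ∀ S, ∑ R ∈ Finset.Icc H S, μ R = if H = S then 1 else 0 :=
    fun S => IncidenceAlgebra.sum_Icc_mu_right H S
  have hμH : μ H = 1 := IncidenceAlgebra.mu_self H
  -- the alternating sum of `sylSum` vanishes
  have hsylzero : ∀ L : Subgroup G, H ≤ L → ¬ IsSylIn p L H →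
      ∑ R ∈ Finset.Icc H L, μ R * sylSum p L R = 0 := by
    intro L _ hL
    unfold sylSum
    simp only [Finset.mul_sum]
    rw [Finset.sum_comm' (t' := Finset.univ.filter (fun Q => IsSylIn p L Q))
      (s' := fun Q => Finset.Icc H Q)]
    · refine Finset.sum_eq_zero fun Q hQ => ?_
      rw [← Finset.sum_mul, hμ, if_neg, zero_mul]
      rintro rfl
      exact hL (Finset.mem_filter.mp hQ).2
    · intro R Q
      simp only [Finset.mem_Icc, Finset.mem_filter, Finset.mem_univ, true_and]
      constructor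
      · rintro ⟨⟨h1, -⟩, h2, h3⟩
        exact ⟨⟨h1, h3⟩, h2⟩
      · rintro ⟨⟨h1, h3⟩, h2⟩
        exact ⟨⟨h1, h3.trans h2.1⟩, h2, h3⟩
  -- the Möbius function lives on the normalizer
  have hμzero : ∀ R : Subgroup G, IsPGroup p R → ¬ R ≤ normalizer (H : Set G) → μ R = 0 := by
    intro R
    induction R using (wellFounded_lt (α := Subgroup G)).induction with
    | _ R ihR =>
      intro hR hRn
      by_cases hle : H ≤ R
      swap
      · exact IncidenceAlgebra.apply_eq_zero_of_not_le hle _
      have hne : H ≠ R := fun e => hRn (e ▸ le_normalizer)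
      set R₀ := R ⊓ normalizer (H : Set G) with hR₀
      have hlt : H < R₀ := lt_inf_normalizer_of_pgroup hR (lt_of_le_of_ne hle hne)
      have h1 := hμ R
      rw [if_neg hne, ← Finset.sum_sdiff (Finset.Icc_subset_Icc_right
        (inf_le_left : R₀ ≤ R)), hμ R₀, if_neg hlt.ne, add_zero] at h1
      rwa [Finset.sum_eq_single_of_mem R] at h1
      · simp only [Finset.mem_sdiff, Finset.mem_Icc]
        exact ⟨⟨hle, le_rfl⟩, fun h => hRn (h.2.trans inf_le_right)⟩
      · intro T hT hTR
        simp only [Finset.mem_sdiff, Finset.mem_Icc, not_and] at hT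
        exact ihR T (lt_of_le_of_ne hT.1.2 hTR) (hR.to_le hT.1.2)
          fun h => hT.2 hT.1.1 (le_inf hT.1.2 h)
  -- the alternating sum of `snCount` does not see the outside of the normalizer
  have htransfer : ∑ R ∈ Finset.Icc H M, μ R * snCount p M R =
      ∑ R ∈ Finset.Icc H N, μ R * snCount p N R := by
    unfold snCount
    simp only [Finset.mul_sum]
    rw [Finset.sum_comm, Finset.sum_comm (s := Finset.Icc H N)]
    have hsub : Finset.univ.filter (fun g => g ∈ N) ⊆ Finset.univ.filter (fun g => g ∈ M) := by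
      intro g
      simp only [Finset.mem_filter, Finset.mem_univ, true_and]
      exact fun h => h.1
    rw [← Finset.sum_sdiff hsub]
    rw [Finset.sum_eq_zero fun g hg => ?_, zero_add]
    · refine Finset.sum_congr rfl fun g _ => (Finset.sum_subset
        (Finset.Icc_subset_Icc_right inf_le_left) fun R hRM hRN => ?_).symm
      simp only [Finset.mem_Icc, not_and] at hRM hRN
      split_ifs with hsn
      · obtain ⟨T, hT, hRT, -⟩ := hsn
        rw [mul_one]
        exact hμzero R (hT.to_le hRT) fun h => hRN hRM.1 (le_inf hRM.2 h)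
      · exact mul_zero _
    · simp only [Finset.mem_sdiff, Finset.mem_filter, Finset.mem_univ, true_and] at hg
      obtain ⟨hgM, hgN⟩ := hg
      set E := sInf {T : Subgroup G | IsPGroup p T ∧ H ≤ T ∧ g ∈ normalizer (T : Set G)} ⊓ M with hE
      have hHE : H < E := by
        refine lt_of_le_of_ne (le_inf (le_sInf fun T hT => hT.2.1) hHM) fun e => hgN ⟨hgM, (?_ : g ∈ normalizer (H : Set G))⟩
        rw [e, mem_normalizer_iff]
        intro x
        simp only [hE, mem_inf, mem_sInf]
        constructor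
        · exact fun hx => ⟨fun T hT => (mem_normalizer_iff.mp hT.2.2 x).mp (hx.1 T hT),
            M.mul_mem (M.mul_mem hgM hx.2) (M.inv_mem hgM)⟩
        · exact fun hx => ⟨fun T hT => (mem_normalizer_iff.mp hT.2.2 x).mpr (hx.1 T hT), by
            simpa [mul_assoc] using M.mul_mem (M.mul_mem (M.inv_mem hgM) hx.2) hgM⟩
      have weisner : ∀ S : Subgroup G,
          ∑ R ∈ (Finset.Icc H S).filter (fun R => R ⊔ E = S), μ R = 0 := by
        intro S
        induction S using (wellFounded_lt (α := Subgroup G)).induction with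
        | _ S ihS =>
          by_cases hES : E ≤ S
          swap
          · refine Finset.sum_eq_zero fun R hR => ?_
            exact absurd ((Finset.mem_filter.mp hR).2 ▸ le_sup_right) hES
          have h1 := hμ S
          rw [if_neg fun e : H = S => (hHE.trans_le hES).ne e,
            ← Finset.sum_fiberwise_of_maps_to (g := fun R => R ⊔ E) (t := Finset.Icc E S)
              (fun R hR => Finset.mem_Icc.mpr ⟨le_sup_right,
                sup_le (Finset.mem_Icc.mp hR).2 hES⟩),
            Finset.sum_eq_single_of_mem S (Finset.mem_Icc.mpr ⟨hES, le_rfl⟩)] at h1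
          · exact h1
          · intro T hT hne
            rw [show (Finset.Icc H S).filter (fun R => R ⊔ E = T) =
              (Finset.Icc H T).filter (fun R => R ⊔ E = T) from ?_]
            · exact ihS T (lt_of_le_of_ne (Finset.mem_Icc.mp hT).2 hne)
            ext R
            simp only [Finset.mem_filter, Finset.mem_Icc]
            exact ⟨fun h => ⟨⟨h.1.1, h.2 ▸ le_sup_left⟩, h.2⟩,
              fun h => ⟨⟨h.1.1, h.1.2.trans (Finset.mem_Icc.mp hT).2⟩, h.2⟩⟩
      rw [← Finset.sum_fiberwise_of_maps_to (g := fun R => R ⊔ E) (t := Finset.Icc E M)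
        (fun R hR => Finset.mem_Icc.mpr ⟨le_sup_right, sup_le (Finset.mem_Icc.mp hR).2 inf_le_right⟩)]
      refine Finset.sum_eq_zero fun S hS => ?_
      have hsame : ∀ R ∈ (Finset.Icc H M).filter (fun R => R ⊔ E = S),
          μ R * (if InSN p R g then (1 : ℤ) else 0) = μ R * (if InSN p S g then (1 : ℤ) else 0) := by
        intro R hR
        simp only [Finset.mem_filter, Finset.mem_Icc] at hR
        have hiff : InSN p R g ↔ InSN p S g := by
          constructor
          · rintro ⟨T, hT, hRT, hgT⟩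
            refine ⟨T, hT, hR.2 ▸ sup_le hRT (inf_le_left.trans ?_), hgT⟩
            exact sInf_le ⟨hT, hR.1.1.trans hRT, hgT⟩
          · rintro ⟨T, hT, hST, hgT⟩
            exact ⟨T, hT, le_trans (hR.2 ▸ le_sup_left) hST, hgT⟩
        simp only [hiff]
      rw [Finset.sum_congr rfl hsame, ← Finset.sum_mul]
      rw [show (Finset.Icc H M).filter (fun R => R ⊔ E = S) =
        (Finset.Icc H S).filter (fun R => R ⊔ E = S) from ?_, weisner S, zero_mul]
      ext R
      simp only [Finset.mem_filter, Finset.mem_Icc]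
      exact ⟨fun h => ⟨⟨h.1.1, h.2 ▸ le_sup_left⟩, h.2⟩,
        fun h => ⟨⟨h.1.1, h.1.2.trans (Finset.mem_Icc.mp hS).2⟩, h.2⟩⟩
  -- conclude
  have hsplit : ∀ L : Subgroup G, H ≤ L → ¬ IsSylIn p L H →
      ∑ R ∈ Finset.Icc H L, μ R * snCount p L R = snCount p L H - sylSum p L H := by
    intro L hHL hL
    have h0 := hsylzero L hHL hL
    have hmem : H ∈ Finset.Icc H L := Finset.mem_Icc.mpr ⟨le_rfl, hHL⟩
    rw [← Finset.add_sum_erase _ _ hmem, hμH, one_mul] at h0 ⊢
    have h2 : ∑ R ∈ (Finset.Icc H L).erase H, μ R * snCount p L R =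
        ∑ R ∈ (Finset.Icc H L).erase H, μ R * sylSum p L R := by
      refine Finset.sum_congr rfl fun R hR => ?_
      obtain ⟨hne, hR⟩ := Finset.mem_erase.mp hR
      rw [Finset.mem_Icc] at hR
      rw [ih R (lt_of_le_of_ne hR.1 (Ne.symm hne)) L hR.2]
    linarith
  have hN0 : snCount p N H = sylSum p N H := by
    rw [hcount N fun g hg => ⟨fun _ => hg.2, fun h => ⟨H, hH, le_rfl, h⟩⟩,
      show N ⊓ normalizer (H : Set G) = N from inf_eq_left.mpr inf_le_right, ← sylSum_bot p N]
    unfold sylSum
    refine Finset.sum_congr ?_ fun _ _ => rfl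
    ext Q
    simp only [Finset.mem_filter, Finset.mem_univ, true_and, bot_le, and_true]
    refine ⟨fun h => ⟨h, ?_⟩, fun h => h.1⟩
    have hn : (H.subgroupOf N).Normal := normal_subgroupOf_of_le_normalizer inf_le_right
    obtain ⟨P, rfl⟩ := exists_sylow_of_isSylIn h
    exact fun x hx => ⟨⟨x, hHN hx⟩, (show IsPGroup p (H.subgroupOf N) from hH.comap_subtype).le_sylow_of_normal P hx, rfl⟩
  rw [hsplit M hHM hsyl, hsplit N hHN hsylN, hN0, sub_self, sub_eq_zero] at htransfer
  exact htransfer

end Counting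

/-- Counting the elements moving a point into a subset of its orbit. -/
theorem card_smul_mem {X : Type*} [MulAction G X] [Finite G] (x : X) (T : Set X)
    (hT : T ⊆ MulAction.orbit G x) :
    Nat.card {g : G // g • x ∈ T} = Nat.card T * Nat.card (MulAction.stabilizer G x) := by
  choose f hf using fun t : T => hT t.2
  simp only at hf
  rw [← Nat.card_prod]
  refine (Nat.card_congr (Equiv.ofBijective
    (fun q : T × MulAction.stabilizer G x => (⟨f q.1 * q.2, by
      rw [mul_smul, MulAction.mem_stabilizer_iff.mp q.2.2, hf]; exact q.1.2⟩ :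
      {g : G // g • x ∈ T})) ⟨?_, ?_⟩)).symm
  · rintro ⟨t, s⟩ ⟨t', s'⟩ h
    have h1 : f t * (s : G) = f t' * s' := congrArg Subtype.val h
    have h2 : t = t' := by
      apply Subtype.ext
      rw [← hf t, ← hf t']
      have := congrArg (· • x) h1
      simpa [mul_smul, MulAction.mem_stabilizer_iff.mp s.2, MulAction.mem_stabilizer_iff.mp s'.2]
        using this
    subst h2
    exact Prod.ext rfl (Subtype.ext (mul_left_cancel h1))
  · rintro ⟨g, hg⟩
    refine ⟨(⟨g • x, hg⟩, ⟨(f ⟨g • x, hg⟩)⁻¹ * g, ?_⟩), Subtype.ext (mul_inv_cancel_left _ _)⟩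
    rw [MulAction.mem_stabilizer_iff, mul_smul, inv_smul_eq_iff]
    exact (hf ⟨g • x, hg⟩).symm

end H36
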