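import Cfsg.Agent.H32.SylowCount
import Cfsg.Agent.H62.Intersect
import Mathlib

/-!
No finite group has exactly 35 Sylow 17-subgroups.
-/

set_option autoImplicit false

namespace H36

open MulAction

universe u

variable {S : Type u} [Group S] [Finite S]

instance seventeenPrimeFact : Fact (Nat.Prime 17) := ⟨by norm_num⟩

theorem orbit_card_thirtyFive (h : Nat.card (Sylow 17 S) = 35) (P R : Sylow 17 S) (hne : R ≠ P) :
    Nat.card (orbit (P : Subgroup S) R) = 17 ∧
      ((R : Subgroup S).subgroupOf (P : Subgroup S)).index = 17 := by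
  rw [H62.card_orbit_sylow P R]
  refine ⟨?_, ?_⟩ <;>
  · obtain ⟨j, hj⟩ := P.isPGroup'.index ((R : Subgroup S).subgroupOf (P : Subgroup S))
    have hle : ((R : Subgroup S).subgroupOf (P : Subgroup S)).index ≤ 35 := by
      rw [← H62.card_orbit_sylow, ← h]
      exact Nat.card_le_card_of_injective _ Subtype.val_injective
    rw [hj] at hle ⊢
    have hj2 : j < 2 := by
      by_contra hc
      have : 17 ^ 2 ≤ 17 ^ j := Nat.pow_le_pow_right (by norm_num) (not_lt.mp hc)
      omega
    interval_cases j
    · exfalso
      rw [pow_zero, Subgroup.index_eq_one, Subgroup.subgroupOf_eq_top] at hj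
      exact hne (Sylow.ext (P.3 R.isPGroup' hj))
    · rfl

theorem notMem_orbit_self (P R : Sylow 17 S) (hne : R ≠ P) : P ∉ orbit (P : Subgroup S) R := by
  rintro ⟨x, hx⟩
  apply hne
  have h : (x : S) • P = P := Sylow.smul_eq_iff_mem_normalizer.mpr (Subgroup.le_normalizer x.2)
  exact MulAction.injective (x : S) ((show (x : S) • R = P from hx).trans h.symm)

/-- There are only two orbits on the other Sylow subgroups. -/
theorem mem_orbit_of_not_mem (h : Nat.card (Sylow 17 S) = 35) (P A B C : Sylow 17 S) (hA : A ≠ P)
    (hB : B ≠ P) (hC : C ≠ P) (hBA : B ∉ orbit (P : Subgroup S) A)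
    (hCB : C ∉ orbit (P : Subgroup S) B) : C ∈ orbit (P : Subgroup S) A := by
  by_contra hCA
  classical
  have hcard : ∀ R, R ≠ P → (orbit (P : Subgroup S) R).ncard = 17 := fun R hR => by
    rw [← Nat.card_coe_set_eq]; exact (orbit_card_thirtyFive h P R hR).1
  have hdisj : ∀ X Y : Sylow 17 S, Y ∉ orbit (P : Subgroup S) X →
      Disjoint (orbit (P : Subgroup S) X) (orbit (P : Subgroup S) Y) := by
    intro X Y hY
    rw [Set.disjoint_left]
    intro Z hZX hZY
    apply hY
    rw [← orbit_eq_iff] at hZX hZY
    rw [← hZX, hZY]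
    exact mem_orbit_self (M := (P : Subgroup S)) Y
  have hle := Set.ncard_le_ncard (Set.subset_univ
    (orbit (P : Subgroup S) A ∪ orbit (P : Subgroup S) B ∪ orbit (P : Subgroup S) C))
  rw [Set.ncard_univ, h, Set.ncard_union_eq (Set.disjoint_union_left.mpr ⟨hdisj A C hCA, hdisj B C hCB⟩),
    Set.ncard_union_eq (hdisj A B hBA), hcard A hA, hcard B hB, hcard C hC] at hle
  omega

variable [IsSimpleGroup S]

theorem not_comm_thirtyFive (h : Nat.card (Sylow 17 S) = 35) : ¬ IsMulCommutative S := by
  intro hc
  obtain ⟨P⟩ : Nonempty (Sylow 17 S) := inferInstance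
  have hn : (P : Subgroup S).Normal := ⟨fun n hn g => by
    rwa [hc.1.comm g n, mul_inv_cancel_right]⟩
  have : Unique (Sylow 17 S) := Sylow.unique_of_normal P hn
  rw [Nat.card_unique] at h
  omega

theorem faithful_thirtyFive (h : Nat.card (Sylow 17 S) = 35) (g : S)
    (hg : ∀ R : Sylow 17 S, g • R = R) : g = 1 := by
  have hmem : g ∈ (toPermHom S (Sylow 17 S)).ker := MonoidHom.mem_ker.mpr (Equiv.ext hg)
  rcases ((toPermHom S (Sylow 17 S)).normal_ker).eq_bot_or_eq_top with h1 | h1
  · rw [h1] at hmem; exact Subgroup.mem_bot.mp hmem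
  · exfalso
    have hall : ∀ (x : S) (R : Sylow 17 S), x • R = R := fun x R => by
      have hx : x ∈ (toPermHom S (Sylow 17 S)).ker := by rw [h1]; exact Subgroup.mem_top x
      exact Equiv.ext_iff.mp (MonoidHom.mem_ker.mp hx) R
    have : Subsingleton (Sylow 17 S) := ⟨fun A B => by
      obtain ⟨x, hx⟩ := exists_smul_eq S A B
      rw [← hx, hall]⟩
    have := Finite.card_le_one_iff_subsingleton.mpr this
    omega

theorem card_sylow_eq_seventeen (h : Nat.card (Sylow 17 S) = 35) (P₀ : Sylow 17 S) :
    Nat.card (P₀ : Subgroup S) = 17 := by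
  classical
  have hS := not_comm_thirtyFive h
  obtain ⟨a, ha⟩ := P₀.isPGroup'.exists_card_eq
  have hd : Nat.card (P₀ : Subgroup S) ∣ Nat.card S := Subgroup.card_subgroup_dvd_card _
  obtain ⟨m, hm⟩ := hd
  rw [ha] at hm
  have hm17 : ¬ 17 ∣ m := by
    intro hdvd
    apply P₀.not_dvd_index
    have := (P₀ : Subgroup S).card_mul_index
    rw [ha, hm] at this
    rwa [Nat.eq_of_mul_eq_mul_left (Nat.pow_pos (by norm_num)) this]
  have ha2 : a < 2 := by
    by_contra ha2
    obtain ⟨P, R, hne, hcard, hP, hR⟩ := H62.exists_inter_normalizer (p := 17) (G := S) (by rw [h]; decide)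
    set D : Subgroup S := (P : Subgroup S) ⊓ (R : Subgroup S) with hD
    set M := Subgroup.normalizer (D : Set S) with hM
    set N := Subgroup.normalizer ((P : Subgroup S) : Set S) with hN
    have hNidx : N.index = 35 := P.card_eq_index_normalizer.symm.trans h
    -- the conjugates of `D` under `N`
    let F : Sylow 17 S → Subgroup S := fun R' => (P : Subgroup S) ⊓ (R' : Subgroup S)
    have hFconst : ∀ R', R' ≠ P → ∀ x : (P : Subgroup S), F ((x : S) • R') = F R' := by
      intro R' hR' x
      have hnor : (P : Subgroup S) ≤ Subgroup.normalizer ((F R' : Subgroup S) : Set S) := by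
        refine H62.le_normalizer_of_index (p := 17) P.isPGroup' inf_le_left ?_
        rw [Subgroup.inf_subgroupOf_left]
        exact (orbit_card_thirtyFive h P R' hR').2
      have hx := hnor x.2
      have hxP : (x : S) ∈ N := Subgroup.le_normalizer x.2
      rw [Subgroup.mem_normalizer_iff_map_conj_eq] at hx
      rw [hN, Subgroup.mem_normalizer_iff_map_conj_eq] at hxP
      conv_rhs => rw [← hx]
      simp only [F, Sylow.coe_subgroup_smul]
      rw [Subgroup.map_inf _ _ _ (MulAut.conj (x : S)).injective, hxP, Subgroup.pointwise_smul_def]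
      rfl
    have : Fintype (Sylow 17 S) := Fintype.ofFinite _
    let others : Finset (Sylow 17 S) := Finset.univ.erase P
    have himg : (others.image F).card ≤ 2 := by
      have h1 : 17 * (others.image F).card ≤ others.card := by
        refine Finset.mul_card_image_le_card _ _ fun D' hD' => ?_
        obtain ⟨R', hR', rfl⟩ := Finset.mem_image.mp hD'
        have hR'P : R' ≠ P := Finset.ne_of_mem_erase hR'
        refine le_trans (orbit_card_thirtyFive h P R' hR'P).1.ge ?_
        rw [Nat.card_eq_fintype_card, ← Set.toFinset_card]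
        refine Finset.card_le_card fun Z hZ => ?_
        rw [Set.mem_toFinset] at hZ
        obtain ⟨x, rfl⟩ := hZ
        exact Finset.mem_filter.mpr ⟨Finset.mem_erase.mpr
          ⟨fun e => notMem_orbit_self P R' hR'P ⟨x, e⟩, Finset.mem_univ _⟩, hFconst R' hR'P x⟩
      have h2 : others.card = 34 := by
        rw [Finset.card_erase_of_mem (Finset.mem_univ _), Finset.card_univ, ← Nat.card_eq_fintype_card, h]
      omega
    have ht : (M ⊓ N).relIndex N ≤ 2 := by
      let φ : N ⧸ (M ⊓ N).subgroupOf N → {D' // D' ∈ others.image F} :=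
        Quotient.lift (fun n : N => ⟨D.map (MulAut.conj (n : S)).toMonoidHom, by
          refine Finset.mem_image.mpr ⟨(n : S) • R, Finset.mem_erase.mpr ⟨fun e => hne.symm ?_,
            Finset.mem_univ _⟩, ?_⟩
          · have hnP : (n : S) • P = P := Sylow.smul_eq_iff_mem_normalizer.mpr n.2
            exact MulAction.injective (n : S) (e.trans hnP.symm)
          · have hn : (n : S) ∈ Subgroup.normalizer ((P : Subgroup S) : Set S) := n.2
            rw [Subgroup.mem_normalizer_iff_map_conj_eq] at hn
            change Subgroup.map (MulAut.conj (n : S)).toMonoidHom _ = _ at hn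
            simp only [F, Sylow.coe_subgroup_smul, hD]
            rw [Subgroup.map_inf _ _ _ (MulAut.conj (n : S)).injective, hn, Subgroup.pointwise_smul_def]
            rfl⟩) (by
          intro n1 n2 h12
          have h12' := QuotientGroup.leftRel_apply.mp h12
          rw [Subgroup.mem_subgroupOf] at h12'
          have hm := h12'.1
          change _ ∈ Subgroup.normalizer (D : Set S) at hm
          rw [Subgroup.mem_normalizer_iff_map_conj_eq] at hm
          apply Subtype.ext
          show D.map (MulAut.conj (n1 : S)).toMonoidHom = D.map (MulAut.conj (n2 : S)).toMonoidHom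
          conv_lhs => rw [← hm, Subgroup.map_map]
          congr 1
          ext z
          simp [mul_assoc])
      have hφ : Function.Injective φ := by
        intro q1 q2
        refine Quotient.inductionOn₂ q1 q2 fun n1 n2 e => Quotient.sound ?_
        refine QuotientGroup.leftRel_apply.mpr (Subgroup.mem_subgroupOf.mpr ?_)
        refine ⟨?_, (n1⁻¹ * n2).2⟩
        change _ ∈ Subgroup.normalizer (D : Set S)
        rw [Subgroup.mem_normalizer_iff_map_conj_eq]
        have e' : D.map (MulAut.conj (n1 : S)).toMonoidHom = D.map (MulAut.conj (n2 : S)).toMonoidHom :=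
          congrArg Subtype.val e
        have := congrArg (Subgroup.map (MulAut.conj (n1 : S)⁻¹).toMonoidHom) e'
        rw [Subgroup.map_map, Subgroup.map_map] at this
        convert this.symm using 2
        · ext z; simp [mul_assoc]
        · ext z; simp [mul_assoc]
      have := Nat.card_le_card_of_injective φ hφ
      rw [Nat.card_eq_fintype_card (α := {D' // D' ∈ others.image F}), Fintype.card_coe] at this
      rw [Subgroup.relIndex, Subgroup.index]
      omega
    -- counting
    have hNM : (M ⊓ N).relIndex M = Nat.card (Sylow 17 M) := by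
      rw [(P.subtype hP).card_eq_index_normalizer, Subgroup.inf_relIndex_left, Subgroup.relIndex]
      congr 1
      exact Subgroup.subgroupOf_normalizer_eq hP
    have hd1 := H62.one_lt_card_sylow_of_two P R hne hP hR
    have hd17 := H62.card_sylow_mod (p := 17) (G := M)
    rw [← hNM] at hd1 hd17
    have hle35 : (M ⊓ N).relIndex M ≤ 35 := by
      rw [Subgroup.inf_relIndex_left, ← hNidx]
      rw [← Subgroup.relIndex_top_right]
      exact Subgroup.relIndex_le_of_le_right le_top
        (by rw [Subgroup.relIndex_top_right]; exact Subgroup.index_ne_zero_of_finite)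
    have hMtop : M ≠ ⊤ := by
      intro htop
      have : D.Normal := Subgroup.normalizer_eq_top_iff.1 htop
      rcases this.eq_bot_or_eq_top with h0 | h0
      · rw [h0, Subgroup.card_bot, H62.card_sylow_eq P P₀, ha] at hcard
        have := Nat.pow_le_pow_right (show 0 < 17 by norm_num) (not_lt.mp ha2)
        omega
      · apply hne
        apply Sylow.ext
        have hDP : D ≤ (P : Subgroup S) := inf_le_left
        have hDR : D ≤ (R : Subgroup S) := inf_le_right
        rw [h0, top_le_iff] at hDP hDR
        rw [hDP, hDR]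
    have e1 := Subgroup.relIndex_mul_index (inf_le_left : M ⊓ N ≤ M)
    have e2 := Subgroup.relIndex_mul_index (inf_le_right : M ⊓ N ≤ N)
    rw [hNidx, ← e1] at e2
    have hMi : 2 < M.index := by
      by_contra hcon
      have := H62.lt_index (n := 2) hS (by
        intro hdvd
        have h17 : 17 ∣ Nat.card S := hm ▸ (dvd_pow_self 17 (by omega)).mul_right m
        have := (h17.mul_left 2).trans hdvd
        norm_num [Nat.factorial] at this) M hMtop
      omega
    generalize (M ⊓ N).relIndex M = d at *
    generalize (M ⊓ N).relIndex N = t at *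
    generalize M.index = i at *
    have ht0 : t * 35 ≤ 70 := by omega
    interval_cases d <;> omega
  rw [ha]
  interval_cases a
  · exfalso
    have hbot : (P₀ : Subgroup S) = ⊥ := Subgroup.eq_bot_of_card_eq _ (by simpa using ha)
    have : (P₀ : Subgroup S).Normal := hbot ▸ inferInstance
    have : Unique (Sylow 17 S) := Sylow.unique_of_normal P₀ this
    rw [Nat.card_unique] at h
    omega
  · rfl

theorem no_simple_thirtyFive (h : Nat.card (Sylow 17 S) = 35) : False := by
  classical
  have hS := not_comm_thirtyFive h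
  obtain ⟨P⟩ : Nonempty (Sylow 17 S) := inferInstance
  have hP := card_sylow_eq_seventeen h P
  set C := Subgroup.centralizer ((P : Subgroup S) : Set S) with hC
  have hCP : ∀ u ∈ C, u • P = P := fun u hu =>
    Sylow.smul_eq_iff_mem_normalizer.mpr (Subgroup.centralizer_le_normalizer _ hu)
  have hne : ∀ (u : S), u ∈ C → ∀ R, R ≠ P → u • R ≠ P := fun u hu R hR e =>
    hR (MulAction.injective u (e.trans (hCP u hu).symm))
  -- `C` permutes the orbits of `P`
  have horb : ∀ (u : S), u ∈ C → ∀ R R' : Sylow 17 S, R' ∈ orbit (P : Subgroup S) R →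
      u • R' ∈ orbit (P : Subgroup S) (u • R) := by
    rintro u hu R _ ⟨x, rfl⟩
    refine ⟨x, ?_⟩
    show (x : S) • u • R = u • (x : S) • R
    rw [← mul_smul, ← mul_smul, Subgroup.mem_centralizer_iff.mp hu x x.2]
  have hpow : ∀ (x : S), x ∈ (P : Subgroup S) → x ^ 17 = 1 := fun x hx => by
    have h1 := pow_card_eq_one' (G := (P : Subgroup S)) (x := ⟨x, hx⟩)
    rw [hP] at h1
    exact congrArg Subtype.val h1
  have h34 : ∀ u ∈ C, u ^ 34 = 1 := by
    intro u hu
    refine faithful_thirtyFive h _ fun R => ?_
    by_cases hR : R = P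
    · rw [hR]; exact hCP _ (C.pow_mem hu _)
    have hu2 : u ^ 2 • R ∈ orbit (P : Subgroup S) R := by
      by_cases h1 : u • R ∈ orbit (P : Subgroup S) R
      · rw [pow_two, mul_smul]
        have := horb u hu R _ h1
        rw [← orbit_eq_iff] at this h1 ⊢
        rw [this, h1]
      · refine mem_orbit_of_not_mem h P R (u • R) (u ^ 2 • R) hR (hne u hu R hR)
          (hne _ (C.pow_mem hu 2) R hR) h1 ?_
        intro h2
        rw [pow_two, mul_smul] at h2
        obtain ⟨x, hx⟩ := h2
        apply h1
        refine ⟨x, ?_⟩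
        apply MulAction.injective u
        show u • (x : S) • R = u • u • R
        rw [← mul_smul, ← Subgroup.mem_centralizer_iff.mp hu x x.2, mul_smul]
        exact hx
    obtain ⟨⟨x, hx⟩, hxR⟩ := hu2
    have hxR' : x • R = u ^ 2 • R := hxR
    have hk : ∀ k : ℕ, (u ^ 2) ^ k • R = x ^ k • R := by
      intro k
      induction k with
      | zero => simp
      | succ k ih =>
        rw [pow_succ (u ^ 2), mul_smul, ← hxR', ← mul_smul,
          ← Subgroup.mem_centralizer_iff.mp (C.pow_mem (C.pow_mem hu 2) k) x hx, mul_smul, ih,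
          ← mul_smul, ← pow_succ']
    rw [show 34 = 2 * 17 from rfl, pow_mul, hk 17, hpow x hx, one_smul]
  have hC17 : ∀ u ∈ C, u ^ 17 = 1 := by
    intro u hu
    by_contra hu17
    set v := u ^ 17 with hv
    have hvC : v ∈ C := C.pow_mem hu 17
    have hv2 : v ^ 2 = 1 := by rw [hv, ← pow_mul]; exact h34 u hu
    have hfree : ∀ R, R ≠ P → v • R ≠ R := by
      intro R hR hvR
      apply hu17
      refine faithful_thirtyFive h v fun R' => ?_
      by_cases hR' : R' = P
      · rw [hR']; exact hCP v hvC
      by_cases hmem : R' ∈ orbit (P : Subgroup S) R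
      · obtain ⟨x, rfl⟩ := hmem
        show v • (x : S) • R = (x : S) • R
        rw [← mul_smul, ← Subgroup.mem_centralizer_iff.mp hvC x x.2, mul_smul, hvR]
      have h1 : v • R' ∈ orbit (P : Subgroup S) R' := by
        refine mem_orbit_of_not_mem h P R' R (v • R') hR' hR (hne v hvC R' hR')
          (fun hh => hmem ?_) (fun hh => hmem ?_)
        · exact (mem_orbit_symm).mp hh
        · obtain ⟨x, hx⟩ := hh
          refine ⟨x, ?_⟩
          apply MulAction.injective v
          show v • (x : S) • R = v • R'
          rw [← mul_smul, ← Subgroup.mem_centralizer_iff.mp hvC x x.2, mul_smul, hvR]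
          exact hx
      obtain ⟨⟨x, hx⟩, hxR⟩ := h1
      have hxR' : x • R' = v • R' := hxR
      have h2 : x ^ 2 • R' = R' := by
        calc x ^ 2 • R' = x • v • R' := by rw [pow_two, mul_smul, hxR']
          _ = v • v • R' := by rw [← mul_smul x, Subgroup.mem_centralizer_iff.mp hvC x hx, mul_smul, hxR']
          _ = R' := by rw [← mul_smul, ← pow_two, hv2, one_smul]
      obtain ⟨k, hk⟩ : ∃ k : ℕ, x = (x ^ 2) ^ k := ⟨9, by
        rw [← pow_mul, show 2 * 9 = 17 + 1 from rfl, pow_succ, hpow x hx, one_mul]⟩
      have hxfix : x • R' = R' := by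
        have hk' : ∀ k : ℕ, (x ^ 2) ^ k • R' = R' := fun k => by
          induction k with
          | zero => simp
          | succ k ih => rw [pow_succ, mul_smul, h2, ih]
        rw [hk]; exact hk' k
      rw [← hxR', hxfix]
    have : Fintype (Sylow 17 S) := Fintype.ofFinite _
    set φ := toPermHom S (Sylow 17 S)
    have hsupp : (φ v).support = Finset.univ.erase P := by
      ext R
      rw [Equiv.Perm.mem_support, Finset.mem_erase]
      exact ⟨fun h => ⟨fun h' => h (h' ▸ hCP v hvC), Finset.mem_univ _⟩, fun h => hfree R h.1⟩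
    have hord : orderOf (φ v) = 2 := by
      have : Fact (Nat.Prime 2) := ⟨Nat.prime_two⟩
      refine orderOf_eq_prime (by rw [← map_pow, hv2, map_one]) fun e => ?_
      rw [e, Equiv.Perm.support_one] at hsupp
      have h2 := congrArg Finset.card hsupp
      rw [Finset.card_empty, Finset.card_erase_of_mem (Finset.mem_univ _), Finset.card_univ,
        ← Nat.card_eq_fintype_card, h] at h2
      omega
    obtain ⟨n, hn⟩ := Equiv.Perm.cycleType_prime_order (σ := φ v) (by rw [hord]; exact Nat.prime_two)
    have hsum := (φ v).sum_cycleType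
    rw [hsupp, Finset.card_erase_of_mem (Finset.mem_univ _), Finset.card_univ,
      ← Nat.card_eq_fintype_card, h, hn, Multiset.sum_replicate, hord, smul_eq_mul] at hsum
    have hsign : Equiv.Perm.sign (φ v) = -1 := by
      rw [Equiv.Perm.sign_of_cycleType, hn, Multiset.sum_replicate, Multiset.card_replicate, hord,
        smul_eq_mul, show n = 16 by omega]
      decide
    set s := Equiv.Perm.sign.comp φ
    rcases (s.normal_ker).eq_bot_or_eq_top with hb | hb
    · apply hS
      refine ⟨⟨fun a b => ?_⟩⟩
      refine (MonoidHom.ker_eq_bot_iff s).mp hb ?_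
      rw [map_mul, map_mul, mul_comm]
    · have h2 : v ∈ s.ker := hb ▸ Subgroup.mem_top v
      rw [MonoidHom.mem_ker] at h2
      exact absurd (hsign.symm.trans h2) (by decide)
  -- so `C` is a `17`-group
  have hCeq : C = (P : Subgroup S) := by
    refine P.3 (fun u => ⟨1, Subtype.ext (by simpa using hC17 u u.2)⟩) (fun x hx => ?_)
    have hcyc : IsCyclic (P : Subgroup S) := isCyclic_of_prime_card hP
    exact Subgroup.mem_centralizer_iff.mpr fun y hy => congrArg Subtype.val
      ((IsCyclic.commGroup (α := (P : Subgroup S))).mul_comm ⟨y, hy⟩ ⟨x, hx⟩)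
  set N := Subgroup.normalizer ((P : Subgroup S) : Set S) with hN
  have hNidx : N.index = 35 := P.card_eq_index_normalizer.symm.trans h
  have hrel := H62.relIndex_centralizer_dvd_prime (p := 17) (P : Subgroup S) hP
  rw [← hC, hCeq, ← hN] at hrel
  set e := (P : Subgroup S).relIndex N with he
  have hScard : Nat.card S = 35 * 17 * e := by
    have h1 := Subgroup.relIndex_mul_index (P : Subgroup S).le_normalizer
    rw [← hN, ← he, hNidx] at h1
    rw [← (P : Subgroup S).card_mul_index, hP, ← h1]
    ring
  have hdiv : e ∈ Nat.divisors 16 := Nat.mem_divisors.mpr ⟨hrel, by norm_num⟩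
  by_cases he1 : e = 1
  · have hmf : (Nat.card S).minFac = 5 := by rw [hScard, he1]; norm_num
    have : Fact (Nat.Prime 5) := ⟨by norm_num⟩
    refine H62.not_isCyclic_sylow_minFac hS hmf default (isCyclic_of_prime_card (p := 5) ?_)
    exact H62.card_sylow_coe (a := 1) (m := 119) (by rw [hScard, he1]; norm_num) (by norm_num) _
  · have h2e : 2 ∣ e := by
      rw [show Nat.divisors 16 = {1, 2, 4, 8, 16} by decide] at hdiv
      simp only [Finset.mem_insert, Finset.mem_singleton] at hdiv
      omega
    have hmf : (Nat.card S).minFac = 2 := (Nat.minFac_eq_two_iff _).mpr (hScard ▸ h2e.mul_left _)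
    have : Fact (Nat.Prime 2) := ⟨Nat.prime_two⟩
    let T₀ : Sylow 2 N := default
    obtain ⟨T, hT⟩ := (T₀.isPGroup'.map N.subtype).exists_le_sylow
    have hTeq : (T₀ : Subgroup N).map N.subtype = (T : Subgroup S) := by
      refine Subgroup.eq_of_le_of_card_ge hT ?_
      rw [Subgroup.card_map_of_injective N.subtype_injective, T.card_eq_multiplicity,
        T₀.card_eq_multiplicity, ← N.card_mul_index, hNidx, Nat.factorization_mul Nat.card_pos.ne'
        (by norm_num), Finsupp.add_apply, Nat.factorization_eq_zero_of_not_dvd (n := 35) (by norm_num),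
        add_zero]
    refine H62.not_isCyclic_sylow_minFac hS hmf T ?_
    have hTN : (T : Subgroup S) ≤ N := hTeq ▸ Subgroup.map_subtype_le _
    let f : (T : Subgroup S) →* MulAut (P : Subgroup S) :=
      (Subgroup.normalizerMonoidHom (P : Subgroup S)).comp (Subgroup.inclusion hTN)
    have hf : Function.Injective f := by
      rw [← MonoidHom.ker_eq_bot_iff, eq_bot_iff]
      intro x hx
      have hx1 : Subgroup.inclusion hTN x ∈ (Subgroup.normalizerMonoidHom (P : Subgroup S)).ker := hx
      rw [Subgroup.normalizerMonoidHom_ker, Subgroup.mem_subgroupOf, ← hC, hCeq] at hx1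
      refine Subgroup.mem_bot.mpr (Subtype.ext ?_)
      have hd : Disjoint (T : Subgroup S) (P : Subgroup S) :=
        IsPGroup.disjoint_of_ne 2 17 (by norm_num) _ _ T.isPGroup' P.isPGroup'
      exact Subgroup.disjoint_def.mp hd x.2 hx1
    have : IsCyclic (P : Subgroup S) := isCyclic_of_prime_card hP
    have : IsCyclic (MulAut (P : Subgroup S)) := by
      rw [(IsCyclic.mulAutMulEquiv (P : Subgroup S)).isCyclic, hP]
      exact ZMod.isCyclic_units_prime (by norm_num)
    exact isCyclic_of_injective f hf

omit [IsSimpleGroup S] in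
theorem card_sylow_seventeen_ne_thirtyFive : Nat.card (Sylow 17 S) ≠ 35 := by
  intro h
  obtain ⟨l, hl, hl'⟩ := H32.exists_sylow_factorisation 17 _ S le_rfl
  rw [h] at hl
  have hmem : ∀ m ∈ l, m ∣ 35 ∧ m % 17 = 1 := by
    intro m hm
    refine ⟨hl ▸ List.dvd_prod hm, ?_⟩
    rcases hl' m hm with ⟨-, h2⟩ | ⟨T, _, _, -, h2⟩
    · exact h2
    · rw [h2]; exact H62.card_sylow_mod
  by_cases h35 : ∀ m ∈ l, m = 1
  · rw [List.prod_eq_one h35] at hl
    omega
  push Not at h35
  obtain ⟨m, hm, hm1⟩ := h35
  obtain ⟨hd, hmod⟩ := hmem m hm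
  have hm35 : m = 35 := by
    have hdiv : m ∈ Nat.divisors 35 := Nat.mem_divisors.mpr ⟨hd, by norm_num⟩
    rw [show Nat.divisors 35 = {1, 5, 7, 35} by decide] at hdiv
    simp only [Finset.mem_insert, Finset.mem_singleton] at hdiv
    omega
  rcases hl' m hm with ⟨h1, -⟩ | ⟨T, _, _, hT, h2⟩
  · rw [hm35] at h1
    have := isPrimePow_iff_card_primeFactors_eq_one.mp h1
    rw [show (35 : ℕ) = 5 * 7 from rfl, Nat.primeFactors_mul (by norm_num) (by norm_num),
      (by norm_num : Nat.Prime 5).primeFactors, (by norm_num : Nat.Prime 7).primeFactors] at this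
    simp at this
  · exact no_simple_thirtyFive (S := T) (h2.symm.trans hm35)

end H36
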