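import Cfsg.Agent.H1.Cores
import Mathlib.GroupTheory.SpecificGroups.Alternating.Simple
import Mathlib.Data.Fintype.Fin
import Mathlib.Tactic

/-!
Every permutation of eight points has a conjugate carrying a given 3-cycle to one commuting with it.
-/

set_option autoImplicit false

namespace H36

open Equiv Equiv.Perm

theorem exists_threeCycle_comm (c : Perm (Fin 8)) :
    ∃ τ : Perm (Fin 8), τ.IsThreeCycle ∧ Commute τ (c * τ * c⁻¹) := by
  classical
  set M := Finset.univ.filter fun x => c x ≠ x with hM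
  have hsingle : ∀ {s : Finset (Fin 8)}, s.card < M.card → ∃ x, c x ≠ x ∧ x ∉ s := by
    intro s hs
    obtain ⟨x, hx, hx'⟩ := Finset.exists_mem_notMem_of_card_lt_card hs
    exact ⟨x, (Finset.mem_filter.mp hx).2, hx'⟩
  have hτ : ∀ a b d : Fin 8, a ≠ b → a ≠ d → b ≠ d →
      (∀ x, (x = a ∨ x = b ∨ x = d) → c x ≠ a ∧ c x ≠ b ∧ c x ≠ d) →
      ∃ τ : Perm (Fin 8), τ.IsThreeCycle ∧ Commute τ (c * τ * c⁻¹) := by
    intro a b d hab had hbd h
    refine ⟨_, isThreeCycle_swap_mul_swap_same hab had hbd, Equiv.Perm.Disjoint.commute fun x => ?_⟩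
    by_contra hc
    push Not at hc
    obtain ⟨h1, h2⟩ := hc
    have hsupp : ∀ y, (swap a b * swap a d) y ≠ y → y = a ∨ y = b ∨ y = d := by
      intro y hy
      by_contra hne
      push Not at hne
      apply hy
      rw [Perm.mul_apply, swap_apply_of_ne_of_ne hne.1 hne.2.2,
        swap_apply_of_ne_of_ne hne.1 hne.2.1]
    have h3 : (swap a b * swap a d) (c⁻¹ x) ≠ c⁻¹ x := by
      intro e
      apply h2
      simp only [Perm.mul_apply] at e ⊢
      rw [e]
      simp
    obtain ⟨e1, e2, e3⟩ := h _ (hsupp _ h3)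
    simp only [Perm.coe_inv, apply_symm_apply] at e1 e2 e3
    rcases hsupp x h1 with rfl | rfl | rfl
    · exact e1 rfl
    · exact e2 rfl
    · exact e3 rfl
  by_cases hfix : M.card < 6
  · -- three fixed points
    have hcard : 2 < (Finset.univ.filter fun x => c x = x).card := by
      have h1 := Finset.card_filter_add_card_filter_not (s := (Finset.univ : Finset (Fin 8)))
        (fun x => c x = x)
      simp only [Finset.card_univ, Fintype.card_fin] at h1
      have h2 : (Finset.univ.filter fun x => ¬ c x = x).card = M.card := rfl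
      omega
    obtain ⟨a, b, d, ha, hb, hd, hab, had, hbd⟩ := Finset.two_lt_card_iff.mp hcard
    simp only [Finset.mem_filter, Finset.mem_univ, true_and] at ha hb hd
    refine ⟨_, isThreeCycle_swap_mul_swap_same hab had hbd, ?_⟩
    have e : c * (swap a b * swap a d) * c⁻¹ = swap a b * swap a d := by
      rw [show c * (swap a b * swap a d) * c⁻¹ = (c * swap a b * c⁻¹) * (c * swap a d * c⁻¹) by
        group, ← swap_apply_apply, ← swap_apply_apply, ha, hb, hd]
    rw [e]
  push Not at hfix
  have hne : ∀ x, c x ≠ x → c (c x) ≠ c x := fun x hx h => hx (c.injective h)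
  by_cases h2 : ∃ a, c a ≠ a ∧ c (c a) ≠ a
  · obtain ⟨a, ha, ha2⟩ := h2
    have hb := hne a ha
    by_cases h3 : c (c (c a)) = a
    · -- a three-element orbit
      refine ⟨_, isThreeCycle_swap_mul_swap_same (a := a) (b := c (c a)) (c := c a) ha2.symm ha.symm hb, ?_⟩
      have e : c * (swap a (c (c a)) * swap a (c a)) * c⁻¹ = swap a (c (c a)) * swap a (c a) := by
        rw [show c * (swap a (c (c a)) * swap a (c a)) * c⁻¹ =
          (c * swap a (c (c a)) * c⁻¹) * (c * swap a (c a) * c⁻¹) by group,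
          ← swap_apply_apply, ← swap_apply_apply, h3]
        have key : ∀ (x y z : Fin 8), x ≠ y → x ≠ z → z ≠ y →
            swap y x * swap y z = swap x z * swap x y := by decide
        exact key a (c a) (c (c a)) ha.symm ha2.symm hb
      rw [e]
    · have hcard : ({a, c a, c⁻¹ a, c (c a), c (c (c a))} : Finset (Fin 8)).card < M.card :=
        lt_of_le_of_lt Finset.card_le_five (by omega)
      obtain ⟨d, hd, hdn⟩ := hsingle hcard
      simp only [Finset.mem_insert, Finset.mem_singleton, not_or] at hdn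
      obtain ⟨d1, d2, d3, d4, d5⟩ := hdn
      refine hτ a (c (c a)) d ha2.symm (Ne.symm d1) (Ne.symm d4) ?_
      rintro x (rfl | rfl | rfl)
      · exact ⟨ha, hb.symm, Ne.symm d2⟩
      · exact ⟨h3, hne _ hb, Ne.symm d5⟩
      · refine ⟨fun e => d3 ?_, fun e => d2 (c.injective e), hd⟩
        rw [← e]; simp
  · push Not at h2
    obtain ⟨a, ha, -⟩ := hsingle (s := ∅) (by rw [Finset.card_empty]; omega)
    obtain ⟨b, hb, hbn⟩ := hsingle (s := {a, c a}) (lt_of_le_of_lt Finset.card_le_two (by omega))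
    obtain ⟨d, hd, hdn⟩ := hsingle (s := {a, c a, b, c b})
      (lt_of_le_of_lt Finset.card_le_four (by omega))
    simp only [Finset.mem_insert, Finset.mem_singleton, not_or] at hbn hdn
    obtain ⟨b1, b2⟩ := hbn
    obtain ⟨d1, d2, d3, d4⟩ := hdn
    refine hτ a b d (Ne.symm b1) (Ne.symm d1) (Ne.symm d3) ?_
    rintro x (rfl | rfl | rfl)
    · exact ⟨ha, Ne.symm b2, Ne.symm d2⟩
    · refine ⟨fun e => b2 ?_, hb, Ne.symm d4⟩
      rw [← e, h2 x hb]
    · refine ⟨fun e => d2 ?_, fun e => d4 ?_, hd⟩ <;> rw [← e, h2 x hd]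

end H36
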