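import Cfsg.Agent.H70.DihedralIso
import Cfsg.Agent.H86.AutDihedral
import Cfsg.Agent.H36.PElements
import Mathlib.GroupTheory.SpecificGroups.Alternating
import Mathlib.GroupTheory.SpecificGroups.Dihedral
import Mathlib.GroupTheory.GroupAction.Quotient
import Mathlib.Tactic

/-!
Groups with a normal Sylow 2-subgroup which is cyclic or dihedral.
-/

set_option autoImplicit false

namespace H36

open Subgroup

/-- A subgroup of a dihedral 2-group is cyclic or a dihedral 2-group. -/
theorem subgroup_dihedral_cases (n : ℕ) (S : Subgroup (DihedralGroup (2 ^ n))) :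
    IsCyclic S ∨ ∃ j : ℕ, 1 ≤ j ∧ Nonempty (S ≃* DihedralGroup (2 ^ j)) := by
  have : NeZero (2 ^ n) := ⟨by positivity⟩
  set R := zpowers (DihedralGroup.r (1 : ZMod (2 ^ n))) with hR
  have hr : ∀ i : ZMod (2 ^ n), DihedralGroup.r i ∈ R := fun i => ⟨(i.val : ℤ), by
    simp only [zpow_natCast, DihedralGroup.r_one_pow, ZMod.natCast_zmod_val]⟩
  have : IsCyclic (R.subgroupOf S) :=
    (MulEquiv.isCyclic (Subgroup.equivMapOfInjective _ S.subtype S.subtype_injective)).mpr (by
      rw [subgroupOf_map_subtype]; exact Subgroup.isCyclic_of_le inf_le_left)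
  by_cases hle : S ≤ R
  · exact Or.inl (Subgroup.isCyclic_of_le hle)
  obtain ⟨g, hgS, hgR⟩ := SetLike.not_le_iff_exists.mp hle
  obtain ⟨i, rfl⟩ : ∃ i, g = DihedralGroup.sr i := by
    rcases g with i | i
    · exact absurd (hr i) hgR
    · exact ⟨i, rfl⟩
  obtain ⟨c, hc⟩ := IsCyclic.exists_generator (α := R.subgroupOf S)
  set x : S := ⟨DihedralGroup.sr i, hgS⟩ with hx
  have hxR : x ∉ R.subgroupOf S := hgR
  have hzp : zpowers (c : S) = R.subgroupOf S := by
    refine le_antisymm (zpowers_le.mpr c.2) fun y hy => ?_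
    obtain ⟨k, hk⟩ := hc ⟨y, hy⟩
    exact ⟨k, congrArg Subtype.val hk⟩
  have hidx : (R.subgroupOf S).index = 2 := by
    rw [index_eq_two_iff]
    refine ⟨x, fun b => ?_⟩
    obtain ⟨b, hb⟩ := b
    rcases b with k | k
    · refine Or.inr ⟨hr k, fun h => hgR ?_⟩
      have h' : DihedralGroup.r k * DihedralGroup.sr i ∈ R := h
      simpa using R.mul_mem (R.inv_mem (hr k)) h'
    · refine Or.inl ⟨?_, fun h => hgR ?_⟩
      · show DihedralGroup.sr k * DihedralGroup.sr i ∈ R
        rw [DihedralGroup.sr_mul_sr]; exact hr _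
      · have h' : DihedralGroup.sr k ∈ R := h
        simpa using R.mul_mem h' (hr (i - k))
  have hcard : Nat.card S = 2 * orderOf (c : S) := by
    rw [← Nat.card_zpowers, hzp]
    have := (R.subgroupOf S).card_mul_index
    rw [hidx] at this
    omega
  have hxx : x * x = 1 := Subtype.ext (DihedralGroup.sr_mul_self i)
  obtain ⟨j, -, hj⟩ : ∃ j, j ≤ n + 1 ∧ orderOf (c : S) = 2 ^ j := by
    refine (Nat.dvd_prime_pow Nat.prime_two).mp ((_root_.orderOf_dvd_natCard _).trans ?_)
    refine (card_subgroup_dvd_card S).trans ?_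
    rw [DihedralGroup.nat_card, pow_succ']
  rcases Nat.eq_zero_or_pos j with rfl | hj0
  · left
    have h2 : Nat.card S = 2 := by rw [hcard, hj, pow_zero, mul_one]
    exact isCyclic_of_prime_card (p := 2) h2
  · have hinv : x * (c : S) * x⁻¹ = (c : S)⁻¹ := by
      apply Subtype.ext
      obtain ⟨⟨b, hbS⟩, hb⟩ := c
      rcases b with k | k
      · show DihedralGroup.sr i * DihedralGroup.r k * (DihedralGroup.sr i)⁻¹ = (DihedralGroup.r k)⁻¹
        simp
      · exfalso
        have h' : DihedralGroup.sr k ∈ R := hb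
        apply hgR
        simpa using R.mul_mem h' (hr (i - k))
    obtain ⟨e⟩ := H70.nonempty_mulEquiv_dihedral hcard hxx (by rw [hzp]; exact hxR) hinv
    exact Or.inr ⟨j, hj0, ⟨by rw [hj] at e; exact e⟩⟩

/-- A dihedral 2-group contains a four group. -/
theorem exists_four_of_dihedral (j : ℕ) (hj : 1 ≤ j) :
    ∃ K : Subgroup (DihedralGroup (2 ^ j)), Nat.card K = 4 ∧ ∀ k ∈ K, k ^ 2 = 1 := by
  classical
  have : NeZero (2 ^ j) := ⟨by positivity⟩
  set h : ZMod (2 ^ j) := ((2 ^ (j - 1) : ℕ) : ZMod (2 ^ j)) with hh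
  have hhh : h + h = 0 := by
    rw [hh, ← Nat.cast_add, ← two_mul, ← pow_succ', Nat.sub_add_cancel hj, ZMod.natCast_self]
  have hne : h ≠ 0 := by
    rw [hh, Ne, ZMod.natCast_eq_zero_iff]
    intro hd
    have := Nat.le_of_dvd (by positivity) hd
    have := (Nat.pow_le_pow_iff_right (by norm_num : 1 < 2)).mp this
    omega
  let s : Finset (DihedralGroup (2 ^ j)) :=
    {DihedralGroup.r 0, DihedralGroup.r h, DihedralGroup.sr 0, DihedralGroup.sr h}
  have hneg : -h = h := neg_eq_of_add_eq_zero_left hhh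
  have hmem : ∀ g, g ∈ s ↔ g = DihedralGroup.r 0 ∨ g = DihedralGroup.r h ∨
      g = DihedralGroup.sr 0 ∨ g = DihedralGroup.sr h := by simp [s]
  let K : Subgroup (DihedralGroup (2 ^ j)) :=
  { carrier := {g | g ∈ s}
    one_mem' := (hmem _).mpr (Or.inl rfl)
    inv_mem' := fun {g} hg => by
      rw [Set.mem_ofPred_eq, hmem] at hg ⊢
      rcases hg with rfl | rfl | rfl | rfl <;> simp [hneg]
    mul_mem' := fun {a b} ha hb => by
      rw [Set.mem_ofPred_eq, hmem] at ha hb ⊢
      rcases ha with rfl | rfl | rfl | rfl <;> rcases hb with rfl | rfl | rfl | rfl <;>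
        simp [hhh, hneg] }
  refine ⟨K, ?_, fun k hk => ?_⟩
  · calc Nat.card K = s.card := by rw [← Nat.card_eq_finsetCard]; rfl
      _ = 4 := by
        simp only [s]
        rw [Finset.card_insert_of_notMem (by simp [-DihedralGroup.r_zero, hne.symm]),
          Finset.card_insert_of_notMem (by simp), Finset.card_pair (by simp [hne.symm])]
  · rw [pow_two]
    rcases (hmem k).mp hk with rfl | rfl | rfl | rfl <;> simp [hhh]

variable {H : Type*} [Group H] [Finite H]

theorem exists_odd_lift (S : Sylow 2 H) [(S : Subgroup H).Normal] (q : H ⧸ (S : Subgroup H)) :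
    ∃ c : H, (c : H ⧸ (S : Subgroup H)) = q ∧ (orderOf c).Coprime 2 := by
  obtain ⟨g, rfl⟩ := QuotientGroup.mk_surjective q
  obtain ⟨a, b, hab, ha, hb⟩ := exists_pow_decomp (p := 2) g
  refine ⟨g ^ a, ?_, ha⟩
  have h1 : ((g ^ b : H) : H ⧸ (S : Subgroup H)) = 1 := by
    rw [← orderOf_eq_one_iff]
    obtain ⟨k, hk⟩ := hb
    refine Nat.eq_one_of_dvd_coprimes (a := (S : Subgroup H).index) (b := 2 ^ k) ?_
      (orderOf_dvd_natCard _) (hk ▸ orderOf_map_dvd (QuotientGroup.mk' (S : Subgroup H)) (g ^ b))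
    exact ((Nat.prime_two.coprime_iff_not_dvd.mpr S.not_dvd_index).symm).pow_right k
  calc ((g ^ a : H) : H ⧸ (S : Subgroup H))
      = ((g ^ a : H) : H ⧸ (S : Subgroup H)) * ((g ^ b : H) : H ⧸ (S : Subgroup H)) := by
        rw [h1, mul_one]
    _ = _ := by rw [← QuotientGroup.mk_mul, hab]

theorem commute_of_isPGroup_mulAut (S : Subgroup H) [S.Normal] (hS : IsPGroup 2 (MulAut S))
    {c : H} (hc : (orderOf c).Coprime 2) : ∀ s ∈ S, Commute c s := by
  intro s hs
  obtain ⟨k, hk⟩ := IsPGroup.iff_orderOf.mp hS (MulAut.conjNormal c)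
  have h1 : orderOf (MulAut.conjNormal c : MulAut S) = 1 :=
    Nat.eq_one_of_dvd_coprimes (hc.pow_right k)
      (orderOf_map_dvd (MulAut.conjNormal : H →* MulAut S) c) hk.dvd
  rw [orderOf_eq_one_iff] at h1
  have := congrArg (fun e : MulAut S => ((e ⟨s, hs⟩ : S) : H)) h1
  simp only [MulAut.conjNormal_apply, MulAut.one_apply] at this
  exact mul_inv_eq_iff_eq_mul.mp this

/-- The structure of a 2-by-cyclic group with cyclic Sylow 2-subgroup. -/
theorem isCyclic_of_cyclic_sylow (S : Sylow 2 H) [(S : Subgroup H).Normal]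
    [IsCyclic (H ⧸ (S : Subgroup H))] [IsCyclic (S : Subgroup H)] : IsCyclic H := by
  have haut : IsPGroup 2 (MulAut (S : Subgroup H)) := by
    obtain ⟨k, hk⟩ := IsPGroup.iff_card.mp S.isPGroup'
    rcases Nat.eq_zero_or_pos k with rfl | hk0
    · refine IsPGroup.of_card (n := 0) ?_
      rw [IsCyclic.card_mulAut, hk]; simp
    · refine IsPGroup.of_card (n := k - 1) ?_
      rw [IsCyclic.card_mulAut, hk, Nat.totient_prime_pow Nat.prime_two hk0]
      simp
  obtain ⟨q, hq⟩ := IsCyclic.exists_generator (α := H ⧸ (S : Subgroup H))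
  obtain ⟨c, hcq, hc⟩ := exists_odd_lift S q
  obtain ⟨s, hs⟩ := IsCyclic.exists_generator (α := (S : Subgroup H))
  have hcomm : Commute (s : H) c := (commute_of_isPGroup_mulAut _ haut hc s s.2).symm
  refine isCyclic_of_orderOf_eq_card ((s : H) * c) ?_
  obtain ⟨k, hk⟩ := IsPGroup.iff_card.mp S.isPGroup'
  have hso : orderOf (s : H) = 2 ^ k := by
    rw [Subgroup.orderOf_coe, orderOf_eq_card_of_forall_mem_zpowers hs, hk]
  have hco : (orderOf (s : H)).Coprime (orderOf c) := by
    rw [hso]; exact hc.symm.pow_left k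
  refine le_antisymm (Nat.le_of_dvd Nat.card_pos (orderOf_dvd_natCard _)) ?_
  rw [hcomm.orderOf_mul_eq_mul_orderOf_of_coprime hco, hso, ← (S : Subgroup H).card_mul_index, hk]
  refine Nat.mul_le_mul_left _ (Nat.le_of_dvd (orderOf_pos c) ?_)
  rw [Subgroup.index, ← orderOf_eq_card_of_forall_mem_zpowers hq, ← hcq]
  exact orderOf_map_dvd (QuotientGroup.mk' (S : Subgroup H)) c

/-- A 2-by-cyclic group with dihedral Sylow 2-subgroup in which four groups are self-centralizing. -/
theorem dihedral_or_alternating (S : Sylow 2 H) [(S : Subgroup H).Normal]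
    [IsCyclic (H ⧸ (S : Subgroup H))] {j : ℕ} (hj : 1 ≤ j)
    (e : (S : Subgroup H) ≃* DihedralGroup (2 ^ j))
    (hcent : ∀ K : Subgroup H, K ≤ (S : Subgroup H) → Nat.card K = 4 → (∀ k ∈ K, k ^ 2 = 1) →
      centralizer (K : Set H) = K) :
    (∃ n : ℕ, Nonempty (H ≃* DihedralGroup (2 ^ n))) ∨
      Nonempty (H ≃* alternatingGroup (Fin 4)) := by
  classical
  obtain ⟨q, hq⟩ := IsCyclic.exists_generator (α := H ⧸ (S : Subgroup H))
  obtain ⟨c, hcq, hc⟩ := exists_odd_lift S q
  obtain ⟨K₀, hK₀, hK₀2⟩ := exists_four_of_dihedral j hj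
  set f : DihedralGroup (2 ^ j) →* H := (S : Subgroup H).subtype.comp e.symm.toMonoidHom with hf
  have hfinj : Function.Injective f := (S : Subgroup H).subtype_injective.comp e.symm.injective
  set K := K₀.map f with hK
  have hKS : K ≤ (S : Subgroup H) := by
    rintro _ ⟨k, -, rfl⟩
    exact (e.symm k).2
  have hK4 : Nat.card K = 4 := by rw [hK, card_map_of_injective hfinj, hK₀]
  have hK2 : ∀ k ∈ K, k ^ 2 = 1 := by
    rintro _ ⟨k, hk, rfl⟩
    rw [← map_pow, hK₀2 k hk, map_one]
  have hCK := hcent K hKS hK4 hK2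
  have hKodd : ∀ x : H, (orderOf x).Coprime 2 → x ∈ centralizer (K : Set H) → x = 1 := by
    intro x hx hxK
    rw [hCK] at hxK
    have : orderOf x ∣ 2 := orderOf_dvd_of_pow_eq_one (hK2 x hxK)
    exact orderOf_eq_one_iff.mp (Nat.eq_one_of_dvd_coprimes hx dvd_rfl this)
  by_cases hc1 : c = 1
  · left
    refine ⟨j, ⟨((MulEquiv.subgroupCongr ?_).trans Subgroup.topEquiv).symm.trans e⟩⟩
    rw [eq_top_iff]
    intro x _
    have := hq (x : H ⧸ (S : Subgroup H))
    rw [← hcq, hc1, QuotientGroup.mk_one, zpowers_one_eq_bot, mem_bot, QuotientGroup.eq_one_iff] at this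
    exact this
  obtain rfl | hj2 := eq_or_lt_of_le hj
  swap
  · exfalso
    refine hc1 (hKodd c hc (mem_centralizer_iff.mpr fun k hk => ?_))
    have haut : IsPGroup 2 (MulAut (S : Subgroup H)) :=
      (H86.isPGroup_two_mulAut_dihedral j hj2).of_equiv (MulAut.congr e).symm
    exact (commute_of_isPGroup_mulAut _ haut hc k (hKS hk)).symm.eq
  -- the four group case
  have hS4 : Nat.card (S : Subgroup H) = 4 := by
    rw [Nat.card_congr e.toEquiv, DihedralGroup.nat_card]; norm_num
  have hKeq : K = (S : Subgroup H) := eq_of_le_of_card_ge hKS (by rw [hS4, hK4])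
  right
  -- the image of `c` permutes three involutions
  have hc3 : c ^ 3 = 1 := by
    refine hKodd _ (Nat.Coprime.coprime_dvd_left (orderOf_pow_dvd 3) hc) (mem_centralizer_iff.mpr ?_)
    intro k hk
    have hk' : k ∈ (S : Subgroup H) := hKS hk
    let α : MulAut (S : Subgroup H) := MulAut.conjNormal c
    let T := {s : (S : Subgroup H) // s ≠ 1}
    let toPerm : MulAut (S : Subgroup H) →* Equiv.Perm T :=
    { toFun := fun a => a.toEquiv.subtypeEquiv fun s => by simp
      map_one' := by ext; rfl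
      map_mul' := fun a b => by ext; rfl }
    have hT : Nat.card T = 3 := by
      have : Fintype (S : Subgroup H) := Fintype.ofFinite _
      rw [Nat.card_eq_fintype_card, Fintype.card_subtype_compl, Fintype.card_subtype_eq,
        ← Nat.card_eq_fintype_card, hS4]
    have hd1 : orderOf (toPerm α) ∣ Nat.card (Equiv.Perm T) := orderOf_dvd_natCard _
    rw [Nat.card_perm, hT, show Nat.factorial 3 = 2 * 3 from rfl] at hd1
    have hd2 : orderOf (toPerm α) ∣ 3 := by
      refine (Nat.Coprime.dvd_of_dvd_mul_left (Nat.Coprime.coprime_dvd_left ?_ hc) hd1)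
      exact (orderOf_map_dvd toPerm α).trans (orderOf_map_dvd (MulAut.conjNormal : H →* MulAut (S : Subgroup H)) c)
    have h3 : toPerm (α ^ 3) = 1 := by
      rw [map_pow]; exact orderOf_dvd_iff_pow_eq_one.mp hd2
    rcases eq_or_ne k 1 with rfl | hk1
    · simp
    have h4 := congrArg (fun π : Equiv.Perm T => (((π ⟨⟨k, hk'⟩, fun h => hk1 (congrArg Subtype.val h)⟩ : T) : (S : Subgroup H)) : H)) h3
    simp only [toPerm, α, MonoidHom.coe_mk, OneHom.coe_mk, ← map_pow] at h4
    have h5 : c ^ 3 * k * (c ^ 3)⁻¹ = k := h4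
    exact (mul_inv_eq_iff_eq_mul.mp h5).symm
  have hoc : orderOf c = 3 := by
    have : Fact (Nat.Prime 3) := ⟨by norm_num⟩
    exact orderOf_eq_prime hc3 hc1
  have hidx : (S : Subgroup H).index ∣ 3 := by
    rw [Subgroup.index, ← orderOf_eq_card_of_forall_mem_zpowers hq, ← hcq, ← hoc]
    exact orderOf_map_dvd (QuotientGroup.mk' (S : Subgroup H)) c
  set C := zpowers c with hC
  have hCcard : Nat.card C = 3 := by rw [Nat.card_zpowers, hoc]
  have hH : Nat.card H = 12 := by
    have hdvd : Nat.card C ∣ Nat.card H := card_subgroup_dvd_card C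
    rw [hCcard, ← (S : Subgroup H).card_mul_index, hS4] at hdvd
    rw [← (S : Subgroup H).card_mul_index, hS4]
    rcases (Nat.dvd_prime (by norm_num : Nat.Prime 3)).mp hidx with h | h
    · rw [h] at hdvd; norm_num at hdvd
    · rw [h]
  have hCn : C.normalCore = ⊥ := by
    by_contra hne
    have hle := normalCore_le C
    have hcard : Nat.card C.normalCore = 3 := by
      have h := card_dvd_of_le hle
      rw [hCcard] at h
      rcases (Nat.dvd_prime (by norm_num : Nat.Prime 3)).mp h with h1 | h1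
      · exact absurd (card_eq_one.mp h1) hne
      · exact h1
    have heq : C.normalCore = C := eq_of_le_of_card_ge hle (by rw [hcard, hCcard])
    refine hc1 (hKodd c hc (mem_centralizer_iff.mpr fun k hk => ?_))
    have hCnorm : C.Normal := heq ▸ inferInstance
    refine (commute_of_normal_of_disjoint (S : Subgroup H) C inferInstance hCnorm ?_ k c (hKS hk)
      (mem_zpowers c)).eq
    exact disjoint_of_coprime_natCard (by rw [hS4, hCcard]; norm_num)
  have hfour : Nat.card (H ⧸ C) = 4 := by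
    have h := C.card_eq_card_quotient_mul_card_subgroup
    rw [hH, hCcard] at h
    omega
  have : Fintype (H ⧸ C) := Fintype.ofFinite _
  let eq : (H ⧸ C) ≃ Fin 4 := Fintype.equivFinOfCardEq (by rw [← Nat.card_eq_fintype_card, hfour])
  let ψ : H →* Equiv.Perm (Fin 4) :=
    (Equiv.permCongrHom eq).toMonoidHom.comp
      (MulAction.toPermHom H (H ⧸ C))
  have hψ : Function.Injective ψ := by
    refine (Equiv.permCongrHom eq).injective.comp ?_
    rw [← MonoidHom.ker_eq_bot_iff, ← normalCore_eq_ker, hCn]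
  have hrange : ψ.range = alternatingGroup (Fin 4) := by
    refine Equiv.Perm.eq_alternatingGroup_of_index_eq_two ?_
    have h1 := ψ.range.card_mul_index
    rw [← Nat.card_congr (MonoidHom.ofInjective hψ).toEquiv, hH, Nat.card_perm,
      Nat.card_eq_fintype_card, Fintype.card_fin, show Nat.factorial 4 = 12 * 2 from rfl] at h1
    exact Nat.eq_of_mul_eq_mul_left (by norm_num) h1
  exact ⟨(MonoidHom.ofInjective hψ).trans (MulEquiv.subgroupCongr hrange)⟩

end H36
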