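import Cfsg.Agent.H3.SubnormalJoin
import Mathlib.GroupTheory.IsSubnormal

/-!
A sharpening of Wielandt's subnormality criterion.
-/

set_option autoImplicit false

namespace H36

open Subgroup
open scoped Pointwise

universe u

theorem subnormal_of_conj_conj : ∀ (n : ℕ) (G : Type u) [Group G] [Finite G] (A : Subgroup G),
    Nat.card G ≤ n →
    (∀ a ∈ A, ∀ g : G, (A.subgroupOf (A ⊔ MulAut.conj (g⁻¹ * a * g) • A)).IsSubnormal) →
    A.IsSubnormal := by
  intro n
  induction n with
  | zero => intro G _ _ A h; exact absurd h (Nat.not_le.mpr Nat.card_pos)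
  | succ n ih =>
    intro G _ _ A hn h
    by_contra hA
    have hAtop : A ≠ ⊤ := fun e => hA (e ▸ IsSubnormal.top)
    -- conjugates satisfy the same hypothesis, so they are subnormal in proper subgroups
    have key : ∀ V : Subgroup G, V ≠ ⊤ → ∀ (c : G), MulAut.conj c • A ≤ V →
        ((MulAut.conj c • A).subgroupOf V).IsSubnormal := by
      intro V hV c hle
      refine ih V _ ?_ ?_
      · have : Nat.card V < Nat.card G :=
          lt_of_le_of_ne (card_le_card_group _) fun e => hV (eq_top_of_card_eq _ e)
        omega
      intro b hb v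
      set B := MulAut.conj c • A with hB
      -- the subgroup in `G`
      have hbA : c⁻¹ * (b : G) * c ∈ A := by
        have := mem_subgroupOf.mp hb
        rw [hB, mem_pointwise_smul_iff_inv_smul_mem] at this
        simpa using this
      have h1 := h _ hbA (c⁻¹ * (v : G) * c)
      set d := (c⁻¹ * (v : G) * c)⁻¹ * (c⁻¹ * (b : G) * c) * (c⁻¹ * (v : G) * c) with hd
      have hcd : c * d = ((v⁻¹ * b * v : V) : G) * c := by simp [hd, mul_assoc]
      let f : ↥(B.subgroupOf V ⊔ MulAut.conj (v⁻¹ * b * v) • B.subgroupOf V) →*
          ↥(A ⊔ MulAut.conj d • A) :=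
      { toFun := fun x => ⟨c⁻¹ * ((x : V) : G) * c, by
          have hmem : ∀ y ∈ B.subgroupOf V ⊔ MulAut.conj (v⁻¹ * b * v) • B.subgroupOf V,
              c⁻¹ * (y : G) * c ∈ A ⊔ MulAut.conj d • A := by
            intro y hy
            refine (sup_le (a := B.subgroupOf V) (b := MulAut.conj (v⁻¹ * b * v) • B.subgroupOf V)
              (c := ((A ⊔ MulAut.conj d • A).comap (MulAut.conj c⁻¹).toMonoidHom).subgroupOf V)
              ?_ ?_) hy |> fun hh => by simpa [mem_subgroupOf] using hh
            · intro z hz
              have := mem_subgroupOf.mp hz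
              rw [hB, mem_pointwise_smul_iff_inv_smul_mem] at this
              simp only [mem_subgroupOf, mem_comap]
              apply mem_sup_left
              simpa using this
            · intro z hz
              rw [mem_pointwise_smul_iff_inv_smul_mem] at hz
              have := mem_subgroupOf.mp hz
              rw [hB, mem_pointwise_smul_iff_inv_smul_mem] at this
              simp only [mem_subgroupOf, mem_comap]
              apply mem_sup_right
              rw [mem_pointwise_smul_iff_inv_smul_mem]
              simp only [MulAut.smul_def, ← map_inv, MulAut.conj_apply, MulEquiv.coe_toMonoidHom,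
                Subgroup.coe_mul, Subgroup.coe_inv] at this ⊢
              convert this using 1
              simp [hd, mul_assoc]
          exact hmem x x.2⟩
        map_one' := by apply Subtype.ext; simp
        map_mul' := fun x y => by apply Subtype.ext; simp [mul_assoc] }
      have h2 := h1.comap f
      convert h2 using 1
      ext x
      simp only [mem_subgroupOf, mem_comap, hB, mem_pointwise_smul_iff_inv_smul_mem]
      simp [f]
    -- the zipper lemma
    have hAV : ∀ V : Subgroup G, V ≠ ⊤ → A ≤ V → (A.subgroupOf V).IsSubnormal := by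
      intro V hV hle
      have h1 : MulAut.conj (1 : G) • A = A := by rw [map_one, one_smul]
      have := key V hV 1 (h1.symm ▸ hle)
      rwa [h1] at this
    let S : Subgroup G → Set (Subgroup G) := fun V =>
      {B | (∃ g : G, B = MulAut.conj g • A) ∧ B ≤ V ∧ (B.subgroupOf V).IsSubnormal}
    obtain ⟨M, ⟨hAM, hM⟩, hmax⟩ := H3.zipper A {V | A ≤ V ∧ V ≠ ⊤} ⟨A, le_rfl, hAtop⟩ S
      (fun _ _ => Iff.rfl)
      (by
        rintro V hV W _ B ⟨⟨c, rfl⟩, -, -⟩ hle
        exact ⟨⟨c, rfl⟩, hle, key V hV.2 c hle⟩)
      (by
        intro V hV W hW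
        set J := sSup (S V ∩ S W) with hJ
        have hAS : A ∈ S V ∩ S W :=
          ⟨⟨⟨1, by rw [map_one, one_smul]⟩, hV.1, hAV V hV.2 hV.1⟩,
            ⟨1, by rw [map_one, one_smul]⟩, hW.1, hAV W hW.2 hW.1⟩
        refine ⟨_, ⟨(le_sSup hAS).trans le_normalizer, fun e => hA ?_⟩, le_rfl⟩
        have hJn : J.Normal := normalizer_eq_top_iff.mp e
        have hJV : J ≤ V := sSup_le fun B hB => hB.1.2.1
        exact IsSubnormal.trans (le_sSup hAS)
          (hAV J (fun e' => hV.2 (top_le_iff.mp (e' ▸ hJV))) (le_sSup hAS)) hJn.isSubnormal)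
    have hnorm : normalizer (M : Set G) ≤ M := by
      by_cases e : normalizer (M : Set G) = ⊤
      · exact absurd (IsSubnormal.trans hAM (hAV M hM hAM)
          (normalizer_eq_top_iff.mp e).isSubnormal) hA
      · exact hmax _ ⟨hAM.trans le_normalizer, e⟩
    have hconj : ∀ a ∈ A, ∀ g : G, g⁻¹ * a * g ∈ M := by
      intro a ha g
      set b := g⁻¹ * a * g with hb
      set K := A ⊔ MulAut.conj b • A with hK
      have hKtop : K ≠ ⊤ := by
        intro e
        refine hA (IsSubnormal.trans le_sup_left (h a ha g) ?_)
        show K.IsSubnormal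
        rw [e]
        exact IsSubnormal.top
      have h1 : MulAut.conj b • A ≤ M := le_sup_right.trans (hmax K ⟨le_sup_left, hKtop⟩)
      have h2 : A ≤ MulAut.conj b⁻¹ • M := by
        rwa [map_inv, subset_pointwise_smul_iff, inv_inv]
      have h3 : MulAut.conj b⁻¹ • M ≠ ⊤ := by
        intro e
        apply hM
        apply eq_top_of_card_eq
        rw [Nat.card_congr (equivSMul (MulAut.conj b⁻¹) M).toEquiv, e, card_top]
      have h4 := hmax _ ⟨h2, h3⟩
      refine hnorm ?_
      rw [← inv_inv b]
      refine inv_mem ((mem_normalizer_iff_map_conj_eq).mpr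
        (eq_of_le_of_card_ge h4 ?_))
      exact (Nat.card_congr (equivSMul (MulAut.conj b⁻¹) M).toEquiv).le
    apply hA
    have hN : normalClosure (A : Set G) ≤ M := by
      rw [normalClosure, closure_le]
      intro x hx
      obtain ⟨a, ha, hc⟩ := Group.mem_conjugatesOfSet_iff.mp hx
      obtain ⟨g, rfl⟩ := isConj_iff.mp hc
      simpa using hconj a ha g⁻¹
    exact IsSubnormal.trans le_normalClosure
      (hAV _ (fun e => hM (top_le_iff.mp (e ▸ hN))) le_normalClosure)
      normalClosure_normal.isSubnormal

end H36
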